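/-
S5630 project, tool U2 (helper17), part a: a proper subfield of a finite field lies in a subfield of
prime degree.
-/
import Mathlib

set_option autoImplicit false

namespace Cfsg.Agent.Lib.H17.Asch

/-- A proper subfield `F₁` of a finite field `F` is contained in a subfield `F₀` with
`|F| = |F₀| ^ r`, `r` prime. -/
theorem exists_prime_degree_subfield {F : Type*} [Field F] [Fintype F] (F₁ : Subfield F)
    (hne : F₁ ≠ ⊤) :
    ∃ (F₀ : Subfield F) (r : ℕ), F₁ ≤ F₀ ∧ r.Prime ∧ Fintype.card F = Nat.card F₀ ^ r := by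
  classical
  have hcard : Nat.card (F ≃ₐ[F₁] F) = Module.finrank F₁ F := IsGalois.card_aut_eq_finrank F₁ F
  have hm : Module.finrank F₁ F ≠ 1 := by
    intro h1
    apply hne
    have hbt : (⊥ : Subalgebra F₁ F) = ⊤ := Subalgebra.bot_eq_top_of_finrank_eq_one h1
    rw [eq_top_iff]
    intro x _
    have hx : x ∈ (⊥ : Subalgebra F₁ F) := by rw [hbt]; exact Algebra.mem_top
    obtain ⟨y, hy⟩ := Algebra.mem_bot.mp hx
    rw [← hy]
    exact y.2
  obtain ⟨r, hr, hdvd⟩ := Nat.exists_prime_and_dvd hm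
  have : Fact r.Prime := ⟨hr⟩
  obtain ⟨g, hg⟩ := exists_prime_orderOf_dvd_card' (G := F ≃ₐ[F₁] F) r (by rw [hcard]; exact hdvd)
  let E : IntermediateField F₁ F := IntermediateField.fixedField (Subgroup.zpowers g)
  have hfr : Module.finrank E F = r := by
    rw [IntermediateField.finrank_fixedField_eq_card, Nat.card_zpowers, hg]
  refine ⟨E.toSubfield, r, ?_, hr, ?_⟩
  · intro x hx
    exact E.algebraMap_mem ⟨x, hx⟩
  · have h := Module.card_eq_pow_finrank (K := E) (V := F)
    rw [hfr] at h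
    rw [h, Nat.card_eq_fintype_card]
    rfl

end Cfsg.Agent.Lib.H17.Asch
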