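/-
S5630 project, tool U2 (helper17): a group normalising an absolutely irreducible subgroup that is
realisable over a proper subfield lies in a subfield group (class 5).
-/
import Cfsg.Agent.Lib.Lead.AschDefs2
import Cfsg.Agent.Lib.H17.AschU2a

set_option autoImplicit false

namespace Cfsg.Agent.Lib.H17.Asch

open Cfsg Cfsg.Geo Cfsg.Agent.Lib.Lead.Asch
open scoped MatrixGroups Matrix Kronecker

variable {F : Type*} [Field F] {n : ℕ}

/-- Applying an `F₀`-linear functional entrywise to an intertwiner between matrices over `F₀` gives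
an intertwiner. -/
theorem functional_intertwiner (F₀ : Subfield F) (l : F →ₗ[F₀] F₀)
    (h x y : Matrix (Fin n) (Fin n) F) (hx : ∀ i j, x i j ∈ F₀) (hy : ∀ i j, y i j ∈ F₀)
    (hxy : h * x = y * h) :
    (Matrix.of fun i j => ((l (h i j) : F₀) : F)) * x = y * (Matrix.of fun i j => ((l (h i j) : F₀) : F)) := by
  ext i k
  have h1 := congrFun (congrFun hxy i) k
  simp only [Matrix.mul_apply] at h1
  have h2 := congrArg (fun t => ((l t : F₀) : F)) h1
  simp only [map_sum] at h2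
  simp only [Matrix.mul_apply, Matrix.of_apply]
  have e1 : ∀ j, ((l (h i j * x j k) : F₀) : F) = ((l (h i j) : F₀) : F) * x j k := by
    intro j
    have : h i j * x j k = (⟨x j k, hx j k⟩ : F₀) • h i j := by
      rw [Subfield.smul_def]; simp [mul_comm]
    rw [this, map_smul]
    simp [mul_comm]
  have e2 : ∀ j, ((l (y i j * h j k) : F₀) : F) = y i j * ((l (h j k) : F₀) : F) := by
    intro j
    have : y i j * h j k = (⟨y i j, hy i j⟩ : F₀) • h j k := by
      rw [Subfield.smul_def]; simp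
    rw [this, map_smul]
    simp
  have h3 : ∑ j, ((l (h i j * x j k) : F₀) : F) = ∑ j, ((l (y i j * h j k) : F₀) : F) := by
    simpa using h2
  rw [Finset.sum_congr rfl fun j _ => e1 j, Finset.sum_congr rfl fun j _ => e2 j] at h3
  exact h3

/-- The matrix of the conjugate `B g B⁻¹`. -/
def cj (B g : GL (Fin n) F) : Matrix (Fin n) (Fin n) F := ((B * g * B⁻¹ : GL (Fin n) F) : Matrix (Fin n) (Fin n) F)

theorem cj_mul (B g₁ g₂ : GL (Fin n) F) : cj B (g₁ * g₂) = cj B g₁ * cj B g₂ := by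
  unfold cj
  rw [← Units.val_mul]
  congr 1
  group

theorem cj_one (B : GL (Fin n) F) : cj B 1 = 1 := by
  unfold cj
  simp

theorem cj_eq (B g : GL (Fin n) F) :
    cj B g = (B : Matrix (Fin n) (Fin n) F) * (g : Matrix (Fin n) (Fin n) F) *
      ((B⁻¹ : GL (Fin n) F) : Matrix (Fin n) (Fin n) F) := rfl

/-- The commutant of the conjugated group is still the scalars. -/
theorem commutant_cj (N : Subgroup (GL (Fin n) F))
    (hcomm : ∀ M : Matrix (Fin n) (Fin n) F, (∀ s ∈ matrixSet N, M * s = s * M) →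
      ∃ c : F, M = c • (1 : Matrix (Fin n) (Fin n) F))
    (B : GL (Fin n) F) (M : Matrix (Fin n) (Fin n) F)
    (hM : ∀ x ∈ N, M * cj B x = cj B x * M) : ∃ c : F, M = c • (1 : Matrix (Fin n) (Fin n) F) := by
  have hBi : ((B⁻¹ : GL (Fin n) F) : Matrix (Fin n) (Fin n) F) * (B : Matrix (Fin n) (Fin n) F) = 1 := by
    rw [← Units.val_mul]; simp
  have hBB : (B : Matrix (Fin n) (Fin n) F) * ((B⁻¹ : GL (Fin n) F) : Matrix (Fin n) (Fin n) F) = 1 := by
    rw [← Units.val_mul]; simp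
  obtain ⟨c, hc⟩ := hcomm (((B⁻¹ : GL (Fin n) F) : Matrix (Fin n) (Fin n) F) * M *
      (B : Matrix (Fin n) (Fin n) F)) (by
    rintro s ⟨x, hx, rfl⟩
    have h1 := hM x hx
    rw [cj_eq] at h1
    calc ((B⁻¹ : GL (Fin n) F) : Matrix (Fin n) (Fin n) F) * M * (B : Matrix (Fin n) (Fin n) F) *
          (x : Matrix (Fin n) (Fin n) F)
        = ((B⁻¹ : GL (Fin n) F) : Matrix (Fin n) (Fin n) F) *
          (M * ((B : Matrix (Fin n) (Fin n) F) * (x : Matrix (Fin n) (Fin n) F) *
            ((B⁻¹ : GL (Fin n) F) : Matrix (Fin n) (Fin n) F))) * (B : Matrix (Fin n) (Fin n) F) := by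
          simp only [Matrix.mul_assoc, hBi, Matrix.mul_one]
      _ = ((B⁻¹ : GL (Fin n) F) : Matrix (Fin n) (Fin n) F) *
          (((B : Matrix (Fin n) (Fin n) F) * (x : Matrix (Fin n) (Fin n) F) *
            ((B⁻¹ : GL (Fin n) F) : Matrix (Fin n) (Fin n) F)) * M) * (B : Matrix (Fin n) (Fin n) F) := by
          rw [h1]
      _ = (x : Matrix (Fin n) (Fin n) F) * (((B⁻¹ : GL (Fin n) F) : Matrix (Fin n) (Fin n) F) * M *
          (B : Matrix (Fin n) (Fin n) F)) := by
          simp only [Matrix.mul_assoc]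
          rw [← Matrix.mul_assoc _ (B : Matrix (Fin n) (Fin n) F), hBi, Matrix.one_mul])
  refine ⟨c, ?_⟩
  have h2 : M = (B : Matrix (Fin n) (Fin n) F) * (((B⁻¹ : GL (Fin n) F) : Matrix (Fin n) (Fin n) F) * M *
      (B : Matrix (Fin n) (Fin n) F)) * ((B⁻¹ : GL (Fin n) F) : Matrix (Fin n) (Fin n) F) := by
    simp only [Matrix.mul_assoc, hBB, Matrix.mul_one]
    rw [← Matrix.mul_assoc, hBB, Matrix.one_mul]
  rw [h2, hc]
  simp only [Matrix.mul_smul, Matrix.smul_mul, Matrix.mul_one, hBB]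

/-- Key step: an element normalising `N` (absolutely irreducible, with entries in `F₀` after
conjugation by `B`) is, after conjugation by `B`, a scalar times a matrix over `F₀`. -/
theorem exists_smul_eq_cj (N : Subgroup (GL (Fin n) F))
    (hcomm : ∀ M : Matrix (Fin n) (Fin n) F, (∀ s ∈ matrixSet N, M * s = s * M) →
      ∃ c : F, M = c • (1 : Matrix (Fin n) (Fin n) F))
    (F₀ : Subfield F) (B : GL (Fin n) F)
    (hB : ∀ x ∈ N, ∀ i j, cj B x i j ∈ F₀)
    (h : GL (Fin n) F) (hh : ∀ x ∈ N, h * x * h⁻¹ ∈ N) (a b : Fin n) (hab : cj B h a b ≠ 0) :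
    ∃ (k : F) (T0 : Matrix (Fin n) (Fin n) F₀), k ≠ 0 ∧ T0.map F₀.subtype = k • cj B h := by
  classical
  obtain ⟨l, hl⟩ : ∃ l : Module.Dual F₀ F, l (cj B h a b) ≠ 0 := by
    by_contra hcon
    push Not at hcon
    exact hab ((Module.forall_dual_apply_eq_zero_iff F₀ _).mp hcon)
  set T : Matrix (Fin n) (Fin n) F := Matrix.of fun i j => ((l (cj B h i j) : F₀) : F) with hT
  have hint : ∀ x ∈ N, T * cj B x = cj B (h * x * h⁻¹) * T := by
    intro x hx
    apply functional_intertwiner F₀ l (cj B h) (cj B x) (cj B (h * x * h⁻¹)) (hB x hx)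
      (hB _ (hh x hx))
    rw [← cj_mul, ← cj_mul]
    congr 1
    group
  obtain ⟨k, hk⟩ := commutant_cj N hcomm B (cj B h⁻¹ * T) (by
    intro x hx
    rw [Matrix.mul_assoc, hint x hx, ← Matrix.mul_assoc, ← cj_mul, ← Matrix.mul_assoc, ← cj_mul]
    congr 2
    group)
  have hTk : T = k • cj B h := by
    have h1 : cj B h * (cj B h⁻¹ * T) = T := by
      rw [← Matrix.mul_assoc, ← cj_mul, mul_inv_cancel, cj_one, Matrix.one_mul]
    rw [← h1, hk, Matrix.mul_smul, Matrix.mul_one]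
  refine ⟨k, Matrix.of fun i j => l (cj B h i j), ?_, ?_⟩
  · rintro rfl
    apply hl
    have h2 := congrFun (congrFun hTk a) b
    simp only [hT, Matrix.of_apply, zero_smul, Matrix.zero_apply] at h2
    exact_mod_cast h2
  · rw [← hTk]
    ext i j
    simp [hT]

theorem mem_subfieldSubgroup_of_normalizes (N : Subgroup (GL (Fin n) F))
    (hcomm : ∀ M : Matrix (Fin n) (Fin n) F, (∀ s ∈ matrixSet N, M * s = s * M) →
      ∃ c : F, M = c • (1 : Matrix (Fin n) (Fin n) F))
    (F₀ : Subfield F) (B : GL (Fin n) F)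
    (hB : ∀ x ∈ N, ∀ i j, cj B x i j ∈ F₀)
    (h : GL (Fin n) F) (hh : ∀ x ∈ N, h * x * h⁻¹ ∈ N) : h ∈ subfieldSubgroup F₀ B⁻¹ := by
  classical
  by_cases hz : cj B h = 0
  · have h1 : (1 : Matrix (Fin n) (Fin n) F) = 0 := by
      rw [← cj_one B, ← mul_inv_cancel h, cj_mul, hz, Matrix.zero_mul]
    have h2 : ∀ M : Matrix (Fin n) (Fin n) F, M = 0 := fun M => by
      rw [← Matrix.mul_one M, h1, Matrix.mul_zero]
    have h3 : h = 1 := by
      apply Units.ext
      rw [h2 h.val, h2 (1 : GL (Fin n) F).val]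
    rw [h3]; exact one_mem _
  · obtain ⟨a, b, hab⟩ : ∃ a b, cj B h a b ≠ 0 := by
      by_contra hcon
      push Not at hcon
      exact hz (Matrix.ext hcon)
    obtain ⟨k, T0, hk, hT0⟩ := exists_smul_eq_cj N hcomm F₀ B hB h hh a b hab
    have hdet : T0.det ≠ 0 := by
      intro h0
      have h1 : (T0.map F₀.subtype).det = 0 := by
        have h5 := (RingHom.map_det F₀.subtype T0).symm
        rw [h0, map_zero] at h5
        exact h5
      rw [hT0, Matrix.det_smul] at h1
      have h2 : (cj B h).det ≠ 0 := Matrix.GeneralLinearGroup.det_ne_zero (B * h * B⁻¹)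
      rcases mul_eq_zero.mp h1 with h3 | h3
      · exact pow_ne_zero _ hk h3
      · exact h2 h3
    let g₀ : GL (Fin n) F₀ := Matrix.GeneralLinearGroup.mkOfDetNeZero T0 hdet
    let sc : GL (Fin n) F :=
      Units.map (Matrix.scalar (Fin n) : F →+* Matrix (Fin n) (Fin n) F).toMonoidHom
        (Units.mk0 k⁻¹ (inv_ne_zero hk))
    have hsc : sc ∈ scalars (Fin n) F := ⟨_, rfl⟩
    have hg : Matrix.GeneralLinearGroup.map F₀.subtype g₀ * sc = B * h * B⁻¹ := by
      apply Units.ext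
      rw [Units.val_mul]
      change T0.map F₀.subtype * Matrix.scalar (Fin n) k⁻¹ = cj B h
      rw [hT0, Matrix.scalar_apply, ← Matrix.smul_one_eq_diagonal, Matrix.mul_smul, Matrix.mul_one,
        smul_smul, inv_mul_cancel₀ hk, one_smul]
    unfold subfieldSubgroup
    rw [Subgroup.mem_map]
    refine ⟨B * h * B⁻¹, ?_, ?_⟩
    · rw [← hg]
      exact Subgroup.mul_mem_sup (MonoidHom.mem_range.mpr ⟨g₀, rfl⟩) hsc
    · simp only [MulEquiv.coe_toMonoidHom, MulAut.conj_apply]
      group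

/-- **U2** (C5), v2 signature (conclusion `TameC5 H`). -/
theorem tame_of_realisable [Fintype F] (H N : Subgroup (GL (Fin n) F)) (hnorm : NormalizedBy H N)
    (habs : ActsAbsolutelyIrreducibly (matrixSet N)) (F₁ : Subfield F) (hne : F₁ ≠ ⊤)
    (hreal : RealisableOver F₁ (matrixSet N)) : TameC5 H := by
  obtain ⟨F₀, r, hle, hr, hcard⟩ := exists_prime_degree_subfield F₁ hne
  obtain ⟨B, hB⟩ := hreal
  refine ⟨F₀, r, B⁻¹, hr, hcard, ?_⟩
  intro h hh
  exact mem_subfieldSubgroup_of_normalizes N habs.2 F₀ B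
    (fun x hx i j => hle (hB _ ⟨x, hx, rfl⟩ i j)) h (fun x hx => hnorm h hh x hx)

end Cfsg.Agent.Lib.H17.Asch
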