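import Mathlib

/-!
# S4150 piece H13 (helper17): the kernel engine — DEFINITIONS ONLY

Permutations of `Fin 13` are packed into one natural number, 4 bits per point (`tab` / `look`); all
arithmetic is on `Nat` literals (GMP-accelerated in the kernel) and every table is evaluated strictly
(`force`).  `wordOK X a b k r` checks that `w = (x ^ b * y ^ a) ^ k` (`y = finRotate 13`, `x` the permutation
with table `X`) satisfies `w ^ r = 1` and moves exactly `r` points.  `dfs` enumerates the `11`-cycles
`(2 3 c₂ … c₁₀)` (building the table along the path) and reads the certificate `(a, b, k, r)` of each leaf from the data literal `C`.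
-/

set_option autoImplicit false

namespace Cfsg.Agent.Lib.H17.AG

/-- the `i`-th base-16 digit of `T`. -/
def look (T i : Nat) : Nat := Nat.mod (Nat.div T (Nat.pow 16 i)) 16

/-- the table (base-16 number) of `g 0, …, g 12`. -/
def tab (g : Nat → Nat) : Nat :=
  Nat.add (g 0) (Nat.mul 16 (Nat.add (g 1) (Nat.mul 16 (Nat.add (g 2) (Nat.mul 16 (Nat.add (g 3) (Nat.mul 16
  (Nat.add (g 4) (Nat.mul 16 (Nat.add (g 5) (Nat.mul 16 (Nat.add (g 6) (Nat.mul 16 (Nat.add (g 7) (Nat.mul 16
  (Nat.add (g 8) (Nat.mul 16 (Nat.add (g 9) (Nat.mul 16 (Nat.add (g 10) (Nat.mul 16 (Nat.add (g 11)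
  (Nat.mul 16 (g 12))))))))))))))))))))))))

/-- strict application: the kernel evaluates `T` to a literal before `f` is applied. -/
def force {α : Type} (T : Nat) (f : Nat → α) : α :=
  match T with
  | 0 => f 0
  | n + 1 => f (Nat.succ n)

/-- `iter g n v = g^[n] v`, by `Nat.rec` (cheap in the kernel). -/
def iter (g : Nat → Nat) (n : Nat) : Nat → Nat :=
  Nat.rec (motive := fun _ => Nat → Nat) (fun v => v) (fun _ ih v => ih (g v)) n

/-- `p 0 && … && p (n-1)`. -/
def allUpTo (p : Nat → Bool) (n : Nat) : Bool :=
  Nat.rec (motive := fun _ => Bool) true (fun m ih => and ih (p m)) n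

/-- the number of `i < n` with `p i`. -/
def cntUpTo (p : Nat → Bool) (n : Nat) : Nat :=
  Nat.rec (motive := fun _ => Nat) 0 (fun m ih => Nat.add ih (cond (p m) 1 0)) n

/-- `w = (x ^ b * y ^ a) ^ k` has `w ^ r = 1` and exactly `r` moved points (`X` the table of `x`). -/
def wordOK (X a b k r : Nat) : Bool :=
  force (tab fun i => iter (look X) b (Nat.mod (Nat.add i a) 13)) fun U =>
  force (tab fun i => iter (look U) k i) fun W =>
  and (allUpTo (fun i => Nat.beq (iter (look W) r i) i) 13)
    (Nat.beq (cntUpTo (fun i => not (Nat.beq (look W i) i)) 13) r)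

/-- the leaf check: `X` = the table of the `11`-cycle `x`; the certificate of leaf `idx` is the `idx`-th
base-65536 digit of `C`, `= a + 16 b + 256 k + 8192 r`. -/
def leafCheck (C idx X : Nat) : Bool :=
  force (Nat.mod (Nat.div C (Nat.pow 65536 idx)) 65536) fun code =>
  force (Nat.mod code 16) fun a =>
  force (Nat.mod (Nat.div code 16) 16) fun b =>
  force (Nat.mod (Nat.div code 256) 32) fun k =>
  force (Nat.mod (Nat.div code 8192) 8) fun r =>
  and (or (Nat.beq r 3) (or (Nat.beq r 5) (Nat.beq r 7))) (wordOK X a b k r)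

/-- erase the first occurrence. -/
def eraseN : List Nat → Nat → List Nat
  | [], _ => []
  | b :: t, a => cond (Nat.beq b a) t (b :: eraseN t a)

/-- `f p a` for all `a` in the list, `p` = position (starting from the second argument). -/
def allIdx (f : Nat → Nat → Bool) : List Nat → Nat → Bool
  | [], _ => true
  | a :: t, p => and (f p a) (allIdx f t (Nat.succ p))

/-- the table after following the path `cur → l₀ → l₁ → … → 2`. -/
def pathX : Nat → Nat → List Nat → Nat
  | X, cur, [] => Nat.add X (Nat.mul 2 (Nat.pow 16 cur))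
  | X, cur, a :: t => pathX (Nat.add X (Nat.mul a (Nat.pow 16 cur))) a t

/-- depth-first enumeration of the cycles `(2 3 c₂ … c₁₀)`: `X` = the partial table (images of the points
already left), `cur` = the current end of the path, `rem` = the unused points, `idx` = the mixed-radix
index of the node. -/
def dfs (C : Nat) : Nat → Nat → Nat → List Nat → Nat → Bool
  | 0, X, cur, _, idx => leafCheck C idx (Nat.add X (Nat.mul 2 (Nat.pow 16 cur)))
  | n + 1, X, cur, rem, idx =>
      allIdx (fun p a => dfs C n (Nat.add X (Nat.mul a (Nat.pow 16 cur))) a (eraseN rem a)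
        (Nat.add (Nat.mul idx rem.length) p)) rem 0

/-- the table of the partial path `0 ↦ 0, 1 ↦ 1, 2 ↦ 3`. -/
def X0 : Nat := 784

/-- the `Nat`-function of a permutation of `Fin 13`. -/
def nf (σ : Equiv.Perm (Fin 13)) (i : Nat) : Nat := if h : i < 13 then ((σ ⟨i, h⟩ : Fin 13) : Nat) else i

/-- `g cur = l₀`, `g l₀ = l₁`, …, `g (last) = 2`. -/
def Chain (g : Nat → Nat) : Nat → List Nat → Prop
  | cur, [] => g cur = 2
  | cur, a :: t => g cur = a ∧ Chain g a t

end Cfsg.Agent.Lib.H17.AG
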