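import Mathlib

set_option autoImplicit false
set_option linter.style.haveILetI false

/-!
Conjugation action on a finite elementary abelian normal subgroup as a homomorphism to
`GL (Fin e) (ZMod p)` with kernel the centralizer.
-/

namespace Cfsg.Agent.Lib.H17

open Matrix

section modEnd
variable {p : ℕ} [Fact p.Prime] {A : Type*} [CommGroup A] [Module (ZMod p) (Additive A)]

/-- A group acting by automorphisms on an abelian group of exponent `p`, as `ZMod p`-linear
endomorphisms of `Additive A`. -/
noncomputable def autToEnd {H : Type*} [Group H] (ρ : H →* MulAut A) :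
    H →* Module.End (ZMod p) (Additive A) where
  toFun h := AddMonoidHom.toZModLinearMap p (MonoidHom.toAdditive ((ρ h).toMonoidHom))
  map_one' := by
    apply LinearMap.ext
    intro x
    simp
  map_mul' := by
    intro a b
    apply LinearMap.ext
    intro x
    simp

theorem autToEnd_apply {H : Type*} [Group H] (ρ : H →* MulAut A) (h : H) (x : Additive A) :
    autToEnd (p := p) ρ h x = Additive.ofMul (ρ h (Additive.toMul x)) := rfl

/-- An action by automorphisms on a finite abelian group of exponent `p` and order `p ^ e`
gives a homomorphism to `GL (Fin e) (ZMod p)` with the same kernel. -/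
theorem exists_hom_GL_of_module [Finite A] {H : Type*} [Group H] (e : ℕ)
    (hcard : Nat.card A = p ^ e) (ρ : H →* MulAut A) :
    ∃ φ : H →* GL (Fin e) (ZMod p), ∀ h, φ h = 1 ↔ ρ h = 1 := by
  haveI : Finite (Additive A) := inferInstanceAs (Finite A)
  haveI : Module.Finite (ZMod p) (Additive A) := Module.Finite.of_finite
  have hfr : Module.finrank (ZMod p) (Additive A) = e := by
    have h1 := Module.natCard_eq_pow_finrank (K := ZMod p) (V := Additive A)
    have h2 : Nat.card (Additive A) = p ^ e := hcard
    rw [h2, Nat.card_zmod] at h1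
    exact (Nat.pow_right_injective (Fact.out : p.Prime).two_le h1).symm
  let b : Module.Basis (Fin e) (ZMod p) (Additive A) := Module.finBasisOfFinrankEq _ _ hfr
  let L : H →* Module.End (ZMod p) (Additive A) := autToEnd (p := p) ρ
  let M : H →* Matrix (Fin e) (Fin e) (ZMod p) :=
    ((LinearMap.toMatrixAlgEquiv b).toRingEquiv.toMonoidHom : _ →* _).comp L
  refine ⟨M.toHomUnits, ?_⟩
  intro h
  have hM1 : M.toHomUnits h = 1 ↔ M h = 1 := by
    constructor
    · intro hh
      have := congrArg Units.val hh
      simpa using this
    · intro hh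
      apply Units.ext
      simpa using hh
  have hML : M h = 1 ↔ L h = 1 := by
    have hinj : Function.Injective ((LinearMap.toMatrixAlgEquiv b).toRingEquiv.toMonoidHom :
        Module.End (ZMod p) (Additive A) →* Matrix (Fin e) (Fin e) (ZMod p)) :=
      (LinearMap.toMatrixAlgEquiv b).injective
    exact map_eq_one_iff _ hinj
  rw [hM1, hML]
  constructor
  · intro hL
    ext x
    have := LinearMap.congr_fun hL (Additive.ofMul x)
    rw [Module.End.one_apply] at this
    have h3 : L h (Additive.ofMul x) = Additive.ofMul (ρ h x) := rfl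
    rw [h3] at this
    exact Additive.ofMul.injective this
  · intro hc
    apply LinearMap.ext
    intro x
    rw [Module.End.one_apply]
    have h3 : L h x = Additive.ofMul (ρ h (Additive.toMul x)) := rfl
    rw [h3, hc]
    rfl

end modEnd

/-- Let `F` be a finite normal subgroup of `H` which is abelian of exponent `p` and order `p ^ e`.
Then conjugation gives a homomorphism `H →* GL (Fin e) (ZMod p)` whose kernel is `C_H(F)`. -/
theorem exists_hom_GL_ker_eq_centralizer {H : Type*} [Group H] (F : Subgroup H) [hFn : F.Normal]
    [Finite F] (p e : ℕ) [hp : Fact p.Prime] (hcomm : ∀ a ∈ F, ∀ b ∈ F, a * b = b * a)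
    (hexp : ∀ a ∈ F, a ^ p = 1) (hcard : Nat.card F = p ^ e) :
    ∃ φ : H →* GL (Fin e) (ZMod p), φ.ker = Subgroup.centralizer (F : Set H) := by
  letI iC : CommGroup F :=
    { (inferInstance : Group F) with mul_comm := fun a b => Subtype.ext (hcomm a a.2 b b.2) }
  letI iM : Module (ZMod p) (Additive F) := AddCommGroup.zmodModule (n := p) (by
    intro x
    show Additive.ofMul ((Additive.toMul x) ^ p) = 0
    have : (Additive.toMul x) ^ p = 1 := Subtype.ext (by
      rw [Subgroup.coe_pow, Subgroup.coe_one]; exact hexp _ (Additive.toMul x).2)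
    rw [this]; rfl)
  let ρ : H →* MulAut F := MulAut.conjNormal
  obtain ⟨φ, hφ⟩ := @exists_hom_GL_of_module p hp F iC iM _ H _ e hcard ρ
  refine ⟨φ, ?_⟩
  ext h
  rw [MonoidHom.mem_ker, hφ, Subgroup.mem_centralizer_iff]
  constructor
  · intro hL x hx
    have h2 : (ρ h ⟨x, hx⟩ : F) = ⟨x, hx⟩ := by rw [hL]; rfl
    have h4 := congrArg Subtype.val h2
    rw [MulAut.conjNormal_apply] at h4
    simp only at h4
    calc x * h = (h * x * h⁻¹) * h := by rw [h4]
      _ = h * x := by group
  · intro hc
    ext x
    rw [MulAut.conjNormal_apply]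
    have := hc (x : H) x.2
    rw [← this]
    simp

end Cfsg.Agent.Lib.H17
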