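import Mathlib
import Cfsg.Agent.Lib.H14.A8Sylow

/-!
# S4402 (Gorenstein–Harada: a 2-group of sectional rank ≤ 4 containing `D8 ≀ Z2` properly) — shared definitions

`Data P` packages, for a subgroup `P` of a group `S`, the finitely many ELEMENTWISE facts about `P ≅ D8 ≀ Z2`
(the Sylow 2-subgroup of `S_8`) used by the abstract argument; see `tools/blueprints/S4402.md`.
`z` = the central involution, `A1 A2` = the two normal elementary abelian subgroups of order 16,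
`Om` = the 8 involutions of `P` outside `A1 A2`, `As` = the subgroup they generate (order 32, `As / ⟨z⟩ ≅ E16`).
The concrete objects for the tree group `A8Sylow.T ≤ Perm (Fin 8)` are at the end.
-/

set_option autoImplicit false
set_option linter.dupNamespace false

namespace Cfsg.Agent.Lib.H17.GH

open Subgroup

/-- The elementwise facts about `P ≅ D8 ≀ Z2` used in S4402. -/
structure Data {S : Type*} [Group S] (P : Subgroup S) where
  z : S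
  A1 : Subgroup S
  A2 : Subgroup S
  As : Subgroup S
  Om : Set S
  card_P : Nat.card P = 128
  z_mem : z ∈ P
  z_ne : z ≠ 1
  z_sq : z * z = 1
  center_iff : ∀ x ∈ P, (∀ y ∈ P, x * y = y * x) ↔ (x = 1 ∨ x = z)
  A1_le : A1 ≤ P
  A2_le : A2 ≤ P
  A1_conj : ∀ g ∈ P, ∀ a ∈ A1, g * a * g⁻¹ ∈ A1
  A2_conj : ∀ g ∈ P, ∀ a ∈ A2, g * a * g⁻¹ ∈ A2
  A1_sq : ∀ a ∈ A1, a * a = 1
  A2_sq : ∀ a ∈ A2, a * a = 1
  A1_card : Nat.card A1 = 16
  A2_card : Nat.card A2 = 16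
  A1_ne_A2 : A1 ≠ A2
  good : ∀ x ∈ P, x * x = 1 → (∀ g ∈ P, (g * x * g⁻¹) * x = x * (g * x * g⁻¹)) → x ∈ A1 ∨ x ∈ A2
  Om_iff : ∀ x, x ∈ Om ↔ (x ∈ P ∧ x * x = 1 ∧ ¬ ∃ a ∈ A1, ∃ b ∈ A2, x = a * b)
  Om_card : Om.ncard = 8
  As_eq : As = Subgroup.closure Om
  As_card : Nat.card As = 32
  z_mem_As : z ∈ As
  As_sq : ∀ a ∈ As, a * a = 1 ∨ a * a = z
  As_comm : ∀ a ∈ As, ∀ b ∈ As, a * b = b * a ∨ a * b = b * a * z
  cent_Om : ∀ y ∈ P, (∀ x ∈ Om, y * x = x * y) → y = 1 ∨ y = z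
  prod : ∀ p ∈ P, ∃ a ∈ A1, ∃ b ∈ A2, ∃ c ∈ As, p = a * b * c
  A1_idx : ∀ a ∈ A1, ∀ a' ∈ A1, a ∉ As → a' ∉ As → a⁻¹ * a' ∈ As
  A2_idx : ∀ a ∈ A2, ∀ a' ∈ A2, a ∉ As → a' ∉ As → a⁻¹ * a' ∈ As
  comm_P : ∀ p ∈ P, ∀ q ∈ P, p * q * p⁻¹ * q⁻¹ ∈ As

/-! ## The concrete objects in `Perm (Fin 8)` (for `P := A8Sylow.T`, the automorphism group of the binary tree) -/

open Cfsg.Agent.Lib.H14.A8Sylow

/-- the leaf transposition `(2a, 2a+1)` -/
def lsw (a : Fin 4) : Equiv.Perm (Fin 8) :=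
  Equiv.swap ⟨2 * a.val, by omega⟩ ⟨2 * a.val + 1, by omega⟩

/-- `z = (01)(23)(45)(67)` -/
def zc : Equiv.Perm (Fin 8) := dsw 0 1 * dsw 2 3

/-- `A1 = ⟨(01), (23), (45), (67)⟩` as `T ⊓ C(leaf transpositions)`. -/
def A1c : Subgroup (Equiv.Perm (Fin 8)) :=
  T ⊓ centralizer {lsw 0, lsw 1, lsw 2, lsw 3}

/-- `A2 = ⟨(01)(23), (02)(13), (45)(67), (46)(57)⟩` as `T ⊓ C(these four)`. -/
def A2c : Subgroup (Equiv.Perm (Fin 8)) :=
  T ⊓ centralizer {dsw 0 1, qsw 0, dsw 2 3, qsw 1}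

/-- the 8 involutions of `T` interchanging the two halves `{0,1,2,3}` and `{4,5,6,7}` -/
def Omc : Set (Equiv.Perm (Fin 8)) :=
  {σ | σ ∈ T ∧ σ * σ = 1 ∧ ∀ i, blk4 (σ i) ≠ blk4 i}

/-- the subgroup generated by `Omc` (order 32) -/
def Asc : Subgroup (Equiv.Perm (Fin 8)) := Subgroup.closure Omc

/-- the involution `(04)(15)(26)(37)` interchanging the two halves -/
def hsw : Equiv.Perm (Fin 8) :=
  Equiv.swap 0 4 * Equiv.swap 1 5 * Equiv.swap 2 6 * Equiv.swap 3 7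

/-- `g ^ b` for a bit `b` -/
def pw (g : Equiv.Perm (Fin 8)) (b : Bool) : Equiv.Perm (Fin 8) := if b then g else 1

/-- An explicit enumeration of the tree group `T = A1c ⋊ ⟨qsw 0, qsw 1, hsw⟩` by 7 bits
(a bijection `Fin 128 → T`: piece KE). -/
def enc (n : Fin 128) : Equiv.Perm (Fin 8) :=
  pw (lsw 0) (n.val.testBit 0) * pw (lsw 1) (n.val.testBit 1) * pw (lsw 2) (n.val.testBit 2) *
    pw (lsw 3) (n.val.testBit 3) * pw (qsw 0) (n.val.testBit 4) * pw (qsw 1) (n.val.testBit 5) *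
    pw hsw (n.val.testBit 6)

end Cfsg.Agent.Lib.H17.GH
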