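import Cfsg.Agent.Lib.H10.S4415BadDefs

/-!
helper17: S4415 piece (4) `OddStmt`: `R<b>`-normal subgroups of odd order of `R` are trivial.

Route (uses irreducibility, no coprime splitting): reduce to `M` abelian (derived subgroup +
strong induction); the key lemma `key`: an element `m` of `R` of order prime to `6` commuting with
`x₁` and inverted by `x₂` is trivial; then `Q` centralises `M`, so `M` fixes `e₁`, and `C_W(M)` is an
`R<b>`-invariant nonzero submodule of `W`.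
-/

set_option autoImplicit false

namespace Cfsg.Agent.Lib.H17.S4415Odd

open Cfsg.Agent.Lib.H10.S4415

section GL2

theorem card_units_end_dvd {Y : Type*} [AddCommGroup Y] [Module (ZMod 3) Y]
    [Module.Finite (ZMod 3) Y] (hd : Module.finrank (ZMod 3) Y ≤ 2) :
    Nat.card (Module.End (ZMod 3) Y)ˣ ∣ 48 := by
  have e : (Module.End (ZMod 3) Y)ˣ ≃* GL (Fin (Module.finrank (ZMod 3) Y)) (ZMod 3) :=
    Units.mapEquiv (LinearMap.toMatrixAlgEquiv (Module.finBasis (ZMod 3) Y)).toMulEquiv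
  rw [Nat.card_congr e.toEquiv, Matrix.card_GL_field]
  generalize Module.finrank (ZMod 3) Y = d at hd
  interval_cases d <;> simp [Fin.prod_univ_succ, ZMod.card]

theorem fix_of_two_dim {V : Type*} [AddCommGroup V] [Module (ZMod 3) V] (T : V →ₗ[ZMod 3] V)
    (k : ℕ) (hk : k.Coprime 6) (hT : ∀ v, (T ^ k) v = v) (v₁ v₂ : V)
    (h₁ : ∃ a c : ZMod 3, T v₁ = a • v₁ + c • v₂) (h₂ : ∃ a c : ZMod 3, T v₂ = a • v₁ + c • v₂) :
    T v₁ = v₁ ∧ T v₂ = v₂ := by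
  classical
  set Y : Submodule (ZMod 3) V := Submodule.span (ZMod 3) (({v₁, v₂} : Finset V) : Set V) with hY
  have hv₁ : v₁ ∈ Y := Submodule.subset_span (by simp)
  have hv₂ : v₂ ∈ Y := Submodule.subset_span (by simp)
  have hT₁ : T v₁ ∈ Y := by
    obtain ⟨a, c, h⟩ := h₁
    rw [h]
    exact Submodule.add_mem _ (Submodule.smul_mem _ _ hv₁) (Submodule.smul_mem _ _ hv₂)
  have hT₂ : T v₂ ∈ Y := by
    obtain ⟨a, c, h⟩ := h₂
    rw [h]
    exact Submodule.add_mem _ (Submodule.smul_mem _ _ hv₁) (Submodule.smul_mem _ _ hv₂)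
  have hTY : ∀ y ∈ Y, T y ∈ Y := by
    have : Y ≤ Y.comap T := by
      rw [hY, Submodule.span_le]
      intro y hy
      simp only [Finset.coe_insert, Finset.coe_singleton, Set.mem_insert_iff,
        Set.mem_singleton_iff] at hy
      rcases hy with h | h
      · rw [h]; exact hT₁
      · rw [h]; exact hT₂
    exact fun y hy => this hy
  have hfin : Module.finrank (ZMod 3) Y ≤ 2 := by
    refine (finrank_span_finset_le_card _).trans ?_
    exact Finset.card_le_two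
  have hk0 : k ≠ 0 := by
    rintro rfl
    simp at hk
  have hpow : (T.restrict hTY) ^ k = 1 := by
    rw [Module.End.pow_restrict]
    ext y
    simp [hT]
  let u : (Module.End (ZMod 3) Y)ˣ := Units.ofPowEqOne (T.restrict hTY) k hpow hk0
  have hu : u ^ k = 1 := Units.pow_ofPowEqOne hpow hk0
  have h1 : orderOf u ∣ k := orderOf_dvd_of_pow_eq_one hu
  have h2 : orderOf u ∣ 48 := (orderOf_dvd_natCard u).trans (card_units_end_dvd hfin)
  have hk48 : k.Coprime 48 :=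
    Nat.Coprime.coprime_dvd_right (by norm_num : 48 ∣ 6 ^ 4) (hk.pow_right 4)
  have h3 : orderOf u = 1 := Nat.eq_one_of_dvd_coprimes hk48 h1 h2
  have h4 : u = 1 := orderOf_eq_one_iff.1 h3
  have h5 : T.restrict hTY = 1 := by
    have := congrArg Units.val h4
    simpa [u] using this
  constructor
  · have := congrArg (fun f => ((f ⟨v₁, hv₁⟩ : Y) : V)) h5
    simpa using this
  · have := congrArg (fun f => ((f ⟨v₂, hv₂⟩ : Y) : V)) h5
    simpa using this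


end GL2

section Red

variable {S : Type*} [Group S]

/-- Reduction of `OddTriv` to abelian subgroups. -/
theorem oddTriv_of_abelian [Finite S] (R : Subgroup S) (b : S) (hsolv : Group.IsSolvable ↥R)
    (h : ∀ M : Subgroup S, M ≤ R → NormBy (RB R b) M → Odd (Nat.card M) →
      (∀ a ∈ M, ∀ a' ∈ M, a * a' = a' * a) → M = ⊥) : OddTriv R b := by
  suffices H : ∀ n : ℕ, ∀ M : Subgroup S, Nat.card M = n → M ≤ R → NormBy (RB R b) M →
      Odd (Nat.card M) → M = ⊥ from fun M => H _ M rfl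
  intro n
  induction n using Nat.strong_induction_on with
  | _ n ih =>
  intro M hn hMR hMn hodd
  by_contra hne
  -- the derived subgroup
  have hDM : ⁅M, M⁆ ≤ M := by
    rw [Subgroup.commutator_le]
    intro g₁ h₁ g₂ h₂
    exact M.mul_mem (M.mul_mem (M.mul_mem h₁ h₂) (M.inv_mem h₁)) (M.inv_mem h₂)
  have hDne : ⁅M, M⁆ ≠ M := by
    intro heq
    have : Group.IsSolvable ↥M :=
      Group.isSolvable_of_isSolvable_injective (f := Subgroup.inclusion hMR)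
        (Subgroup.inclusion_injective hMR)
    have : Nontrivial ↥M := (Subgroup.nontrivial_iff_ne_bot M).2 hne
    have hlt := Group.IsSolvable.commutator_lt_top_of_nontrivial ↥M
    have hmap : Subgroup.map M.subtype (commutator ↥M) = ⁅M, M⁆ := by
      rw [commutator_def, Subgroup.map_commutator, ← MonoidHom.range_eq_map, Subgroup.range_subtype]
    have htop : Subgroup.map M.subtype ⊤ = M := by
      rw [← MonoidHom.range_eq_map, Subgroup.range_subtype]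
    have : commutator ↥M = ⊤ := by
      apply Subgroup.map_injective M.subtype_injective
      rw [hmap, htop, heq]
    exact (ne_of_lt hlt) this
  have hDlt : Nat.card ↥⁅M, M⁆ < n := by
    by_contra hge
    rw [not_lt, ← hn] at hge
    exact hDne (Subgroup.eq_of_le_of_card_ge hDM hge)
  have hDodd : Odd (Nat.card ↥⁅M, M⁆) :=
    Odd.of_dvd_nat hodd (Subgroup.card_dvd_of_le hDM)
  have hDn : NormBy (RB R b) ⁅M, M⁆ := by
    intro g hg a ha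
    have hle : Subgroup.map (MulAut.conj g).toMonoidHom M ≤ M := by
      rintro _ ⟨y, hy, rfl⟩
      exact hMn g hg y hy
    have : Subgroup.map (MulAut.conj g).toMonoidHom ⁅M, M⁆ ≤ ⁅M, M⁆ := by
      rw [Subgroup.map_commutator]
      exact Subgroup.commutator_mono hle hle
    exact this ⟨a, ha, rfl⟩
  have hD : ⁅M, M⁆ = ⊥ := ih _ hDlt ⁅M, M⁆ rfl (hDM.trans hMR) hDn hDodd
  apply hne
  apply h M hMR hMn hodd
  intro a ha a' ha'
  have := Subgroup.commutator_mem_commutator ha ha'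
  rw [hD, Subgroup.mem_bot, commutatorElement_def] at this
  -- a * a' * a⁻¹ * a'⁻¹ = 1
  calc a * a' = (a * a' * a⁻¹ * a'⁻¹) * (a' * a) := by group
    _ = a' * a := by rw [this, one_mul]

end Red

section Main

variable {S E : Type*} [Group S] [AddCommGroup E] [Module (ZMod 3) E]
variable {ρ : Representation (ZMod 3) S E} {R : Subgroup S} {b : S} {W : Submodule (ZMod 3) E}
variable {x₁ x₂ x₃ : S} {e₁ e₂ e₃ : E}

theorem three_add (v : E) : v + v + v = 0 := by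
  have h := ZModModule.char_nsmul_eq_zero 3 v
  have h3 : (3 : ℕ) • v = v + v + v := by
    rw [succ_nsmul, succ_nsmul, one_nsmul]
  rw [← h3]; exact h

theorem eq_zero_of_add_self {v : E} (h : v + v = 0) : v = 0 := by
  have h3 := three_add v
  rw [h, zero_add] at h3; exact h3

theorem rho_mul_apply (ρ : Representation (ZMod 3) S E) (g h : S) (v : E) :
    ρ (g * h) v = ρ g (ρ h v) := by
  rw [map_mul]; rfl

theorem rho_one_apply (ρ : Representation (ZMod 3) S E) (v : E) : ρ 1 v = v := by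
  rw [map_one]; rfl

theorem rho_inv_apply (ρ : Representation (ZMod 3) S E) (g : S) (v : E) :
    ρ g⁻¹ (ρ g v) = v := by
  rw [← rho_mul_apply, inv_mul_cancel, rho_one_apply]

theorem rho_apply_inv (ρ : Representation (ZMod 3) S E) (g : S) (v : E) :
    ρ g (ρ g⁻¹ v) = v := by
  rw [← rho_mul_apply, mul_inv_cancel, rho_one_apply]

/-- Cyclic rotation of the `QData`. -/
theorem rot (hQ : QData ρ R b W x₁ x₂ x₃ e₁ e₂ e₃) : QData ρ R b W x₂ x₃ x₁ e₂ e₃ e₁ := by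
  have h23 : x₂ * x₃ = x₁ := by rw [← hQ.x₂x₁, ← mul_assoc, hQ.x₂sq, one_mul]
  have h32 : x₃ * x₂ = x₁ := by rw [← hQ.x₁x₂, mul_assoc, hQ.x₂sq, mul_one]
  refine { x₁R := hQ.x₂R, x₂R := hQ.x₃R, x₃R := hQ.x₁R, x₁sq := hQ.x₂sq, x₂sq := hQ.x₃sq,
           x₃sq := hQ.x₁sq, x₁x₂ := h23, x₂x₁ := h32, bx₁ := hQ.bx₂, bx₂ := hQ.bx₃, bx₃ := hQ.bx₁,
           e₁W := hQ.e₂W, e₂W := hQ.e₃W, e₃W := hQ.e₁W, e₁ne := ?_, be₁ := hQ.be₂, be₂ := hQ.be₃,
           be₃ := hQ.be₁, x₁e₁ := hQ.x₂e₂, x₁e₂ := hQ.x₂e₃, x₁e₃ := hQ.x₂e₁, x₂e₁ := hQ.x₃e₂,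
           x₂e₂ := hQ.x₃e₃, x₂e₃ := hQ.x₃e₁, x₃e₁ := hQ.x₁e₂, x₃e₂ := hQ.x₁e₃, x₃e₃ := hQ.x₁e₁,
           decomp := ?_ }
  · intro h
    apply hQ.e₁ne
    rw [← hQ.be₃, ← hQ.be₂, h, map_zero, map_zero]
  · intro w hw
    obtain ⟨w₀, hw₀, c₁, c₂, c₃, hw', h1, h2, h3, hb⟩ := hQ.decomp w hw
    exact ⟨w₀, hw₀, c₂, c₃, c₁, by rw [hw']; abel, h2, h3, h1, hb⟩

/-- The `(-1)`-eigenspace of `x₁` on `W` is spanned by `e₂, e₃`. -/
theorem eig_neg (hQ : QData ρ R b W x₁ x₂ x₃ e₁ e₂ e₃) {w : E} (hw : w ∈ W)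
    (h1 : ρ x₁ w = -w) : ∃ c₂ c₃ : ZMod 3, w = c₂ • e₂ + c₃ • e₃ := by
  obtain ⟨w₀, hw₀, c₁, c₂, c₃, hw', h1', -, -, -⟩ := hQ.decomp w hw
  refine ⟨c₂, c₃, ?_⟩
  subst hw'
  simp only [map_add, map_smul, h1', hQ.x₁e₁, hQ.x₁e₂, hQ.x₁e₃, smul_neg] at h1
  have hz : (w₀ + c₁ • e₁) + (w₀ + c₁ • e₁) = 0 := by
    have := congrArg (fun y => y + (w₀ + c₁ • e₁ + c₂ • e₂ + c₃ • e₃)) h1
    simp only [neg_add_cancel] at this
    rw [← this]; abel
  have := eq_zero_of_add_self hz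
  calc w₀ + c₁ • e₁ + c₂ • e₂ + c₃ • e₃ = (w₀ + c₁ • e₁) + (c₂ • e₂ + c₃ • e₃) := by abel
    _ = c₂ • e₂ + c₃ • e₃ := by rw [this, zero_add]

/-- The `(+,-)`-eigenspace of `(x₁, x₂)` on `W` is spanned by `e₁`. -/
theorem eig_pm (hQ : QData ρ R b W x₁ x₂ x₃ e₁ e₂ e₃) {w : E} (hw : w ∈ W)
    (h1 : ρ x₁ w = w) (h2 : ρ x₂ w = -w) : ∃ c : ZMod 3, w = c • e₁ := by
  obtain ⟨w₀, hw₀, c₁, c₂, c₃, hw', h1', h2', -, -⟩ := hQ.decomp w hw
  refine ⟨c₁, ?_⟩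
  subst hw'
  simp only [map_add, map_smul, h1', hQ.x₁e₁, hQ.x₁e₂, hQ.x₁e₃, smul_neg] at h1
  simp only [map_add, map_smul, h2', hQ.x₂e₁, hQ.x₂e₂, hQ.x₂e₃, smul_neg] at h2
  -- from h1: c₂e₂ + c₃e₃ = 0
  have hz1 : (c₂ • e₂ + c₃ • e₃) + (c₂ • e₂ + c₃ • e₃) = 0 := by
    have := congrArg (fun y => (w₀ + c₁ • e₁ + c₂ • e₂ + c₃ • e₃) - y) h1
    simp only [sub_self] at this
    rw [← this]; abel
  have hz1' := eq_zero_of_add_self hz1
  -- from h2: w₀ + c₂ e₂ = 0, hence with hz1 ...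
  have hz2 : (w₀ + c₂ • e₂) + (w₀ + c₂ • e₂) = 0 := by
    have := congrArg (fun y => y + (w₀ + c₁ • e₁ + c₂ • e₂ + c₃ • e₃)) h2
    simp only [neg_add_cancel] at this
    rw [← this]; abel
  have hz2' := eq_zero_of_add_self hz2
  -- apply x₁ to hz2': w₀ - c₂e₂ = 0, so w₀ = 0
  have hz3 : w₀ - c₂ • e₂ = 0 := by
    have := congrArg (ρ x₁) hz2'
    simpa only [map_add, map_smul, h1', hQ.x₁e₂, smul_neg, map_zero, ← sub_eq_add_neg] using this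
  have hw0 : w₀ = 0 := by
    apply eq_zero_of_add_self
    calc w₀ + w₀ = (w₀ + c₂ • e₂) + (w₀ - c₂ • e₂) := by abel
      _ = 0 := by rw [hz2', hz3, add_zero]
  have hc2 : c₂ • e₂ = 0 := by rw [hw0, zero_add] at hz2'; exact hz2'
  have hc3 : c₃ • e₃ = 0 := by rw [hc2, zero_add] at hz1'; exact hz1'
  rw [hw0, hc2, hc3, zero_add, add_zero, add_zero]

/-- KEY: an element of `R` of order prime to `6`, centralised by `x₁` and inverted by `x₂`,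
is trivial. -/
theorem key (hL : LinCtx ρ R b W) (hQ : QData ρ R b W x₁ x₂ x₃ e₁ e₂ e₃) (m : S) (hm : m ∈ R)
    (k : ℕ) (hk : k.Coprime 6) (hmk : m ^ k = 1) (h1 : x₁ * m = m * x₁)
    (h2 : x₂ * m * x₂ = m⁻¹) : m = 1 := by
  have hRB : ∀ r ∈ R, r ∈ RB R b := fun r hr => (le_sup_left : R ≤ R ⊔ Subgroup.zpowers b) hr
  have hmW : ∀ w ∈ W, ρ m w ∈ W := fun w hw => hL.W_inv m (hRB m hm) w hw
  have hm'W : ∀ w ∈ W, ρ m⁻¹ w ∈ W := fun w hw => hL.W_inv m⁻¹ (hRB _ (R.inv_mem hm)) w hw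
  have hc1 : Commute x₁ m := h1
  have g1' : x₁ * m⁻¹ = m⁻¹ * x₁ := hc1.inv_right
  have g2 : x₂ * m = m⁻¹ * x₂ := by
    calc x₂ * m = (x₂ * m * x₂) * x₂ := by rw [mul_assoc, mul_assoc, hQ.x₂sq, mul_one]
      _ = m⁻¹ * x₂ := by rw [h2]
  have g2' : x₂ * m⁻¹ = m * x₂ := by
    rw [← h2, ← mul_assoc, ← mul_assoc, hQ.x₂sq, one_mul]
  have c1 : ∀ v, ρ x₁ (ρ m v) = ρ m (ρ x₁ v) := fun v => by
    rw [← rho_mul_apply, h1, rho_mul_apply]
  have c1' : ∀ v, ρ x₁ (ρ m⁻¹ v) = ρ m⁻¹ (ρ x₁ v) := fun v => by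
    rw [← rho_mul_apply, g1', rho_mul_apply]
  have c2 : ∀ v, ρ x₂ (ρ m v) = ρ m⁻¹ (ρ x₂ v) := fun v => by
    rw [← rho_mul_apply, g2, rho_mul_apply]
  have c2' : ∀ v, ρ x₂ (ρ m⁻¹ v) = ρ m (ρ x₂ v) := fun v => by
    rw [← rho_mul_apply, g2', rho_mul_apply]
  have i1 : ∀ v, ρ m (ρ m⁻¹ v) = v := rho_apply_inv ρ m
  have i2 : ∀ v, ρ m⁻¹ (ρ m v) = v := rho_inv_apply ρ m
  -- the operators t = T - T⁻¹ and s = T + T⁻¹
  obtain ⟨t, ht⟩ : ∃ t : E →ₗ[ZMod 3] E, ∀ v, t v = ρ m v - ρ m⁻¹ v :=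
    ⟨ρ m - ρ m⁻¹, fun v => rfl⟩
  obtain ⟨s, hs⟩ : ∃ s : E →ₗ[ZMod 3] E, ∀ v, s v = ρ m v + ρ m⁻¹ v :=
    ⟨ρ m + ρ m⁻¹, fun v => rfl⟩
  have t_x1 : ∀ v, ρ x₁ (t v) = t (ρ x₁ v) := fun v => by
    rw [ht, ht, map_sub, c1, c1']
  have t_x2 : ∀ v, ρ x₂ (t v) = -t (ρ x₂ v) := fun v => by
    rw [ht, ht, map_sub, c2, c2', neg_sub]
  have s_x1 : ∀ v, ρ x₁ (s v) = s (ρ x₁ v) := fun v => by
    rw [hs, hs, map_add, c1, c1']
  have s_x2 : ∀ v, ρ x₂ (s v) = s (ρ x₂ v) := fun v => by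
    rw [hs, hs, map_add, c2, c2', add_comm]
  have tW : ∀ w ∈ W, t w ∈ W := fun w hw => by
    rw [ht]; exact W.sub_mem (hmW w hw) (hm'W w hw)
  have sW : ∀ w ∈ W, s w ∈ W := fun w hw => by
    rw [hs]; exact W.add_mem (hmW w hw) (hm'W w hw)
  have hTs : ∀ v, ρ m v = -(s v + t v) := fun v => by
    rw [hs, ht]
    have h3 := three_add (ρ m v)
    have : ρ m v + ρ m⁻¹ v + (ρ m v - ρ m⁻¹ v) = ρ m v + ρ m v := by abel
    rw [this]
    rw [eq_neg_iff_add_eq_zero, ← add_assoc]; exact h3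
  have hst : ∀ v, s (t v) = t (s v) := fun v => by
    rw [hs, ht, ht, hs, map_sub, map_sub, map_add, map_add, i1, i2]; abel
  have hpow : ∀ v, ((ρ m) ^ k) v = v := fun v => by
    rw [← map_pow, hmk, rho_one_apply]
  -- B1: T fixes e₂ and e₃
  have hTe2 : ∃ a c : ZMod 3, ρ m e₂ = a • e₂ + c • e₃ :=
    eig_neg hQ (hmW _ hQ.e₂W) (by rw [c1, hQ.x₁e₂, map_neg])
  have hTe3 : ∃ a c : ZMod 3, ρ m e₃ = a • e₂ + c • e₃ :=
    eig_neg hQ (hmW _ hQ.e₃W) (by rw [c1, hQ.x₁e₃, map_neg])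
  obtain ⟨hm2, hm3⟩ := fix_of_two_dim (ρ m) k hk hpow e₂ e₃ hTe2 hTe3
  have hm2' : ρ m⁻¹ e₂ = e₂ := by have := i2 e₂; rw [hm2] at this; exact this
  have hm3' : ρ m⁻¹ e₃ = e₃ := by have := i2 e₃; rw [hm3] at this; exact this
  have te2 : t e₂ = 0 := by rw [ht, hm2, hm2', sub_self]
  have te3 : t e₃ = 0 := by rw [ht, hm3, hm3', sub_self]
  -- B2: T fixes e₁
  have fW : t e₁ ∈ W := tW _ hQ.e₁W
  have f1 : ρ x₁ (t e₁) = t e₁ := by rw [t_x1, hQ.x₁e₁]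
  have f2 : ρ x₂ (t e₁) = t e₁ := by rw [t_x2, hQ.x₂e₁, map_neg, neg_neg]
  obtain ⟨φ, hφ⟩ := eig_pm hQ (tW _ fW) (by rw [t_x1, f1]) (by rw [t_x2, f2])
  obtain ⟨σ, hσ⟩ := eig_pm hQ (sW _ hQ.e₁W) (by rw [s_x1, hQ.x₁e₁])
    (by rw [s_x2, hQ.x₂e₁, map_neg])
  have hsf : s (t e₁) = σ • t e₁ := by rw [hst, hσ, map_smul]
  have hTe1 : ρ m e₁ = (-σ) • e₁ + (-1 : ZMod 3) • t e₁ := by
    rw [hTs, hσ, neg_add, neg_smul, neg_smul, one_smul]
  have hTf : ρ m (t e₁) = (-φ) • e₁ + (-σ) • t e₁ := by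
    rw [hTs, hsf, hφ, neg_add, neg_smul, neg_smul, add_comm]
  obtain ⟨hm1, -⟩ := fix_of_two_dim (ρ m) k hk hpow e₁ (t e₁) ⟨_, _, hTe1⟩ ⟨_, _, hTf⟩
  have hm1' : ρ m⁻¹ e₁ = e₁ := by have := i2 e₁; rw [hm1] at this; exact this
  have te1 : t e₁ = 0 := by rw [ht, hm1, hm1', sub_self]
  -- B3: t² = 0 on W
  have htt : ∀ w ∈ W, t (t w) = 0 := by
    intro w hw
    obtain ⟨w₀, hw₀, c₁, c₂, c₃, hw', h1', h2', -, -⟩ := hQ.decomp w hw
    have e1 : t w = t w₀ := by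
      rw [hw', map_add, map_add, map_add, map_smul, map_smul, map_smul, te1, te2, te3]
      simp
    obtain ⟨φ₀, hφ₀⟩ := eig_pm hQ (tW _ hw₀) (by rw [t_x1, h1']) (by rw [t_x2, h2'])
    rw [e1, hφ₀, map_smul, te1, smul_zero]
  have hq : ∀ w ∈ W, ρ m (ρ m w) + w + ρ m⁻¹ (ρ m⁻¹ w) = 0 := by
    intro w hw
    have h := htt w hw
    rw [ht, ht, map_sub, map_sub, i1, i2] at h
    have h3 := three_add w
    calc ρ m (ρ m w) + w + ρ m⁻¹ (ρ m⁻¹ w)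
        = (ρ m (ρ m w) - w - (w - ρ m⁻¹ (ρ m⁻¹ w))) + (w + w + w) := by abel
      _ = 0 := by rw [h, h3, add_zero]
  have hstar : ∀ w ∈ W, ρ m (ρ m (ρ m (ρ m w))) + ρ m (ρ m w) + w = 0 := by
    intro w hw
    have h := hq _ (hmW _ (hmW w hw))
    rw [i2, i2] at h
    exact h
  have h6 : ∀ w ∈ W, ρ (m ^ 6) w = w := by
    intro w hw
    have e6 : m ^ 6 = m * (m * (m * (m * (m * m)))) := by simp [pow_succ, mul_assoc]
    rw [e6, rho_mul_apply, rho_mul_apply, rho_mul_apply, rho_mul_apply, rho_mul_apply]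
    have h := hstar w hw
    have h4 : ρ m (ρ m (ρ m (ρ m w))) = -(ρ m (ρ m w) + w) := by
      rw [eq_neg_iff_add_eq_zero, ← add_assoc]; exact h
    rw [h4, map_neg, map_neg, map_add, map_add, neg_eq_iff_eq_neg, eq_neg_iff_add_eq_zero]
    exact h
  have hm6 : m ^ 6 = 1 := hL.faithful _ (hRB _ (R.pow_mem hm 6)) h6
  have d1 : orderOf m ∣ 6 := orderOf_dvd_of_pow_eq_one hm6
  have d2 : orderOf m ∣ k := orderOf_dvd_of_pow_eq_one hmk
  exact orderOf_eq_one_iff.1 (Nat.eq_one_of_dvd_coprimes hk d2 d1)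

theorem conj_mul_apply (x y g : S) :
    MulAut.conj (x * y) g = MulAut.conj x (MulAut.conj y g) := by
  rw [map_mul]; rfl

theorem conj_def (x g : S) : MulAut.conj x g = x * g * x⁻¹ := rfl

/-- In an abelian `Q`-invariant subgroup `M ≤ R` of order prime to `6`, an element inverted by
`x₁` is trivial. -/
theorem inv_trivial (hL : LinCtx ρ R b W) (hQ : QData ρ R b W x₁ x₂ x₃ e₁ e₂ e₃)
    (M : Subgroup S) (hMR : M ≤ R) (hMn : NormBy (RB R b) M) (k : ℕ) (hk : k.Coprime 6)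
    (hMk : ∀ a ∈ M, a ^ k = 1) (hab : ∀ a ∈ M, ∀ a' ∈ M, a * a' = a' * a)
    (n : S) (hn : n ∈ M) (hinv : x₁ * n * x₁ = n⁻¹) : n = 1 := by
  have hRB : ∀ r ∈ R, r ∈ RB R b := fun r hr => (le_sup_left : R ≤ R ⊔ Subgroup.zpowers b) hr
  have i1 : x₁⁻¹ = x₁ := inv_eq_of_mul_eq_one_left hQ.x₁sq
  have i3 : x₃⁻¹ = x₃ := inv_eq_of_mul_eq_one_left hQ.x₃sq
  have hQ' := rot hQ
  have hQ'' := rot hQ'
  have a1 : MulAut.conj x₁ n = n⁻¹ := by rw [conj_def, i1]; exact hinv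
  obtain ⟨n₂, hn₂⟩ : ∃ n₂, n₂ = MulAut.conj x₂ n := ⟨_, rfl⟩
  have hn₂M : n₂ ∈ M := by rw [hn₂]; exact hMn x₂ (hRB _ hQ.x₂R) n hn
  have a2 : MulAut.conj x₂ n₂ = n := by
    rw [hn₂, ← conj_mul_apply, hQ.x₂sq, map_one]; rfl
  have a3 : MulAut.conj x₁ n₂ = n₂⁻¹ := by
    rw [hn₂, ← conj_mul_apply, hQ.x₁x₂, ← hQ.x₂x₁, conj_mul_apply, a1, map_inv]
  have a4 : MulAut.conj x₃ n = n₂⁻¹ := by
    rw [← hQ.x₁x₂, conj_mul_apply, ← hn₂]; exact a3
  have a5 : MulAut.conj x₃ n₂ = n⁻¹ := by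
    rw [hn₂, ← conj_mul_apply, hQ'.x₂x₁]; exact a1
  -- p = n * n₂
  have hpM : n * n₂ ∈ M := M.mul_mem hn hn₂M
  have p2 : MulAut.conj x₂ (n * n₂) = n * n₂ := by
    rw [map_mul, a2, ← hn₂, hab _ hn₂M _ hn]
  have p3 : MulAut.conj x₃ (n * n₂) = (n * n₂)⁻¹ := by
    rw [map_mul, a4, a5, mul_inv_rev]
  have hp : n * n₂ = 1 := by
    refine key hL hQ' (n * n₂) (hMR hpM) k hk (hMk _ hpM) ?_ ?_
    · exact mul_inv_eq_iff_eq_mul.1 p2
    · rw [conj_def, i3] at p3; exact p3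
  -- q = n * n₂⁻¹
  have hqM : n * n₂⁻¹ ∈ M := M.mul_mem hn (M.inv_mem hn₂M)
  have q3 : MulAut.conj x₃ (n * n₂⁻¹) = n * n₂⁻¹ := by
    rw [map_mul, map_inv, a4, a5, inv_inv]
    exact hab _ (M.inv_mem hn₂M) _ hn
  have q1 : MulAut.conj x₁ (n * n₂⁻¹) = (n * n₂⁻¹)⁻¹ := by
    rw [map_mul, map_inv, a1, a3, inv_inv, mul_inv_rev, inv_inv]
    exact hab _ (M.inv_mem hn) _ hn₂M
  have hq : n * n₂⁻¹ = 1 := by
    refine key hL hQ'' (n * n₂⁻¹) (hMR hqM) k hk (hMk _ hqM) ?_ ?_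
    · exact mul_inv_eq_iff_eq_mul.1 q3
    · rw [conj_def, i1] at q1; exact q1
  have e1 : n₂ = n⁻¹ := eq_inv_of_mul_eq_one_right hp
  have e2 : n = n₂ := mul_inv_eq_one.1 hq
  have hsq : n ^ 2 = 1 := by
    rw [pow_two]
    nth_rewrite 2 [e2]
    rw [e1, mul_inv_cancel]
  have d1 : orderOf n ∣ 2 := orderOf_dvd_of_pow_eq_one hsq
  have d2 : orderOf n ∣ k := orderOf_dvd_of_pow_eq_one (hMk n hn)
  have hk2 : k.Coprime 2 := Nat.Coprime.coprime_dvd_right (by norm_num : 2 ∣ 6) hk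
  exact orderOf_eq_one_iff.1 (Nat.eq_one_of_dvd_coprimes hk2 d2 d1)

/-- `x₁` centralises `M`. -/
theorem centralizes (hL : LinCtx ρ R b W) (hQ : QData ρ R b W x₁ x₂ x₃ e₁ e₂ e₃)
    (M : Subgroup S) (hMR : M ≤ R) (hMn : NormBy (RB R b) M) (k : ℕ) (hk : k.Coprime 6)
    (hMk : ∀ a ∈ M, a ^ k = 1) (hab : ∀ a ∈ M, ∀ a' ∈ M, a * a' = a' * a)
    (m : S) (hm : m ∈ M) : x₁ * m = m * x₁ := by
  have hRB : ∀ r ∈ R, r ∈ RB R b := fun r hr => (le_sup_left : R ≤ R ⊔ Subgroup.zpowers b) hr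
  have i1 : x₁⁻¹ = x₁ := inv_eq_of_mul_eq_one_left hQ.x₁sq
  obtain ⟨m₁, hm₁⟩ : ∃ m₁, m₁ = MulAut.conj x₁ m := ⟨_, rfl⟩
  have hm₁M : m₁ ∈ M := by rw [hm₁]; exact hMn x₁ (hRB _ hQ.x₁R) m hm
  have b1 : MulAut.conj x₁ m₁ = m := by
    rw [hm₁, ← conj_mul_apply, hQ.x₁sq, map_one]; rfl
  have hn : MulAut.conj x₁ (m * m₁⁻¹) = (m * m₁⁻¹)⁻¹ := by
    rw [map_mul, map_inv, b1, ← hm₁, mul_inv_rev, inv_inv]
  have h1 := inv_trivial hL hQ M hMR hMn k hk hMk hab (m * m₁⁻¹)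
    (M.mul_mem hm (M.inv_mem hm₁M)) (by rw [conj_def, i1] at hn; exact hn)
  have h2 : m = m₁ := mul_inv_eq_one.1 h1
  rw [hm₁, conj_def] at h2
  exact mul_inv_eq_iff_eq_mul.1 h2.symm

/-- The abelian case. -/
theorem abelian_case [Finite S] (hL : LinCtx ρ R b W) (hQ : QData ρ R b W x₁ x₂ x₃ e₁ e₂ e₃)
    (M : Subgroup S) (hMR : M ≤ R) (hMn : NormBy (RB R b) M) (hodd : Odd (Nat.card M))
    (hab : ∀ a ∈ M, ∀ a' ∈ M, a * a' = a' * a) : M = ⊥ := by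
  have hRB : ∀ r ∈ R, r ∈ RB R b := fun r hr => (le_sup_left : R ≤ R ⊔ Subgroup.zpowers b) hr
  have hk2 : (Nat.card M).Coprime 2 := Nat.coprime_two_right.2 hodd
  have hk3 : (Nat.card M).Coprime 3 :=
    Nat.Coprime.coprime_dvd_left (Subgroup.card_dvd_of_le hMR) hL.R_coprime
  have hk : (Nat.card M).Coprime 6 := by
    have := Nat.Coprime.mul_right hk2 hk3
    norm_num at this
    exact this
  have hMk : ∀ a ∈ M, a ^ Nat.card M = 1 := by
    intro a ha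
    have h := pow_card_eq_one' (G := ↥M) (x := ⟨a, ha⟩)
    have h2 := congrArg Subtype.val h
    rw [Subgroup.coe_pow] at h2
    exact h2
  have cen1 : ∀ m ∈ M, x₁ * m = m * x₁ := centralizes hL hQ M hMR hMn _ hk hMk hab
  have cen2 : ∀ m ∈ M, x₂ * m = m * x₂ := centralizes hL (rot hQ) M hMR hMn _ hk hMk hab
  have hsc : ∀ m ∈ M, ∃ c : ZMod 3, ρ m e₁ = c • e₁ := by
    intro m hm
    apply eig_pm hQ (hL.W_inv m (hRB m (hMR hm)) _ hQ.e₁W)
    · rw [← rho_mul_apply, cen1 m hm, rho_mul_apply, hQ.x₁e₁]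
    · rw [← rho_mul_apply, cen2 m hm, rho_mul_apply, hQ.x₂e₁, map_neg]
  have hfix : ∀ m ∈ M, ρ m e₁ = e₁ := by
    intro m hm
    obtain ⟨j, hj⟩ := hodd
    have hmj : m = m ^ (j + 1) * m ^ (j + 1) := by
      rw [← pow_add]
      have : j + 1 + (j + 1) = Nat.card M + 1 := by omega
      rw [this, pow_succ, hMk m hm, one_mul]
    obtain ⟨c, hc⟩ := hsc (m ^ (j + 1)) (M.pow_mem hm _)
    have hc0 : c ≠ 0 := by
      intro h0
      rw [h0, zero_smul] at hc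
      have := rho_inv_apply ρ (m ^ (j + 1)) e₁
      rw [hc, map_zero] at this
      exact hQ.e₁ne this.symm
    have hcc : c * c = 1 := by
      have key3 : ∀ c : ZMod 3, c ≠ 0 → c * c = 1 := by decide
      exact key3 c hc0
    rw [hmj, rho_mul_apply, hc, map_smul, hc, smul_smul, hcc, one_smul]
  -- the fixed space of `M` in `W`
  let N : Submodule (ZMod 3) E :=
    { carrier := {w | w ∈ W ∧ ∀ m ∈ M, ρ m w = w}
      add_mem' := fun {u v} hu hv => ⟨W.add_mem hu.1 hv.1, fun m hm => by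
        rw [map_add, hu.2 m hm, hv.2 m hm]⟩
      zero_mem' := ⟨W.zero_mem, fun m _ => map_zero _⟩
      smul_mem' := fun c {v} hv => ⟨W.smul_mem c hv.1, fun m hm => by
        rw [map_smul, hv.2 m hm]⟩ }
  have hNW : N ≤ W := fun w hw => hw.1
  have hNinv : InvBy ρ (RB R b) N := by
    intro g hg w hw
    refine ⟨hL.W_inv g hg w hw.1, ?_⟩
    intro m hm
    have hconj : g⁻¹ * m * g ∈ M := by
      have := hMn g⁻¹ ((RB R b).inv_mem hg) m hm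
      rwa [inv_inv] at this
    have hmg : m * g = g * (g⁻¹ * m * g) := by group
    rw [← rho_mul_apply, hmg, rho_mul_apply, hw.2 _ hconj]
  rcases hL.irred N hNW hNinv with h | h
  · exfalso
    have : e₁ ∈ N := ⟨hQ.e₁W, hfix⟩
    rw [h] at this
    exact hQ.e₁ne ((Submodule.mem_bot _).1 this)
  · rw [Subgroup.eq_bot_iff_forall]
    intro m hm
    apply hL.faithful m (hRB m (hMR hm))
    intro w hw
    have : w ∈ N := by rw [h]; exact hw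
    exact this.2 m hm

end Main

/-- (4) `OddStmt`. -/
theorem odd : OddStmt := by
  intro S _ _ E _ _ _ ρ R b W x₁ x₂ x₃ e₁ e₂ e₃ hL hQ
  exact oddTriv_of_abelian R b hL.R_solv
    (fun M hMR hMn hodd hab => abelian_case hL hQ M hMR hMn hodd hab)

end Cfsg.Agent.Lib.H17.S4415Odd
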