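import Mathlib
import Cfsg.Prelude.Def_Characters
import Cfsg.Agent.Lib.L0.FiniteOrderEnd

/-!
# The eigenvalue bound for products of two involutions (S3017, piece INV2)

For endomorphisms `A`, `B` of a finite-dimensional complex space with `A ^ 2 = B ^ 2 = 1` and `A * B` of
finite order: `tr A + tr B - dim V ≤ Re tr (A * B)`; hence for a character `χ` of a finite group and
`x * x = 1`, `y * y = 1`: `χ x + χ y - χ 1 ≤ Re χ (x * y)` (with `χ x`, `χ y` real).
-/

set_option autoImplicit false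

open Module

namespace Cfsg.Agent.Lib.H17.SH

open Cfsg.Agent.Lib.L0

section LinAlg

variable {V : Type*} [AddCommGroup V] [Module ℂ V] [FiniteDimensional ℂ V]

/-- the multiplicity of the eigenvalue `1`, read off the list of eigenvalues -/
theorem sum_ite_finrank_eigenspace_one (f : End ℂ V) :
    ∑ μ : f.Eigenvalues, (if (μ : ℂ) = 1 then finrank ℂ (f.eigenspace (μ : ℂ)) else 0) =
      finrank ℂ (f.eigenspace 1) := by
  classical
  by_cases h1 : f.HasEigenvalue 1
  · obtain ⟨μ₁, hμ₁⟩ : ∃ μ₁ : f.Eigenvalues, (μ₁ : ℂ) = 1 := ⟨⟨1, h1⟩, rfl⟩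
    refine (Finset.sum_eq_single μ₁ ?_ ?_).trans ?_
    · intro μ _ hμ
      rw [if_neg]
      intro e
      exact hμ (Subtype.ext (e.trans hμ₁.symm))
    · intro hn
      exact (hn (Finset.mem_univ μ₁)).elim
    · rw [if_pos hμ₁, hμ₁]
  · have hbot : f.eigenspace 1 = ⊥ := by
      by_contra hne
      exact h1 hne
    rw [hbot, finrank_bot]
    refine Finset.sum_eq_zero fun μ _ => ?_
    rw [if_neg]
    intro e
    exact h1 (e ▸ μ.2)

/-- (a) the real part of the trace of an endomorphism of finite order is at least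
`2 * dim Fix - dim V` -/
theorem re_trace_ge_of_pow_eq_one (f : End ℂ V) (m : ℕ) (hm : 0 < m) (h : f ^ m = 1) :
    2 * (finrank ℂ (f.eigenspace 1) : ℝ) - finrank ℂ V ≤ (LinearMap.trace ℂ V f).re := by
  classical
  have hf := isSemisimple_of_pow_eq_one hm h
  have h1 := trace_pow_eq_sum hf 1
  rw [pow_one] at h1
  rw [h1, Complex.re_sum, ← sum_finrank_eigenspace hf, ← sum_ite_finrank_eigenspace_one f]
  push_cast
  rw [Finset.mul_sum, ← Finset.sum_sub_distrib]
  refine Finset.sum_le_sum fun μ _ => ?_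
  have hn : ‖(μ : ℂ)‖ = 1 := norm_eigenvalue_eq_one hm h μ
  have hre : -1 ≤ (μ : ℂ).re := by
    have := Complex.abs_re_le_norm (μ : ℂ)
    rw [hn] at this
    exact (abs_le.1 this).1
  have hd : (0 : ℝ) ≤ (finrank ℂ (f.eigenspace (μ : ℂ)) : ℝ) := Nat.cast_nonneg _
  have hmul : ((finrank ℂ (f.eigenspace (μ : ℂ)) : ℂ) * (μ : ℂ) ^ 1).re =
      (finrank ℂ (f.eigenspace (μ : ℂ)) : ℝ) * (μ : ℂ).re := by
    rw [pow_one, Complex.mul_re, Complex.natCast_re, Complex.natCast_im, zero_mul, sub_zero]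
  rw [hmul]
  by_cases hμ : (μ : ℂ) = 1
  · rw [if_pos hμ, hμ, Complex.one_re]
    linarith
  · rw [if_neg hμ]
    nlinarith

/-- (b) the trace of an involution is `2 * dim Fix - dim V` -/
theorem trace_of_sq_eq_one (A : End ℂ V) (hA : A ^ 2 = 1) :
    LinearMap.trace ℂ V A = 2 * (finrank ℂ (A.eigenspace 1) : ℂ) - finrank ℂ V := by
  classical
  have hf := isSemisimple_of_pow_eq_one (by norm_num : 0 < 2) hA
  have h1 := trace_pow_eq_sum hf 1
  rw [pow_one] at h1
  rw [h1, ← sum_finrank_eigenspace hf, ← sum_ite_finrank_eigenspace_one A]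
  push_cast
  rw [Finset.mul_sum, ← Finset.sum_sub_distrib]
  refine Finset.sum_congr rfl fun μ _ => ?_
  have hsq : (μ : ℂ) ^ 2 = 1 := eigenvalue_pow_eq_one hA μ
  have hpm : (μ : ℂ) = 1 ∨ (μ : ℂ) = -1 := by
    have h0 : ((μ : ℂ) - 1) * ((μ : ℂ) + 1) = 0 := by
      have : ((μ : ℂ) - 1) * ((μ : ℂ) + 1) = (μ : ℂ) ^ 2 - 1 := by ring
      rw [this, hsq, sub_self]
    rcases mul_eq_zero.1 h0 with h' | h'
    · exact Or.inl (sub_eq_zero.1 h')
    · exact Or.inr (eq_neg_of_add_eq_zero_left h')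
  rcases hpm with hμ | hμ
  · rw [if_pos hμ, hμ]
    ring
  · have hne : (μ : ℂ) ≠ 1 := by
      rw [hμ]
      norm_num
    rw [if_neg hne, hμ]
    ring

/-- (c) the eigenvalue bound for a product of two involutions -/
theorem re_trace_mul_ge (A B : End ℂ V) (hA : A ^ 2 = 1) (hB : B ^ 2 = 1) (m : ℕ) (hm : 0 < m)
    (hAB : (A * B) ^ m = 1) :
    (LinearMap.trace ℂ V A).re + (LinearMap.trace ℂ V B).re - finrank ℂ V ≤
      (LinearMap.trace ℂ V (A * B)).re := by
  have hle : A.eigenspace 1 ⊓ B.eigenspace 1 ≤ (A * B).eigenspace 1 := by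
    intro v hv
    rw [Submodule.mem_inf, Module.End.mem_eigenspace_iff, Module.End.mem_eigenspace_iff] at hv
    rw [Module.End.mem_eigenspace_iff, Module.End.mul_apply, hv.2, one_smul, hv.1, one_smul]
  have hdim := Submodule.finrank_sup_add_finrank_inf_eq (A.eigenspace 1) (B.eigenspace 1)
  have hsup : finrank ℂ ↥(A.eigenspace 1 ⊔ B.eigenspace 1) ≤ finrank ℂ V := Submodule.finrank_le _
  have hinf : finrank ℂ ↥(A.eigenspace 1 ⊓ B.eigenspace 1) ≤
      finrank ℂ ↥((A * B).eigenspace 1) := Submodule.finrank_mono hle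
  have h1 := re_trace_ge_of_pow_eq_one (A * B) m hm hAB
  have hAre : (LinearMap.trace ℂ V A).re = 2 * (finrank ℂ (A.eigenspace 1) : ℝ) - finrank ℂ V := by
    rw [trace_of_sq_eq_one A hA]
    simp
  have hBre : (LinearMap.trace ℂ V B).re = 2 * (finrank ℂ (B.eigenspace 1) : ℝ) - finrank ℂ V := by
    rw [trace_of_sq_eq_one B hB]
    simp
  rw [hAre, hBre]
  have h2 : (finrank ℂ (A.eigenspace 1) : ℝ) + finrank ℂ (B.eigenspace 1) ≤
      (finrank ℂ V : ℝ) + finrank ℂ ↥((A * B).eigenspace 1) := by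
    have : finrank ℂ (A.eigenspace 1) + finrank ℂ (B.eigenspace 1) ≤
        finrank ℂ V + finrank ℂ ↥((A * B).eigenspace 1) := by omega
    exact_mod_cast this
  linarith

end LinAlg

section Character

variable {G : Type*} [Group G] [Finite G]

/-- (d) the character form: for `x * x = 1`, `y * y = 1`: `χ x + χ y - χ 1 ≤ Re χ (x * y)` -/
theorem char_mul_involutions_ge (χ : G → ℂ) (hχ : Cfsg.IsCharacter G χ) (x y : G)
    (hx : x * x = 1) (hy : y * y = 1) :
    (χ x).re + (χ y).re - (χ 1).re ≤ (χ (x * y)).re := by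
  obtain ⟨n, ρ, rfl⟩ := hχ
  have hA : (ρ x) ^ 2 = 1 := by rw [sq, ← map_mul, hx, map_one]
  have hB : (ρ y) ^ 2 = 1 := by rw [sq, ← map_mul, hy, map_one]
  have hm : 0 < orderOf (x * y) := orderOf_pos (x * y)
  have hAB : (ρ x * ρ y) ^ orderOf (x * y) = 1 := by
    rw [← map_mul, ← map_pow, pow_orderOf_eq_one, map_one]
  have h := re_trace_mul_ge (ρ x) (ρ y) hA hB _ hm hAB
  have h1 : (ρ.character 1).re = (finrank ℂ (Fin n → ℂ) : ℝ) := by
    rw [Representation.char_one]
    simp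
  simp only [Representation.character] at h1 ⊢
  rw [h1, map_mul]
  exact h

omit [Finite G] in
/-- the value of a character at an involution is real -/
theorem char_involution_im (χ : G → ℂ) (hχ : Cfsg.IsCharacter G χ) (x : G) (hx : x * x = 1) :
    (χ x).im = 0 := by
  obtain ⟨n, ρ, rfl⟩ := hχ
  have hA : (ρ x) ^ 2 = 1 := by rw [sq, ← map_mul, hx, map_one]
  show (LinearMap.trace ℂ (Fin n → ℂ) (ρ x)).im = 0
  rw [trace_of_sq_eq_one (ρ x) hA]
  simp

omit [Finite G] in
/-- the value of a character at an involution is an integer -/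
theorem char_involution_int (χ : G → ℂ) (hχ : Cfsg.IsCharacter G χ) (x : G) (hx : x * x = 1) :
    ∃ k : ℤ, χ x = k := by
  obtain ⟨n, ρ, rfl⟩ := hχ
  have hA : (ρ x) ^ 2 = 1 := by rw [sq, ← map_mul, hx, map_one]
  refine ⟨2 * (finrank ℂ (Module.End.eigenspace (ρ x) 1) : ℤ) - finrank ℂ (Fin n → ℂ), ?_⟩
  show LinearMap.trace ℂ (Fin n → ℂ) (ρ x) = _
  rw [trace_of_sq_eq_one (ρ x) hA]
  push_cast
  rfl

end Character

end Cfsg.Agent.Lib.H17.SH
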