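import Mathlib

set_option autoImplicit false

/-! # The field with four elements, with its operations given by tables -/

namespace Cfsg.Agent.Lib.H17

/-- the field with four elements `0, 1, ω, ω²` -/
inductive F4 : Type
  | z | o | w | w2
  deriving DecidableEq

instance : Fintype F4 :=
  ⟨⟨([F4.z, F4.o, F4.w, F4.w2] : List F4), by decide⟩, fun x => by cases x <;> decide⟩

namespace F4

/-- addition -/
def add : F4 → F4 → F4
  | z, x => x
  | x, z => x
  | o, o => z
  | o, w => w2
  | o, w2 => w
  | w, o => w2
  | w, w => z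
  | w, w2 => o
  | w2, o => w
  | w2, w => o
  | w2, w2 => z

/-- multiplication -/
def mul : F4 → F4 → F4
  | z, _ => z
  | _, z => z
  | o, x => x
  | x, o => x
  | w, w => w2
  | w, w2 => o
  | w2, w => o
  | w2, w2 => w

/-- inverse -/
def inv : F4 → F4
  | z => z
  | o => o
  | w => w2
  | w2 => w

instance : Add F4 := ⟨add⟩
instance : Mul F4 := ⟨mul⟩
instance : Zero F4 := ⟨z⟩
instance : One F4 := ⟨o⟩
instance : Neg F4 := ⟨id⟩
instance : Inv F4 := ⟨inv⟩

theorem add_assoc' : ∀ a b c : F4, a + b + c = a + (b + c) := by decide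
theorem zero_add' : ∀ a : F4, 0 + a = a := by decide
theorem add_zero' : ∀ a : F4, a + 0 = a := by decide
theorem add_comm' : ∀ a b : F4, a + b = b + a := by decide
theorem neg_add_cancel' : ∀ a : F4, -a + a = 0 := by decide
theorem mul_assoc' : ∀ a b c : F4, a * b * c = a * (b * c) := by decide
theorem one_mul' : ∀ a : F4, 1 * a = a := by decide
theorem mul_one' : ∀ a : F4, a * 1 = a := by decide
theorem zero_mul' : ∀ a : F4, 0 * a = 0 := by decide
theorem mul_zero' : ∀ a : F4, a * 0 = 0 := by decide
theorem mul_comm' : ∀ a b : F4, a * b = b * a := by decide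
theorem left_distrib' : ∀ a b c : F4, a * (b + c) = a * b + a * c := by decide
theorem right_distrib' : ∀ a b c : F4, (a + b) * c = a * c + b * c := by decide
theorem mul_inv_cancel' : ∀ a : F4, a ≠ 0 → a * a⁻¹ = 1 := by decide

instance : Field F4 where
  add_assoc := add_assoc'
  zero_add := zero_add'
  add_zero := add_zero'
  add_comm := add_comm'
  neg_add_cancel := neg_add_cancel'
  nsmul := nsmulRec
  zsmul := zsmulRec
  mul_assoc := mul_assoc'
  one_mul := one_mul'
  mul_one := mul_one'
  zero_mul := zero_mul'
  mul_zero := mul_zero'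
  mul_comm := mul_comm'
  left_distrib := left_distrib'
  right_distrib := right_distrib'
  exists_pair_ne := ⟨z, o, by decide⟩
  mul_inv_cancel := mul_inv_cancel'
  inv_zero := rfl
  nnqsmul := _
  nnqsmul_def := fun _ _ => rfl
  qsmul := _
  qsmul_def := fun _ _ => rfl

theorem card_eq : Fintype.card F4 = 4 := rfl

theorem neg_eq (a : F4) : -a = a := rfl

end F4

end Cfsg.Agent.Lib.H17
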