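/-
ORTHOGONAL PHASE 2 (architect helper21), task O2-E1 (helper17): the orthogonal complement of a proper non-zero
non-degenerate subspace is again proper, non-zero, non-degenerate, of complementary dimension, and it is
stabilised by every isometry stabilising the subspace.  Generic version `exists_perp_gen` for any non-degenerate
quadratic form on `F^ι`.
-/
import Cfsg.Agent.Lib.H29.QuadOdd

set_option autoImplicit false
set_option linter.unusedSectionVars false

namespace Cfsg.Agent.Lib.H17.OP2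

open Cfsg Cfsg.Geo
open scoped MatrixGroups Matrix Kronecker

variable {F : Type*} [Field F] [Fintype F]

theorem e1_two_ne_zero (h : Odd (Fintype.card F)) : (2 : F) ≠ 0 := by
  apply Ring.two_ne_zero
  intro h2
  have h3 := FiniteField.even_card_of_char_two h2
  rcases h with ⟨k, hk⟩
  omega

section generic

variable {ι : Type} [Fintype ι] [DecidableEq ι]

/-- The polar form as a bundled bilinear form (any index type). -/
def BpG {Q : (ι → F) → F} (hQ : IsNondegenerateQuadraticForm Q) : LinearMap.BilinForm F (ι → F) :=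
  LinearMap.mk₂ F (QuadraticMap.polar Q) hQ.polar_bilinear.add_left hQ.polar_bilinear.smul_left
    hQ.polar_bilinear.add_right hQ.polar_bilinear.smul_right

theorem BpG_refl {Q : (ι → F) → F} (hQ : IsNondegenerateQuadraticForm Q) : (BpG hQ).IsRefl := by
  intro u v h
  change QuadraticMap.polar Q v u = 0
  rw [QuadraticMap.polar_comm]
  exact h

theorem BpG_nondeg {Q : (ι → F) → F} (hQ : IsNondegenerateQuadraticForm Q) :
    (BpG hQ).Nondegenerate := by
  constructor
  · intro u hu
    by_contra hne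
    obtain ⟨x, hx⟩ := (hQ.nondegenerate u hne).2
    exact hx (hu x)
  · intro v hv
    by_contra hne
    obtain ⟨x, hx⟩ := (hQ.nondegenerate v hne).1
    exact hx (hv x)

/-- **O2-E1**, generic form. -/
theorem exists_perp_gen {Q : (ι → F) → F} (hQ : IsNondegenerateQuadraticForm Q)
    (W : Submodule F (ι → F)) (hW0 : W ≠ ⊥) (hW1 : W ≠ ⊤)
    (hW : IsNondegenerateOn (QuadraticMap.polar Q) W) :
    ∃ W' : Submodule F (ι → F), W' ≠ ⊥ ∧ W' ≠ ⊤ ∧
      IsNondegenerateOn (QuadraticMap.polar Q) W' ∧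
      Module.finrank F W + Module.finrank F W' = Fintype.card ι ∧
      subspaceStabilizer W ⊓ isometryGroup F Q ≤ subspaceStabilizer W' := by
  set P : Submodule F (ι → F) := (BpG hQ).orthogonal W with hP
  have hmemP : ∀ v, v ∈ P ↔ ∀ w ∈ W, QuadraticMap.polar Q w v = 0 := fun v => Iff.rfl
  have hV : Module.finrank F (ι → F) = Fintype.card ι := Module.finrank_fintype_fun_eq_card F
  have hle : Module.finrank F W ≤ Module.finrank F (ι → F) := Submodule.finrank_le W
  have hfin : Module.finrank F P = Module.finrank F (ι → F) - Module.finrank F W :=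
    LinearMap.BilinForm.finrank_orthogonal (BpG_nondeg hQ) W
  have hsum : Module.finrank F W + Module.finrank F P = Fintype.card ι := by
    rw [hfin, ← hV]; omega
  have hWpos : 0 < Module.finrank F W := by
    rw [Module.finrank_pos_iff_exists_ne_zero]
    obtain ⟨w, hw, hw0⟩ := Submodule.exists_mem_ne_zero_of_ne_bot hW0
    exact ⟨⟨w, hw⟩, fun h => hw0 (congrArg Subtype.val h)⟩
  have hWlt : Module.finrank F W < Fintype.card ι := by
    rw [← hV]
    exact Submodule.finrank_lt hW1
  have hinf : W ⊓ P = ⊥ := by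
    rw [eq_bot_iff]
    intro w hw
    rw [Submodule.mem_bot]
    by_contra hw0
    obtain ⟨⟨x, hx, hne⟩, _⟩ := hW w hw.1 hw0
    exact hne ((hmemP w).mp hw.2 x hx)
  have hsup : W ⊔ P = ⊤ := by
    apply Submodule.eq_top_of_finrank_eq
    have h1 := Submodule.finrank_sup_add_finrank_inf_eq W P
    rw [hinf, finrank_bot, add_zero] at h1
    rw [h1, hsum, hV]
  refine ⟨P, ?_, ?_, ?_, hsum, ?_⟩
  · intro h
    rw [h, finrank_bot] at hsum
    omega
  · intro h
    rw [h, finrank_top, hV] at hsum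
    omega
  · intro w hw hw0
    have hkey : ¬ ∀ x ∈ P, QuadraticMap.polar Q x w = 0 := by
      intro hall
      apply hw0
      by_contra hne
      obtain ⟨⟨x, hx⟩, _⟩ := hQ.nondegenerate w hne
      apply hx
      have hxtop : x ∈ W ⊔ P := by rw [hsup]; exact Submodule.mem_top
      obtain ⟨a, ha, b, hb, rfl⟩ := Submodule.mem_sup.mp hxtop
      rw [hQ.polar_bilinear.add_left, (hmemP w).mp hw a ha, hall b hb, add_zero]
    push Not at hkey
    obtain ⟨x, hx, hne⟩ := hkey
    exact ⟨⟨x, hx, hne⟩, ⟨x, hx, by rwa [QuadraticMap.polar_comm]⟩⟩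
  · intro g hg
    obtain ⟨hgW, hgI⟩ := hg
    have hQg : ∀ v, Q ((g : Matrix ι ι F) *ᵥ v) = Q v := fun v => hgI v v
    have hfg : ∀ u v, QuadraticMap.polar Q ((g : Matrix ι ι F) *ᵥ u) ((g : Matrix ι ι F) *ᵥ v) =
        QuadraticMap.polar Q u v := by
      intro u v
      unfold QuadraticMap.polar
      rw [← Matrix.mulVec_add, hQg, hQg, hQg]
    have hgW' : ∀ v, v ∈ W ↔ (g : Matrix ι ι F) *ᵥ v ∈ W := hgW
    intro v
    change v ∈ P ↔ (g : Matrix ι ι F) *ᵥ v ∈ P
    rw [hmemP, hmemP]
    constructor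
    · intro hv w hw
      have hw' : ((g⁻¹ : GL ι F) : Matrix ι ι F) *ᵥ w ∈ W := by
        rw [hgW', Matrix.mulVec_mulVec, ← Units.val_mul, mul_inv_cancel, Units.val_one, Matrix.one_mulVec]
        exact hw
      have h3 := hfg (((g⁻¹ : GL ι F) : Matrix ι ι F) *ᵥ w) v
      rw [Matrix.mulVec_mulVec, ← Units.val_mul, mul_inv_cancel, Units.val_one, Matrix.one_mulVec,
        hv _ hw'] at h3
      exact h3
    · intro hv w hw
      rw [← hfg w v]
      exact hv _ ((hgW' w).mp hw)

end generic

/-- **O2-E1**. -/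
theorem exists_perp (hodd : Odd (Fintype.card F)) (m : ℕ)
    (W : Submodule F (Unit ⊕ (Fin m ⊕ Fin m) → F)) (hW0 : W ≠ ⊥) (hW1 : W ≠ ⊤)
    (hW : IsNondegenerateOn (QuadraticMap.polar (quadFormOdd m F)) W) :
    ∃ W' : Submodule F (Unit ⊕ (Fin m ⊕ Fin m) → F), W' ≠ ⊥ ∧ W' ≠ ⊤ ∧
      IsNondegenerateOn (QuadraticMap.polar (quadFormOdd m F)) W' ∧
      Module.finrank F W + Module.finrank F W' = 2 * m + 1 ∧
      subspaceStabilizer W ⊓ isometryGroup F (quadFormOdd m F) ≤ subspaceStabilizer W' := by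
  have hQ := Cfsg.Agent.Lib.H29.QuadOdd.isNondegenerateQuadraticForm (F := F) m (e1_two_ne_zero hodd)
  obtain ⟨W', h1, h2, h3, h4, h5⟩ := exists_perp_gen hQ W hW0 hW1 hW
  refine ⟨W', h1, h2, h3, ?_, h5⟩
  rw [h4]
  simp
  omega

end Cfsg.Agent.Lib.H17.OP2
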