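/-
SYMPLECTIC PHASE 2 (architect helper9), task SP2-F1 (helper17): an `m`-decomposition of `F^ι` into `t` blocks of
dimension `k` has `t * k = |ι|` (arbitrary finite index type; twin of helper2's P2-F1).
-/
import Cfsg.Agent.Lib.H11.AschSDefs

set_option autoImplicit false

namespace Cfsg.Agent.Lib.H17.AschSP2

open Cfsg Cfsg.Geo Cfsg.Agent.Lib.Lead.Asch Cfsg.Agent.Lib.H11.AschS
open scoped MatrixGroups Matrix Kronecker

variable {F : Type*} [Field F] [Fintype F] {m : ℕ}

/-- **SP2-F1**.  `|ι| = finrank ⊤ = ∑ finrank (D i) = t * k`. -/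
theorem mul_eq_of_isMDecomposition {ι : Type} [Fintype ι] [DecidableEq ι] {t k : ℕ}
    (D : Fin t → Submodule F (ι → F)) (hD : IsMDecomposition k D) : t * k = Fintype.card ι := by
  classical
  have hint := DirectSum.isInternal_submodule_of_iSupIndep_of_iSup_eq_top hD.indep hD.iSup_eq_top
  have b : ∀ i, Module.Basis (Fin k) F (D i) := fun i =>
    Module.finBasisOfFinrankEq F (D i) (hD.finrank_eq i)
  have B := hint.collectedBasis b
  have h1 := Module.finrank_eq_card_basis B
  rw [Module.finrank_fintype_fun_eq_card] at h1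
  simp at h1
  omega

end Cfsg.Agent.Lib.H17.AschSP2
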