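/-
SYMPLECTIC PHASE 2 (architect helper9), task SP2-F0 (helper17): a subspace on which an alternating bilinear form is
non-degenerate has even dimension; a symplectic form lives on an even number of coordinates.
(helper13's `symp_aux` applied to the restricted form.)
-/
import Cfsg.Agent.Lib.H11.AschSDefs
import Cfsg.Agent.Lib.H13.SympBasis

set_option autoImplicit false
set_option linter.unusedSectionVars false

namespace Cfsg.Agent.Lib.H17.AschSP2

open Cfsg Cfsg.Geo Cfsg.Agent.Lib.Lead.Asch Cfsg.Agent.Lib.H11.AschS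
open scoped MatrixGroups Matrix Kronecker

variable {F : Type*} [Field F] [Fintype F] {m : ℕ}

/-- the restriction of a bilinear form (given as a function) to a subspace, bundled. -/
def restrictB {ι : Type} [Fintype ι] [DecidableEq ι]
    (f : (ι → F) → (ι → F) → F) (hb : IsBilinearForm f) (W : Submodule F (ι → F)) :
    LinearMap.BilinForm F W :=
  LinearMap.mk₂ F (fun u v : W => f (u : ι → F) (v : ι → F))
    (fun _ _ _ => hb.add_left _ _ _) (fun c _ _ => hb.smul_left c _ _)
    (fun _ _ _ => hb.add_right _ _ _) (fun c _ _ => hb.smul_right c _ _)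

/-- **SP2-F0** (first statement). -/
theorem even_finrank_of_nondegenerateOn {ι : Type} [Fintype ι] [DecidableEq ι]
    (f : (ι → F) → (ι → F) → F) (hb : IsBilinearForm f) (halt : ∀ v, f v v = 0)
    (W : Submodule F (ι → F)) (hW : IsNondegenerateOn f W) : Even (Module.finrank F W) := by
  classical
  have h1 : ∀ v : W, restrictB f hb W v v = 0 := fun v => halt _
  have h2 : ∀ v : W, (∀ w : W, restrictB f hb W v w = 0) → v = 0 := by
    intro v hv
    by_contra hne
    have hne' : (v : ι → F) ≠ 0 := fun h => hne (Subtype.ext h)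
    obtain ⟨_, ⟨x, hx, hfx⟩⟩ := hW v v.2 hne'
    exact hfx (hv ⟨x, hx⟩)
  obtain ⟨κ, hκ, hdec, b, _⟩ :=
    Cfsg.Agent.Lib.H13.symp_aux (Module.finrank F W) (restrictB f hb W) h1 h2 rfl
  have h3 := Module.finrank_eq_card_basis b
  rw [Fintype.card_sum] at h3
  exact ⟨Fintype.card κ, h3⟩

/-- **SP2-F0** (second statement). -/
theorem even_card_of_isSymplecticForm {κ : Type} [Fintype κ] [DecidableEq κ]
    (f : (κ → F) → (κ → F) → F) (hf : IsSymplecticForm f) : Even (Fintype.card κ) := by
  have h1 : IsNondegenerateOn f (⊤ : Submodule F (κ → F)) := by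
    intro w _ hw0
    obtain ⟨⟨x, hx⟩, ⟨y, hy⟩⟩ := hf.nondegenerate w hw0
    exact ⟨⟨x, Submodule.mem_top, hx⟩, ⟨y, Submodule.mem_top, hy⟩⟩
  have h2 := even_finrank_of_nondegenerateOn f hf.bilinear hf.alternating ⊤ h1
  rw [finrank_top, Module.finrank_fintype_fun_eq_card] at h2
  exact h2

end Cfsg.Agent.Lib.H17.AschSP2
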