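/-
S5662 project (symplectic Aschbacher, architect helper11), module SM1 (helper17): a reducible subgroup fixing a
symplectic form stabilises a totally singular subspace, a non-degenerate subspace of dimension `< n/2`, or a
non-degenerate decomposition `W ⊕ W^⊥` into two halves.  Same argument as the unitary module UM1.
-/
import Cfsg.Agent.Lib.H11.AschSDefs

set_option autoImplicit false

namespace Cfsg.Agent.Lib.H17.AschS

open Cfsg Cfsg.Geo Cfsg.Agent.Lib.Lead.Asch Cfsg.Agent.Lib.H11.AschS
open scoped MatrixGroups Matrix Kronecker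

variable {F : Type*} [Field F] [Fintype F] {n : ℕ} {f : (Fin n → F) → (Fin n → F) → F}

/-- The form as a bundled bilinear form. -/
def Bf (hf : IsSymplecticForm f) : LinearMap.BilinForm F (Fin n → F) :=
  LinearMap.mk₂ F f hf.bilinear.add_left hf.bilinear.smul_left hf.bilinear.add_right
    hf.bilinear.smul_right

theorem Bf_apply (hf : IsSymplecticForm f) (u v : Fin n → F) : Bf hf u v = f u v := rfl

theorem f_eq_zero_comm (hf : IsSymplecticForm f) {u v : Fin n → F} (h : f u v = 0) : f v u = 0 := by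
  rw [hf.skew, h, neg_zero]

theorem Bf_refl (hf : IsSymplecticForm f) : (Bf hf).IsRefl := fun _ _ h => f_eq_zero_comm hf h

theorem Bf_nondeg (hf : IsSymplecticForm f) : (Bf hf).Nondegenerate := by
  constructor
  · intro u hu
    by_contra hne
    obtain ⟨x, hx⟩ := (hf.nondegenerate u hne).2
    exact hx (hu x)
  · intro v hv
    by_contra hne
    obtain ⟨x, hx⟩ := (hf.nondegenerate v hne).1
    exact hx (hv x)

/-- The orthogonal complement `{v | ∀ w ∈ W, f w v = 0}`. -/
def perpF (hf : IsSymplecticForm f) (W : Submodule F (Fin n → F)) : Submodule F (Fin n → F) :=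
  (Bf hf).orthogonal W

theorem mem_perpF (hf : IsSymplecticForm f) (W : Submodule F (Fin n → F)) (v : Fin n → F) :
    v ∈ perpF hf W ↔ ∀ w ∈ W, f w v = 0 := Iff.rfl

theorem mem_perpF' (hf : IsSymplecticForm f) (W : Submodule F (Fin n → F)) (v : Fin n → F) :
    v ∈ perpF hf W ↔ ∀ w ∈ W, f v w = 0 :=
  ⟨fun h w hw => f_eq_zero_comm hf (h w hw), fun h w hw => f_eq_zero_comm hf (h w hw)⟩

theorem finrank_perpF (hf : IsSymplecticForm f) (W : Submodule F (Fin n → F)) :
    Module.finrank F (perpF hf W) = n - Module.finrank F W := by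
  unfold perpF
  rw [LinearMap.BilinForm.finrank_orthogonal (Bf_nondeg hf) W, Module.finrank_fin_fun]

theorem perpF_perpF (hf : IsSymplecticForm f) (W : Submodule F (Fin n → F)) :
    perpF hf (perpF hf W) = W :=
  LinearMap.BilinForm.orthogonal_orthogonal (Bf_nondeg hf) (Bf_refl hf) W

theorem nondegenerateOn_of_inf_perpF (hf : IsSymplecticForm f) (W : Submodule F (Fin n → F))
    (h : W ⊓ perpF hf W = ⊥) : IsNondegenerateOn f W := by
  intro w hw hw0
  have key : ¬ ∀ x ∈ W, f w x = 0 := by
    intro hall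
    apply hw0
    have : w ∈ W ⊓ perpF hf W := ⟨hw, (mem_perpF' hf W w).mpr hall⟩
    rw [h] at this
    exact (Submodule.mem_bot F).mp this
  push Not at key
  obtain ⟨x, hx, hne⟩ := key
  exact ⟨⟨x, hx, fun h0 => hne (f_eq_zero_comm hf h0)⟩, ⟨x, hx, hne⟩⟩

theorem le_subspaceStabilizer_of_forall' (H : Subgroup (GL (Fin n) F)) (X : Submodule F (Fin n → F))
    (h : ∀ g ∈ H, ∀ v ∈ X, (g : Matrix (Fin n) (Fin n) F) *ᵥ v ∈ X) : H ≤ subspaceStabilizer X := by
  intro g hg v
  change v ∈ X ↔ (g : Matrix (Fin n) (Fin n) F) *ᵥ v ∈ X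
  constructor
  · exact h g hg v
  · intro hv
    have h2 := h g⁻¹ (H.inv_mem hg) _ hv
    rw [Matrix.mulVec_mulVec, ← Units.val_mul, inv_mul_cancel, Units.val_one, Matrix.one_mulVec] at h2
    exact h2

theorem map_eq_of_forall' (H : Subgroup (GL (Fin n) F)) (X : Submodule F (Fin n → F))
    (h : ∀ g ∈ H, ∀ v ∈ X, (g : Matrix (Fin n) (Fin n) F) *ᵥ v ∈ X) (g : GL (Fin n) F) (hg : g ∈ H) :
    X.map (Matrix.toLin' (g : Matrix (Fin n) (Fin n) F)) = X := by
  apply le_antisymm
  · rintro _ ⟨v, hv, rfl⟩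
    rw [Matrix.toLin'_apply]
    exact h g hg v hv
  · intro v hv
    refine ⟨((g⁻¹ : GL (Fin n) F) : Matrix (Fin n) (Fin n) F) *ᵥ v, h g⁻¹ (H.inv_mem hg) v hv, ?_⟩
    rw [Matrix.toLin'_apply, Matrix.mulVec_mulVec, ← Units.val_mul, mul_inv_cancel, Units.val_one,
      Matrix.one_mulVec]

theorem perpF_invariant (hf : IsSymplecticForm f) (H : Subgroup (GL (Fin n) F))
    (hH : FixesForm (matrixSet H) f) (W : Submodule F (Fin n → F))
    (h : ∀ g ∈ H, ∀ v ∈ W, (g : Matrix (Fin n) (Fin n) F) *ᵥ v ∈ W) :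
    ∀ g ∈ H, ∀ v ∈ perpF hf W, (g : Matrix (Fin n) (Fin n) F) *ᵥ v ∈ perpF hf W := by
  intro g hg v hv
  rw [mem_perpF'] at hv ⊢
  intro w hw
  have h1 := hv _ (h g⁻¹ (H.inv_mem hg) w hw)
  have h2 : f ((g : Matrix (Fin n) (Fin n) F) *ᵥ v)
      ((g : Matrix (Fin n) (Fin n) F) *ᵥ (((g⁻¹ : GL (Fin n) F) : Matrix (Fin n) (Fin n) F) *ᵥ w)) =
      f v (((g⁻¹ : GL (Fin n) F) : Matrix (Fin n) (Fin n) F) *ᵥ w) :=
    hH (g : Matrix (Fin n) (Fin n) F) ⟨g, hg, rfl⟩ _ _
  rw [Matrix.mulVec_mulVec, ← Units.val_mul, mul_inv_cancel, Units.val_one, Matrix.one_mulVec, h1] at h2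
  exact h2

/-- **SM1** reducible ⇒ class 1 or class 2a. -/
theorem stame_of_reducible (hf : IsSymplecticForm f) (H : Subgroup (GL (Fin n) F))
    (hH : FixesForm (matrixSet H) f) (h : ¬ ActsIrreducibly (matrixSet H)) :
    SC1a f H ∨ SC1b f H ∨ SC2a f H := by
  unfold ActsIrreducibly at h
  push Not at h
  obtain ⟨W, hW, hbot, htop⟩ := h
  have key : ∀ g ∈ H, ∀ v ∈ W, (g : Matrix (Fin n) (Fin n) F) *ᵥ v ∈ W := by
    intro g hg v hv
    have h1 := hW (g : Matrix (Fin n) (Fin n) F) ⟨g, hg, rfl⟩
    apply h1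
    exact ⟨v, hv, by simp [Matrix.toLin'_apply]⟩
  have keyP := perpF_invariant hf H hH W key
  by_cases hrad : W ⊓ perpF hf W = ⊥
  · have hndW := nondegenerateOn_of_inf_perpF hf W hrad
    have hndP : IsNondegenerateOn f (perpF hf W) := by
      apply nondegenerateOn_of_inf_perpF hf
      rw [perpF_perpF, inf_comm]
      exact hrad
    have hdP := finrank_perpF hf W
    have hdW : Module.finrank F W < n := by
      have h1 := Submodule.finrank_lt htop
      rwa [Module.finrank_fin_fun] at h1
    have hdW0 : 0 < Module.finrank F W := by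
      rw [Module.finrank_pos_iff_exists_ne_zero]
      obtain ⟨w, hw, hw0⟩ := (Submodule.ne_bot_iff W).mp hbot
      exact ⟨⟨w, hw⟩, fun h0 => hw0 (congrArg Subtype.val h0)⟩
    rcases lt_trichotomy (2 * Module.finrank F W) n with hlt | heq | hgt
    · exact Or.inr (Or.inl ⟨W, hbot, hndW, by rw [Fintype.card_fin]; exact hlt,
        le_subspaceStabilizer_of_forall' H W key⟩)
    · right; right
      refine ⟨2, Module.finrank F W, ![W, perpF hf W], ⟨⟨le_refl 2, hdW0, ?_, ?_, ?_⟩, ?_, ?_⟩, ?_⟩
      · intro i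
        fin_cases i
        · rfl
        · change Module.finrank F (perpF hf W) = Module.finrank F W
          omega
      · rw [iSupIndep_pair (i := (0 : Fin 2)) (j := 1) (by decide) (by
          intro k; fin_cases k <;> simp)]
        exact disjoint_iff.mpr hrad
      · have hsup : W ⊔ perpF hf W = ⊤ := by
          apply Submodule.eq_top_of_finrank_eq
          have h1 := Submodule.finrank_sup_add_finrank_inf_eq W (perpF hf W)
          rw [hrad, finrank_bot, add_zero] at h1
          rw [h1, Module.finrank_fin_fun]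
          omega
        apply le_antisymm le_top
        rw [← hsup]
        exact sup_le (le_iSup ![W, perpF hf W] 0) (le_iSup ![W, perpF hf W] 1)
      · intro i
        fin_cases i
        · exact hndW
        · exact hndP
      · intro i j hij
        fin_cases i <;> fin_cases j
        · exact absurd rfl hij
        · intro u hu v hv
          exact (mem_perpF hf W v).mp hv u hu
        · intro u hu v hv
          exact (mem_perpF' hf W u).mp hu v hv
        · exact absurd rfl hij
      · intro g hg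
        refine ⟨1, fun i => ?_⟩
        fin_cases i
        · exact map_eq_of_forall' H W key g hg
        · exact map_eq_of_forall' H (perpF hf W) keyP g hg
    · refine Or.inr (Or.inl ⟨perpF hf W, ?_, hndP, by rw [Fintype.card_fin]; omega,
        le_subspaceStabilizer_of_forall' H _ keyP⟩)
      intro h0
      rw [h0, finrank_bot] at hdP
      omega
  · refine Or.inl ⟨W ⊓ perpF hf W, hrad, ?_, ?_⟩
    · intro u hu v hv
      exact (mem_perpF' hf W u).mp hu.2 v hv.1
    · apply le_subspaceStabilizer_of_forall'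
      intro g hg v hv
      exact ⟨key g hg v hv.1, keyP g hg v hv.2⟩

end Cfsg.Agent.Lib.H17.AschS
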