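/-
S5630 project (helper17): module M1 (a reducible subgroup lies in a subspace stabiliser, class 1) and
the fact that an irreducible subgroup in dimension at least 2 is not scalar.
-/
import Cfsg.Agent.Lib.Lead.AschDefs2

set_option autoImplicit false

namespace Cfsg.Agent.Lib.H17.Asch

open Cfsg Cfsg.Geo Cfsg.Agent.Lib.Lead.Asch
open scoped MatrixGroups Matrix Kronecker

variable {F : Type*} [Field F] [Fintype F] {n : ℕ}

/-- **M1** (C1), v2 signature (conclusion `TameC1 H`). -/
theorem tame_of_reducible (H : Subgroup (GL (Fin n) F))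
    (h : ¬ ActsIrreducibly (matrixSet H)) : TameC1 H := by
  unfold ActsIrreducibly at h
  push Not at h
  obtain ⟨W, hW, hbot, htop⟩ := h
  refine ⟨W, hbot, htop, ?_⟩
  have key : ∀ g ∈ H, ∀ v ∈ W, (g : Matrix (Fin n) (Fin n) F) *ᵥ v ∈ W := by
    intro g hg v hv
    have h1 := hW (g : Matrix (Fin n) (Fin n) F) ⟨g, hg, rfl⟩
    apply h1
    exact ⟨v, hv, by simp [Matrix.toLin'_apply]⟩
  intro g hg v
  change v ∈ W ↔ (g : Matrix (Fin n) (Fin n) F) *ᵥ v ∈ W
  constructor
  · exact key g hg v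
  · intro hv
    have h2 := key g⁻¹ (H.inv_mem hg) _ hv
    rw [Matrix.mulVec_mulVec, ← Units.val_mul, inv_mul_cancel, Units.val_one, Matrix.one_mulVec] at h2
    exact h2

theorem not_le_scalars_of_irreducible (hn : 2 ≤ n) (H : Subgroup (GL (Fin n) F))
    (hirr : ActsIrreducibly (matrixSet H)) : ¬ H ≤ scalars (Fin n) F := by
  intro hle
  let e : Fin n → F := Pi.single ⟨0, by omega⟩ 1
  have he : e ≠ 0 := by
    intro h0
    have := congrFun h0 ⟨0, by omega⟩
    simp [e] at this
  rcases hirr (F ∙ e) (by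
    rintro s ⟨g, hg, rfl⟩
    obtain ⟨c, hc⟩ := (mem_scalars_iff g).mp (hle hg)
    rintro _ ⟨v, hv, rfl⟩
    rw [Matrix.toLin'_apply]
    change (g : Matrix (Fin n) (Fin n) F) *ᵥ v ∈ F ∙ e
    rw [hc, Matrix.smul_mulVec, Matrix.one_mulVec]
    exact Submodule.smul_mem _ _ hv) with h1 | h1
  · exact he ((Submodule.span_singleton_eq_bot).mp h1)
  · have h2 : Module.finrank F (F ∙ e) = 1 := finrank_span_singleton he
    rw [h1, finrank_top, Module.finrank_fin_fun] at h2
    omega

end Cfsg.Agent.Lib.H17.Asch
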