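/-
S5630 project (helper17): module M6, existence of a subgroup minimal among the non-scalar subgroups
normalised by `H` that contain the scalars of `H`.
-/
import Cfsg.Agent.Lib.Lead.AschDefs

set_option autoImplicit false

namespace Cfsg.Agent.Lib.H17.Asch

open Cfsg Cfsg.Geo Cfsg.Agent.Lib.Lead.Asch
open scoped MatrixGroups Matrix Kronecker

variable {F : Type*} [Field F] [Fintype F] {n : ℕ}

/-- **M6**. -/
theorem exists_minimalModScalars (H : Subgroup (GL (Fin n) F))
    (hH : ¬ H ≤ scalars (Fin n) F) : ∃ N : Subgroup (GL (Fin n) F), MinimalModScalars H N := by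
  classical
  let S : Set (Subgroup (GL (Fin n) F)) :=
    {N | N ≤ H ∧ NormalizedBy H N ∧ H ⊓ scalars (Fin n) F ≤ N ∧ ¬ N ≤ scalars (Fin n) F}
  have hS : S.Nonempty :=
    ⟨H, le_rfl, fun h hh x hx => H.mul_mem (H.mul_mem hh hx) (H.inv_mem hh), inf_le_left, hH⟩
  obtain ⟨N, hN, hmin⟩ := WellFounded.has_min (wellFounded_lt (α := Subgroup (GL (Fin n) F))) S hS
  obtain ⟨h1, h2, h3, h4⟩ := hN
  refine ⟨N, h1, h2, h3, h4, ?_⟩
  intro N' hle hnorm hsc
  by_cases h5 : N' ≤ scalars (Fin n) F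
  · exact Or.inl h5
  · right
    by_contra hne
    exact hmin N' ⟨hle.trans h1, hnorm, hsc, h5⟩ (lt_of_le_of_ne hle hne)

end Cfsg.Agent.Lib.H17.Asch
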