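import Mathlib
import Cfsg.Agent.Lib.H17.GHDefs
import Cfsg.Agent.Lib.H1.SecRank

/-!
S4402 piece N3 (helper17): the rank step.  An element of `N_S(P)` centralizing `Om` is `1` or `z`.
-/

set_option autoImplicit false
set_option linter.dupNamespace false

namespace Cfsg.Agent.Lib.H17.GH

open Subgroup

section

variable {S : Type*} [Group S] {P : Subgroup S}

/-- `z` is central in `P`. -/
theorem Data.z_comm (D : Data P) {x : S} (hx : x ∈ P) : D.z * x = x * D.z :=
  ((D.center_iff D.z D.z_mem).mpr (Or.inr rfl)) x hx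

theorem Data.Om_sub (D : Data P) {x : S} (hx : x ∈ D.Om) : x ∈ P := ((D.Om_iff x).mp hx).1

theorem Data.As_le (D : Data P) : D.As ≤ P := by
  rw [D.As_eq, closure_le]
  intro x hx
  exact D.Om_sub hx

/-- an element normalizing `P` fixes `z`. -/
theorem Data.conj_z (D : Data P) {g : S} (hg : g ∈ normalizer (P : Set S)) : g * D.z * g⁻¹ = D.z := by
  have hmem : g * D.z * g⁻¹ ∈ P := (mem_normalizer_iff.mp hg D.z).mp D.z_mem
  have hcen : ∀ y ∈ P, (g * D.z * g⁻¹) * y = y * (g * D.z * g⁻¹) := by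
    intro y hy
    have hy' : g⁻¹ * y * g ∈ P := by
      have := (mem_normalizer_iff.mp (inv_mem hg) y).mp hy
      simpa using this
    have h := D.z_comm hy'
    calc g * D.z * g⁻¹ * y = g * (D.z * (g⁻¹ * y * g)) * g⁻¹ := by group
      _ = g * ((g⁻¹ * y * g) * D.z) * g⁻¹ := by rw [h]
      _ = y * (g * D.z * g⁻¹) := by group
  rcases (D.center_iff _ hmem).mp hcen with h | h
  · exfalso
    apply D.z_ne
    have : D.z = g⁻¹ * (g * D.z * g⁻¹) * g := by group
    rw [this, h]; group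
  · exact h

/-- an element centralizing `Om` centralizes `As`. -/
theorem Data.comm_As (D : Data P) {y : S} (hc : ∀ x ∈ D.Om, y * x = x * y) {a : S} (ha : a ∈ D.As) :
    y * a = a * y := by
  have hle : D.As ≤ centralizer ({y} : Set S) := by
    rw [D.As_eq, closure_le]
    intro x hx
    rw [SetLike.mem_coe, mem_centralizer_singleton_iff]
    exact (hc x hx).symm
  have := hle ha
  rw [mem_centralizer_singleton_iff] at this
  exact this.symm

end

theorem eq_one_or_eq_z_of_centralizes {S : Type*} [Group S] [Finite S] (h2 : IsPGroup 2 S)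
    (hr : Cfsg.SectionalPRankLE 2 4 S) {P : Subgroup S} (D : Data P) (y : S)
    (hy : y ∈ normalizer (P : Set S)) (hc : ∀ x ∈ D.Om, y * x = x * y) : y = 1 ∨ y = D.z := by
  by_cases hyP : y ∈ P
  · exact D.cent_Om y hyP hc
  exfalso
  -- a power `y'` of `y` outside `{1, z}` with square inside
  have hex : ∃ k : ℕ, y ^ (2 ^ k) = 1 ∨ y ^ (2 ^ k) = D.z := by
    obtain ⟨k, hk⟩ := h2 y
    exact ⟨k, Or.inl hk⟩
  classical
  set j := Nat.find hex with hj
  have hjspec := Nat.find_spec hex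
  have hj0 : j ≠ 0 := by
    intro h0
    rw [← hj, h0, pow_zero, pow_one] at hjspec
    rcases hjspec with h | h
    · exact hyP (h ▸ P.one_mem)
    · exact hyP (h ▸ D.z_mem)
  obtain ⟨i, hi⟩ := Nat.exists_eq_succ_of_ne_zero hj0
  set y' := y ^ (2 ^ i) with hy'
  have hy'sq : y' * y' = 1 ∨ y' * y' = D.z := by
    have : y' * y' = y ^ (2 ^ j) := by
      rw [hy', ← pow_add, hi, pow_succ, mul_two]
    rw [this]; exact hjspec
  have hy'not : ¬ (y' = 1 ∨ y' = D.z) := by
    have := Nat.find_min hex (m := i) (by rw [← hj, hi]; exact Nat.lt_succ_self i)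
    exact this
  have hy'N : y' ∈ normalizer (P : Set S) := pow_mem hy _
  have hy'c : ∀ x ∈ D.Om, y' * x = x * y' := by
    intro x hx
    have : Commute y x := hc x hx
    exact (this.pow_left _).eq
  have hy'P : y' ∉ P := fun h => hy'not (D.cent_Om y' h hy'c)
  have hcA : ∀ a ∈ D.As, y' * a = a * y' := fun a ha => D.comm_As hy'c ha
  have hcAz : ∀ (n : ℤ), ∀ a ∈ D.As, y' ^ n * a = a * y' ^ n := by
    intro n a ha
    have : Commute y' a := hcA a ha
    exact (this.zpow_left n).eq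
  have hzy' : y' * D.z = D.z * y' := by
    have := D.conj_z hy'N
    calc y' * D.z = (y' * D.z * y'⁻¹) * y' := by group
      _ = D.z * y' := by rw [this]
  -- the subgroup `K = As * ⟨y'⟩`
  let K : Subgroup S :=
    { carrier := {k | ∃ a ∈ D.As, ∃ n : ℤ, k = a * y' ^ n}
      mul_mem' := by
        rintro _ _ ⟨a, ha, n, rfl⟩ ⟨b, hb, m, rfl⟩
        refine ⟨a * b, mul_mem ha hb, n + m, ?_⟩
        rw [zpow_add]
        calc a * y' ^ n * (b * y' ^ m) = a * (y' ^ n * b) * y' ^ m := by group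
          _ = a * (b * y' ^ n) * y' ^ m := by rw [hcAz n b hb]
          _ = a * b * (y' ^ n * y' ^ m) := by group
      one_mem' := ⟨1, one_mem _, 0, by simp⟩
      inv_mem' := by
        rintro _ ⟨a, ha, n, rfl⟩
        refine ⟨a⁻¹, inv_mem ha, -n, ?_⟩
        rw [mul_inv_rev, ← zpow_neg]
        exact hcAz (-n) a⁻¹ (inv_mem ha) }
  have hKmem : ∀ k, k ∈ K ↔ ∃ a ∈ D.As, ∃ n : ℤ, k = a * y' ^ n := fun k => Iff.rfl
  let L : Subgroup S := zpowers D.z
  have h1L : (1 : S) ∈ L := one_mem _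
  have hzL : D.z ∈ L := mem_zpowers _
  have hLmem : ∀ l ∈ L, l = 1 ∨ l = D.z := by
    intro l hl
    obtain ⟨n, rfl⟩ := mem_zpowers_iff.mp hl
    have hz2 : D.z ^ (2 : ℤ) = 1 := by rw [zpow_two]; exact D.z_sq
    rcases Int.even_or_odd' n with ⟨m, rfl | rfl⟩
    · left
      rw [zpow_mul, hz2, one_zpow]
    · right
      rw [zpow_add, zpow_mul, hz2, one_zpow, one_mul, zpow_one]
  have hAsK : D.As ≤ K := fun a ha => ⟨a, ha, 0, by simp⟩
  have hy'K : y' ∈ K := ⟨1, one_mem _, 1, by simp⟩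
  have hLK : L ≤ K := by
    rw [zpowers_le]
    exact hAsK D.z_mem_As
  have hzpow : ∀ n : ℤ, (y' * y') ^ n ∈ L := by
    intro n
    rcases hy'sq with h | h
    · rw [h, one_zpow]; exact h1L
    · rw [h]; exact zpow_mem hzL n
  -- `z` is central in `K`
  have hzK : ∀ k ∈ K, k * D.z = D.z * k := by
    rintro _ ⟨a, ha, n, rfl⟩
    have h1 : a * D.z = D.z * a := (D.z_comm (D.As_le ha)).symm
    have h2 : Commute y' D.z := hzy'
    have h3 : y' ^ n * D.z = D.z * y' ^ n := (h2.zpow_left n).eq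
    calc a * y' ^ n * D.z = a * (y' ^ n * D.z) := by group
      _ = a * (D.z * y' ^ n) := by rw [h3]
      _ = (a * D.z) * y' ^ n := by group
      _ = D.z * a * y' ^ n := by rw [h1]
      _ = D.z * (a * y' ^ n) := by group
  have hn : ∀ g ∈ K, ∀ l ∈ L, g * l * g⁻¹ ∈ L := by
    intro g hg l hl
    rcases hLmem l hl with rfl | rfl
    · simp
    · rw [hzK g hg]; simpa using hzL
  have hsqAs : ∀ a ∈ D.As, a * a ∈ L := by
    intro a ha
    rcases D.As_sq a ha with h | h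
    · rw [h]; exact h1L
    · rw [h]; exact hzL
  have hpow : ∀ a ∈ K, a ^ 2 ∈ L := by
    rintro _ ⟨a, ha, n, rfl⟩
    have e : (a * y' ^ n) ^ 2 = (a * a) * (y' * y') ^ n := by
      have e1 : y' ^ n * y' ^ n = (y' * y') ^ n := by
        rw [← zpow_add, ← two_mul, zpow_mul, zpow_two]
      calc (a * y' ^ n) ^ 2 = a * (y' ^ n * a) * y' ^ n := by rw [pow_two]; group
        _ = a * (a * y' ^ n) * y' ^ n := by rw [hcAz n a ha]
        _ = (a * a) * (y' ^ n * y' ^ n) := by group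
        _ = (a * a) * (y' * y') ^ n := by rw [e1]
    rw [e]
    exact mul_mem (hsqAs a ha) (hzpow n)
  have hcomm : ∀ a ∈ K, ∀ b ∈ K, a * b * a⁻¹ * b⁻¹ ∈ L := by
    rintro _ ⟨a, ha, n, rfl⟩ _ ⟨b, hb, m, rfl⟩
    have e : a * y' ^ n * (b * y' ^ m) * (a * y' ^ n)⁻¹ * (b * y' ^ m)⁻¹ = a * b * a⁻¹ * b⁻¹ := by
      have c1 := hcAz n b hb
      have c2 := hcAz m a⁻¹ (inv_mem ha)
      have c3 := hcAz n b⁻¹ (inv_mem hb)
      have c4 := hcAz m b⁻¹ (inv_mem hb)
      have c5 := hcAz n a⁻¹ (inv_mem ha)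
      calc a * y' ^ n * (b * y' ^ m) * (a * y' ^ n)⁻¹ * (b * y' ^ m)⁻¹
          = a * (y' ^ n * b) * y' ^ m * (y' ^ n)⁻¹ * a⁻¹ * (y' ^ m)⁻¹ * b⁻¹ := by group
        _ = a * (b * y' ^ n) * y' ^ m * (y' ^ n)⁻¹ * a⁻¹ * (y' ^ m)⁻¹ * b⁻¹ := by rw [c1]
        _ = a * b * (y' ^ m * a⁻¹) * (y' ^ m)⁻¹ * b⁻¹ := by group
        _ = a * b * (a⁻¹ * y' ^ m) * (y' ^ m)⁻¹ * b⁻¹ := by rw [c2]
        _ = a * b * a⁻¹ * b⁻¹ := by group
    rw [e]
    have hzb : D.z * a = a * D.z := D.z_comm (D.As_le ha)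
    have hza : D.z * b = b * D.z := D.z_comm (D.As_le hb)
    rcases D.As_comm a ha b hb with h | h
    · have : a * b * a⁻¹ * b⁻¹ = 1 := by rw [h]; group
      rw [this]; exact h1L
    · have : a * b * a⁻¹ * b⁻¹ = D.z := by
        rw [h]
        calc b * a * D.z * a⁻¹ * b⁻¹ = b * (a * D.z) * a⁻¹ * b⁻¹ := by group
          _ = b * (D.z * a) * a⁻¹ * b⁻¹ := by rw [hzb]
          _ = (b * D.z) * b⁻¹ := by group
          _ = (D.z * b) * b⁻¹ := by rw [hza]
          _ = D.z := by group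
      rw [this]; exact hzL
  have hcard := Cfsg.Agent.Lib.H1.SecRank.card_le_of_sectional hr K L hLK hn hpow hcomm
  -- `|L| ≤ 2`, `|K| ≥ 64`
  have hL2 : Nat.card L ≤ 2 := by
    have : Nat.card L = orderOf D.z := Nat.card_zpowers D.z
    rw [this]
    apply orderOf_le_of_pow_eq_one (by norm_num)
    rw [pow_two]; exact D.z_sq
  have hK64 : 64 ≤ Nat.card K := by
    have hdvd : Nat.card D.As ∣ Nat.card K := card_dvd_of_le hAsK
    rw [D.As_card] at hdvd
    obtain ⟨c, hc'⟩ := hdvd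
    have hc0 : c ≠ 0 := by
      intro h0; rw [h0, mul_zero] at hc'
      exact (Nat.card_pos (α := K)).ne' hc'
    have hc1 : c ≠ 1 := by
      intro h1; rw [h1, mul_one] at hc'
      have : D.As = K := eq_of_le_of_card_ge hAsK (by rw [hc', D.As_card])
      exact hy'P (D.As_le (this ▸ hy'K))
    omega
  omega

end Cfsg.Agent.Lib.H17.GH
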