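import Mathlib
import Cfsg.Prelude.Def_Local
import Cfsg.Prelude.Def_Solvable
import Cfsg.Prelude.Def_Transfer
import Cfsg.Prelude.Def_TwoFusion

/-!
# S3313 (order of a simple group with the involution pattern of the Hall–Janko group): definitions

Architect: helper17.  Blueprint: `tools/blueprints/S3313.md`, exact signatures of the pieces:
`tools/blueprints/S3313_sigs.lean`.

* `Qz z` : `Q = O₂(C_G(z))` as a subgroup of `G`.
* `Setting z t K V B` : the hypotheses of S3313 (simplicity is not needed).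
* `QData z Q` : the extraspecial structure of `Q` in elementwise form (`Z(Q) = Q' = {1, z}`,
  squares in `{1, z}`, `|Q| = 32`).
-/

set_option autoImplicit false

namespace Cfsg.Agent.Lib.H17.HJ

variable {G : Type*} [Group G]

/-- `Q = O₂(C_G(z))`, as a subgroup of `G` -/
def Qz (z : G) : Subgroup G :=
  (Cfsg.pCore 2 ↥(Subgroup.centralizer ({z} : Set G))).map
    (Subgroup.centralizer ({z} : Set G)).subtype

/-- the hypotheses of S3313 -/
structure Setting (z t : G) (K V B : Subgroup G) : Prop where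
  hz : orderOf z = 2
  ht : orderOf t = 2
  hzt : ¬ IsConj z t
  hcl : ∀ x : G, orderOf x = 2 → IsConj x z ∨ IsConj x t
  hex : Cfsg.IsExtraspecial 2
    ↥(Cfsg.generalizedFittingSubgroup ↥(Subgroup.centralizer ({z} : Set G)))
  hQ : Nat.card ↥(Cfsg.pCore 2 ↥(Subgroup.centralizer ({z} : Set G))) = 32
  hK : Nonempty (↥K ≃* alternatingGroup (Fin 5))
  hKC : K ⊔ Qz z = Subgroup.centralizer ({z} : Set G)
  hKQ : K ⊓ Qz z = ⊥
  hQz : ∀ x ∈ Qz z, orderOf x = 2 → IsConj x z
  hCz : ∀ x ∈ Subgroup.centralizer ({z} : Set G), orderOf x = 2 → x ∉ Qz z → IsConj x t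
  hVB : Cfsg.IsInternalDirectProduct V B (Subgroup.centralizer ({t} : Set G))
  hV : Nat.card ↥V = 4
  hV2 : ∀ v ∈ V, v ^ 2 = 1
  htV : t ∈ V
  hB : Nonempty (↥B ≃* alternatingGroup (Fin 5))
  hBz : ∀ x ∈ B, orderOf x = 2 → IsConj x z
  hCt : ∀ x ∈ Subgroup.centralizer ({t} : Set G), orderOf x = 2 → x ∉ B → IsConj x t

/-- the extraspecial structure of `Q` (order 32, centre `{1, z}`), elementwise -/
structure QData (z : G) (Q : Subgroup G) : Prop where
  z_mem : z ∈ Q
  z_ne : z ≠ 1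
  z_sq : z * z = 1
  z_comm : ∀ x ∈ Q, z * x = x * z
  card : Nat.card ↥Q = 32
  sq : ∀ x ∈ Q, x * x = 1 ∨ x * x = z
  comm : ∀ x ∈ Q, ∀ y ∈ Q, x * y = y * x ∨ x * y = z * (y * x)
  center : ∀ x ∈ Q, (∀ y ∈ Q, x * y = y * x) → x = 1 ∨ x = z

end Cfsg.Agent.Lib.H17.HJ
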