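import Mathlib

set_option autoImplicit false

namespace Cfsg.Agent.Lib.H17

open scoped commutatorElement

variable {G : Type*} [Group G]

/-- The elements of order dividing `p` in a commutative normal subgroup `B`. -/
def pTorsionOf (B : Subgroup G) (hB : ∀ a ∈ B, ∀ b ∈ B, a * b = b * a) (p : ℕ) : Subgroup G where
  carrier := {b | b ∈ B ∧ b ^ p = 1}
  mul_mem' := by
    rintro a b ⟨ha, hap⟩ ⟨hb, hbp⟩
    refine ⟨B.mul_mem ha hb, ?_⟩
    have hc : Commute a b := hB a ha b hb
    rw [hc.mul_pow, hap, hbp, one_mul]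
  one_mem' := ⟨B.one_mem, one_pow p⟩
  inv_mem' := by
    rintro a ⟨ha, hap⟩
    exact ⟨B.inv_mem ha, by rw [inv_pow, hap, inv_one]⟩

theorem mem_pTorsionOf (B : Subgroup G) (hB : ∀ a ∈ B, ∀ b ∈ B, a * b = b * a) (p : ℕ) (x : G) :
    x ∈ pTorsionOf B hB p ↔ x ∈ B ∧ x ^ p = 1 := Iff.rfl

/-- A finite group with a nontrivial solvable normal subgroup has a nontrivial normal
elementary abelian `p`-subgroup for some prime `p`. -/
theorem exists_normal_elemAb [Finite G] (K : Subgroup G) [K.Normal] (hK : K ≠ ⊥)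
    (hs : Group.IsSolvable K) :
    ∃ (V : Subgroup G) (p : ℕ), V.Normal ∧ V ≠ ⊥ ∧ p.Prime ∧
      (∀ x y : V, x * y = y * x) ∧ (∀ x : V, x ^ p = 1) := by
  classical
  obtain ⟨n, hn⟩ := hs.solvable
  -- minimal n
  have hex : ∃ n, derivedSeries K n = ⊥ := ⟨n, hn⟩
  set m := Nat.find hex with hm
  have hmbot : derivedSeries K m = ⊥ := Nat.find_spec hex
  have hKnt : (⊤ : Subgroup K) ≠ ⊥ := by
    intro h
    apply hK
    rw [Subgroup.eq_bot_iff_forall]
    intro x hx
    have : (⟨x, hx⟩ : K) ∈ (⊤ : Subgroup K) := Subgroup.mem_top _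
    rw [h, Subgroup.mem_bot] at this
    exact congrArg Subtype.val this
  have hm0 : m ≠ 0 := by
    intro h0
    rw [h0, derivedSeries_zero] at hmbot
    exact hKnt hmbot
  obtain ⟨m', hm'⟩ := Nat.exists_eq_succ_of_ne_zero hm0
  have hA : derivedSeries K m' ≠ ⊥ := by
    intro h
    have : m ≤ m' := Nat.find_min' hex h
    omega
  have hAcomm : ⁅derivedSeries K m', derivedSeries K m'⁆ = ⊥ := by
    rw [← derivedSeries_succ, ← Nat.succ_eq_add_one, ← hm']
    exact hmbot
  set A := derivedSeries K m' with hAdef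
  set B := A.map K.subtype with hBdef
  have hBnormal : B.Normal := ConjAct.normal_of_characteristic_of_normal
  have hBcomm : ∀ a ∈ B, ∀ b ∈ B, a * b = b * a := by
    rintro a ⟨a', ha', rfl⟩ b ⟨b', hb', rfl⟩
    have h1 : ⁅a', b'⁆ ∈ ⁅A, A⁆ := Subgroup.commutator_mem_commutator ha' hb'
    rw [hAcomm, Subgroup.mem_bot] at h1
    have h2 : a' * b' = b' * a' := by
      rw [commutatorElement_def] at h1
      have := congrArg (fun t => t * b' * a') h1
      simpa [mul_assoc] using this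
    have := congrArg (K.subtype) h2
    simpa using this
  have hBne : B ≠ ⊥ := by
    intro h
    apply hA
    rw [Subgroup.eq_bot_iff_forall]
    intro x hx
    have : K.subtype x ∈ B := ⟨x, hx, rfl⟩
    rw [h, Subgroup.mem_bot] at this
    exact Subtype.ext this
  have hcard : Nat.card B ≠ 1 := by
    intro h
    exact hBne (Subgroup.card_eq_one.1 h)
  obtain ⟨p, hp, hpd⟩ := Nat.exists_prime_and_dvd hcard
  have := Fact.mk hp
  obtain ⟨b, hb⟩ := exists_prime_orderOf_dvd_card' p hpd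
  refine ⟨pTorsionOf B hBcomm p, p, ?_, ?_, hp, ?_, ?_⟩
  · constructor
    rintro x ⟨hxB, hxp⟩ g
    refine ⟨hBnormal.conj_mem x hxB g, ?_⟩
    rw [conj_pow, hxp, mul_one, mul_inv_cancel]
  · intro h
    have hbm : (b : G) ∈ pTorsionOf B hBcomm p := by
      refine ⟨b.2, ?_⟩
      have : b ^ p = 1 := by rw [← hb]; exact pow_orderOf_eq_one b
      have := congrArg Subtype.val this
      simpa using this
    rw [h, Subgroup.mem_bot] at hbm
    have hb1 : b = 1 := Subtype.ext hbm
    rw [hb1, orderOf_one] at hb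
    exact hp.one_lt.ne hb
  · rintro ⟨x, hx⟩ ⟨y, hy⟩
    exact Subtype.ext (hBcomm x hx.1 y hy.1)
  · rintro ⟨x, hx⟩
    exact Subtype.ext (by simpa using hx.2)

end Cfsg.Agent.Lib.H17
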