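import Mathlib
import Cfsg.Agent.S3443
import Cfsg.Agent.Lib.H17.ElemAbNormal

set_option autoImplicit false

namespace Cfsg.Agent.Lib.H17

/-- There is a finite group in `Type` with spectrum `S`, order greater than `n`, and a nontrivial
normal elementary abelian subgroup. -/
def GoodSpec (S : Set ℕ) (n : ℕ) : Prop :=
  ∃ (H : Type) (_ : Group H) (_ : Finite H) (V : Subgroup H) (p : ℕ), V.Normal ∧ V ≠ ⊥ ∧ p.Prime ∧
    (∀ x y : V, x * y = y * x) ∧ (∀ x : V, x ^ p = 1) ∧ n < Nat.card H ∧
    Set.range (orderOf : H → ℕ) = S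

theorem goodSpec_succ (S : Set ℕ) (n : ℕ) (h : GoodSpec S n) : GoodSpec S (n + 1) := by
  classical
  obtain ⟨H, instG, instF, V, p, hVn, hVne, hp, hcomm, hexp, hcard, hspec⟩ := h
  have hfin : Finite (V ⋊[MulAut.conjNormal] H) :=
    Finite.of_equiv _ (SemidirectProduct.equivProd (N := V) (G := H) (φ := MulAut.conjNormal)).symm
  refine ⟨V ⋊[MulAut.conjNormal] H, inferInstance, hfin,
    (SemidirectProduct.inl : V →* V ⋊[MulAut.conjNormal] H).range, p, ?_, ?_, hp, ?_, ?_, ?_, ?_⟩
  · rw [SemidirectProduct.range_inl_eq_ker_rightHom]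
    infer_instance
  · intro hbot
    apply hVne
    rw [Subgroup.eq_bot_iff_forall]
    intro x hx
    have hmem : (SemidirectProduct.inl (⟨x, hx⟩ : V) : V ⋊[MulAut.conjNormal] H) ∈
        (SemidirectProduct.inl : V →* V ⋊[MulAut.conjNormal] H).range := ⟨_, rfl⟩
    rw [hbot, Subgroup.mem_bot] at hmem
    have h1 : (⟨x, hx⟩ : V) = 1 := by
      apply SemidirectProduct.inl_injective (φ := MulAut.conjNormal) (G := H)
      rw [hmem, map_one]
    exact congrArg Subtype.val h1
  · rintro ⟨x, ⟨a, rfl⟩⟩ ⟨y, ⟨b, rfl⟩⟩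
    apply Subtype.ext
    show SemidirectProduct.inl a * SemidirectProduct.inl b = SemidirectProduct.inl b * SemidirectProduct.inl a
    rw [← map_mul, ← map_mul, hcomm a b]
  · rintro ⟨x, ⟨a, rfl⟩⟩
    apply Subtype.ext
    show (SemidirectProduct.inl a) ^ p = 1
    rw [← map_pow, hexp a, map_one]
  · have hc : Nat.card (V ⋊[MulAut.conjNormal] H) = Nat.card V * Nat.card H := by
      rw [Nat.card_congr (SemidirectProduct.equivProd (N := V) (G := H) (φ := MulAut.conjNormal)),
        Nat.card_prod]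
    have hV2 : 1 < Nat.card V := (Subgroup.one_lt_card_iff_ne_bot V).2 hVne
    rw [hc]
    nlinarith
  · rw [← hspec]
    exact Cfsg.Agent.S3443.result V p hp hcomm hexp

theorem goodSpec_all (S : Set ℕ) (h : GoodSpec S 0) (n : ℕ) : GoodSpec S n := by
  induction n with
  | zero => exact h
  | succ n ih => exact goodSpec_succ S n ih

theorem goodSpec_zero {G : Type*} [Group G] [Finite G] (V : Subgroup G) [hVn : V.Normal] (hV : V ≠ ⊥)
    (p : ℕ) (hp : p.Prime) (hcomm : ∀ x y : V, x * y = y * x) (hexp : ∀ x : V, x ^ p = 1) :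
    GoodSpec (Set.range (orderOf : G → ℕ)) 0 := by
  let e : Shrink.{0} G ≃* G := Shrink.mulEquiv
  have hfin : Finite (Shrink.{0} G) := Finite.of_equiv _ e.symm.toEquiv
  refine ⟨Shrink.{0} G, inferInstance, hfin, V.comap e.toMonoidHom, p, ?_, ?_, hp, ?_, ?_, ?_, ?_⟩
  · infer_instance
  · intro hbot
    apply hV
    rw [Subgroup.eq_bot_iff_forall]
    intro x hx
    have hmem : e.symm x ∈ V.comap e.toMonoidHom := by
      rw [Subgroup.mem_comap]
      simpa using hx
    rw [hbot, Subgroup.mem_bot] at hmem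
    have := congrArg e hmem
    simpa using this
  · rintro ⟨x, hx⟩ ⟨y, hy⟩
    apply Subtype.ext
    apply e.injective
    show e (x * y) = e (y * x)
    rw [map_mul, map_mul]
    have := hcomm ⟨e x, hx⟩ ⟨e y, hy⟩
    exact congrArg Subtype.val this
  · rintro ⟨x, hx⟩
    apply Subtype.ext
    apply e.injective
    show e (x ^ p) = e 1
    rw [map_pow, map_one]
    have := hexp ⟨e x, hx⟩
    exact congrArg Subtype.val this
  · exact Nat.card_pos
  · ext k
    constructor
    · rintro ⟨x, rfl⟩
      exact ⟨e x, (MulEquiv.orderOf_eq e x)⟩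
    · rintro ⟨x, rfl⟩
      exact ⟨e.symm x, by rw [← MulEquiv.orderOf_eq e (e.symm x)]; simp⟩

/-- A finite group with a nontrivial normal elementary abelian subgroup has arbitrarily large
isospectral finite groups (in `Type`). -/
theorem exists_large_isospectral_of_elemAb {G : Type*} [Group G] [Finite G] (V : Subgroup G)
    [V.Normal] (hV : V ≠ ⊥) (p : ℕ) (hp : p.Prime) (hcomm : ∀ x y : V, x * y = y * x)
    (hexp : ∀ x : V, x ^ p = 1) (N : ℕ) :
    ∃ (H : Type) (_ : Group H) (_ : Fintype H), N < Fintype.card H ∧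
      Set.range (orderOf : H → ℕ) = Set.range (orderOf : G → ℕ) := by
  obtain ⟨H, instG, instF, _, _, _, _, _, _, _, hcard, hspec⟩ :=
    goodSpec_all _ (goodSpec_zero V hV p hp hcomm hexp) N
  have : Fintype H := Fintype.ofFinite H
  refine ⟨H, instG, this, ?_, hspec⟩
  rw [← Nat.card_eq_fintype_card]
  exact hcard

/-- A finite group with a nontrivial solvable normal subgroup has arbitrarily large
isospectral finite groups (in `Type`). -/
theorem exists_large_isospectral_of_solvable {G : Type*} [Group G] [Finite G] (K : Subgroup G)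
    [K.Normal] (hK : K ≠ ⊥) (hs : Group.IsSolvable K) (N : ℕ) :
    ∃ (H : Type) (_ : Group H) (_ : Fintype H), N < Fintype.card H ∧
      Set.range (orderOf : H → ℕ) = Set.range (orderOf : G → ℕ) := by
  obtain ⟨V, p, hVn, hVne, hp, hcomm, hexp⟩ := exists_normal_elemAb K hK hs
  exact exists_large_isospectral_of_elemAb V hVne p hp hcomm hexp N

end Cfsg.Agent.Lib.H17
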