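import Mathlib
import Cfsg.Agent.Lib.H2.Singer
import Cfsg.Agent.Lib.H2.CycSyl
import Cfsg.Agent.Lib.H12.PGraphA

/-!
# REE-A1 (+A1b) (helper12's Ree tori farm-out): `p`-subgroups of `GL₇(q)` for a prime `p` dividing
`|GL₇(q)|` only through `q^6 - 1` are cyclic; commutative subgroups of such orders are cyclic.
-/

set_option autoImplicit false

namespace Cfsg.Agent.Lib.H17.Ree

open scoped MatrixGroups

variable {F : Type*} [Field F] [Fintype F]

/-- the embedding `GL₆ → GL₇`, `g ↦ diag(g, 1)` -/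
noncomputable def emb67 (F : Type*) [Field F] : GL (Fin 6) F →* GL (Fin 7) F :=
  (Cfsg.Agent.Lib.H12.PGraph.blockGL (F := F) (ι := Fin 6) (κ := Fin 1) (ν := Fin 7)
    (finSumFinEquiv (m := 6) (n := 1))).comp (MonoidHom.inl (GL (Fin 6) F) (GL (Fin 1) F))

omit [Fintype F] in
theorem emb67_injective : Function.Injective (emb67 F) := by
  intro x y h
  have h1 := Cfsg.Agent.Lib.H12.PGraph.blockGL_injective (F := F) (ι := Fin 6) (κ := Fin 1)
    (ν := Fin 7) (finSumFinEquiv (m := 6) (n := 1)) h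
  exact (Prod.mk.inj h1).1

theorem card_ge_two : 2 ≤ Fintype.card F := Fintype.one_lt_card

theorem pow_sub_eq (q i : ℕ) (hi : i ≤ 7) : q ^ 7 - q ^ i = q ^ i * (q ^ (7 - i) - 1) := by
  rw [Nat.mul_sub, mul_one, ← pow_add]
  congr 2
  omega

theorem factorization_card_GL7 (p : ℕ) [Fact p.Prime] (hpF : ¬ p ∣ Fintype.card F)
    (hp : ∀ j : ℕ, 1 ≤ j → j ≤ 7 → j ≠ 6 → ¬ p ∣ Fintype.card F ^ j - 1) :
    (Nat.card (GL (Fin 7) F)).factorization p = (Fintype.card F ^ 6 - 1).factorization p := by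
  have hpp : p.Prime := Fact.out
  have hq : 2 ≤ Fintype.card F := card_ge_two
  have hne : ∀ i : Fin 7, Fintype.card F ^ 7 - Fintype.card F ^ (i : ℕ) ≠ 0 := by
    intro i
    have : Fintype.card F ^ (i : ℕ) < Fintype.card F ^ 7 :=
      Nat.pow_lt_pow_right hq i.2
    omega
  have hnd : ∀ i : Fin 7, i ≠ 1 → ¬ p ∣ Fintype.card F ^ 7 - Fintype.card F ^ (i : ℕ) := by
    intro i hi hdvd
    rw [pow_sub_eq _ _ (le_of_lt i.2)] at hdvd
    rcases (Nat.Prime.dvd_mul hpp).1 hdvd with h | h
    · exact hpF (hpp.dvd_of_dvd_pow h)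
    · have hi' : (i : ℕ) ≠ 1 := fun h1 => hi (Fin.ext h1)
      exact hp (7 - (i : ℕ)) (by have := i.2; omega) (by omega) (by omega) h
  rw [Matrix.card_GL_field, Nat.factorization_prod (fun i _ => hne i), Finsupp.finsetSum_apply,
    Finset.sum_eq_single (1 : Fin 7)]
  · have e : Fintype.card F ^ 7 - Fintype.card F ^ ((1 : Fin 7) : ℕ) =
        Fintype.card F * (Fintype.card F ^ 6 - 1) := by
      have := pow_sub_eq (Fintype.card F) 1 (by norm_num)
      simpa using this
    rw [e, Nat.factorization_mul (by omega)]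
    · rw [Finsupp.add_apply, Nat.factorization_eq_zero_of_not_dvd hpF, zero_add]
    · have : 1 < Fintype.card F ^ 6 := Nat.one_lt_pow (by norm_num) hq
      omega
  · intro i _ hi
    exact Nat.factorization_eq_zero_of_not_dvd (hnd i hi)
  · intro h
    exact absurd (Finset.mem_univ _) h

/-- **REE-A1** -/
theorem isCyclic_of_isPGroup_GL7 {F : Type*} [Field F] [Fintype F] (p : ℕ) [Fact p.Prime]
    (hpF : ¬ p ∣ Fintype.card F)
    (hp : ∀ j : ℕ, 1 ≤ j → j ≤ 7 → j ≠ 6 → ¬ p ∣ Fintype.card F ^ j - 1)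
    (P : Subgroup (GL (Fin 7) F)) (hP : IsPGroup p P) : IsCyclic P := by
  obtain ⟨C, hC, hcard⟩ := Cfsg.Agent.Lib.H2.Singer.exists_singer F 6
  have hC' : IsCyclic (C.map (emb67 F)) :=
    isCyclic_of_surjective (C.equivMapOfInjective (emb67 F) emb67_injective)
      (C.equivMapOfInjective (emb67 F) emb67_injective).surjective
  have hcard' : Nat.card (C.map (emb67 F)) = Fintype.card F ^ 6 - 1 := by
    rw [← Nat.card_congr (C.equivMapOfInjective (emb67 F) emb67_injective).toEquiv, hcard]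
  refine Cfsg.Agent.Lib.H2.CycSyl.isCyclic_of_isPGroup (C.map (emb67 F)) ?_ P hP
  rw [hcard', factorization_card_GL7 p hpF hp]

/-- **REE-A1b** a commutative subgroup of `GL₇(q)` of order prime to `q (q^j - 1)`, `j ≤ 7`, `j ≠ 6`,
is cyclic -/
theorem isCyclic_of_comm_GL7 {F : Type*} [Field F] [Fintype F]
    (A : Subgroup (GL (Fin 7) F)) (hcomm : ∀ u ∈ A, ∀ v ∈ A, u * v = v * u)
    (hAF : Nat.Coprime (Nat.card A) (Fintype.card F))
    (hA : ∀ j : ℕ, 1 ≤ j → j ≤ 7 → j ≠ 6 → Nat.Coprime (Nat.card A) (Fintype.card F ^ j - 1)) :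
    IsCyclic A := by
  have hZ : IsZGroup A := by
    refine ⟨fun p hp P => ?_⟩
    have : Fact p.Prime := ⟨hp⟩
    have hPA : Nat.card (P : Subgroup A) ∣ Nat.card A := Subgroup.card_subgroup_dvd_card _
    by_cases hpd : p ∣ Nat.card A
    · have h1 : IsCyclic ((P : Subgroup A).map A.subtype) := by
        refine isCyclic_of_isPGroup_GL7 p ?_ ?_ _ (P.isPGroup'.map _)
        · intro h
          exact hp.one_lt.ne' (Nat.eq_one_of_dvd_coprimes hAF hpd h)
        · intro j hj1 hj7 hj6 h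
          exact hp.one_lt.ne' (Nat.eq_one_of_dvd_coprimes (hA j hj1 hj7 hj6) hpd h)
      exact isCyclic_of_injective
        ((P : Subgroup A).equivMapOfInjective A.subtype A.subtype_injective).toMonoidHom
        ((P : Subgroup A).equivMapOfInjective A.subtype A.subtype_injective).injective
    · have h1 : Nat.card (P : Subgroup A) = 1 := by
        obtain ⟨n, hn⟩ := (IsPGroup.iff_card.1 P.isPGroup')
        rcases Nat.eq_zero_or_pos n with h0 | h0
        · rw [hn, h0, pow_zero]
        · exfalso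
          apply hpd
          refine dvd_trans ?_ hPA
          rw [hn]
          exact dvd_pow_self p (by omega)
      have : Subsingleton (P : Subgroup A) := (Nat.card_eq_one_iff_unique.1 h1).1
      exact isCyclic_of_subsingleton
  have hN : Group.IsNilpotent A := by
    refine ⟨⟨1, ?_⟩⟩
    rw [Subgroup.upperCentralSeries_one_eq_top_iff, isMulCommutative_iff]
    intro a b
    exact Subtype.ext (hcomm a a.2 b b.2)
  infer_instance

end Cfsg.Agent.Lib.H17.Ree
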