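import Mathlib

/-!
# REE-E2 (helper12's Ree tori farm-out, second batch): the arithmetic of the class equation of `²G₂(q)`
-/

set_option autoImplicit false

namespace Cfsg.Agent.Lib.H17.Ree

/-- a torus covers at least one seventh of the group -/
theorem torus_lower (G₀ a n c : ℕ) (ha : 7 ≤ a) (hn : n ∣ 6) (hc : c * (a * n) = G₀ * (a - 1)) :
    G₀ ≤ 7 * c := by
  obtain ⟨b, rfl⟩ : ∃ b, a = b + 1 := ⟨a - 1, by omega⟩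
  have hb : 6 ≤ b := by omega
  have hn6 : n ≤ 6 := Nat.le_of_dvd (by norm_num) hn
  rw [Nat.add_sub_cancel] at hc
  have h1 : G₀ * (6 * (b + 1)) ≤ (7 * c) * (6 * (b + 1)) := by
    calc G₀ * (6 * (b + 1)) ≤ G₀ * (7 * b) := Nat.mul_le_mul_left _ (by omega)
      _ = 7 * (G₀ * b) := by ring
      _ = 7 * (c * ((b + 1) * n)) := by rw [hc]
      _ ≤ 7 * (c * ((b + 1) * 6)) := by gcongr
      _ = (7 * c) * (6 * (b + 1)) := by ring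
  exact Nat.le_of_mul_le_mul_right h1 (by omega)

/-- the group order and the count `S` in the variable `v = q - 2` -/
theorem order_eq (v : ℕ) :
    (v + 2) ^ 3 * (v + 2 - 1) * ((v + 2) ^ 3 + 1) =
      ((v + 2) ^ 3 * (v + 1) * (v + 3)) * (v ^ 2 + 3 * v + 3) := by
  have : v + 2 - 1 = v + 1 := by omega
  rw [this]
  ring

theorem count_eq (v : ℕ) :
    (v + 2) ^ 4 * ((v + 2) ^ 2 - 1) * (v + 2 - 2) =
      ((v + 2) ^ 3 * (v + 1) * (v + 3)) * ((v + 2) * v) := by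
  have h1 : v + 2 - 2 = v := by omega
  have h2 : (v + 2) ^ 2 - 1 = (v + 1) * (v + 3) := by
    apply Nat.sub_eq_of_eq_add
    ring
  rw [h1, h2]
  ring

theorem N_eq (v : ℕ) : (v + 2) ^ 2 - (v + 2) + 1 = v ^ 2 + 3 * v + 3 := by
  have : (v + 2) ^ 2 - (v + 2) = v ^ 2 + 3 * v + 2 := by
    apply Nat.sub_eq_of_eq_add
    ring
  rw [this]

/-- **REE-E2a** three pairwise non-conjugate tori are too many -/
theorem three_tori_false (q S : ℕ) (hq : 27 ≤ q) (hS : 3 * S = q ^ 4 * (q ^ 2 - 1) * (q - 2))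
    (a₁ n₁ c₁ a₂ n₂ c₂ a₃ n₃ c₃ : ℕ)
    (ha₁ : 7 ≤ a₁) (hn₁ : n₁ ∣ 6) (hc₁ : c₁ * (a₁ * n₁) = q ^ 3 * (q - 1) * (q ^ 3 + 1) * (a₁ - 1))
    (ha₂ : 7 ≤ a₂) (hn₂ : n₂ ∣ 6) (hc₂ : c₂ * (a₂ * n₂) = q ^ 3 * (q - 1) * (q ^ 3 + 1) * (a₂ - 1))
    (ha₃ : 7 ≤ a₃) (hn₃ : n₃ ∣ 6) (hc₃ : c₃ * (a₃ * n₃) = q ^ 3 * (q - 1) * (q ^ 3 + 1) * (a₃ - 1))
    (hsum : c₁ + c₂ + c₃ ≤ S) : False := by
  obtain ⟨v, rfl⟩ : ∃ v, q = v + 2 := ⟨q - 2, by omega⟩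
  have h1 := torus_lower _ a₁ n₁ c₁ ha₁ hn₁ hc₁
  have h2 := torus_lower _ a₂ n₂ c₂ ha₂ hn₂ hc₂
  have h3 := torus_lower _ a₃ n₃ c₃ ha₃ hn₃ hc₃
  rw [order_eq] at h1 h2 h3
  rw [count_eq] at hS
  set P := (v + 2) ^ 3 * (v + 1) * (v + 3) with hP
  have hPpos : 0 < P := by positivity
  have h4 : P * (9 * (v ^ 2 + 3 * v + 3)) ≤ P * (7 * ((v + 2) * v)) := by
    calc P * (9 * (v ^ 2 + 3 * v + 3)) = 3 * (P * (v ^ 2 + 3 * v + 3)) * 3 := by ring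
      _ ≤ (7 * (c₁ + c₂ + c₃)) * 3 := by
          apply Nat.mul_le_mul_right
          omega
      _ ≤ (7 * S) * 3 := by gcongr
      _ = 7 * (3 * S) := by ring
      _ = P * (7 * ((v + 2) * v)) := by rw [hS]; ring
  have h5 := Nat.le_of_mul_le_mul_left h4 hPpos
  nlinarith [sq_nonneg v]

/-- **REE-E2b** one class of tori is not enough -/
theorem one_torus_false (q S : ℕ) (hq : 27 ≤ q) (hS : 3 * S = q ^ 4 * (q ^ 2 - 1) * (q - 2))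
    (a₁ n₁ c₁ : ℕ) (ha₁ : 7 ≤ a₁) (hd₁ : a₁ ∣ q ^ 2 - q + 1) (hn₁ : n₁ ∣ 6)
    (hc₁ : c₁ * (a₁ * n₁) = q ^ 3 * (q - 1) * (q ^ 3 + 1) * (a₁ - 1))
    (hsum : c₁ = S) : False := by
  obtain ⟨v, rfl⟩ : ∃ v, q = v + 2 := ⟨q - 2, by omega⟩
  have hv : 25 ≤ v := by omega
  subst hsum
  rw [order_eq] at hc₁
  rw [count_eq] at hS
  rw [N_eq] at hd₁
  obtain ⟨b, rfl⟩ : ∃ b, a₁ = b + 1 := ⟨a₁ - 1, by omega⟩
  have hb : 6 ≤ b := by omega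
  rw [Nat.add_sub_cancel] at hc₁
  set P := (v + 2) ^ 3 * (v + 1) * (v + 3) with hP
  have hPpos : 0 < P := by positivity
  have h1 : P * ((v + 2) * v * ((b + 1) * n₁)) = P * (3 * ((v ^ 2 + 3 * v + 3) * b)) := by
    calc P * ((v + 2) * v * ((b + 1) * n₁)) = (P * ((v + 2) * v)) * ((b + 1) * n₁) := by ring
      _ = (3 * c₁) * ((b + 1) * n₁) := by rw [hS]
      _ = 3 * (c₁ * ((b + 1) * n₁)) := by ring
      _ = 3 * (P * (v ^ 2 + 3 * v + 3) * b) := by rw [hc₁]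
      _ = P * (3 * ((v ^ 2 + 3 * v + 3) * b)) := by ring
  have h2 := Nat.eq_of_mul_eq_mul_left hPpos h1
  obtain ⟨k, hk⟩ := hd₁
  rw [hk] at h2
  have h3 : (b + 1) * ((v + 2) * v * n₁) = (b + 1) * (3 * (k * b)) := by
    calc (b + 1) * ((v + 2) * v * n₁) = (v + 2) * v * ((b + 1) * n₁) := by ring
      _ = 3 * ((b + 1) * k * b) := h2
      _ = (b + 1) * (3 * (k * b)) := by ring
  have h4 := Nat.eq_of_mul_eq_mul_left (by omega : 0 < b + 1) h3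
  have h5 : (v + 2) * v * n₁ + 3 * k = 3 * (v ^ 2 + 3 * v + 3) := by
    rw [h4, hk]; ring
  have h7 : 7 * k ≤ v ^ 2 + 3 * v + 3 := by
    rw [hk]; nlinarith
  have hn6 : n₁ ≤ 6 := Nat.le_of_dvd (by norm_num) hn₁
  have hn0 : 0 < n₁ := Nat.pos_of_dvd_of_pos hn₁ (by norm_num)
  interval_cases n₁
  · nlinarith
  · nlinarith
  · have hk3 : k = v + 3 := by nlinarith
    subst hk3
    rcases le_or_gt (b + 1) v with h | h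
    · nlinarith
    · nlinarith
  · exact absurd hn₁ (by norm_num)
  · exact absurd hn₁ (by norm_num)
  · nlinarith

theorem two_N_gt (v : ℕ) (hv : 25 ≤ v) : ¬ (2 * (v ^ 2 + 3 * v + 3) ≤ (v + 3) ^ 2) := by
  intro h
  nlinarith

/-- **REE-E2c** two classes of tori: their orders are `q + 1 ± r`, `r² = 3q`, and `|N(A) : A| = 6`. -/
theorem two_tori (q r S : ℕ) (hq : 27 ≤ q) (hr : r * r = 3 * q)
    (hS : 3 * S = q ^ 4 * (q ^ 2 - 1) * (q - 2))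
    (a₁ n₁ c₁ a₂ n₂ c₂ : ℕ)
    (ha₁ : 7 ≤ a₁) (hd₁ : a₁ ∣ q ^ 2 - q + 1) (hn₁ : n₁ ∣ 6)
    (hc₁ : c₁ * (a₁ * n₁) = q ^ 3 * (q - 1) * (q ^ 3 + 1) * (a₁ - 1))
    (ha₂ : 7 ≤ a₂) (hd₂ : a₂ ∣ q ^ 2 - q + 1) (hn₂ : n₂ ∣ 6)
    (hc₂ : c₂ * (a₂ * n₂) = q ^ 3 * (q - 1) * (q ^ 3 + 1) * (a₂ - 1))
    (hcop : Nat.Coprime a₁ a₂) (hsum : c₁ + c₂ = S) :
    n₁ = 6 ∧ n₂ = 6 ∧ ((a₁ = q + 1 - r ∧ a₂ = q + 1 + r) ∨ (a₁ = q + 1 + r ∧ a₂ = q + 1 - r)) := by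
  obtain ⟨v, rfl⟩ : ∃ v, q = v + 2 := ⟨q - 2, by omega⟩
  have hv : 25 ≤ v := by omega
  subst hsum
  rw [order_eq] at hc₁ hc₂
  rw [count_eq] at hS
  rw [N_eq] at hd₁ hd₂
  obtain ⟨b₁, rfl⟩ : ∃ b, a₁ = b + 1 := ⟨a₁ - 1, by omega⟩
  obtain ⟨b₂, rfl⟩ : ∃ b, a₂ = b + 1 := ⟨a₂ - 1, by omega⟩
  have hb₁ : 6 ≤ b₁ := by omega
  have hb₂ : 6 ≤ b₂ := by omega
  rw [Nat.add_sub_cancel] at hc₁ hc₂
  set P := (v + 2) ^ 3 * (v + 1) * (v + 3) with hP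
  have hPpos : 0 < P := by positivity
  set N := v ^ 2 + 3 * v + 3 with hN
  clear_value P N
  -- the class equation without the common factor
  have hstar : 3 * N * (b₁ * (b₂ + 1) * n₂ + b₂ * (b₁ + 1) * n₁) =
      (v + 2) * v * ((b₁ + 1) * (b₂ + 1) * (n₁ * n₂)) := by
    apply Nat.eq_of_mul_eq_mul_left hPpos
    calc P * (3 * N * (b₁ * (b₂ + 1) * n₂ + b₂ * (b₁ + 1) * n₁))
        = 3 * ((P * N * b₁) * ((b₂ + 1) * n₂) + (P * N * b₂) * ((b₁ + 1) * n₁)) := by ring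
      _ = 3 * ((c₁ * ((b₁ + 1) * n₁)) * ((b₂ + 1) * n₂) +
            (c₂ * ((b₂ + 1) * n₂)) * ((b₁ + 1) * n₁)) := by rw [hc₁, hc₂]
      _ = (3 * (c₁ + c₂)) * ((b₁ + 1) * (b₂ + 1) * (n₁ * n₂)) := by ring
      _ = P * ((v + 2) * v * ((b₁ + 1) * (b₂ + 1) * (n₁ * n₂))) := by rw [hS]; ring
  -- both indices are six
  have hn : n₁ = 6 ∧ n₂ = 6 := by
    have h18 : 18 * N * (n₁ + n₂) ≤ 7 * ((v + 2) * v) * (n₁ * n₂) := by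
      have hA : 0 < (b₁ + 1) * (b₂ + 1) := by positivity
      apply Nat.le_of_mul_le_mul_left _ hA
      calc (b₁ + 1) * (b₂ + 1) * (18 * N * (n₁ + n₂))
          = 3 * N * ((6 * (b₁ + 1)) * (b₂ + 1) * n₂ + (6 * (b₂ + 1)) * (b₁ + 1) * n₁) := by ring
        _ ≤ 3 * N * ((7 * b₁) * (b₂ + 1) * n₂ + (7 * b₂) * (b₁ + 1) * n₁) := by
            have e₁ : 6 * (b₁ + 1) ≤ 7 * b₁ := by omega
            have e₂ : 6 * (b₂ + 1) ≤ 7 * b₂ := by omega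
            gcongr
        _ = 7 * (3 * N * (b₁ * (b₂ + 1) * n₂ + b₂ * (b₁ + 1) * n₁)) := by ring
        _ = 7 * ((v + 2) * v * ((b₁ + 1) * (b₂ + 1) * (n₁ * n₂))) := by rw [hstar]
        _ = (b₁ + 1) * (b₂ + 1) * (7 * ((v + 2) * v) * (n₁ * n₂)) := by ring
    have hn6₁ : n₁ ≤ 6 := Nat.le_of_dvd (by norm_num) hn₁
    have hn0₁ : 0 < n₁ := Nat.pos_of_dvd_of_pos hn₁ (by norm_num)
    have hn6₂ : n₂ ≤ 6 := Nat.le_of_dvd (by norm_num) hn₂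
    have hn0₂ : 0 < n₂ := Nat.pos_of_dvd_of_pos hn₂ (by norm_num)
    have hNv : (v + 2) * v < N := by rw [hN]; nlinarith
    clear hstar hc₁ hc₂ hS hd₁ hd₂
    have key : ∀ n : ℕ, n ∣ 6 → n = 1 ∨ n = 2 ∨ n = 3 ∨ n = 6 := by
      intro n hn
      have h6 : n ≤ 6 := Nat.le_of_dvd (by norm_num) hn
      interval_cases n <;> revert hn <;> decide
    rcases key n₁ hn₁ with rfl | rfl | rfl | rfl <;>
      rcases key n₂ hn₂ with rfl | rfl | rfl | rfl <;>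
      first
        | exact ⟨rfl, rfl⟩
        | (exfalso; nlinarith)
  obtain ⟨rfl, rfl⟩ := hn
  refine ⟨rfl, rfl, ?_⟩
  -- `2 a₁ a₂ (q + 1) = N (a₁ + a₂)`
  have h2 : 2 * ((b₁ + 1) * (b₂ + 1)) * (v + 3) = N * ((b₁ + 1) + (b₂ + 1)) := by
    have hN' : N = (v + 2) * v + (v + 3) := by rw [hN]; ring
    zify at hstar hN' ⊢
    have h18 : (18 : ℤ) * (2 * (((b₁ : ℤ) + 1) * ((b₂ : ℤ) + 1)) * ((v : ℤ) + 3)) =
        18 * ((N : ℤ) * (((b₁ : ℤ) + 1) + ((b₂ : ℤ) + 1))) := by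
      linear_combination hstar - 36 * (((b₁ : ℤ) + 1) * ((b₂ : ℤ) + 1)) * hN'
    linarith
  -- `a₁ a₂ ∣ N`
  obtain ⟨c, hc⟩ : (b₁ + 1) * (b₂ + 1) ∣ N := Nat.Coprime.mul_dvd_of_dvd_of_dvd hcop hd₁ hd₂
  have hABpos : 0 < (b₁ + 1) * (b₂ + 1) := by positivity
  have h3 : 2 * (v + 3) = c * ((b₁ + 1) + (b₂ + 1)) := by
    apply Nat.eq_of_mul_eq_mul_left hABpos
    calc (b₁ + 1) * (b₂ + 1) * (2 * (v + 3)) = 2 * ((b₁ + 1) * (b₂ + 1)) * (v + 3) := by ring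
      _ = N * ((b₁ + 1) + (b₂ + 1)) := h2
      _ = (b₁ + 1) * (b₂ + 1) * (c * ((b₁ + 1) + (b₂ + 1))) := by rw [hc]; ring
  have hNpos : 0 < N := by rw [hN]; positivity
  have hcpos : 0 < c := by
    rcases Nat.eq_zero_or_pos c with h0 | h0
    · rw [h0, Nat.mul_zero] at hc; omega
    · exact h0
  -- `c N ≤ (q + 1) ^ 2`
  have h4 : c * N ≤ (v + 3) ^ 2 := by
    have hAM : 4 * (b₁ + 1) * (b₂ + 1) ≤ ((b₁ + 1) + (b₂ + 1)) ^ 2 := four_mul_le_sq_add _ _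
    have : 4 * (c * N) ≤ 4 * (v + 3) ^ 2 := by
      calc 4 * (c * N) = c ^ 2 * (4 * (b₁ + 1) * (b₂ + 1)) := by rw [hc]; ring
        _ ≤ c ^ 2 * ((b₁ + 1) + (b₂ + 1)) ^ 2 := Nat.mul_le_mul_left _ hAM
        _ = (c * ((b₁ + 1) + (b₂ + 1))) ^ 2 := by ring
        _ = (2 * (v + 3)) ^ 2 := by rw [h3]
        _ = 4 * (v + 3) ^ 2 := by ring
    omega
  have hc1 : c = 1 := by
    by_contra hne
    have hc2 : 2 ≤ c := by omega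
    have : 2 * N ≤ (v + 3) ^ 2 := le_trans (Nat.mul_le_mul_right _ hc2) h4
    rw [hN] at this
    exact two_N_gt v hv this
  subst hc1
  rw [Nat.mul_one] at hc
  rw [Nat.one_mul] at h3
  -- `(a₁ - a₂) ^ 2 = (2 r) ^ 2`
  have h5 : ((b₁ : ℤ) + 1 - ((b₂ : ℤ) + 1)) ^ 2 = (2 * (r : ℤ)) ^ 2 := by
    have e1 : (N : ℤ) = ((b₁ : ℤ) + 1) * ((b₂ : ℤ) + 1) := by exact_mod_cast hc
    have e2 : (2 : ℤ) * ((v : ℤ) + 3) = ((b₁ : ℤ) + 1) + ((b₂ : ℤ) + 1) := by exact_mod_cast h3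
    have e3 : (N : ℤ) = (v : ℤ) ^ 2 + 3 * (v : ℤ) + 3 := by exact_mod_cast hN
    have e4 : (r : ℤ) * (r : ℤ) = 3 * ((v : ℤ) + 2) := by exact_mod_cast hr
    linear_combination (-(((b₁ : ℤ) + 1) + ((b₂ : ℤ) + 1)) - 2 * ((v : ℤ) + 3)) * e2 + 4 * e1 - 4 * e3 - 4 * e4
  rcases sq_eq_sq_iff_eq_or_eq_neg.mp h5 with h6 | h6
  · right
    constructor <;> omega
  · left
    constructor <;> omega

end Cfsg.Agent.Lib.H17.Ree
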