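import Mathlib
import Cfsg.Agent.Lib.H12.ReeT4

/-!
# REE-C2 (helper12's Ree tori farm-out): the centraliser of an involution of `PSL₂(q)`,
`q ≡ 3 mod 4`, has order `q + 1`.
-/

set_option autoImplicit false

namespace Cfsg.Agent.Lib.H17.Ree

open Matrix Cfsg.Agent.Lib.H12 Cfsg.Agent.Lib.H2.PSL2Klein

section

variable {F : Type*} [Field F]

local notation "SL2" => Matrix.SpecialLinearGroup (Fin 2) F
local notation "M2" => Matrix (Fin 2) (Fin 2) F
local notation "PSL2" => Matrix.ProjectiveSpecialLinearGroup (Fin 2) F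

/-- a lift of an involution of `PSL₂` squares to `-1` (characteristic not two) -/
theorem sq_lift_involution (h2 : (2 : F) ≠ 0) (g : SL2)
    (ht1 : (QuotientGroup.mk g : PSL2) ≠ 1)
    (ht2 : (QuotientGroup.mk g : PSL2) * QuotientGroup.mk g = 1) :
    ((g * g : SL2) : M2) = -1 := by
  have hgg : g * g ∈ Subgroup.center SL2 := by
    rw [← QuotientGroup.eq_one_iff, QuotientGroup.mk_mul]
    exact ht2
  have hg1 : g ∉ Subgroup.center SL2 := fun h => ht1 ((QuotientGroup.eq_one_iff g).2 h)
  rcases center_cases _ hgg with h | h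
  · exfalso
    apply hg1
    have h1 : g * g = 1 := Subtype.ext h
    rcases (sl2_mul_self_eq_one_iff h2 g).1 h1 with h' | h'
    · rw [h']; exact Subgroup.one_mem _
    · apply mem_center_of
      right
      rw [h']
      simp
  · exact h

theorem trace_eq_zero_of_sq (g : SL2) (hsq : ((g * g : SL2) : M2) = -1) : (g : M2).trace = 0 := by
  have h1 := m2_cayley (g : M2) g.det_coe
  rw [Matrix.SpecialLinearGroup.coe_mul] at hsq
  rw [hsq] at h1
  have h3 : (g : M2).trace • (g : M2) = 0 := by
    have h4 : (g : M2).trace • (g : M2) = (-1 : M2) + 1 := by rw [h1]; abel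
    rw [h4]; abel
  by_contra hne
  have h4 : (g : M2) = 0 := by
    have := congrArg (fun M : M2 => (g : M2).trace⁻¹ • M) h3
    simpa only [smul_smul, inv_mul_cancel₀ hne, one_smul, smul_zero] using this
  have h5 := g.det_coe
  rw [h4, Matrix.det_zero] at h5
  exact zero_ne_one h5

theorem inv_eq_neg_of_sq (g : SL2) (hsq : ((g * g : SL2) : M2) = -1) : g⁻¹ = -g := by
  apply inv_eq_of_mul_eq_one_right
  apply Subtype.ext
  rw [Matrix.SpecialLinearGroup.coe_mul, Matrix.SpecialLinearGroup.coe_neg, Matrix.mul_neg,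
    ← Matrix.SpecialLinearGroup.coe_mul, hsq, neg_neg, Matrix.SpecialLinearGroup.coe_one]

theorem neg_one_mem_center : (-1 : SL2) ∈ Subgroup.center SL2 := by
  apply mem_center_of
  right
  simp

end

/-- the centraliser in `PSL₂` of the image of `g` with `g² = -1` is the image of the normaliser of
`C_{SL₂}(g)` -/
theorem centralizer_mk_eq_map {F : Type*} [Field F] [Fintype F] (hodd : Odd (Fintype.card F))
    (g : Matrix.SpecialLinearGroup (Fin 2) F)
    (hsq : ((g * g : Matrix.SpecialLinearGroup (Fin 2) F) : Matrix (Fin 2) (Fin 2) F) = -1) :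
    Subgroup.centralizer
      ({(QuotientGroup.mk g : Matrix.ProjectiveSpecialLinearGroup (Fin 2) F)} :
        Set (Matrix.ProjectiveSpecialLinearGroup (Fin 2) F)) =
      (Subgroup.normalizer ((Subgroup.centralizer
        ({g} : Set (Matrix.SpecialLinearGroup (Fin 2) F)) :
          Subgroup (Matrix.SpecialLinearGroup (Fin 2) F)) :
            Set (Matrix.SpecialLinearGroup (Fin 2) F))).map
        (QuotientGroup.mk' (Subgroup.center (Matrix.SpecialLinearGroup (Fin 2) F))) := by
  have h2 : (2 : F) ≠ 0 := two_ne_zero_of_odd hodd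
  have htr := trace_eq_zero_of_sq g hsq
  have hinv := inv_eq_neg_of_sq g hsq
  have ht : (g : Matrix (Fin 2) (Fin 2) F).trace ^ 2 ≠ 4 := by
    rw [htr]
    intro h
    apply h2
    have h4 : (2 : F) * 2 = 0 := by linear_combination -h
    exact (mul_eq_zero.1 h4).elim id id
  set C := Subgroup.centralizer ({g} : Set (Matrix.SpecialLinearGroup (Fin 2) F)) with hC
  set N := Subgroup.normalizer (C : Set (Matrix.SpecialLinearGroup (Fin 2) F)) with hNdef
  set Z := Subgroup.center (Matrix.SpecialLinearGroup (Fin 2) F) with hZ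
  ext u
  rw [Subgroup.mem_centralizer_singleton_iff, Subgroup.mem_map]
  constructor
  · intro hu
    obtain ⟨x, rfl⟩ := QuotientGroup.mk_surjective u
    refine ⟨x, ?_, rfl⟩
    rw [← QuotientGroup.mk_mul, ← QuotientGroup.mk_mul, QuotientGroup.eq] at hu
    -- `c = (x g)⁻¹ (g x)` is central
    set c := (x * g)⁻¹ * (g * x) with hcdef
    have hcomm : ∀ z : Matrix.SpecialLinearGroup (Fin 2) F, c * z = z * c :=
      fun z => (Subgroup.mem_center_iff.mp hu z).symm
    have h1 : x⁻¹ * g * x = g * c := by rw [hcdef]; group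
    -- `x g x⁻¹ = g c'` with `c' = c⁻¹`... use the two cases for `c`
    rcases center_cases c hu with hc | hc
    · have hc1 : c = 1 := Subtype.ext hc
      rw [hc1, mul_one] at h1
      have hxC : x ∈ C := by
        rw [hC, Subgroup.mem_centralizer_singleton_iff]
        calc x * g = x * (x⁻¹ * g * x) := by rw [h1]
          _ = g * x := by group
      exact Subgroup.le_normalizer hxC
    · have hc1 : c = -1 := by
        apply Subtype.ext
        rw [hc]
        simp
      rw [hc1] at h1
      have h3 : x⁻¹ * g * x⁻¹⁻¹ = g⁻¹ := by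
        rw [inv_inv, h1, hinv]
        simp
      have hD := dicData_of_inverting h2 ht h3
      have := hD.wN
      rw [hNdef]
      have h4 := Subgroup.inv_mem _ this
      rwa [inv_inv] at h4
  · rintro ⟨x, hx, rfl⟩
    show (QuotientGroup.mk x : Matrix.ProjectiveSpecialLinearGroup (Fin 2) F) *
      QuotientGroup.mk g = QuotientGroup.mk g * QuotientGroup.mk x
    rcases conj_cases h2 ht hx with h | h
    · rw [← QuotientGroup.mk_mul, ← QuotientGroup.mk_mul]
      congr 1
      calc x * g = (x * g * x⁻¹) * x := by group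
        _ = g * x := by rw [h]
    · rw [← QuotientGroup.mk_mul, ← QuotientGroup.mk_mul, QuotientGroup.eq]
      have h5 : x * g = g⁻¹ * x := by
        calc x * g = (x * g * x⁻¹) * x := by group
          _ = g⁻¹ * x := by rw [h]
      have h6 : (x * g)⁻¹ * (g * x) = -1 := by
        rw [h5, hinv]
        have : (-g * x)⁻¹ * (g * x) = (-1 : Matrix.SpecialLinearGroup (Fin 2) F) := by
          have e : -g * x = (-1 : Matrix.SpecialLinearGroup (Fin 2) F) * (g * x) := by
            simp
          rw [e, _root_.mul_inv_rev]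
          have e2 : ((-1 : Matrix.SpecialLinearGroup (Fin 2) F))⁻¹ = -1 := by
            apply inv_eq_of_mul_eq_one_right
            simp
          rw [e2]
          have hcen := Subgroup.mem_center_iff.mp (neg_one_mem_center (F := F)) (g * x)
          rw [mul_assoc, ← hcen, ← mul_assoc, inv_mul_cancel, one_mul]
        exact this
      rw [h6]
      exact neg_one_mem_center

/-- **REE-C2** the centraliser of an involution of `PSL₂(q)`, `q ≡ 3 mod 4`, has order `q + 1`. -/
theorem card_centralizer_involution_PSL2 {F : Type*} [Field F] [Fintype F]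
    (hq : Fintype.card F % 4 = 3)
    (t : Matrix.ProjectiveSpecialLinearGroup (Fin 2) F) (ht1 : t ≠ 1) (ht2 : t * t = 1) :
    Nat.card (Subgroup.centralizer ({t} : Set (Matrix.ProjectiveSpecialLinearGroup (Fin 2) F))) =
      Fintype.card F + 1 := by
  have hodd : Odd (Fintype.card F) := Nat.odd_iff.2 (by omega)
  have h2 : (2 : F) ≠ 0 := two_ne_zero_of_odd hodd
  obtain ⟨g, rfl⟩ := QuotientGroup.mk_surjective t
  have hsq := sq_lift_involution h2 g ht1 ht2
  have htr := trace_eq_zero_of_sq g hsq
  have hinv := inv_eq_neg_of_sq g hsq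
  have ht : (g : Matrix (Fin 2) (Fin 2) F).trace ^ 2 ≠ 4 := by
    rw [htr]
    intro h
    apply h2
    have h4 : (2 : F) * 2 = 0 := by linear_combination -h
    exact (mul_eq_zero.1 h4).elim id id
  have hns : ¬ IsSquare ((g : Matrix (Fin 2) (Fin 2) F).trace ^ 2 - 4) := by
    rw [htr]
    rintro ⟨s, hs⟩
    have hm1 : ¬ IsSquare (-1 : F) := by
      rw [FiniteField.isSquare_neg_one_iff]
      simp [hq]
    apply hm1
    refine ⟨s / 2, ?_⟩
    field_simp
    linear_combination hs
  have hcard := (regular_centralizer hodd g ht).2.2 hns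
  have hN := (classes_normalizer hodd ht).1
  have hd : NonScalar (g : Matrix (Fin 2) (Fin 2) F) := nonScalar_of_trace_sq_ne g ht
  set C := Subgroup.centralizer ({g} : Set (Matrix.SpecialLinearGroup (Fin 2) F)) with hC
  set N := Subgroup.normalizer (C : Set (Matrix.SpecialLinearGroup (Fin 2) F)) with hNdef
  set Z := Subgroup.center (Matrix.SpecialLinearGroup (Fin 2) F) with hZ
  have hmap : Subgroup.centralizer
      ({(QuotientGroup.mk g : Matrix.ProjectiveSpecialLinearGroup (Fin 2) F)} :
        Set (Matrix.ProjectiveSpecialLinearGroup (Fin 2) F)) = N.map (QuotientGroup.mk' Z) :=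
    centralizer_mk_eq_map hodd g hsq
  rw [hmap, ← Subgroup.relIndex_ker, QuotientGroup.ker_mk']
  have hle : Z ≤ N := le_trans (Subgroup.center_le_centralizer _) Subgroup.le_normalizer
  have hZ2 : Nat.card Z = 2 := by
    rw [hZ, Cfsg.Agent.Lib.H2.card_center_SL 2 (by norm_num)]
    have hq' : Nat.card F - 1 = 2 * ((Nat.card F - 1) / 2) := by
      rw [Nat.card_eq_fintype_card]
      obtain ⟨k, hk⟩ := hodd
      omega
    rw [hq']
    exact Nat.gcd_mul_right_right _ _ ▸ (by simp)
  have hrel := Subgroup.relIndex_mul_relIndex ⊥ Z N bot_le hle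
  rw [Subgroup.relIndex_bot_left, Subgroup.relIndex_bot_left, hZ2, hN, hcard] at hrel
  omega

end Cfsg.Agent.Lib.H17.Ree
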