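import Cfsg.Agent.Lib.H22.ReeG1

/-!
# REE-K1 (helper12's Ree tori farm-out, fifth batch): counting the elements of a given order covered by the conjugates of a
cyclic "TI" subgroup
-/

set_option autoImplicit false

namespace Cfsg.Agent.Lib.H17.Ree

/-- the elements with a conjugation-invariant property `Q` that are conjugate into `A`, when `A` is "TI relative to its
normaliser" on the elements with `Q` -/
theorem card_conj_cover_pred {Γ : Type*} [Group Γ] [Finite Γ] (A : Subgroup Γ) (Q : Γ → Prop)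
    (hQ : ∀ g y : Γ, Q y → Q (g * y * g⁻¹))
    (hcov : ∀ y : Γ, Q y → ∃ g : Γ, g⁻¹ * y * g ∈ A)
    (hTI : ∀ g : Γ, ∀ y ∈ A, Q y → g * y * g⁻¹ ∈ A → g ∈ Subgroup.normalizer (A : Set Γ)) :
    Nat.card {y : Γ // Q y} * Nat.card (Subgroup.normalizer (A : Set Γ)) =
      Nat.card Γ * Nat.card {y : Γ // y ∈ A ∧ Q y} := by
  classical
  rw [← Nat.card_prod, ← Nat.card_prod]
  have hch : ∀ s : {y : Γ // Q y}, ∃ g : Γ, g⁻¹ * s.1 * g ∈ A := fun s => hcov s.1 s.2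
  choose c hc using hch
  have hQc : ∀ s : {y : Γ // Q y}, Q ((c s)⁻¹ * s.1 * c s) := by
    intro s
    have := hQ (c s)⁻¹ s.1 s.2
    rwa [inv_inv] at this
  -- `g⁻¹ c (g y g⁻¹)` normalises `A`
  have hnorm : ∀ (g : Γ) (y : {y : Γ // y ∈ A ∧ Q y}),
      g⁻¹ * c ⟨g * y.1 * g⁻¹, hQ g y.1 y.2.2⟩ ∈ Subgroup.normalizer (A : Set Γ) := by
    intro g y
    apply hTI _ _ (hc ⟨g * y.1 * g⁻¹, hQ g y.1 y.2.2⟩) (hQc ⟨g * y.1 * g⁻¹, hQ g y.1 y.2.2⟩)
    have : g⁻¹ * c ⟨g * y.1 * g⁻¹, hQ g y.1 y.2.2⟩ *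
        ((c ⟨g * y.1 * g⁻¹, hQ g y.1 y.2.2⟩)⁻¹ * (g * y.1 * g⁻¹) * c ⟨g * y.1 * g⁻¹, hQ g y.1 y.2.2⟩) *
        (g⁻¹ * c ⟨g * y.1 * g⁻¹, hQ g y.1 y.2.2⟩)⁻¹ = y.1 := by
      group
    rw [this]
    exact y.2.1
  apply Nat.card_congr
  refine
    { toFun := fun p => (c p.1 * (p.2.1)⁻¹, ⟨p.2.1 * ((c p.1)⁻¹ * p.1.1 * c p.1) * (p.2.1)⁻¹,
        (Subgroup.mem_normalizer_iff.mp p.2.2 _).mp (hc p.1), hQ _ _ (hQc p.1)⟩)
      invFun := fun p => (⟨p.1 * p.2.1 * p.1⁻¹, hQ p.1 p.2.1 p.2.2.2⟩,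
        ⟨p.1⁻¹ * c ⟨p.1 * p.2.1 * p.1⁻¹, hQ p.1 p.2.1 p.2.2.2⟩, hnorm p.1 p.2⟩)
      left_inv := ?_
      right_inv := ?_ }
  · rintro ⟨s, n⟩
    have e1 : ∀ (h1 : Q ((c s * n.1⁻¹) * (n.1 * ((c s)⁻¹ * s.1 * c s) * n.1⁻¹) * (c s * n.1⁻¹)⁻¹)),
        (⟨(c s * n.1⁻¹) * (n.1 * ((c s)⁻¹ * s.1 * c s) * n.1⁻¹) * (c s * n.1⁻¹)⁻¹, h1⟩ : {y : Γ // Q y}) = s := by
      intro h1
      apply Subtype.ext
      show (c s * n.1⁻¹) * (n.1 * ((c s)⁻¹ * s.1 * c s) * n.1⁻¹) * (c s * n.1⁻¹)⁻¹ = s.1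
      group
    apply Prod.ext
    · exact e1 _
    · apply Subtype.ext
      show (c s * n.1⁻¹)⁻¹ * c ⟨(c s * n.1⁻¹) * (n.1 * ((c s)⁻¹ * s.1 * c s) * n.1⁻¹) * (c s * n.1⁻¹)⁻¹, _⟩ = n.1
      rw [e1]
      group
  · rintro ⟨g, y⟩
    apply Prod.ext
    · show c ⟨g * y.1 * g⁻¹, _⟩ * (g⁻¹ * c ⟨g * y.1 * g⁻¹, _⟩)⁻¹ = g
      group
    · apply Subtype.ext
      show g⁻¹ * c ⟨g * y.1 * g⁻¹, _⟩ * ((c ⟨g * y.1 * g⁻¹, _⟩)⁻¹ * (g * y.1 * g⁻¹) * c ⟨g * y.1 * g⁻¹, _⟩) *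
        (g⁻¹ * c ⟨g * y.1 * g⁻¹, _⟩)⁻¹ = y.1
      group

theorem orderOf_conj_eq {Γ : Type*} [Group Γ] (g x : Γ) : orderOf (g * x * g⁻¹) = orderOf x := by
  have : g * x * g⁻¹ = MulAut.conj g x := rfl
  rw [this]
  exact orderOf_injective (MulAut.conj g).toMonoidHom (MulAut.conj g).injective x

/-- the number of elements of order `i` in a finite cyclic subgroup -/
theorem card_orderOf_mem_cyclic {Γ : Type*} [Group Γ] [Finite Γ] (A : Subgroup Γ) (hA : IsCyclic A) (i : ℕ)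
    (hi : i ∣ Nat.card A) : Nat.card {y : Γ // y ∈ A ∧ orderOf y = i} = Nat.totient i := by
  classical
  have := Fintype.ofFinite A
  have e : {y : Γ // y ∈ A ∧ orderOf y = i} ≃ {a : A // orderOf a = i} :=
    { toFun := fun y => ⟨⟨y.1, y.2.1⟩, (Subgroup.orderOf_mk y.1 y.2.1).trans y.2.2⟩
      invFun := fun a => ⟨a.1.1, a.1.2, (Subgroup.orderOf_coe a.1).trans a.2⟩
      left_inv := fun y => rfl
      right_inv := fun a => rfl }
  rw [Nat.card_congr e, Nat.card_eq_fintype_card, Fintype.card_subtype]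
  rw [Nat.card_eq_fintype_card] at hi
  exact IsCyclic.card_orderOf_eq_totient hi

/-- **REE-K1** -/
theorem card_orderOf_of_cyclic_TI {Γ : Type*} [Group Γ] [Finite Γ] (A : Subgroup Γ) (hA : IsCyclic A) (i : ℕ)
    (hi : i ∣ Nat.card A)
    (hcov : ∀ y : Γ, orderOf y = i → ∃ g : Γ, g⁻¹ * y * g ∈ A)
    (hTI : ∀ g : Γ, ∀ y ∈ A, orderOf y = i → g * y * g⁻¹ ∈ A → g ∈ Subgroup.normalizer (A : Set Γ)) :
    Nat.card {y : Γ // orderOf y = i} * Nat.card (Subgroup.normalizer (A : Set Γ)) =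
      Nat.card Γ * Nat.totient i := by
  rw [← card_orderOf_mem_cyclic A hA i hi]
  exact card_conj_cover_pred A (fun y => orderOf y = i)
    (fun g y hy => by rw [orderOf_conj_eq]; exact hy) hcov hTI

/-- **REE-K1**, second lemma -/
theorem card_orderOf_of_torus {Γ : Type*} [Group Γ] [Finite Γ] (A : Subgroup Γ) (hA : IsCyclic A) (i : ℕ)
    (hi : i ∣ Nat.card A) (hi1 : 1 < i)
    (hN : ∀ A₀ : Subgroup Γ, A₀ ≤ A → A₀ ≠ ⊥ →
      Subgroup.normalizer (A₀ : Set Γ) = Subgroup.normalizer (A : Set Γ))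
    (hconj : ∀ B C : Subgroup Γ, IsCyclic B → IsCyclic C → Nat.card B = i → Nat.card C = i →
      ∃ g : Γ, C = B.map (MulAut.conj g).toMonoidHom) :
    Nat.card {y : Γ // orderOf y = i} * Nat.card (Subgroup.normalizer (A : Set Γ)) =
      Nat.card Γ * Nat.totient i := by
  obtain ⟨Ai, hAiA, hAic, hAicard, -⟩ := Cfsg.Agent.Lib.H22.Ree.exists_subgroup_of_dvd A hA i hi
  have hz1 : ∀ y : Γ, orderOf y = i → Subgroup.zpowers y ≠ ⊥ := by
    intro y hy h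
    have h1 : y = 1 := Subgroup.zpowers_eq_bot.mp h
    rw [h1, orderOf_one] at hy
    omega
  apply card_orderOf_of_cyclic_TI A hA i hi
  · intro y hy
    -- `zpowers y` is conjugate to `Ai`
    obtain ⟨g, hg⟩ := hconj Ai (Subgroup.zpowers y) hAic inferInstance hAicard
      (by rw [Nat.card_zpowers, hy])
    have hy' : y ∈ Ai.map (MulAut.conj g).toMonoidHom := by rw [← hg]; exact Subgroup.mem_zpowers y
    obtain ⟨a, ha, hay⟩ := hy'
    refine ⟨g, ?_⟩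
    have : g⁻¹ * y * g = a := by
      have h1 : g * a * g⁻¹ = y := hay
      rw [← h1]; group
    rw [this]
    exact hAiA ha
  · intro g y hyA hy hgy
    have hle1 : Subgroup.zpowers y ≤ A := by rw [Subgroup.zpowers_le]; exact hyA
    have hle2 : Subgroup.zpowers (g * y * g⁻¹) ≤ A := by rw [Subgroup.zpowers_le]; exact hgy
    have heq : Subgroup.zpowers y = Subgroup.zpowers (g * y * g⁻¹) :=
      Cfsg.Agent.Lib.H22.Ree.eq_of_card_eq_of_le_cyclic A _ _ hA hle1 hle2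
        (by rw [Nat.card_zpowers, Nat.card_zpowers, orderOf_conj_eq])
    rw [← hN _ hle1 (hz1 y hy)]
    -- `g` normalises `zpowers y`
    have hmap : (Subgroup.zpowers y).map (MulAut.conj g).toMonoidHom = Subgroup.zpowers y := by
      rw [MonoidHom.map_zpowers]
      exact heq.symm
    rw [Subgroup.mem_normalizer_iff]
    intro x
    constructor
    · intro hx
      rw [← hmap]
      exact ⟨x, hx, rfl⟩
    · intro hx
      rw [← hmap] at hx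
      obtain ⟨z, hz, hzx⟩ := hx
      have : z = x := by
        have h1 : g * z * g⁻¹ = g * x * g⁻¹ := hzx
        have h2 := congrArg (fun w => g⁻¹ * w * g) h1
        simpa [mul_assoc] using h2
      rwa [← this]

end Cfsg.Agent.Lib.H17.Ree
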