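import Cfsg.Agent.Lib.H12.ReeU5
import Cfsg.Agent.Lib.H29.ReeB2

/-!
# REE-F5 (helper12's Ree tori farm-out, third batch): the non-trivial 3-elements of the abstract Ree system
-/

set_option autoImplicit false

namespace Cfsg.Agent.Lib.H17.Ree

open Cfsg.Agent.Lib.H12.ReeC Cfsg.Agent.Lib.H12.ReeC.RSys

variable {G K : Type*} [Group G] [Field K] {R : RSys G K}

/-- `B` normalises `U`, one inclusion -/
theorem conj_mem_U_of_mem_B (b u : G) (hb : b ∈ R.B) (hu : u ∈ R.U) : b * u * b⁻¹ ∈ R.U := by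
  obtain ⟨y, hy, z, rfl⟩ := hb
  have e : y * R.h z * u * (y * R.h z)⁻¹ = y * (R.h z * u * (R.h z)⁻¹) * y⁻¹ := by group
  rw [e]
  exact mul_mem (mul_mem hy (R.h_conj_mem_U z u hu)) (inv_mem hy)

theorem B_le_normalizer_U : R.B ≤ Subgroup.normalizer (R.U : Set G) := by
  intro b hb
  rw [Subgroup.mem_normalizer_iff]
  intro u
  constructor
  · intro hu
    exact conj_mem_U_of_mem_B b u hb hu
  · intro hu
    have h := conj_mem_U_of_mem_B b⁻¹ (b * u * b⁻¹) (inv_mem hb) hu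
    have e : b⁻¹ * (b * u * b⁻¹) * b⁻¹⁻¹ = u := by group
    rwa [e] at h

variable [Fintype K] [Finite G]

/-- the normaliser of `U` is `B` -/
theorem normalizer_U (hq1 : 1 < Fintype.card K) : Subgroup.normalizer (R.U : Set G) = R.B := by
  apply le_antisymm
  · intro g hg
    -- a non-trivial element of `U`
    have hcard : 1 < Nat.card R.U := by
      rw [R.card_U]
      calc 1 < Fintype.card K := hq1
        _ ≤ Fintype.card K ^ 3 := Nat.le_self_pow (by norm_num) _
    have : Nontrivial R.U := (Finite.one_lt_card_iff_nontrivial).mp hcard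
    obtain ⟨t, ht⟩ := exists_ne (1 : R.U)
    have ht1 : (t : G) ≠ 1 := fun h => ht (Subtype.ext h)
    exact R.mem_B_of_conj_mem_U g t t.2 ht1 ((Subgroup.mem_normalizer_iff.mp hg t).mp t.2)
  · exact B_le_normalizer_U

/-- **REE-F5** the non-trivial 3-elements: `(q⁶ - 1)` of them. -/
theorem card_three_elements {q : ℕ} (D : R.ReeData q) :
    Nat.card {y : G // y ≠ 1 ∧ y ^ (q ^ 3) = 1} * (q ^ 3 * (q - 1)) = Nat.card G * (q ^ 3 - 1) := by
  have hq3 := D.three_le
  have hq1 : 1 < Fintype.card K := by rw [D.hq]; omega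
  -- `q` is a power of three
  obtain ⟨n, hn⟩ : ∃ n : ℕ, q = 3 ^ n := by
    obtain ⟨p, hp⟩ := CharP.exists K
    have := hp
    obtain ⟨n, hpr, hn⟩ := FiniteField.card K p
    rw [D.hq] at hn
    have h3 : 3 ∣ p ^ (n : ℕ) := by rw [← hn]; exact D.h3q
    have h3p : 3 = p :=
      (Nat.prime_dvd_prime_iff_eq Nat.prime_three hpr).mp (Nat.prime_three.dvd_of_dvd_pow h3)
    subst h3p
    exact ⟨n, hn⟩
  have : Fact (Nat.Prime 3) := ⟨Nat.prime_three⟩
  have hidx : ¬ 3 ∣ R.U.index := by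
    rw [R.index_U q D.hq D.hcard (by omega)]
    obtain ⟨j, hj⟩ := D.h3q
    intro hd
    rcases (Nat.Prime.dvd_mul Nat.prime_three).mp hd with h | h
    · omega
    · have e : q ^ 3 = 3 * (9 * j ^ 3) := by rw [hj]; ring
      rw [e] at h
      omega
  -- the set on the left is the set of the non-trivial elements conjugate into `U`
  have hset : ∀ y : G, (y ≠ 1 ∧ y ^ (q ^ 3) = 1) ↔ (y ≠ 1 ∧ ∃ g : G, g⁻¹ * y * g ∈ R.U) := by
    intro y
    constructor
    · rintro ⟨hy1, hy⟩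
      refine ⟨hy1, ?_⟩
      have hP : IsPGroup 3 (Subgroup.zpowers y) := by
        apply Cfsg.Agent.Lib.H12.ReeC.RSys.isPGroup_zpowers 3 (n * 3) y
        rw [pow_mul, ← hn]
        exact hy
      have hne := hP.nonempty_fixed_point_of_prime_not_dvd_card (G ⧸ R.U) (by rwa [← Subgroup.index])
      obtain ⟨c, hc⟩ := hne
      obtain ⟨g, rfl⟩ := QuotientGroup.mk_surjective c
      refine ⟨g, ?_⟩
      have h1 := hc ⟨y, Subgroup.mem_zpowers y⟩
      have h2 : ((y * g : G) : G ⧸ R.U) = (g : G ⧸ R.U) := h1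
      rw [QuotientGroup.eq] at h2
      have h3 := R.U.inv_mem h2
      have e : ((y * g)⁻¹ * g)⁻¹ = g⁻¹ * y * g := by group
      rwa [e] at h3
    · rintro ⟨hy1, g, hg⟩
      refine ⟨hy1, ?_⟩
      have hp : (⟨g⁻¹ * y * g, hg⟩ : R.U) ^ (q ^ 3) = 1 := by
        rw [← D.hq, ← R.card_U]; exact pow_card_eq_one'
      have hp' : (g⁻¹ * y * g) ^ (q ^ 3) = 1 := by
        have := congrArg Subtype.val hp
        simpa using this
      have hc := conj_pow (a := g⁻¹) (b := y) (i := q ^ 3)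
      rw [inv_inv] at hc
      rw [hc] at hp'
      calc y ^ (q ^ 3) = g * (g⁻¹ * y ^ (q ^ 3) * g) * g⁻¹ := by group
        _ = 1 := by rw [hp']; group
  rw [Nat.card_congr (Equiv.subtypeEquivRight hset)]
  have hTI : ∀ g : G, ∀ y ∈ R.U, y ≠ 1 → g * y * g⁻¹ ∈ R.U → g ∈ Subgroup.normalizer (R.U : Set G) := by
    intro g y hy hy1 h
    exact B_le_normalizer_U (R.mem_B_of_conj_mem_U g y hy hy1 h)
  have h := Cfsg.Agent.Lib.H29.Ree.card_conj_cover R.U hTI
  rw [normalizer_U hq1, R.card_B, R.card_U, D.hq] at h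
  exact h

end Cfsg.Agent.Lib.H17.Ree
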