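/-
EVEN-DIMENSIONAL ORTHOGONAL project (architect helper26), module EM1 (helper17): a reducible subgroup of the isometry
group of a non-degenerate quadratic form `Q` on `F^ι` (ANY finite field, odd or even order, any finite index type)
stabilises a non-zero totally singular subspace, or a proper non-zero non-degenerate subspace, or (only for `|F|` even)
the span of a non-singular vector.
Proof: `W` invariant, `R = W ⊓ W^⊥`.  `R = 0`: `W` is non-degenerate.  Otherwise `Q` is additive on `R`, so the singular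
vectors of `R` form an invariant subspace `R₀`; `R₀ ≠ 0`: totally singular.  `R₀ = 0`: `2 Q v = f v v = 0` with `Q v ≠ 0`
forces `2 = 0`; then every element of `F` is a square and `Q (u + c v) = Q u + c² Q v` shows `R = F v`.
-/
import Cfsg.Agent.Lib.H17.AschO2E1

set_option autoImplicit false
set_option linter.unusedSectionVars false

namespace Cfsg.Agent.Lib.H17.AschE

open Cfsg Cfsg.Geo Cfsg.Agent.Lib.H17.OP2
open scoped MatrixGroups Matrix Kronecker

variable {F : Type*} [Field F] [Fintype F] {ι : Type} [Fintype ι] [DecidableEq ι]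

theorem em1_Q_zero {Q : (ι → F) → F} (hQ : IsNondegenerateQuadraticForm Q) : Q 0 = 0 := by
  have := hQ.smul 0 (0 : ι → F)
  rwa [zero_smul, zero_pow (by norm_num), zero_mul] at this

theorem em1_Q_add (Q : (ι → F) → F) (u v : ι → F) :
    Q (u + v) = Q u + Q v + QuadraticMap.polar Q u v := by
  unfold QuadraticMap.polar
  ring

/-- **EM1**, all `q`. -/
theorem reducible_cases (Q : (ι → F) → F) (hQ : IsNondegenerateQuadraticForm Q) (H : Subgroup (GL ι F))
    (hH : H ≤ isometryGroup F Q) (h : ¬ ActsIrreducibly (matrixSet H)) :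
    (∃ W : Submodule F (ι → F), W ≠ ⊥ ∧ IsTotallySingularQuad Q W ∧ H ≤ subspaceStabilizer W) ∨
    (∃ W : Submodule F (ι → F), W ≠ ⊥ ∧ W ≠ ⊤ ∧ IsNondegenerateOn (QuadraticMap.polar Q) W ∧
      H ≤ subspaceStabilizer W) ∨
    (¬ Odd (Fintype.card F) ∧ ∃ v : ι → F, Q v ≠ 0 ∧ H ≤ subspaceStabilizer (Submodule.span F {v})) := by
  unfold ActsIrreducibly at h
  push Not at h
  obtain ⟨W, hW, hbot, htop⟩ := h
  have key : ∀ g ∈ H, ∀ v ∈ W, (g : Matrix ι ι F) *ᵥ v ∈ W := by
    intro g hg v hv
    have h1 := hW (g : Matrix ι ι F) ⟨g, hg, rfl⟩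
    apply h1
    exact ⟨v, hv, by simp [Matrix.toLin'_apply]⟩
  have hQg : ∀ g ∈ H, ∀ v, Q ((g : Matrix ι ι F) *ᵥ v) = Q v := fun g hg v => hH hg v v
  have hfg : ∀ g ∈ H, ∀ u v, QuadraticMap.polar Q ((g : Matrix ι ι F) *ᵥ u)
      ((g : Matrix ι ι F) *ᵥ v) = QuadraticMap.polar Q u v := by
    intro g hg u v
    unfold QuadraticMap.polar
    rw [← Matrix.mulVec_add, hQg g hg, hQg g hg, hQg g hg]
  set P : Submodule F (ι → F) := (BpG hQ).orthogonal W with hP
  have hmemP : ∀ v, v ∈ P ↔ ∀ w ∈ W, QuadraticMap.polar Q w v = 0 := fun v => Iff.rfl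
  have keyP : ∀ g ∈ H, ∀ v ∈ P, (g : Matrix ι ι F) *ᵥ v ∈ P := by
    intro g hg v hv
    rw [hmemP] at hv ⊢
    intro w hw
    have h1 := hv _ (key g⁻¹ (H.inv_mem hg) w hw)
    have h3 := hfg g hg (((g⁻¹ : GL ι F) : Matrix ι ι F) *ᵥ w) v
    rw [Matrix.mulVec_mulVec, ← Units.val_mul, mul_inv_cancel, Units.val_one, Matrix.one_mulVec, h1] at h3
    exact h3
  have stab : ∀ X : Submodule F (ι → F),
      (∀ g ∈ H, ∀ v ∈ X, (g : Matrix ι ι F) *ᵥ v ∈ X) → H ≤ subspaceStabilizer X := by
    intro X hX g hg v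
    change v ∈ X ↔ (g : Matrix ι ι F) *ᵥ v ∈ X
    constructor
    · exact hX g hg v
    · intro hv
      have h4 := hX g⁻¹ (H.inv_mem hg) _ hv
      rw [Matrix.mulVec_mulVec, ← Units.val_mul, inv_mul_cancel, Units.val_one, Matrix.one_mulVec] at h4
      exact h4
  by_cases hrad : W ⊓ P = ⊥
  · -- `W` is non-degenerate
    right; left
    refine ⟨W, hbot, htop, ?_, stab W key⟩
    intro w hw hw0
    have hkey : ¬ ∀ x ∈ W, QuadraticMap.polar Q x w = 0 := by
      intro hall
      apply hw0
      have : w ∈ W ⊓ P := ⟨hw, (hmemP w).mpr hall⟩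
      rw [hrad] at this
      exact (Submodule.mem_bot F).mp this
    push Not at hkey
    obtain ⟨x, hx, hne⟩ := hkey
    exact ⟨⟨x, hx, hne⟩, ⟨x, hx, by rwa [QuadraticMap.polar_comm]⟩⟩
  · -- the radical `R = W ⊓ P` is non-zero; `Q` is additive on it
    have hRR : ∀ u ∈ W ⊓ P, ∀ v ∈ W ⊓ P, QuadraticMap.polar Q u v = 0 :=
      fun u hu v hv => (hmemP v).mp hv.2 u hu.1
    have keyR : ∀ g ∈ H, ∀ v ∈ W ⊓ P, (g : Matrix ι ι F) *ᵥ v ∈ W ⊓ P :=
      fun g hg v hv => ⟨key g hg v hv.1, keyP g hg v hv.2⟩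
    -- the singular vectors of the radical
    set R₀ : Submodule F (ι → F) :=
      { carrier := {v | v ∈ W ⊓ P ∧ Q v = 0}
        add_mem' := by
          rintro u v ⟨hu, hu0⟩ ⟨hv, hv0⟩
          refine ⟨(W ⊓ P).add_mem hu hv, ?_⟩
          rw [em1_Q_add Q, hu0, hv0, hRR u hu v hv, add_zero, add_zero]
        zero_mem' := ⟨(W ⊓ P).zero_mem, em1_Q_zero hQ⟩
        smul_mem' := by
          rintro c v ⟨hv, hv0⟩
          refine ⟨(W ⊓ P).smul_mem c hv, ?_⟩
          rw [hQ.smul, hv0, mul_zero] } with hR₀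
    have hmemR₀ : ∀ v, v ∈ R₀ ↔ v ∈ W ⊓ P ∧ Q v = 0 := fun v => Iff.rfl
    by_cases hR₀bot : R₀ = ⊥
    · -- anisotropic radical: characteristic two, a non-singular point
      right; right
      obtain ⟨v, hvR, hv0⟩ := Submodule.exists_mem_ne_zero_of_ne_bot hrad
      have haniso : ∀ u ∈ W ⊓ P, Q u = 0 → u = 0 := by
        intro u hu hu0
        have : u ∈ R₀ := (hmemR₀ u).mpr ⟨hu, hu0⟩
        rw [hR₀bot] at this
        exact (Submodule.mem_bot F).mp this
      have hQv : Q v ≠ 0 := fun h0 => hv0 (haniso v hvR h0)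
      have h2 : (2 : F) = 0 := by
        have h1 : QuadraticMap.polar Q v v = 0 := hRR v hvR v hvR
        unfold QuadraticMap.polar at h1
        have h3 : Q (v + v) = 2 ^ 2 * Q v := by
          rw [← two_smul F v]
          exact hQ.smul 2 v
        rw [h3] at h1
        have h4 : 2 * Q v = 0 := by linear_combination h1
        rcases mul_eq_zero.mp h4 with h5 | h5
        · exact h5
        · exact absurd h5 hQv
      have hchar : ringChar F = 2 :=
        CharP.ringChar_of_prime_eq_zero Nat.prime_two (by exact_mod_cast h2)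
      refine ⟨?_, v, hQv, ?_⟩
      · have := FiniteField.even_card_of_char_two hchar
        intro hodd
        rcases hodd with ⟨k, hk⟩
        omega
      · have hReq : W ⊓ P = Submodule.span F {v} := by
          apply le_antisymm
          · intro u hu
            obtain ⟨c, hc⟩ := FiniteField.isSquare_of_char_two hchar (Q u / Q v)
            have h1 : Q (u + c • v) = 0 := by
              rw [em1_Q_add Q, hQ.smul, hRR u hu _ ((W ⊓ P).smul_mem c hvR), add_zero]
              have h3 : c ^ 2 * Q v = Q u := by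
                rw [pow_two, ← hc]
                field_simp
              rw [h3]
              linear_combination Q u * h2
            have h4 := haniso _ ((W ⊓ P).add_mem hu ((W ⊓ P).smul_mem c hvR)) h1
            have h5 : u = (-c) • v := by
              rw [neg_smul]
              exact eq_neg_of_add_eq_zero_left h4
            rw [h5]
            exact Submodule.smul_mem _ _ (Submodule.subset_span rfl)
          · rw [Submodule.span_singleton_le_iff_mem]
            exact hvR
        rw [← hReq]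
        exact stab (W ⊓ P) keyR
    · -- a totally singular invariant subspace
      left
      refine ⟨R₀, hR₀bot, fun w hw => ((hmemR₀ w).mp hw).2, ?_⟩
      apply stab
      intro g hg v hv
      obtain ⟨hvR, hv0⟩ := (hmemR₀ v).mp hv
      exact (hmemR₀ _).mpr ⟨keyR g hg v hvR, by rw [hQg g hg, hv0]⟩

end Cfsg.Agent.Lib.H17.AschE
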