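import Cfsg.Agent.Lib.H17.G2Lines

set_option autoImplicit false
set_option maxRecDepth 100000

/-! # The kernel of the action of the group of the long root vectors on the 1365 points has at
most three elements (generated) -/

namespace Cfsg.Agent.Lib.H17.G2Ker

open Matrix Cfsg.Agent.Lib.H17.CosetCert Cfsg.Agent.Lib.H17.Sgs Cfsg.Agent.Lib.H17.SgsCent Cfsg.Agent.Lib.H17.G2Vec Cfsg.Agent.Lib.H17.G2Lam Cfsg.Agent.Lib.H17.G2Lines

theorem mulw3 : ∀ i : Fin 4095, mulw (mulw (mulw i)) = i := by decide +kernel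

/-- two long root vectors with the same point are multiples of each other -/
theorem same_line (i j : Fin 4095) (h : line j = line i) :
    j = i ∨ j = mulw i ∨ j = mulw (mulw i) := by
  have hi := (factB i).2
  have hj := (factB j).2
  rw [h] at hj
  rcases hi with hi | hi | hi <;> rcases hj with hj | hj | hj
  · left
    exact hj.symm.trans hi
  · right; right
    have : mulw j = i := hj.symm.trans hi
    rw [← this, mulw3]
  · right; left
    have : mulw (mulw j) = i := hj.symm.trans hi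
    rw [← this, mulw3]
  · right; left
    exact hj.symm.trans hi
  · left
    have : mulw j = mulw i := hj.symm.trans hi
    have h2 := congrArg (fun x => mulw (mulw x)) this
    simp only [mulw3] at h2
    exact h2
  · right; right
    have : mulw (mulw j) = mulw i := hj.symm.trans hi
    have h2 := congrArg mulw this
    rw [mulw3] at h2
    exact h2
  · right; right
    exact hj.symm.trans hi
  · right; left
    have : mulw j = mulw (mulw i) := hj.symm.trans hi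
    have h2 := congrArg (fun x => mulw (mulw x)) this
    simp only [mulw3] at h2
    exact h2
  · left
    have : mulw (mulw j) = mulw (mulw i) := hj.symm.trans hi
    have h2 := congrArg mulw this
    rw [mulw3, mulw3] at h2
    exact h2

/-- an element of the kernel maps a long root vector to a multiple of it -/
theorem ker_cases (M : A) (hM : M ∈ αL.ker) (i : Fin 4095) :
    ρ M i = i ∨ ρ M i = mulw i ∨ ρ M i = mulw (mulw i) := by
  have hfix : αL M (line i) = line i := by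
    rw [MonoidHom.mem_ker.mp hM, Equiv.Perm.one_apply]
  rw [αL_apply] at hfix
  unfold G2Lines.act at hfix
  rw [if_pos (factB i).1, line_ρ_rep_line] at hfix
  exact same_line _ _ hfix

/-- a long root vector joined to a fixed one is fixed -/
theorem level_step (M : A) (hM : M ∈ αL.ker) (p b u : Fin 4095) (hf : ρ M p = p)
    (hc : vec u = vec p + vec b)
    (hne : (vec p + vec (mulw b) ≠ vec u ∧ vec p + vec (mulw b) ≠ vec (mulw u) ∧
      vec p + vec (mulw b) ≠ vec (mulw (mulw u))) ∧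
      (vec p + vec (mulw (mulw b)) ≠ vec u ∧ vec p + vec (mulw (mulw b)) ≠ vec (mulw u) ∧
      vec p + vec (mulw (mulw b)) ≠ vec (mulw (mulw u)))) :
    ρ M b = b := by
  have hu : vec (ρ M u) = vec p + vec (ρ M b) := by
    rw [← ρ_spec, hc, mulVec_add, ρ_spec, ρ_spec, hf]
  rcases ker_cases M hM b with h | h | h
  · exact h
  · exfalso
    rw [h] at hu
    rcases ker_cases M hM u with h2 | h2 | h2 <;> rw [h2] at hu
    · exact hne.1.1 hu.symm
    · exact hne.1.2.1 hu.symm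
    · exact hne.1.2.2 hu.symm
  · exfalso
    rw [h] at hu
    rcases ker_cases M hM u with h2 | h2 | h2 <;> rw [h2] at hu
    · exact hne.2.1 hu.symm
    · exact hne.2.2.1 hu.symm
    · exact hne.2.2.2 hu.symm

theorem finite_A : Finite A := inferInstance

attribute [local instance] finite_A

/-- the mask of level 1 -/
def KK1 : ℕ := 0x7

theorem cntKK1 : countBits KK1 4095 0 = 3 := by decide +kernel

theorem in_KK1 : tb KK1 (⟨0, by decide⟩ : Fin 4095).val = true ∧ tb KK1 (mulw ⟨0, by decide⟩).val = true ∧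
    tb KK1 (mulw (mulw ⟨0, by decide⟩)).val = true := by
  decide +kernel

theorem kbound1 : Nat.card ↥(αL.ker ⊓ stabL ρ ([] : List ℕ)) ≤
    3 * Nat.card ↥(αL.ker ⊓ stabL ρ ([0] : List ℕ)) := by
  have h := card_inf_le ρ αL.ker ([] : List ℕ) 0 (by decide)
    {j : Fin 4095 | tb KK1 j = true} (by
    intro M hM
    have hM' := Subgroup.mem_inf.mp hM
    change tb KK1 (ρ M ⟨0, by decide⟩ : Fin 4095) = true
    rcases ker_cases M hM'.1 ⟨0, by decide⟩ with h | h | h <;> rw [h]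
    · exact in_KK1.1
    · exact in_KK1.2.1
    · exact in_KK1.2.2)
  rw [ncard_mask, cntKK1] at h
  exact h

theorem conn2 : vec ⟨4, by decide⟩ = vec ⟨0, by decide⟩ + vec ⟨3, by decide⟩ := by decide +kernel

theorem ne2 : (vec ⟨0, by decide⟩ + vec (mulw ⟨3, by decide⟩) ≠ vec ⟨4, by decide⟩ ∧ vec ⟨0, by decide⟩ + vec (mulw ⟨3, by decide⟩) ≠ vec (mulw ⟨4, by decide⟩) ∧
    vec ⟨0, by decide⟩ + vec (mulw ⟨3, by decide⟩) ≠ vec (mulw (mulw ⟨4, by decide⟩))) ∧
    (vec ⟨0, by decide⟩ + vec (mulw (mulw ⟨3, by decide⟩)) ≠ vec ⟨4, by decide⟩ ∧ vec ⟨0, by decide⟩ + vec (mulw (mulw ⟨3, by decide⟩)) ≠ vec (mulw ⟨4, by decide⟩) ∧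
    vec ⟨0, by decide⟩ + vec (mulw (mulw ⟨3, by decide⟩)) ≠ vec (mulw (mulw ⟨4, by decide⟩))) := by decide +kernel

/-- the mask of level 2 -/
def KK2 : ℕ := 0x8

theorem cntKK2 : countBits KK2 4095 0 = 1 := by decide +kernel

theorem in_KK2 : tb KK2 (⟨3, by decide⟩ : Fin 4095).val = true := by decide +kernel

theorem kbound2 : Nat.card ↥(αL.ker ⊓ stabL ρ ([0] : List ℕ)) ≤
    1 * Nat.card ↥(αL.ker ⊓ stabL ρ ([3, 0] : List ℕ)) := by
  have h := card_inf_le ρ αL.ker ([0] : List ℕ) 3 (by decide)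
    {j : Fin 4095 | tb KK2 j = true} (by
    intro M hM
    have hM' := Subgroup.mem_inf.mp hM
    have hf : ρ M ⟨0, by decide⟩ = ⟨0, by decide⟩ := hM'.2 0 (by decide) (by decide)
    change tb KK2 (ρ M ⟨3, by decide⟩ : Fin 4095) = true
    rw [level_step M hM'.1 ⟨0, by decide⟩ ⟨3, by decide⟩ ⟨4, by decide⟩ hf conn2 ne2]
    exact in_KK2)
  rw [ncard_mask, cntKK2] at h
  exact h

theorem conn3 : vec ⟨16, by decide⟩ = vec ⟨0, by decide⟩ + vec ⟨15, by decide⟩ := by decide +kernel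

theorem ne3 : (vec ⟨0, by decide⟩ + vec (mulw ⟨15, by decide⟩) ≠ vec ⟨16, by decide⟩ ∧ vec ⟨0, by decide⟩ + vec (mulw ⟨15, by decide⟩) ≠ vec (mulw ⟨16, by decide⟩) ∧
    vec ⟨0, by decide⟩ + vec (mulw ⟨15, by decide⟩) ≠ vec (mulw (mulw ⟨16, by decide⟩))) ∧
    (vec ⟨0, by decide⟩ + vec (mulw (mulw ⟨15, by decide⟩)) ≠ vec ⟨16, by decide⟩ ∧ vec ⟨0, by decide⟩ + vec (mulw (mulw ⟨15, by decide⟩)) ≠ vec (mulw ⟨16, by decide⟩) ∧
    vec ⟨0, by decide⟩ + vec (mulw (mulw ⟨15, by decide⟩)) ≠ vec (mulw (mulw ⟨16, by decide⟩))) := by decide +kernel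

/-- the mask of level 3 -/
def KK3 : ℕ := 0x8000

theorem cntKK3 : countBits KK3 4095 0 = 1 := by decide +kernel

theorem in_KK3 : tb KK3 (⟨15, by decide⟩ : Fin 4095).val = true := by decide +kernel

theorem kbound3 : Nat.card ↥(αL.ker ⊓ stabL ρ ([3, 0] : List ℕ)) ≤
    1 * Nat.card ↥(αL.ker ⊓ stabL ρ ([15, 3, 0] : List ℕ)) := by
  have h := card_inf_le ρ αL.ker ([3, 0] : List ℕ) 15 (by decide)
    {j : Fin 4095 | tb KK3 j = true} (by
    intro M hM
    have hM' := Subgroup.mem_inf.mp hM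
    have hf : ρ M ⟨0, by decide⟩ = ⟨0, by decide⟩ := hM'.2 0 (by decide) (by decide)
    change tb KK3 (ρ M ⟨15, by decide⟩ : Fin 4095) = true
    rw [level_step M hM'.1 ⟨0, by decide⟩ ⟨15, by decide⟩ ⟨16, by decide⟩ hf conn3 ne3]
    exact in_KK3)
  rw [ncard_mask, cntKK3] at h
  exact h

theorem conn4 : vec ⟨20, by decide⟩ = vec ⟨0, by decide⟩ + vec ⟨19, by decide⟩ := by decide +kernel

theorem ne4 : (vec ⟨0, by decide⟩ + vec (mulw ⟨19, by decide⟩) ≠ vec ⟨20, by decide⟩ ∧ vec ⟨0, by decide⟩ + vec (mulw ⟨19, by decide⟩) ≠ vec (mulw ⟨20, by decide⟩) ∧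
    vec ⟨0, by decide⟩ + vec (mulw ⟨19, by decide⟩) ≠ vec (mulw (mulw ⟨20, by decide⟩))) ∧
    (vec ⟨0, by decide⟩ + vec (mulw (mulw ⟨19, by decide⟩)) ≠ vec ⟨20, by decide⟩ ∧ vec ⟨0, by decide⟩ + vec (mulw (mulw ⟨19, by decide⟩)) ≠ vec (mulw ⟨20, by decide⟩) ∧
    vec ⟨0, by decide⟩ + vec (mulw (mulw ⟨19, by decide⟩)) ≠ vec (mulw (mulw ⟨20, by decide⟩))) := by decide +kernel

/-- the mask of level 4 -/
def KK4 : ℕ := 0x80000

theorem cntKK4 : countBits KK4 4095 0 = 1 := by decide +kernel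

theorem in_KK4 : tb KK4 (⟨19, by decide⟩ : Fin 4095).val = true := by decide +kernel

theorem kbound4 : Nat.card ↥(αL.ker ⊓ stabL ρ ([15, 3, 0] : List ℕ)) ≤
    1 * Nat.card ↥(αL.ker ⊓ stabL ρ ([19, 15, 3, 0] : List ℕ)) := by
  have h := card_inf_le ρ αL.ker ([15, 3, 0] : List ℕ) 19 (by decide)
    {j : Fin 4095 | tb KK4 j = true} (by
    intro M hM
    have hM' := Subgroup.mem_inf.mp hM
    have hf : ρ M ⟨0, by decide⟩ = ⟨0, by decide⟩ := hM'.2 0 (by decide) (by decide)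
    change tb KK4 (ρ M ⟨19, by decide⟩ : Fin 4095) = true
    rw [level_step M hM'.1 ⟨0, by decide⟩ ⟨19, by decide⟩ ⟨20, by decide⟩ hf conn4 ne4]
    exact in_KK4)
  rw [ncard_mask, cntKK4] at h
  exact h

theorem conn5 : vec ⟨24, by decide⟩ = vec ⟨0, by decide⟩ + vec ⟨23, by decide⟩ := by decide +kernel

theorem ne5 : (vec ⟨0, by decide⟩ + vec (mulw ⟨23, by decide⟩) ≠ vec ⟨24, by decide⟩ ∧ vec ⟨0, by decide⟩ + vec (mulw ⟨23, by decide⟩) ≠ vec (mulw ⟨24, by decide⟩) ∧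
    vec ⟨0, by decide⟩ + vec (mulw ⟨23, by decide⟩) ≠ vec (mulw (mulw ⟨24, by decide⟩))) ∧
    (vec ⟨0, by decide⟩ + vec (mulw (mulw ⟨23, by decide⟩)) ≠ vec ⟨24, by decide⟩ ∧ vec ⟨0, by decide⟩ + vec (mulw (mulw ⟨23, by decide⟩)) ≠ vec (mulw ⟨24, by decide⟩) ∧
    vec ⟨0, by decide⟩ + vec (mulw (mulw ⟨23, by decide⟩)) ≠ vec (mulw (mulw ⟨24, by decide⟩))) := by decide +kernel

/-- the mask of level 5 -/
def KK5 : ℕ := 0x800000

theorem cntKK5 : countBits KK5 4095 0 = 1 := by decide +kernel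

theorem in_KK5 : tb KK5 (⟨23, by decide⟩ : Fin 4095).val = true := by decide +kernel

theorem kbound5 : Nat.card ↥(αL.ker ⊓ stabL ρ ([19, 15, 3, 0] : List ℕ)) ≤
    1 * Nat.card ↥(αL.ker ⊓ stabL ρ ([23, 19, 15, 3, 0] : List ℕ)) := by
  have h := card_inf_le ρ αL.ker ([19, 15, 3, 0] : List ℕ) 23 (by decide)
    {j : Fin 4095 | tb KK5 j = true} (by
    intro M hM
    have hM' := Subgroup.mem_inf.mp hM
    have hf : ρ M ⟨0, by decide⟩ = ⟨0, by decide⟩ := hM'.2 0 (by decide) (by decide)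
    change tb KK5 (ρ M ⟨23, by decide⟩ : Fin 4095) = true
    rw [level_step M hM'.1 ⟨0, by decide⟩ ⟨23, by decide⟩ ⟨24, by decide⟩ hf conn5 ne5]
    exact in_KK5)
  rw [ncard_mask, cntKK5] at h
  exact h

theorem conn6 : vec ⟨64, by decide⟩ = vec ⟨3, by decide⟩ + vec ⟨63, by decide⟩ := by decide +kernel

theorem ne6 : (vec ⟨3, by decide⟩ + vec (mulw ⟨63, by decide⟩) ≠ vec ⟨64, by decide⟩ ∧ vec ⟨3, by decide⟩ + vec (mulw ⟨63, by decide⟩) ≠ vec (mulw ⟨64, by decide⟩) ∧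
    vec ⟨3, by decide⟩ + vec (mulw ⟨63, by decide⟩) ≠ vec (mulw (mulw ⟨64, by decide⟩))) ∧
    (vec ⟨3, by decide⟩ + vec (mulw (mulw ⟨63, by decide⟩)) ≠ vec ⟨64, by decide⟩ ∧ vec ⟨3, by decide⟩ + vec (mulw (mulw ⟨63, by decide⟩)) ≠ vec (mulw ⟨64, by decide⟩) ∧
    vec ⟨3, by decide⟩ + vec (mulw (mulw ⟨63, by decide⟩)) ≠ vec (mulw (mulw ⟨64, by decide⟩))) := by decide +kernel

/-- the mask of level 6 -/
def KK6 : ℕ := 0x8000000000000000

theorem cntKK6 : countBits KK6 4095 0 = 1 := by decide +kernel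

theorem in_KK6 : tb KK6 (⟨63, by decide⟩ : Fin 4095).val = true := by decide +kernel

theorem kbound6 : Nat.card ↥(αL.ker ⊓ stabL ρ ([23, 19, 15, 3, 0] : List ℕ)) ≤
    1 * Nat.card ↥(αL.ker ⊓ stabL ρ ([63, 23, 19, 15, 3, 0] : List ℕ)) := by
  have h := card_inf_le ρ αL.ker ([23, 19, 15, 3, 0] : List ℕ) 63 (by decide)
    {j : Fin 4095 | tb KK6 j = true} (by
    intro M hM
    have hM' := Subgroup.mem_inf.mp hM
    have hf : ρ M ⟨3, by decide⟩ = ⟨3, by decide⟩ := hM'.2 3 (by decide) (by decide)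
    change tb KK6 (ρ M ⟨63, by decide⟩ : Fin 4095) = true
    rw [level_step M hM'.1 ⟨3, by decide⟩ ⟨63, by decide⟩ ⟨64, by decide⟩ hf conn6 ne6]
    exact in_KK6)
  rw [ncard_mask, cntKK6] at h
  exact h

theorem conn7 : vec ⟨68, by decide⟩ = vec ⟨3, by decide⟩ + vec ⟨67, by decide⟩ := by decide +kernel

theorem ne7 : (vec ⟨3, by decide⟩ + vec (mulw ⟨67, by decide⟩) ≠ vec ⟨68, by decide⟩ ∧ vec ⟨3, by decide⟩ + vec (mulw ⟨67, by decide⟩) ≠ vec (mulw ⟨68, by decide⟩) ∧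
    vec ⟨3, by decide⟩ + vec (mulw ⟨67, by decide⟩) ≠ vec (mulw (mulw ⟨68, by decide⟩))) ∧
    (vec ⟨3, by decide⟩ + vec (mulw (mulw ⟨67, by decide⟩)) ≠ vec ⟨68, by decide⟩ ∧ vec ⟨3, by decide⟩ + vec (mulw (mulw ⟨67, by decide⟩)) ≠ vec (mulw ⟨68, by decide⟩) ∧
    vec ⟨3, by decide⟩ + vec (mulw (mulw ⟨67, by decide⟩)) ≠ vec (mulw (mulw ⟨68, by decide⟩))) := by decide +kernel

/-- the mask of level 7 -/
def KK7 : ℕ := 0x80000000000000000

theorem cntKK7 : countBits KK7 4095 0 = 1 := by decide +kernel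

theorem in_KK7 : tb KK7 (⟨67, by decide⟩ : Fin 4095).val = true := by decide +kernel

theorem kbound7 : Nat.card ↥(αL.ker ⊓ stabL ρ ([63, 23, 19, 15, 3, 0] : List ℕ)) ≤
    1 * Nat.card ↥(αL.ker ⊓ stabL ρ ([67, 63, 23, 19, 15, 3, 0] : List ℕ)) := by
  have h := card_inf_le ρ αL.ker ([63, 23, 19, 15, 3, 0] : List ℕ) 67 (by decide)
    {j : Fin 4095 | tb KK7 j = true} (by
    intro M hM
    have hM' := Subgroup.mem_inf.mp hM
    have hf : ρ M ⟨3, by decide⟩ = ⟨3, by decide⟩ := hM'.2 3 (by decide) (by decide)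
    change tb KK7 (ρ M ⟨67, by decide⟩ : Fin 4095) = true
    rw [level_step M hM'.1 ⟨3, by decide⟩ ⟨67, by decide⟩ ⟨68, by decide⟩ hf conn7 ne7]
    exact in_KK7)
  rw [ncard_mask, cntKK7] at h
  exact h

theorem conn8 : vec ⟨259, by decide⟩ = vec ⟨15, by decide⟩ + vec ⟨255, by decide⟩ := by decide +kernel

theorem ne8 : (vec ⟨15, by decide⟩ + vec (mulw ⟨255, by decide⟩) ≠ vec ⟨259, by decide⟩ ∧ vec ⟨15, by decide⟩ + vec (mulw ⟨255, by decide⟩) ≠ vec (mulw ⟨259, by decide⟩) ∧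
    vec ⟨15, by decide⟩ + vec (mulw ⟨255, by decide⟩) ≠ vec (mulw (mulw ⟨259, by decide⟩))) ∧
    (vec ⟨15, by decide⟩ + vec (mulw (mulw ⟨255, by decide⟩)) ≠ vec ⟨259, by decide⟩ ∧ vec ⟨15, by decide⟩ + vec (mulw (mulw ⟨255, by decide⟩)) ≠ vec (mulw ⟨259, by decide⟩) ∧
    vec ⟨15, by decide⟩ + vec (mulw (mulw ⟨255, by decide⟩)) ≠ vec (mulw (mulw ⟨259, by decide⟩))) := by decide +kernel

/-- the mask of level 8 -/
def KK8 : ℕ := 0x8000000000000000000000000000000000000000000000000000000000000000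

theorem cntKK8 : countBits KK8 4095 0 = 1 := by decide +kernel

theorem in_KK8 : tb KK8 (⟨255, by decide⟩ : Fin 4095).val = true := by decide +kernel

theorem kbound8 : Nat.card ↥(αL.ker ⊓ stabL ρ ([67, 63, 23, 19, 15, 3, 0] : List ℕ)) ≤
    1 * Nat.card ↥(αL.ker ⊓ stabL ρ ([255, 67, 63, 23, 19, 15, 3, 0] : List ℕ)) := by
  have h := card_inf_le ρ αL.ker ([67, 63, 23, 19, 15, 3, 0] : List ℕ) 255 (by decide)
    {j : Fin 4095 | tb KK8 j = true} (by
    intro M hM
    have hM' := Subgroup.mem_inf.mp hM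
    have hf : ρ M ⟨15, by decide⟩ = ⟨15, by decide⟩ := hM'.2 15 (by decide) (by decide)
    change tb KK8 (ρ M ⟨255, by decide⟩ : Fin 4095) = true
    rw [level_step M hM'.1 ⟨15, by decide⟩ ⟨255, by decide⟩ ⟨259, by decide⟩ hf conn8 ne8]
    exact in_KK8)
  rw [ncard_mask, cntKK8] at h
  exact h

theorem conn9 : vec ⟨275, by decide⟩ = vec ⟨15, by decide⟩ + vec ⟨271, by decide⟩ := by decide +kernel

theorem ne9 : (vec ⟨15, by decide⟩ + vec (mulw ⟨271, by decide⟩) ≠ vec ⟨275, by decide⟩ ∧ vec ⟨15, by decide⟩ + vec (mulw ⟨271, by decide⟩) ≠ vec (mulw ⟨275, by decide⟩) ∧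
    vec ⟨15, by decide⟩ + vec (mulw ⟨271, by decide⟩) ≠ vec (mulw (mulw ⟨275, by decide⟩))) ∧
    (vec ⟨15, by decide⟩ + vec (mulw (mulw ⟨271, by decide⟩)) ≠ vec ⟨275, by decide⟩ ∧ vec ⟨15, by decide⟩ + vec (mulw (mulw ⟨271, by decide⟩)) ≠ vec (mulw ⟨275, by decide⟩) ∧
    vec ⟨15, by decide⟩ + vec (mulw (mulw ⟨271, by decide⟩)) ≠ vec (mulw (mulw ⟨275, by decide⟩))) := by decide +kernel

/-- the mask of level 9 -/
def KK9 : ℕ := 0x80000000000000000000000000000000000000000000000000000000000000000000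

theorem cntKK9 : countBits KK9 4095 0 = 1 := by decide +kernel

theorem in_KK9 : tb KK9 (⟨271, by decide⟩ : Fin 4095).val = true := by decide +kernel

theorem kbound9 : Nat.card ↥(αL.ker ⊓ stabL ρ ([255, 67, 63, 23, 19, 15, 3, 0] : List ℕ)) ≤
    1 * Nat.card ↥(αL.ker ⊓ stabL ρ ([271, 255, 67, 63, 23, 19, 15, 3, 0] : List ℕ)) := by
  have h := card_inf_le ρ αL.ker ([255, 67, 63, 23, 19, 15, 3, 0] : List ℕ) 271 (by decide)
    {j : Fin 4095 | tb KK9 j = true} (by
    intro M hM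
    have hM' := Subgroup.mem_inf.mp hM
    have hf : ρ M ⟨15, by decide⟩ = ⟨15, by decide⟩ := hM'.2 15 (by decide) (by decide)
    change tb KK9 (ρ M ⟨271, by decide⟩ : Fin 4095) = true
    rw [level_step M hM'.1 ⟨15, by decide⟩ ⟨271, by decide⟩ ⟨275, by decide⟩ hf conn9 ne9]
    exact in_KK9)
  rw [ncard_mask, cntKK9] at h
  exact h

theorem conn10 : vec ⟨323, by decide⟩ = vec ⟨19, by decide⟩ + vec ⟨319, by decide⟩ := by decide +kernel

theorem ne10 : (vec ⟨19, by decide⟩ + vec (mulw ⟨319, by decide⟩) ≠ vec ⟨323, by decide⟩ ∧ vec ⟨19, by decide⟩ + vec (mulw ⟨319, by decide⟩) ≠ vec (mulw ⟨323, by decide⟩) ∧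
    vec ⟨19, by decide⟩ + vec (mulw ⟨319, by decide⟩) ≠ vec (mulw (mulw ⟨323, by decide⟩))) ∧
    (vec ⟨19, by decide⟩ + vec (mulw (mulw ⟨319, by decide⟩)) ≠ vec ⟨323, by decide⟩ ∧ vec ⟨19, by decide⟩ + vec (mulw (mulw ⟨319, by decide⟩)) ≠ vec (mulw ⟨323, by decide⟩) ∧
    vec ⟨19, by decide⟩ + vec (mulw (mulw ⟨319, by decide⟩)) ≠ vec (mulw (mulw ⟨323, by decide⟩))) := by decide +kernel

/-- the mask of level 10 -/
def KK10 : ℕ := 0x80000000000000000000000000000000000000000000000000000000000000000000000000000000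

theorem cntKK10 : countBits KK10 4095 0 = 1 := by decide +kernel

theorem in_KK10 : tb KK10 (⟨319, by decide⟩ : Fin 4095).val = true := by decide +kernel

theorem kbound10 : Nat.card ↥(αL.ker ⊓ stabL ρ ([271, 255, 67, 63, 23, 19, 15, 3, 0] : List ℕ)) ≤
    1 * Nat.card ↥(αL.ker ⊓ stabL ρ ([319, 271, 255, 67, 63, 23, 19, 15, 3, 0] : List ℕ)) := by
  have h := card_inf_le ρ αL.ker ([271, 255, 67, 63, 23, 19, 15, 3, 0] : List ℕ) 319 (by decide)
    {j : Fin 4095 | tb KK10 j = true} (by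
    intro M hM
    have hM' := Subgroup.mem_inf.mp hM
    have hf : ρ M ⟨19, by decide⟩ = ⟨19, by decide⟩ := hM'.2 19 (by decide) (by decide)
    change tb KK10 (ρ M ⟨319, by decide⟩ : Fin 4095) = true
    rw [level_step M hM'.1 ⟨19, by decide⟩ ⟨319, by decide⟩ ⟨323, by decide⟩ hf conn10 ne10]
    exact in_KK10)
  rw [ncard_mask, cntKK10] at h
  exact h

theorem conn11 : vec ⟨340, by decide⟩ = vec ⟨19, by decide⟩ + vec ⟨336, by decide⟩ := by decide +kernel

theorem ne11 : (vec ⟨19, by decide⟩ + vec (mulw ⟨336, by decide⟩) ≠ vec ⟨340, by decide⟩ ∧ vec ⟨19, by decide⟩ + vec (mulw ⟨336, by decide⟩) ≠ vec (mulw ⟨340, by decide⟩) ∧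
    vec ⟨19, by decide⟩ + vec (mulw ⟨336, by decide⟩) ≠ vec (mulw (mulw ⟨340, by decide⟩))) ∧
    (vec ⟨19, by decide⟩ + vec (mulw (mulw ⟨336, by decide⟩)) ≠ vec ⟨340, by decide⟩ ∧ vec ⟨19, by decide⟩ + vec (mulw (mulw ⟨336, by decide⟩)) ≠ vec (mulw ⟨340, by decide⟩) ∧
    vec ⟨19, by decide⟩ + vec (mulw (mulw ⟨336, by decide⟩)) ≠ vec (mulw (mulw ⟨340, by decide⟩))) := by decide +kernel

/-- the mask of level 11 -/
def KK11 : ℕ := 0x1000000000000000000000000000000000000000000000000000000000000000000000000000000000000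

theorem cntKK11 : countBits KK11 4095 0 = 1 := by decide +kernel

theorem in_KK11 : tb KK11 (⟨336, by decide⟩ : Fin 4095).val = true := by decide +kernel

theorem kbound11 : Nat.card ↥(αL.ker ⊓ stabL ρ ([319, 271, 255, 67, 63, 23, 19, 15, 3, 0] : List ℕ)) ≤
    1 * Nat.card ↥(αL.ker ⊓ stabL ρ ([336, 319, 271, 255, 67, 63, 23, 19, 15, 3, 0] : List ℕ)) := by
  have h := card_inf_le ρ αL.ker ([319, 271, 255, 67, 63, 23, 19, 15, 3, 0] : List ℕ) 336 (by decide)
    {j : Fin 4095 | tb KK11 j = true} (by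
    intro M hM
    have hM' := Subgroup.mem_inf.mp hM
    have hf : ρ M ⟨19, by decide⟩ = ⟨19, by decide⟩ := hM'.2 19 (by decide) (by decide)
    change tb KK11 (ρ M ⟨336, by decide⟩ : Fin 4095) = true
    rw [level_step M hM'.1 ⟨19, by decide⟩ ⟨336, by decide⟩ ⟨340, by decide⟩ hf conn11 ne11]
    exact in_KK11)
  rw [ncard_mask, cntKK11] at h
  exact h

theorem conn12 : vec ⟨387, by decide⟩ = vec ⟨23, by decide⟩ + vec ⟨383, by decide⟩ := by decide +kernel

theorem ne12 : (vec ⟨23, by decide⟩ + vec (mulw ⟨383, by decide⟩) ≠ vec ⟨387, by decide⟩ ∧ vec ⟨23, by decide⟩ + vec (mulw ⟨383, by decide⟩) ≠ vec (mulw ⟨387, by decide⟩) ∧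
    vec ⟨23, by decide⟩ + vec (mulw ⟨383, by decide⟩) ≠ vec (mulw (mulw ⟨387, by decide⟩))) ∧
    (vec ⟨23, by decide⟩ + vec (mulw (mulw ⟨383, by decide⟩)) ≠ vec ⟨387, by decide⟩ ∧ vec ⟨23, by decide⟩ + vec (mulw (mulw ⟨383, by decide⟩)) ≠ vec (mulw ⟨387, by decide⟩) ∧
    vec ⟨23, by decide⟩ + vec (mulw (mulw ⟨383, by decide⟩)) ≠ vec (mulw (mulw ⟨387, by decide⟩))) := by decide +kernel

/-- the mask of level 12 -/
def KK12 : ℕ := 0x800000000000000000000000000000000000000000000000000000000000000000000000000000000000000000000000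

theorem cntKK12 : countBits KK12 4095 0 = 1 := by decide +kernel

theorem in_KK12 : tb KK12 (⟨383, by decide⟩ : Fin 4095).val = true := by decide +kernel

theorem kbound12 : Nat.card ↥(αL.ker ⊓ stabL ρ ([336, 319, 271, 255, 67, 63, 23, 19, 15, 3, 0] : List ℕ)) ≤
    1 * Nat.card ↥(αL.ker ⊓ stabL ρ ([383, 336, 319, 271, 255, 67, 63, 23, 19, 15, 3, 0] : List ℕ)) := by
  have h := card_inf_le ρ αL.ker ([336, 319, 271, 255, 67, 63, 23, 19, 15, 3, 0] : List ℕ) 383 (by decide)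
    {j : Fin 4095 | tb KK12 j = true} (by
    intro M hM
    have hM' := Subgroup.mem_inf.mp hM
    have hf : ρ M ⟨23, by decide⟩ = ⟨23, by decide⟩ := hM'.2 23 (by decide) (by decide)
    change tb KK12 (ρ M ⟨383, by decide⟩ : Fin 4095) = true
    rw [level_step M hM'.1 ⟨23, by decide⟩ ⟨383, by decide⟩ ⟨387, by decide⟩ hf conn12 ne12]
    exact in_KK12)
  rw [ncard_mask, cntKK12] at h
  exact h

theorem conn13 : vec ⟨1027, by decide⟩ = vec ⟨63, by decide⟩ + vec ⟨1023, by decide⟩ := by decide +kernel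

theorem ne13 : (vec ⟨63, by decide⟩ + vec (mulw ⟨1023, by decide⟩) ≠ vec ⟨1027, by decide⟩ ∧ vec ⟨63, by decide⟩ + vec (mulw ⟨1023, by decide⟩) ≠ vec (mulw ⟨1027, by decide⟩) ∧
    vec ⟨63, by decide⟩ + vec (mulw ⟨1023, by decide⟩) ≠ vec (mulw (mulw ⟨1027, by decide⟩))) ∧
    (vec ⟨63, by decide⟩ + vec (mulw (mulw ⟨1023, by decide⟩)) ≠ vec ⟨1027, by decide⟩ ∧ vec ⟨63, by decide⟩ + vec (mulw (mulw ⟨1023, by decide⟩)) ≠ vec (mulw ⟨1027, by decide⟩) ∧
    vec ⟨63, by decide⟩ + vec (mulw (mulw ⟨1023, by decide⟩)) ≠ vec (mulw (mulw ⟨1027, by decide⟩))) := by decide +kernel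

/-- the mask of level 13 -/
def KK13 : ℕ := 0x8000000000000000000000000000000000000000000000000000000000000000000000000000000000000000000000000000000000000000000000000000000000000000000000000000000000000000000000000000000000000000000000000000000000000000000000000000000000000000000000000000000000000000

theorem cntKK13 : countBits KK13 4095 0 = 1 := by decide +kernel

theorem in_KK13 : tb KK13 (⟨1023, by decide⟩ : Fin 4095).val = true := by decide +kernel

theorem kbound13 : Nat.card ↥(αL.ker ⊓ stabL ρ ([383, 336, 319, 271, 255, 67, 63, 23, 19, 15, 3, 0] : List ℕ)) ≤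
    1 * Nat.card ↥(αL.ker ⊓ stabL ρ ([1023, 383, 336, 319, 271, 255, 67, 63, 23, 19, 15, 3, 0] : List ℕ)) := by
  have h := card_inf_le ρ αL.ker ([383, 336, 319, 271, 255, 67, 63, 23, 19, 15, 3, 0] : List ℕ) 1023 (by decide)
    {j : Fin 4095 | tb KK13 j = true} (by
    intro M hM
    have hM' := Subgroup.mem_inf.mp hM
    have hf : ρ M ⟨63, by decide⟩ = ⟨63, by decide⟩ := hM'.2 63 (by decide) (by decide)
    change tb KK13 (ρ M ⟨1023, by decide⟩ : Fin 4095) = true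
    rw [level_step M hM'.1 ⟨63, by decide⟩ ⟨1023, by decide⟩ ⟨1027, by decide⟩ hf conn13 ne13]
    exact in_KK13)
  rw [ncard_mask, cntKK13] at h
  exact h

theorem conn14 : vec ⟨1360, by decide⟩ = vec ⟨271, by decide⟩ + vec ⟨1103, by decide⟩ := by decide +kernel

theorem ne14 : (vec ⟨271, by decide⟩ + vec (mulw ⟨1103, by decide⟩) ≠ vec ⟨1360, by decide⟩ ∧ vec ⟨271, by decide⟩ + vec (mulw ⟨1103, by decide⟩) ≠ vec (mulw ⟨1360, by decide⟩) ∧
    vec ⟨271, by decide⟩ + vec (mulw ⟨1103, by decide⟩) ≠ vec (mulw (mulw ⟨1360, by decide⟩))) ∧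
    (vec ⟨271, by decide⟩ + vec (mulw (mulw ⟨1103, by decide⟩)) ≠ vec ⟨1360, by decide⟩ ∧ vec ⟨271, by decide⟩ + vec (mulw (mulw ⟨1103, by decide⟩)) ≠ vec (mulw ⟨1360, by decide⟩) ∧
    vec ⟨271, by decide⟩ + vec (mulw (mulw ⟨1103, by decide⟩)) ≠ vec (mulw (mulw ⟨1360, by decide⟩))) := by decide +kernel

/-- the mask of level 14 -/
def KK14 : ℕ := 0x800000000000000000000000000000000000000000000000000000000000000000000000000000000000000000000000000000000000000000000000000000000000000000000000000000000000000000000000000000000000000000000000000000000000000000000000000000000000000000000000000000000000000000000000000000000000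

theorem cntKK14 : countBits KK14 4095 0 = 1 := by decide +kernel

theorem in_KK14 : tb KK14 (⟨1103, by decide⟩ : Fin 4095).val = true := by decide +kernel

theorem kbound14 : Nat.card ↥(αL.ker ⊓ stabL ρ ([1023, 383, 336, 319, 271, 255, 67, 63, 23, 19, 15, 3, 0] : List ℕ)) ≤
    1 * Nat.card ↥(αL.ker ⊓ stabL ρ ([1103, 1023, 383, 336, 319, 271, 255, 67, 63, 23, 19, 15, 3, 0] : List ℕ)) := by
  have h := card_inf_le ρ αL.ker ([1023, 383, 336, 319, 271, 255, 67, 63, 23, 19, 15, 3, 0] : List ℕ) 1103 (by decide)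
    {j : Fin 4095 | tb KK14 j = true} (by
    intro M hM
    have hM' := Subgroup.mem_inf.mp hM
    have hf : ρ M ⟨271, by decide⟩ = ⟨271, by decide⟩ := hM'.2 271 (by decide) (by decide)
    change tb KK14 (ρ M ⟨1103, by decide⟩ : Fin 4095) = true
    rw [level_step M hM'.1 ⟨271, by decide⟩ ⟨1103, by decide⟩ ⟨1360, by decide⟩ hf conn14 ne14]
    exact in_KK14)
  rw [ncard_mask, cntKK14] at h
  exact h

theorem bspan0 : (Pi.single (.inl 0) 1 : V14) = vecN 0 + F4.w • vecN 3 + F4.w2 • vecN 15 + F4.w • vecN 19 + vecN 23 + vecN 63 + vecN 67 + vecN 255 + vecN 271 + vecN 319 + vecN 336 := by decide +kernel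

theorem bspan1 : (Pi.single (.inl 1) 1 : V14) = vecN 0 + F4.w2 • vecN 3 + F4.w2 • vecN 15 + F4.w2 • vecN 19 + vecN 23 + vecN 67 + vecN 271 + vecN 319 + vecN 1023 + vecN 1103 := by decide +kernel

theorem bspan2 : (Pi.single (.inr 0) 1 : V14) = vecN 0 := by decide +kernel

theorem bspan3 : (Pi.single (.inr 1) 1 : V14) = vecN 3 := by decide +kernel

theorem bspan4 : (Pi.single (.inr 2) 1 : V14) = F4.w2 • vecN 3 + F4.w2 • vecN 15 + F4.w • vecN 19 + vecN 23 := by decide +kernel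

theorem bspan5 : (Pi.single (.inr 3) 1 : V14) = F4.w • vecN 3 + F4.w • vecN 15 + F4.w2 • vecN 19 + vecN 23 := by decide +kernel

theorem bspan6 : (Pi.single (.inr 4) 1 : V14) = vecN 0 + F4.w2 • vecN 3 + F4.w2 • vecN 15 + F4.w • vecN 19 + vecN 23 + vecN 63 + vecN 67 := by decide +kernel

theorem bspan7 : (Pi.single (.inr 5) 1 : V14) = vecN 15 := by decide +kernel

theorem bspan8 : (Pi.single (.inr 6) 1 : V14) = vecN 63 := by decide +kernel

theorem bspan9 : (Pi.single (.inr 7) 1 : V14) = vecN 0 + F4.w • vecN 3 + F4.w • vecN 15 + F4.w2 • vecN 19 + vecN 23 + vecN 255 + vecN 271 := by decide +kernel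

theorem bspan10 : (Pi.single (.inr 8) 1 : V14) = F4.w2 • vecN 63 + F4.w2 • vecN 255 + F4.w • vecN 319 + vecN 383 := by decide +kernel

theorem bspan11 : (Pi.single (.inr 9) 1 : V14) = F4.w • vecN 63 + F4.w • vecN 255 + F4.w2 • vecN 319 + vecN 383 := by decide +kernel

theorem bspan12 : (Pi.single (.inr 10) 1 : V14) = vecN 255 := by decide +kernel

theorem bspan13 : (Pi.single (.inr 11) 1 : V14) = vecN 1023 := by decide +kernel

theorem klast : αL.ker ⊓ stabL ρ ([1103, 1023, 383, 336, 319, 271, 255, 67, 63, 23, 19, 15, 3, 0] : List ℕ) = ⊥ := by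
  rw [eq_bot_iff]
  intro M hM
  have hM' := Subgroup.mem_inf.mp hM
  have hv : ∀ c ∈ ([1103, 1023, 383, 336, 319, 271, 255, 67, 63, 23, 19, 15, 3, 0] : List ℕ), ∀ hc : c < 4095,
      ((M : GL14) : Matrix J J F4) *ᵥ vecN c = vecN c := by
    intro c hcm hc
    have h1 := ρ_spec M ⟨c, hc⟩
    rw [hM'.2 c hcm hc] at h1
    exact h1
  have hf0 := hv 0 (by decide) (by decide)
  have hf1 := hv 3 (by decide) (by decide)
  have hf2 := hv 15 (by decide) (by decide)
  have hf3 := hv 19 (by decide) (by decide)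
  have hf4 := hv 23 (by decide) (by decide)
  have hf5 := hv 63 (by decide) (by decide)
  have hf6 := hv 67 (by decide) (by decide)
  have hf7 := hv 255 (by decide) (by decide)
  have hf8 := hv 271 (by decide) (by decide)
  have hf9 := hv 319 (by decide) (by decide)
  have hf10 := hv 336 (by decide) (by decide)
  have hf11 := hv 383 (by decide) (by decide)
  have hf12 := hv 1023 (by decide) (by decide)
  have hf13 := hv 1103 (by decide) (by decide)
  have hs : ∀ j : J, ((M : GL14) : Matrix J J F4) *ᵥ (Pi.single j 1 : V14) = Pi.single j 1 := by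
    intro j
    rcases j with j | j
    · fin_cases j
      · change ((M : GL14) : Matrix J J F4) *ᵥ (Pi.single (.inl 0) 1 : V14) = Pi.single (.inl 0) 1
        rw [bspan0]
        simp only [mulVec_add, mulVec_smul, hf0, hf1, hf2, hf3, hf4, hf5, hf6, hf7, hf8, hf9, hf10, hf11, hf12, hf13]
      · change ((M : GL14) : Matrix J J F4) *ᵥ (Pi.single (.inl 1) 1 : V14) = Pi.single (.inl 1) 1
        rw [bspan1]
        simp only [mulVec_add, mulVec_smul, hf0, hf1, hf2, hf3, hf4, hf5, hf6, hf7, hf8, hf9, hf10, hf11, hf12, hf13]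
    · fin_cases j
      · change ((M : GL14) : Matrix J J F4) *ᵥ (Pi.single (.inr 0) 1 : V14) = Pi.single (.inr 0) 1
        rw [bspan2]
        simp only [mulVec_add, mulVec_smul, hf0, hf1, hf2, hf3, hf4, hf5, hf6, hf7, hf8, hf9, hf10, hf11, hf12, hf13]
      · change ((M : GL14) : Matrix J J F4) *ᵥ (Pi.single (.inr 1) 1 : V14) = Pi.single (.inr 1) 1
        rw [bspan3]
        simp only [mulVec_add, mulVec_smul, hf0, hf1, hf2, hf3, hf4, hf5, hf6, hf7, hf8, hf9, hf10, hf11, hf12, hf13]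
      · change ((M : GL14) : Matrix J J F4) *ᵥ (Pi.single (.inr 2) 1 : V14) = Pi.single (.inr 2) 1
        rw [bspan4]
        simp only [mulVec_add, mulVec_smul, hf0, hf1, hf2, hf3, hf4, hf5, hf6, hf7, hf8, hf9, hf10, hf11, hf12, hf13]
      · change ((M : GL14) : Matrix J J F4) *ᵥ (Pi.single (.inr 3) 1 : V14) = Pi.single (.inr 3) 1
        rw [bspan5]
        simp only [mulVec_add, mulVec_smul, hf0, hf1, hf2, hf3, hf4, hf5, hf6, hf7, hf8, hf9, hf10, hf11, hf12, hf13]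
      · change ((M : GL14) : Matrix J J F4) *ᵥ (Pi.single (.inr 4) 1 : V14) = Pi.single (.inr 4) 1
        rw [bspan6]
        simp only [mulVec_add, mulVec_smul, hf0, hf1, hf2, hf3, hf4, hf5, hf6, hf7, hf8, hf9, hf10, hf11, hf12, hf13]
      · change ((M : GL14) : Matrix J J F4) *ᵥ (Pi.single (.inr 5) 1 : V14) = Pi.single (.inr 5) 1
        rw [bspan7]
        simp only [mulVec_add, mulVec_smul, hf0, hf1, hf2, hf3, hf4, hf5, hf6, hf7, hf8, hf9, hf10, hf11, hf12, hf13]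
      · change ((M : GL14) : Matrix J J F4) *ᵥ (Pi.single (.inr 6) 1 : V14) = Pi.single (.inr 6) 1
        rw [bspan8]
        simp only [mulVec_add, mulVec_smul, hf0, hf1, hf2, hf3, hf4, hf5, hf6, hf7, hf8, hf9, hf10, hf11, hf12, hf13]
      · change ((M : GL14) : Matrix J J F4) *ᵥ (Pi.single (.inr 7) 1 : V14) = Pi.single (.inr 7) 1
        rw [bspan9]
        simp only [mulVec_add, mulVec_smul, hf0, hf1, hf2, hf3, hf4, hf5, hf6, hf7, hf8, hf9, hf10, hf11, hf12, hf13]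
      · change ((M : GL14) : Matrix J J F4) *ᵥ (Pi.single (.inr 8) 1 : V14) = Pi.single (.inr 8) 1
        rw [bspan10]
        simp only [mulVec_add, mulVec_smul, hf0, hf1, hf2, hf3, hf4, hf5, hf6, hf7, hf8, hf9, hf10, hf11, hf12, hf13]
      · change ((M : GL14) : Matrix J J F4) *ᵥ (Pi.single (.inr 9) 1 : V14) = Pi.single (.inr 9) 1
        rw [bspan11]
        simp only [mulVec_add, mulVec_smul, hf0, hf1, hf2, hf3, hf4, hf5, hf6, hf7, hf8, hf9, hf10, hf11, hf12, hf13]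
      · change ((M : GL14) : Matrix J J F4) *ᵥ (Pi.single (.inr 10) 1 : V14) = Pi.single (.inr 10) 1
        rw [bspan12]
        simp only [mulVec_add, mulVec_smul, hf0, hf1, hf2, hf3, hf4, hf5, hf6, hf7, hf8, hf9, hf10, hf11, hf12, hf13]
      · change ((M : GL14) : Matrix J J F4) *ᵥ (Pi.single (.inr 11) 1 : V14) = Pi.single (.inr 11) 1
        rw [bspan13]
        simp only [mulVec_add, mulVec_smul, hf0, hf1, hf2, hf3, hf4, hf5, hf6, hf7, hf8, hf9, hf10, hf11, hf12, hf13]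
  rw [Subgroup.mem_bot]
  apply Subtype.ext
  apply Units.ext
  ext i j
  have h1 := congrFun (hs j) i
  rw [mulVec_single_one] at h1
  rw [Subgroup.coe_one, Units.val_one]
  change ((M : GL14) : Matrix J J F4) i j = _
  rw [Matrix.one_apply]
  have h2 : ((M : GL14) : Matrix J J F4) i j = (Pi.single j 1 : V14) i := h1
  rw [h2, Pi.single_apply]

theorem card_ker : Nat.card αL.ker ≤ 3 := by
  have h0 : Nat.card αL.ker = Nat.card ↥(αL.ker ⊓ stabL ρ ([] : List ℕ)) := by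
    rw [stabL_nil, inf_top_eq]
  have hl : Nat.card ↥(αL.ker ⊓ stabL ρ ([1103, 1023, 383, 336, 319, 271, 255, 67, 63, 23, 19, 15, 3, 0] : List ℕ)) = 1 := by
    rw [klast]
    exact Subgroup.card_bot
  have b1 := kbound1
  have b2 := kbound2
  have b3 := kbound3
  have b4 := kbound4
  have b5 := kbound5
  have b6 := kbound6
  have b7 := kbound7
  have b8 := kbound8
  have b9 := kbound9
  have b10 := kbound10
  have b11 := kbound11
  have b12 := kbound12
  have b13 := kbound13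
  have b14 := kbound14
  omega

end Cfsg.Agent.Lib.H17.G2Ker
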