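import Cfsg.Agent.Lib.H17.G2H
import Cfsg.Agent.Lib.H17.G2Ker
import Cfsg.Agent.Lib.H17.G2Gen

set_option autoImplicit false
set_option maxRecDepth 100000

/-! # The subgroup `⟨a, …, f⟩` of the Suzuki group is isomorphic to `G₂(4)` -/

namespace Cfsg.Agent.Lib.H17.G2Main

open Matrix Cfsg.Agent.Lib.H17.CosetCert Cfsg.Agent.Lib.H17.Sgs Cfsg.Agent.Lib.H17.G2Vec
  Cfsg.Agent.Lib.H17.G2Lam Cfsg.Agent.Lib.H17.G2Lines Cfsg.Agent.Lib.H17.G2Gens
  Cfsg.Agent.Lib.H17.G2Chain Cfsg.Agent.Lib.H17.G2Ker Cfsg.Agent.Lib.H17.G2Gen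
  Cfsg.Agent.Lib.H17.G2H

/-! ## The scalar matrices -/

theorem w_mul_w2 : (F4.w : F4) * F4.w2 = 1 := by decide

theorem w2_mul_w : (F4.w2 : F4) * F4.w = 1 := by decide

theorem w_pow3 : (F4.w : F4) ^ 3 = 1 := by decide

theorem w_pow14 : (F4.w : F4) ^ 14 = F4.w2 := by decide

/-- the scalar matrix `ω` -/
def zG : GL14 :=
  ⟨F4.w • (1 : Matrix J J F4), F4.w2 • (1 : Matrix J J F4),
    by rw [smul_mul_smul_comm, w_mul_w2, one_smul, mul_one],
    by rw [smul_mul_smul_comm, w2_mul_w, one_smul, mul_one]⟩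

theorem zG_val : ((zG : GL14) : Matrix J J F4) = F4.w • (1 : Matrix J J F4) := rfl

theorem zG_mulVec (v : V14) : ((zG : GL14) : Matrix J J F4) *ᵥ v = F4.w • v := by
  rw [zG_val, smul_mulVec, one_mulVec]

theorem zG_mem : zG ∈ A := by
  intro i
  exact ⟨mulw i, by rw [zG_mulVec, factW]⟩

/-- the scalar matrix `ω`, in the group of the long root vectors -/
def zA : A := ⟨zG, zG_mem⟩

theorem ρ_zA (i : Fin 4095) : ρ zA i = mulw i := by
  rw [ρ_apply]
  apply img_unique
  change ((zG : GL14) : Matrix J J F4) *ᵥ vec i = _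
  rw [zG_mulVec, factW]

theorem zA_mem_ker : zA ∈ αL.ker := by
  rw [MonoidHom.mem_ker]
  ext p
  rw [αL_apply, Equiv.Perm.one_apply]
  unfold G2Lines.act
  split_ifs with h
  · rw [ρ_zA, factC, factA p h]
  · rfl

theorem zA_pow3 : zA ^ 3 = 1 := by
  apply Subtype.ext
  apply Units.ext
  rw [Subgroup.coe_pow, Units.val_pow_eq_pow_val, Subgroup.coe_one, Units.val_one]
  change (F4.w • (1 : Matrix J J F4)) ^ 3 = 1
  rw [smul_pow, one_pow, w_pow3, one_smul]

theorem zA_ne_one : zA ≠ 1 := by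
  intro h
  have h1 := congrArg (fun g : A => ρ g ⟨0, by decide⟩) h
  simp only [ρ_zA, map_one, Equiv.Perm.one_apply] at h1
  revert h1
  decide +kernel

theorem orderOf_zA : orderOf zA = 3 :=
  haveI : Fact (Nat.Prime 3) := ⟨by norm_num⟩
  orderOf_eq_prime zA_pow3 zA_ne_one

theorem finite_A : Finite A := inferInstance

attribute [local instance] finite_A

theorem ker_eq : αL.ker = Subgroup.zpowers zA := by
  symm
  apply Subgroup.eq_of_le_of_card_ge
  · rw [Subgroup.zpowers_le]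
    exact zA_mem_ker
  · rw [Nat.card_zpowers, orderOf_zA]
    exact card_ker

/-- the determinant on the group of the long root vectors -/
noncomputable def dA : A →* F4ˣ := Matrix.GeneralLinearGroup.det.comp A.subtype

theorem dA_val (g : A) : ((dA g : F4ˣ) : F4) = ((g : GL14) : Matrix J J F4).det := by
  rw [dA, MonoidHom.comp_apply, Matrix.GeneralLinearGroup.val_det_apply, Subgroup.coe_subtype]

theorem dA_zA_val : ((dA zA : F4ˣ) : F4) = F4.w2 := by
  rw [dA_val]
  change (F4.w • (1 : Matrix J J F4)).det = _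
  rw [det_smul, det_one, mul_one]
  have : Fintype.card J = 14 := by decide
  rw [this, w_pow14]

theorem dA_zA_ne : dA zA ≠ 1 := by
  intro h
  have h1 := congrArg Units.val h
  rw [dA_zA_val, Units.val_one] at h1
  revert h1
  decide

theorem orderOf_dA_zA : orderOf (dA zA) = 3 :=
  haveI : Fact (Nat.Prime 3) := ⟨by norm_num⟩
  orderOf_eq_prime (by rw [← map_pow, zA_pow3, map_one]) dA_zA_ne

/-- the Chevalley group meets the kernel trivially -/
theorem X_inf_ker (g : A) (hX : (g : GL14) ∈ X) (hk : g ∈ αL.ker) : g = 1 := by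
  rw [ker_eq, Subgroup.mem_zpowers_iff] at hk
  obtain ⟨k, rfl⟩ := hk
  have hd : dA (zA ^ k) = 1 := by
    apply Units.ext
    rw [dA_val, Units.val_one]
    exact det_X _ hX
  rw [map_zpow, ← orderOf_dvd_iff_zpow_eq_one, orderOf_dA_zA] at hd
  rw [← orderOf_dvd_iff_zpow_eq_one, orderOf_zA]
  exact hd

/-! ## The action of the Chevalley group on the 1365 points -/

/-- the action of the Chevalley group on the 1365 points -/
noncomputable def αX : X →* Equiv.Perm (Fin 1782) := αL.comp (Subgroup.inclusion X_le_A)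

/-- the six generators -/
def gx : Fin 6 → X
  | 0 => ⟨g0, g0_mem_X⟩
  | 1 => ⟨g1, g1_mem_X⟩
  | 2 => ⟨g2, g2_mem_X⟩
  | 3 => ⟨g3, g3_mem_X⟩
  | 4 => ⟨g4, g4_mem_X⟩
  | 5 => ⟨g5, g5_mem_X⟩

theorem αX_gx (k : Fin 6) : αX (gx k) = σ 11 2048 1782 (rtOf k) := by
  fin_cases k
  · exact αL_ga0
  · exact αL_ga1
  · exact αL_ga2
  · exact αL_ga3
  · exact αL_ga4
  · exact αL_ga5

theorem closure_gx : Subgroup.closure (Set.range gx) = ⊤ := by
  rw [eq_top_iff]
  intro h _
  have hle : T ≤ (Subgroup.closure (Set.range gx)).map X.subtype := by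
    unfold T
    rw [Subgroup.closure_le]
    intro g hg
    simp only [Set.mem_insert_iff, Set.mem_singleton_iff] at hg
    rcases hg with rfl | rfl | rfl | rfl | rfl | rfl
    · exact ⟨gx 0, Subgroup.subset_closure ⟨0, rfl⟩, rfl⟩
    · exact ⟨gx 1, Subgroup.subset_closure ⟨1, rfl⟩, rfl⟩
    · exact ⟨gx 2, Subgroup.subset_closure ⟨2, rfl⟩, rfl⟩
    · exact ⟨gx 3, Subgroup.subset_closure ⟨3, rfl⟩, rfl⟩
    · exact ⟨gx 4, Subgroup.subset_closure ⟨4, rfl⟩, rfl⟩
    · exact ⟨gx 5, Subgroup.subset_closure ⟨5, rfl⟩, rfl⟩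
  obtain ⟨k, hk, hkh⟩ := hle (X_le_T h.2)
  have : k = h := Subtype.ext hkh
  rw [← this]
  exact hk

theorem range_αX : αX.range = P2 := by
  rw [MonoidHom.range_eq_map, ← closure_gx]
  exact map_closure_eq_P2 αX gx αX_gx

theorem αX_injective : Function.Injective αX := by
  rw [← MonoidHom.ker_eq_bot_iff, eq_bot_iff]
  intro x hx
  rw [Subgroup.mem_bot]
  have h1 := X_inf_ker (Subgroup.inclusion X_le_A x) x.2 hx
  apply Subtype.ext
  exact congrArg (fun g : A => (g : GL14)) h1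

/-- the Chevalley group is isomorphic to `P2` -/
noncomputable def isoX : X ≃* P2 := isoOfHom αX αX_injective range_αX

theorem main : Nonempty (K ≃* Cfsg.Lie.chevG2.group F4) :=
  ⟨isoK.trans isoX.symm⟩

end Cfsg.Agent.Lib.H17.G2Main
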