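import Cfsg.Agent.Lib.H17.CosetPerm

set_option autoImplicit false

/-! # Restriction of a permutation action to an invariant set of points given by a mask -/

namespace Cfsg.Agent.Lib.H17.RestrictPerm

open Cfsg.Agent.Lib.H17.CosetCert

variable {K : Type*} [Group K] {n : ℕ} (ψ : K →* Equiv.Perm (Fin n)) (mask : ℕ)
  (hinv : ∀ k : K, ∀ i : Fin n, tb mask i = true → tb mask (ψ k i) = true)

/-- the action on the masked points, the other points being fixed -/
noncomputable def restr : K →* Equiv.Perm (Fin n) where
  toFun k :=
    { toFun := fun i => if tb mask i = true then ψ k i else i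
      invFun := fun i => if tb mask i = true then ψ k⁻¹ i else i
      left_inv := fun i => by
        by_cases h : tb mask i = true
        · have h2 := hinv k i h
          simp only [if_pos h, if_pos h2, map_inv]
          exact Equiv.symm_apply_apply (ψ k) i
        · simp only [if_neg h]
      right_inv := fun i => by
        by_cases h : tb mask i = true
        · have h2 := hinv k⁻¹ i h
          rw [map_inv] at h2
          simp only [if_pos h, map_inv, if_pos h2]
          exact Equiv.apply_symm_apply (ψ k) i
        · simp only [if_neg h] }
  map_one' := by
    ext i
    simp only [Equiv.coe_fn_mk, map_one, Equiv.Perm.one_apply, ite_self]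
  map_mul' a b := by
    ext i
    simp only [Equiv.coe_fn_mk, Equiv.Perm.mul_apply, map_mul]
    by_cases h : tb mask i = true
    · simp only [if_pos h, if_pos (hinv b i h)]
    · simp only [if_neg h]

theorem restr_apply (k : K) (i : Fin n) :
    restr ψ mask hinv k i = if tb mask i = true then ψ k i else i := rfl

theorem restr_apply_of_mem (k : K) (i : Fin n) (h : tb mask i = true) :
    restr ψ mask hinv k i = ψ k i := by
  rw [restr_apply, if_pos h]

theorem restr_apply_of_not_mem (k : K) (i : Fin n) (h : ¬ tb mask i = true) :
    restr ψ mask hinv k i = i := by
  rw [restr_apply, if_neg h]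

end Cfsg.Agent.Lib.H17.RestrictPerm
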