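import Cfsg.Agent.Lib.H17.G2Chain
import Cfsg.Agent.Lib.H17.RestrictPerm
import Cfsg.Agent.Lib.H17.SuzG24.Lower
import Cfsg.Agent.Lib.H17.SuzOrd.Order

set_option autoImplicit false
set_option maxRecDepth 100000

/-! # The subgroup `⟨a, …, f⟩` of the Suzuki group acts faithfully on 1365 points

Its image is the group `P2` generated by the six tables. -/

namespace Cfsg.Agent.Lib.H17.G2H

open Cfsg.Spor Cfsg.Agent.Lib.H17.CosetCert Cfsg.Agent.Lib.H17.Sgs Cfsg.Agent.Lib.H17.SuzGlue
  Cfsg.Agent.Lib.H17.SuzG24 Cfsg.Agent.Lib.H17.G2Lines Cfsg.Agent.Lib.H17.G2Gens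
  Cfsg.Agent.Lib.H17.G2Chain Cfsg.Agent.Lib.H17.RestrictPerm

attribute [local instance] Cfsg.Agent.Lib.H17.SuzOrd.finite_G

/-! ## Homomorphisms onto `P2` -/

theorem card_range_mul_ker {B : Type*} [Group B] (f : B →* Equiv.Perm (Fin 1782)) :
    Nat.card f.range * Nat.card f.ker = Nat.card B := by
  rw [← Subgroup.index_ker, mul_comm]
  exact Subgroup.card_mul_index f.ker

/-- a group with an injective homomorphism onto `P2` is isomorphic to it -/
noncomputable def isoOfHom {B : Type*} [Group B] (f : B →* Equiv.Perm (Fin 1782))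
    (hinj : Function.Injective f) (hr : f.range = P2) : B ≃* P2 :=
  (MonoidHom.ofInjective hinj).trans (MulEquiv.subgroupCongr hr)

/-! ## The subgroup -/

/-- the subgroup `⟨a, …, f⟩` -/
abbrev K : Subgroup G := Cfsg.Agent.Lib.H17.SuzG24.H

theorem card_K : Nat.card K = 251596800 := by
  have h := Subgroup.index_mul_card K
  rw [Cfsg.Agent.Lib.H17.SuzG24.index_eq, Cfsg.Agent.Lib.H17.SuzOrd.card_eq] at h
  omega

theorem K_eq : (K : Subgroup G) =
    Subgroup.closure ((PresentedGroup.mk rels) '' Cfsg.Agent.Lib.H17.SuzG24.S) :=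
  MonoidHom.map_closure _ _

theorem of_mem_K (x : ℕ) (hx : x < 6) : (PresentedGroup.of (gen x) : G) ∈ K := by
  interval_cases x
  · exact Subgroup.mem_map_of_mem _ (Subgroup.subset_closure Cfsg.Agent.Lib.H17.SuzG24.sg0_mem)
  · exact Subgroup.mem_map_of_mem _ (Subgroup.subset_closure Cfsg.Agent.Lib.H17.SuzG24.sg1_mem)
  · exact Subgroup.mem_map_of_mem _ (Subgroup.subset_closure Cfsg.Agent.Lib.H17.SuzG24.sg2_mem)
  · exact Subgroup.mem_map_of_mem _ (Subgroup.subset_closure Cfsg.Agent.Lib.H17.SuzG24.sg3_mem)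
  · exact Subgroup.mem_map_of_mem _ (Subgroup.subset_closure Cfsg.Agent.Lib.H17.SuzG24.sg4_mem)
  · exact Subgroup.mem_map_of_mem _ (Subgroup.subset_closure Cfsg.Agent.Lib.H17.SuzG24.sg5_mem)

/-- the six generators -/
noncomputable def kg (k : Fin 6) : K := ⟨PresentedGroup.of (gen k.val), of_mem_K k.val k.2⟩

theorem kg_val (k : Fin 6) : ((kg k : K) : G) = PresentedGroup.of (gen k.val) := rfl

theorem closure_kg : Subgroup.closure (Set.range kg) = ⊤ := by
  rw [eq_top_iff]
  intro h _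
  have hle : Subgroup.closure ((PresentedGroup.mk rels) '' Cfsg.Agent.Lib.H17.SuzG24.S) ≤
      (Subgroup.closure (Set.range kg)).map K.subtype := by
    rw [Subgroup.closure_le]
    rintro _ ⟨s, hs, rfl⟩
    simp only [Cfsg.Agent.Lib.H17.SuzG24.S, Set.mem_insert_iff, Set.mem_singleton_iff] at hs
    rcases hs with rfl | rfl | rfl | rfl | rfl | rfl
    · exact ⟨kg 0, Subgroup.subset_closure ⟨0, rfl⟩, kg_val 0⟩
    · exact ⟨kg 1, Subgroup.subset_closure ⟨1, rfl⟩, kg_val 1⟩
    · exact ⟨kg 2, Subgroup.subset_closure ⟨2, rfl⟩, kg_val 2⟩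
    · exact ⟨kg 3, Subgroup.subset_closure ⟨3, rfl⟩, kg_val 3⟩
    · exact ⟨kg 4, Subgroup.subset_closure ⟨4, rfl⟩, kg_val 4⟩
    · exact ⟨kg 5, Subgroup.subset_closure ⟨5, rfl⟩, kg_val 5⟩
  have hh : (h : G) ∈
      Subgroup.closure ((PresentedGroup.mk rels) '' Cfsg.Agent.Lib.H17.SuzG24.S) := by
    rw [← K_eq]
    exact h.2
  obtain ⟨k, hk, hkh⟩ := hle hh
  have : k = h := Subtype.ext hkh
  rw [← this]
  exact hk

/-! ## The action on the 1365 points -/

/-- the action on the 1782 points -/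
noncomputable def ψK : K →* Equiv.Perm (Fin 1782) := φ.comp K.subtype

theorem φ_gen_apply (x : ℕ) (i : Fin 1782) :
    ((φ (PresentedGroup.of (gen x)) i : Fin 1782) : ℕ) = lk 11 2048 (tabOf (gen x)) i := by
  rw [φ_of]
  exact σ_apply 11 2048 1782 _ (good_tabs _ (tabOf_mem _)) i

theorem gen_closed : ∀ k : Fin 6, ∀ i : Fin 1782, tb DM i = true →
    tb DM (lk 11 2048 (tabOf (gen k.val)) i) = true := by
  decide +kernel

theorem K_inv (h : K) (i : Fin 1782) (hi : tb DM i = true) : tb DM (ψK h i) = true := by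
  have key : ∀ g ∈ Subgroup.closure (Set.range kg), ∀ i ∈ {i : Fin 1782 | tb DM i = true},
      ψK g i ∈ {i : Fin 1782 | tb DM i = true} := by
    intro g hg
    induction hg using Subgroup.closure_induction with
    | mem s hs =>
      obtain ⟨k, rfl⟩ := hs
      intro i hi
      change tb DM ((φ ((kg k : K) : G) i : Fin 1782) : ℕ) = true
      rw [kg_val, φ_gen_apply]
      exact gen_closed k i hi
    | one => intro i hi; rw [map_one]; exact hi
    | mul a b _ _ iha ihb =>
      intro i hi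
      rw [map_mul, Equiv.Perm.mul_apply]
      exact iha _ (ihb _ hi)
    | inv a _ iha =>
      intro i hi
      rw [map_inv]
      exact perm_inv_stable (ψK a) _ iha i hi
  exact key h (by rw [closure_kg]; trivial) i hi

/-- the action on the 1365 points -/
noncomputable def αK : K →* Equiv.Perm (Fin 1782) := restr ψK DM K_inv

/-- the tables of the six generators on the 1365 points -/
def rtOf : ℕ → ℕ
  | 0 => RT0
  | 1 => RT1
  | 2 => RT2
  | 3 => RT3
  | 4 => RT4
  | _ => RT5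

theorem rtOf_mem : ∀ k : Fin 6, rtOf k ∈ rtabs := by decide

theorem rt_check : ∀ k : Fin 6, ∀ i : Fin 1782,
    (if tb DM i = true then lk 11 2048 (tabOf (gen k.val)) i else (i : ℕ)) =
      lk 11 2048 (rtOf k) i := by
  decide +kernel

theorem αK_kg (k : Fin 6) : αK (kg k) = σ 11 2048 1782 (rtOf k) := by
  ext i
  rw [σ_apply 11 2048 1782 _ (good_rtabs _ (rtOf_mem k)), ← rt_check k i]
  by_cases h : tb DM i = true
  · rw [if_pos h, αK, restr_apply_of_mem _ _ _ _ _ h]
    change ((φ ((kg k : K) : G) i : Fin 1782) : ℕ) = _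
    rw [kg_val, φ_gen_apply]
  · rw [if_neg h, αK, restr_apply_of_not_mem _ _ _ _ _ h]

/-- the image of a group generated by six elements acting by the six tables is `P2` -/
theorem map_closure_eq_P2 {B : Type*} [Group B] (f : B →* Equiv.Perm (Fin 1782)) (g : Fin 6 → B)
    (hg : ∀ k, f (g k) = σ 11 2048 1782 (rtOf k)) :
    (Subgroup.closure (Set.range g)).map f = P2 := by
  rw [MonoidHom.map_closure, P2]
  congr 1
  ext p
  constructor
  · rintro ⟨_, ⟨k, rfl⟩, rfl⟩
    exact ⟨rtOf k, rtOf_mem k, hg k⟩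
  · rintro ⟨t, ht, rfl⟩
    simp only [rtabs, List.mem_cons, List.not_mem_nil, or_false] at ht
    rcases ht with rfl | rfl | rfl | rfl | rfl | rfl
    · exact ⟨g 0, ⟨0, rfl⟩, hg 0⟩
    · exact ⟨g 1, ⟨1, rfl⟩, hg 1⟩
    · exact ⟨g 2, ⟨2, rfl⟩, hg 2⟩
    · exact ⟨g 3, ⟨3, rfl⟩, hg 3⟩
    · exact ⟨g 4, ⟨4, rfl⟩, hg 4⟩
    · exact ⟨g 5, ⟨5, rfl⟩, hg 5⟩

theorem range_αK : αK.range = P2 := by
  rw [MonoidHom.range_eq_map, ← closure_kg]
  exact map_closure_eq_P2 αK kg αK_kg

theorem finite_K : Finite K := inferInstance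

theorem αK_facts : Nat.card P2 = 251596800 ∧ Nat.card αK.ker = 1 := by
  have h1 := card_range_mul_ker αK
  rw [card_K, range_αK] at h1
  have h2 := card_P2_ge
  have h3 : 0 < Nat.card αK.ker := Nat.card_pos
  constructor <;> nlinarith

theorem card_P2 : Nat.card P2 = 251596800 := αK_facts.1

theorem αK_injective : Function.Injective αK := by
  rw [← MonoidHom.ker_eq_bot_iff]
  exact Subgroup.card_eq_one.mp αK_facts.2

/-- the subgroup is isomorphic to `P2` -/
noncomputable def isoK : K ≃* P2 := isoOfHom αK αK_injective range_αK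

end Cfsg.Agent.Lib.H17.G2H
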