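import Mathlib
import Cfsg.Agent.Lib.H8.BQ0

/-!
S4719 Part II, piece QD (helper17): normalizing passes to the quotient `QΓ X = N_Γ(X)/X` of `H8.BQ0`.
-/

set_option autoImplicit false

universe u

namespace Cfsg.Agent.Lib.H17.BQ

open Subgroup Cfsg.Agent.Lib.H8.BQ

/-- QD. Normalizing passes to the quotient. -/
theorem qImg_le_normalizer {Γ : Type u} [Group Γ] (X H K : Subgroup Γ)
    (hKX : K ≤ normalizer (X : Set Γ)) (hKH : K ≤ normalizer (H : Set Γ)) :
    qImg X K ≤ normalizer ((qImg X H : Subgroup (QΓ X)) : Set (QΓ X)) := by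
  unfold qImg
  refine le_trans (map_mono ?_) (le_normalizer_map (qMap X))
  refine le_trans ?_ (le_normalizer_comap _)
  exact comap_mono hKH

end Cfsg.Agent.Lib.H17.BQ
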