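import Mathlib
import Cfsg.Agent.Lib.H8.BQ0

/-!
S4719 Part II, piece QE (helper17): lifting an invariant subgroup of the quotient `QΓ X = N_Γ(X)/X` of `H8.BQ0`.
-/

set_option autoImplicit false

universe u

namespace Cfsg.Agent.Lib.H17.BQ

open Subgroup Cfsg.Agent.Lib.H8.BQ

theorem qMap_surjective {Γ : Type u} [Group Γ] (X : Subgroup Γ) : Function.Surjective (qMap X) :=
  QuotientGroup.mk'_surjective _

theorem ker_qMap {Γ : Type u} [Group Γ] (X : Subgroup Γ) :
    (qMap X).ker = X.subgroupOf (normalizer (X : Set Γ)) :=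
  QuotientGroup.ker_mk' _

/-- The full preimage in `Γ` of a subgroup of the quotient. -/
def qLift {Γ : Type u} [Group Γ] (X : Subgroup Γ) (Y' : Subgroup (QΓ X)) : Subgroup Γ :=
  (Y'.comap (qMap X)).map (normalizer (X : Set Γ)).subtype

theorem le_qLift {Γ : Type u} [Group Γ] (X : Subgroup Γ) (Y' : Subgroup (QΓ X)) :
    X ≤ qLift X Y' := by
  intro x hx
  refine ⟨⟨x, le_normalizer hx⟩, ?_, rfl⟩
  show qMap X ⟨x, le_normalizer hx⟩ ∈ Y'
  have : (⟨x, le_normalizer hx⟩ : normalizer (X : Set Γ)) ∈ (qMap X).ker := by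
    rw [ker_qMap]; exact hx
  rw [MonoidHom.mem_ker.mp this]
  exact one_mem _

theorem card_qLift {Γ : Type u} [Group Γ] (X : Subgroup Γ) (Y' : Subgroup (QΓ X)) :
    Nat.card (qLift X Y') = Nat.card Y' * Nat.card X := by
  unfold qLift
  rw [card_map_of_injective (subtype_injective _)]
  set Z := Y'.comap (qMap X) with hZ
  have hXZ : X.subgroupOf (normalizer (X : Set Γ)) ≤ Z := by
    have h := ker_le_comap (qMap X) Y'
    rwa [ker_qMap] at h
  have h1 : (X.subgroupOf (normalizer (X : Set Γ))).relIndex Z = Nat.card Y' := by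
    have h := relIndex_ker (qMap X) (K := Z)
    rw [hZ, map_comap_eq_self_of_surjective (qMap_surjective X), ker_qMap] at h
    exact h
  have h2 := relIndex_mul_relIndex ⊥ (X.subgroupOf (normalizer (X : Set Γ))) Z bot_le hXZ
  rw [relIndex_bot_left, relIndex_bot_left, h1] at h2
  rw [← h2, mul_comm]
  congr 1
  exact Nat.card_congr (subgroupOfEquivOfLe le_normalizer).toEquiv

theorem qLift_le {Γ : Type u} [Group Γ] (X G : Subgroup Γ) (hXG : X ≤ G)
    (Y' : Subgroup (QΓ X)) (hY'G : Y' ≤ qImg X G) : qLift X Y' ≤ G := by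
  rintro _ ⟨k, hk, rfl⟩
  have hk' : qMap X k ∈ Y' := hk
  obtain ⟨g', hg', hgk⟩ := hY'G hk'
  -- `g'⁻¹ * k ∈ X`
  have hmem : g'⁻¹ * k ∈ (qMap X).ker := by
    rw [MonoidHom.mem_ker, map_mul, map_inv, hgk, inv_mul_cancel]
  rw [ker_qMap] at hmem
  have hx : ((g'⁻¹ * k : normalizer (X : Set Γ)) : Γ) ∈ X := hmem
  have hg : (g' : Γ) ∈ G := hg'
  have : ((normalizer (X : Set Γ)).subtype k : Γ) = (g' : Γ) * ((g'⁻¹ * k : normalizer (X : Set Γ)) : Γ) := by
    simp
  rw [this]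
  exact G.mul_mem hg (hXG hx)

theorem le_normalizer_qLift {Γ : Type u} [Group Γ] (X K : Subgroup Γ)
    (hKX : K ≤ normalizer (X : Set Γ)) (Y' : Subgroup (QΓ X))
    (hKY' : qImg X K ≤ normalizer (Y' : Set (QΓ X))) :
    K ≤ normalizer ((qLift X Y' : Subgroup Γ) : Set Γ) := by
  have h1 : K.subgroupOf (normalizer (X : Set Γ)) ≤
      normalizer ((Y'.comap (qMap X) : Subgroup _) : Set _) := by
    refine le_trans ?_ (le_normalizer_comap (qMap X))
    refine le_trans (le_comap_map (qMap X) _) ?_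
    exact comap_mono hKY'
  have h2 := map_mono (f := (normalizer (X : Set Γ)).subtype) h1
  rw [map_subgroupOf_eq_of_le hKX] at h2
  exact le_trans h2 (le_normalizer_map _)

/-- QE. Lifting an invariant subgroup of the quotient. -/
theorem exists_lift {Γ : Type u} [Group Γ] [Finite Γ] (X G V : Subgroup Γ) (hXG : X ≤ G)
    (hGX : G ≤ normalizer (X : Set Γ)) (hVX : V ≤ normalizer (X : Set Γ))
    (Y' : Subgroup (QΓ X)) (hY'G : Y' ≤ qImg X G)
    (hGY' : qImg X G ≤ normalizer (Y' : Set (QΓ X)))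
    (hVY' : qImg X V ≤ normalizer (Y' : Set (QΓ X))) :
    ∃ Y : Subgroup Γ, X ≤ Y ∧ Y ≤ G ∧ G ≤ normalizer (Y : Set Γ) ∧ V ≤ normalizer (Y : Set Γ) ∧
      Nat.card Y = Nat.card Y' * Nat.card X :=
  ⟨qLift X Y', le_qLift X Y', qLift_le X G hXG Y' hY'G, le_normalizer_qLift X G hGX Y' hGY',
    le_normalizer_qLift X V hVX Y' hVY', card_qLift X Y'⟩

end Cfsg.Agent.Lib.H17.BQ
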