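/-
S5663 project (unitary Aschbacher), module UM1 (helper17): a reducible subgroup of `GU_n(q)` stabilises a
totally singular subspace, a non-degenerate subspace of dimension `< n/2`, or a non-degenerate decomposition
`W ⊕ W^⊥` into two halves.
-/
import Cfsg.Agent.Lib.Lead.AschUDefs
import Cfsg.Agent.Lib.H11.UnitaryFrames

set_option autoImplicit false

namespace Cfsg.Agent.Lib.H17.Asch

open Cfsg Cfsg.Geo Cfsg.Agent.Lib.Lead.Asch Cfsg.Agent.Lib.H11.UFrames
open scoped MatrixGroups Matrix Kronecker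

variable {F : Type*} [Field F] [Fintype F] {n q : ℕ}

/-- `x ↦ x ^ q` as a ring homomorphism when `|F| = q ^ 2`. -/
noncomputable def frobQ (hF : Fintype.card F = q ^ 2) : F →+* F where
  toFun x := x ^ q
  map_one' := one_pow q
  map_mul' x y := mul_pow x y q
  map_zero' := zero_pow (by have := Cfsg.Agent.Lib.H2.Herm.two_le_q hF; omega)
  map_add' x y := Cfsg.Agent.Lib.H2.Herm.add_pow_q hF x y

theorem frobQ_apply (hF : Fintype.card F = q ^ 2) (x : F) : frobQ hF x = x ^ q := rfl

theorem frobQ_frobQ (hF : Fintype.card F = q ^ 2) (x : F) : frobQ hF (frobQ hF x) = x :=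
  Cfsg.Agent.Lib.H2.Herm.pow_q_pow_q hF x

theorem frobQ_surjective (hF : Fintype.card F = q ^ 2) : Function.Surjective (frobQ hF) :=
  fun x => ⟨frobQ hF x, frobQ_frobQ hF x⟩

/-- The hermitian form with the arguments swapped, bundled: `Bq u v = Σ v_i u_i^q = hermForm v u`. -/
noncomputable def Bq (hF : Fintype.card F = q ^ 2) (n : ℕ) :
    (Fin n → F) →ₛₗ[frobQ hF] (Fin n → F) →ₗ[F] F :=
  LinearMap.mk₂'ₛₗ (frobQ hF) (RingHom.id F) (fun u v => ∑ i, v i * frobQ hF (u i))
    (fun u u' v => by simp [mul_add, Finset.sum_add_distrib])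
    (fun c u v => by simp [Finset.mul_sum, mul_left_comm])
    (fun u v v' => by simp [add_mul, Finset.sum_add_distrib])
    (fun c u v => by simp [Finset.mul_sum, mul_assoc])

theorem Bq_apply (hF : Fintype.card F = q ^ 2) (u v : Fin n → F) :
    Bq hF n u v = hermForm n F q v u := rfl

theorem herm_symm (hF : Fintype.card F = q ^ 2) (u v : Fin n → F) :
    hermForm n F q v u = (hermForm n F q u v) ^ q := by
  unfold hermForm
  rw [← frobQ_apply hF, map_sum]
  refine Finset.sum_congr rfl fun i _ => ?_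
  rw [map_mul, frobQ_apply hF (v i ^ q), Cfsg.Agent.Lib.H2.Herm.pow_q_pow_q hF, frobQ_apply, mul_comm]

theorem herm_eq_zero_comm (hF : Fintype.card F = q ^ 2) {u v : Fin n → F}
    (h : hermForm n F q u v = 0) : hermForm n F q v u = 0 := by
  rw [herm_symm hF, h, zero_pow]
  have := Cfsg.Agent.Lib.H2.Herm.two_le_q hF; omega

theorem Bq_symm (hF : Fintype.card F = q ^ 2) : (Bq hF n).IsSymm := by
  refine ⟨fun u v => ?_⟩
  rw [Bq_apply, Bq_apply, frobQ_apply]
  exact (herm_symm hF v u).symm

theorem Bq_nondeg (hF : Fintype.card F = q ^ 2) : (Bq hF n).Nondegenerate := by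
  have key : ∀ v : Fin n → F, (∀ u, hermForm n F q u v = 0) → v = 0 := by
    intro v hv
    funext i
    have h1 := hv (Pi.single i 1)
    unfold hermForm at h1
    simp only [Pi.single_apply, ite_mul, one_mul, zero_mul, Finset.sum_ite_eq', Finset.mem_univ,
      if_true] at h1
    simpa using pow_eq_zero_iff (n := q) (by
      have := Cfsg.Agent.Lib.H2.Herm.two_le_q hF; omega) |>.mp h1
  constructor
  · intro u hu
    exact key u fun v => by rw [← Bq_apply hF]; exact hu v
  · intro v hv
    exact key v fun u => herm_eq_zero_comm hF (by rw [← Bq_apply hF]; exact hv u)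

/-- The orthogonal complement of `W` for the hermitian form: `{v | ∀ w ∈ W, hermForm v w = 0}`. -/
noncomputable def perpQ (hF : Fintype.card F = q ^ 2) (W : Submodule F (Fin n → F)) :
    Submodule F (Fin n → F) := orth (Bq hF n) W

theorem mem_perpQ (hF : Fintype.card F = q ^ 2) (W : Submodule F (Fin n → F)) (v : Fin n → F) :
    v ∈ perpQ hF W ↔ ∀ w ∈ W, hermForm n F q v w = 0 := Iff.rfl

theorem mem_perpQ' (hF : Fintype.card F = q ^ 2) (W : Submodule F (Fin n → F)) (v : Fin n → F) :
    v ∈ perpQ hF W ↔ ∀ w ∈ W, hermForm n F q w v = 0 :=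
  ⟨fun h w hw => herm_eq_zero_comm hF (h w hw), fun h w hw => herm_eq_zero_comm hF (h w hw)⟩

theorem finrank_perpQ (hF : Fintype.card F = q ^ 2) (W : Submodule F (Fin n → F)) :
    Module.finrank F (perpQ hF W) = n - Module.finrank F W := by
  unfold perpQ
  rw [finrank_orth (frobQ_surjective hF) (Bq hF n) (Bq_nondeg hF) W, Module.finrank_fin_fun]

theorem perpQ_perpQ (hF : Fintype.card F = q ^ 2) (W : Submodule F (Fin n → F)) :
    perpQ hF (perpQ hF W) = W :=
  orth_orth (frobQ_surjective hF) (Bq_symm hF) (Bq_nondeg hF) W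

/-- A subspace meeting its orthogonal complement trivially is non-degenerate. -/
theorem nondegenerateOn_of_inf_perpQ (hF : Fintype.card F = q ^ 2) (W : Submodule F (Fin n → F))
    (h : W ⊓ perpQ hF W = ⊥) : IsNondegenerateOn (hermForm n F q) W := by
  intro w hw hw0
  have key : ¬ ∀ x ∈ W, hermForm n F q w x = 0 := by
    intro hall
    apply hw0
    have : w ∈ W ⊓ perpQ hF W := ⟨hw, (mem_perpQ hF W w).mpr hall⟩
    rw [h] at this
    exact (Submodule.mem_bot F).mp this
  push Not at key
  obtain ⟨x, hx, hne⟩ := key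
  refine ⟨⟨x, hx, fun h0 => hne (herm_eq_zero_comm hF h0)⟩, ⟨x, hx, hne⟩⟩

/-- A family of matrices mapping `X` into itself, closed under inverses, stabilises `X`. -/
theorem le_subspaceStabilizer_of_forall (H : Subgroup (GL (Fin n) F)) (X : Submodule F (Fin n → F))
    (h : ∀ g ∈ H, ∀ v ∈ X, (g : Matrix (Fin n) (Fin n) F) *ᵥ v ∈ X) : H ≤ subspaceStabilizer X := by
  intro g hg v
  change v ∈ X ↔ (g : Matrix (Fin n) (Fin n) F) *ᵥ v ∈ X
  constructor
  · exact h g hg v
  · intro hv
    have h2 := h g⁻¹ (H.inv_mem hg) _ hv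
    rw [Matrix.mulVec_mulVec, ← Units.val_mul, inv_mul_cancel, Units.val_one, Matrix.one_mulVec] at h2
    exact h2

theorem map_eq_of_forall (H : Subgroup (GL (Fin n) F)) (X : Submodule F (Fin n → F))
    (h : ∀ g ∈ H, ∀ v ∈ X, (g : Matrix (Fin n) (Fin n) F) *ᵥ v ∈ X) (g : GL (Fin n) F) (hg : g ∈ H) :
    X.map (Matrix.toLin' (g : Matrix (Fin n) (Fin n) F)) = X := by
  apply le_antisymm
  · rintro _ ⟨v, hv, rfl⟩
    rw [Matrix.toLin'_apply]
    exact h g hg v hv
  · intro v hv
    refine ⟨((g⁻¹ : GL (Fin n) F) : Matrix (Fin n) (Fin n) F) *ᵥ v, h g⁻¹ (H.inv_mem hg) v hv, ?_⟩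
    rw [Matrix.toLin'_apply, Matrix.mulVec_mulVec, ← Units.val_mul, mul_inv_cancel, Units.val_one,
      Matrix.one_mulVec]

/-- The orthogonal complement of an invariant subspace of a subgroup of `GU` is invariant. -/
theorem perpQ_invariant (hF : Fintype.card F = q ^ 2) (H : Subgroup (GL (Fin n) F))
    (hH : H ≤ GU n F q) (W : Submodule F (Fin n → F))
    (h : ∀ g ∈ H, ∀ v ∈ W, (g : Matrix (Fin n) (Fin n) F) *ᵥ v ∈ W) :
    ∀ g ∈ H, ∀ v ∈ perpQ hF W, (g : Matrix (Fin n) (Fin n) F) *ᵥ v ∈ perpQ hF W := by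
  intro g hg v hv
  rw [mem_perpQ] at hv ⊢
  intro w hw
  have h1 := hv _ (h g⁻¹ (H.inv_mem hg) w hw)
  have h2 : hermForm n F q ((g : Matrix (Fin n) (Fin n) F) *ᵥ v)
      ((g : Matrix (Fin n) (Fin n) F) *ᵥ (((g⁻¹ : GL (Fin n) F) : Matrix (Fin n) (Fin n) F) *ᵥ w)) =
      hermForm n F q v (((g⁻¹ : GL (Fin n) F) : Matrix (Fin n) (Fin n) F) *ᵥ w) := hH hg _ _
  rw [Matrix.mulVec_mulVec, ← Units.val_mul, mul_inv_cancel, Units.val_one, Matrix.one_mulVec, h1] at h2
  exact h2

/-- **UM1** reducible ⇒ class 1, or (W non-degenerate of dimension n/2) class 2. -/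
theorem utame_of_reducible (hF : Fintype.card F = q ^ 2) (H : Subgroup (GL (Fin n) F))
    (hH : H ≤ GU n F q) (h : ¬ ActsIrreducibly (matrixSet H)) : UC1 q H ∨ UC2a q H := by
  unfold ActsIrreducibly at h
  push Not at h
  obtain ⟨W, hW, hbot, htop⟩ := h
  have key : ∀ g ∈ H, ∀ v ∈ W, (g : Matrix (Fin n) (Fin n) F) *ᵥ v ∈ W := by
    intro g hg v hv
    have h1 := hW (g : Matrix (Fin n) (Fin n) F) ⟨g, hg, rfl⟩
    apply h1
    exact ⟨v, hv, by simp [Matrix.toLin'_apply]⟩
  have keyP := perpQ_invariant hF H hH W key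
  by_cases hrad : W ⊓ perpQ hF W = ⊥
  · -- `W` is non-degenerate
    have hndW := nondegenerateOn_of_inf_perpQ hF W hrad
    have hndP : IsNondegenerateOn (hermForm n F q) (perpQ hF W) := by
      apply nondegenerateOn_of_inf_perpQ hF
      rw [perpQ_perpQ, inf_comm]
      exact hrad
    have hdP := finrank_perpQ hF W
    have hdW : Module.finrank F W < n := by
      have h1 := Submodule.finrank_lt htop
      rwa [Module.finrank_fin_fun] at h1
    have hdW0 : 0 < Module.finrank F W := by
      rw [Module.finrank_pos_iff_exists_ne_zero]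
      obtain ⟨w, hw, hw0⟩ := (Submodule.ne_bot_iff W).mp hbot
      exact ⟨⟨w, hw⟩, fun h0 => hw0 (congrArg Subtype.val h0)⟩
    rcases lt_trichotomy (2 * Module.finrank F W) n with hlt | heq | hgt
    · exact Or.inl (Or.inr ⟨W, hbot, hndW, hlt, le_subspaceStabilizer_of_forall H W key⟩)
    · -- the decomposition `W ⊕ W^⊥`
      right
      refine ⟨2, Module.finrank F W, ![W, perpQ hF W], ⟨⟨le_refl 2, hdW0, ?_, ?_, ?_⟩, ?_, ?_⟩, ?_⟩
      · intro i
        fin_cases i
        · rfl
        · change Module.finrank F (perpQ hF W) = Module.finrank F W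
          omega
      · rw [iSupIndep_pair (i := (0 : Fin 2)) (j := 1) (by decide) (by
          intro k; fin_cases k <;> simp)]
        exact disjoint_iff.mpr hrad
      · have hsup : W ⊔ perpQ hF W = ⊤ := by
          apply Submodule.eq_top_of_finrank_eq
          have h1 := Submodule.finrank_sup_add_finrank_inf_eq W (perpQ hF W)
          rw [hrad, finrank_bot, add_zero] at h1
          rw [h1, Module.finrank_fin_fun]
          omega
        apply le_antisymm le_top
        rw [← hsup]
        exact sup_le (le_iSup ![W, perpQ hF W] 0) (le_iSup ![W, perpQ hF W] 1)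
      · intro i
        fin_cases i
        · exact hndW
        · exact hndP
      · intro i j hij
        fin_cases i <;> fin_cases j
        · exact absurd rfl hij
        · intro u hu v hv
          exact (mem_perpQ' hF W v).mp hv u hu
        · intro u hu v hv
          exact (mem_perpQ hF W u).mp hu v hv
        · exact absurd rfl hij
      · intro g hg
        refine ⟨1, fun i => ?_⟩
        fin_cases i
        · exact map_eq_of_forall H W key g hg
        · exact map_eq_of_forall H (perpQ hF W) keyP g hg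
    · refine Or.inl (Or.inr ⟨perpQ hF W, ?_, hndP, by omega,
        le_subspaceStabilizer_of_forall H _ keyP⟩)
      intro h0
      rw [h0, finrank_bot] at hdP
      omega
  · -- the radical is a non-zero totally singular invariant subspace
    refine Or.inl (Or.inl ⟨W ⊓ perpQ hF W, hrad, ?_, ?_⟩)
    · intro u hu v hv
      exact (mem_perpQ hF W u).mp hu.2 v hv.1
    · apply le_subspaceStabilizer_of_forall
      intro g hg v hv
      exact ⟨key g hg v hv.1, keyP g hg v hv.2⟩

end Cfsg.Agent.Lib.H17.Asch
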