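import Mathlib

set_option autoImplicit false

/-!
# Certified coset tables for presented groups

A small kernel-checkable certificate format proving that the cosets `H w_i` of a subgroup `H`
of a presented group cover the group (hence an upper bound for the index / order).
-/

namespace Cfsg.Agent.Lib.H17.PresCert

variable {α : Type*} [DecidableEq α]

/-- words over `α` -/
abbrev Word (α : Type*) := List (α × Bool)

/-- the `r`-th word of a list, or its inverse -/
def pick (L : List (Word α)) (r : ℕ) (b : Bool) : Word α :=
  if b then (L[r]?).getD [] else FreeGroup.invRev ((L[r]?).getD [])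

/-- a product of conjugates of (signed) relators -/
def certWord (relW : List (Word α)) : List (Word α × ℕ × Bool) → Word α
  | [] => []
  | (g, r, b) :: c => g ++ pick relW r b ++ FreeGroup.invRev g ++ certWord relW c

/-- a product of signed words from a list -/
def prodWord (L : List (Word α)) : List (ℕ × Bool) → Word α
  | [] => []
  | (r, b) :: c => pick L r b ++ prodWord L c

/-- one entry of a coset table: `w_i * a = h * w_j` modulo the relators, with certificate -/
structure Entry (α : Type*) where
  i : ℕ
  a : α
  j : ℕ
  h : List (ℕ × Bool)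
  cert : List (Word α × ℕ × Bool)

def checkEntry (relW hgens reps : List (Word α)) (e : Entry α) : Bool :=
  decide (e.i < reps.length) && (decide (e.j < reps.length) &&
  decide (FreeGroup.reduce ((reps[e.i]?).getD [] ++ [(e.a, true)] ++
      FreeGroup.invRev ((reps[e.j]?).getD []) ++ FreeGroup.invRev (prodWord hgens e.h)) =
    FreeGroup.reduce (certWord relW e.cert)))

def checkTable (relW hgens reps : List (Word α)) (gens : List α) (tab : List (Entry α)) : Bool :=
  decide (reps[0]? = some []) && (tab.all (checkEntry relW hgens reps) &&
  ((List.range reps.length).all (fun i => gens.all (fun a =>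
      tab.any (fun e => decide (e.i = i) && decide (e.a = a)))) &&
  (List.range reps.length).all (fun j => gens.all (fun a =>
      tab.any (fun e => decide (e.j = j) && decide (e.a = a))))))

section soundness

variable (rels : Set (FreeGroup α))

theorem mk_pick_mem (relW : List (Word α)) (hrel : ∀ r ∈ relW, FreeGroup.mk r ∈ rels)
    (r : ℕ) (b : Bool) : FreeGroup.mk (pick relW r b) ∈ Subgroup.normalClosure rels := by
  have h1 : FreeGroup.mk ((relW[r]?).getD []) ∈ Subgroup.normalClosure rels := by
    cases hr : relW[r]? with
    | none => simp only [Option.getD_none]; exact one_mem _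
    | some w =>
      simp only [Option.getD_some]
      exact Subgroup.subset_normalClosure (hrel w (List.mem_of_getElem? hr))
  unfold pick
  split
  · exact h1
  · rw [← FreeGroup.inv_mk]
    exact inv_mem h1

theorem mk_certWord_mem (relW : List (Word α)) (hrel : ∀ r ∈ relW, FreeGroup.mk r ∈ rels)
    (c : List (Word α × ℕ × Bool)) :
    FreeGroup.mk (certWord relW c) ∈ Subgroup.normalClosure rels := by
  induction c with
  | nil => exact one_mem _
  | cons x c ih =>
    obtain ⟨g, r, b⟩ := x
    simp only [certWord]
    rw [← FreeGroup.mul_mk, ← FreeGroup.mul_mk, ← FreeGroup.mul_mk, ← FreeGroup.inv_mk]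
    exact mul_mem (Subgroup.normalClosure_normal.conj_mem _ (mk_pick_mem rels relW hrel r b) _) ih

/-- the image of a word in the presented group -/
def mkG (w : Word α) : PresentedGroup rels := PresentedGroup.mk rels (FreeGroup.mk w)

theorem mkG_append (u v : Word α) : mkG rels (u ++ v) = mkG rels u * mkG rels v := by
  unfold mkG
  rw [← FreeGroup.mul_mk, map_mul]

theorem mkG_invRev (u : Word α) : mkG rels (FreeGroup.invRev u) = (mkG rels u)⁻¹ := by
  unfold mkG
  rw [← FreeGroup.inv_mk, map_inv]

theorem mkG_nil : mkG rels ([] : Word α) = 1 := by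
  unfold mkG
  exact map_one _

theorem mkG_eq_one_of_cert (relW : List (Word α)) (hrel : ∀ r ∈ relW, FreeGroup.mk r ∈ rels)
    (W : Word α) (c : List (Word α × ℕ × Bool))
    (h : FreeGroup.reduce W = FreeGroup.reduce (certWord relW c)) : mkG rels W = 1 := by
  unfold mkG
  rw [PresentedGroup.mk_eq_one_iff, FreeGroup.reduce.exact h]
  exact mk_certWord_mem rels relW hrel c

/-- the subgroup generated by the images of a list of words -/
def subgroupOfWords (hgens : List (Word α)) : Subgroup (PresentedGroup rels) :=
  Subgroup.closure {g | ∃ w ∈ hgens, g = mkG rels w}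

theorem mkG_pick_mem (hgens : List (Word α)) (r : ℕ) (b : Bool) :
    mkG rels (pick hgens r b) ∈ subgroupOfWords rels hgens := by
  have h1 : mkG rels ((hgens[r]?).getD []) ∈ subgroupOfWords rels hgens := by
    cases hr : hgens[r]? with
    | none => simp only [Option.getD_none]; rw [mkG_nil]; exact one_mem _
    | some w =>
      simp only [Option.getD_some]
      exact Subgroup.subset_closure ⟨w, List.mem_of_getElem? hr, rfl⟩
  unfold pick
  split
  · exact h1
  · rw [mkG_invRev]
    exact inv_mem h1

theorem mkG_prodWord_mem (hgens : List (Word α)) (h : List (ℕ × Bool)) :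
    mkG rels (prodWord hgens h) ∈ subgroupOfWords rels hgens := by
  induction h with
  | nil => simp only [prodWord]; rw [mkG_nil]; exact one_mem _
  | cons x h ih =>
    obtain ⟨r, b⟩ := x
    simp only [prodWord]
    rw [mkG_append]
    exact mul_mem (mkG_pick_mem rels hgens r b) ih

theorem checkEntry_sound (relW hgens reps : List (Word α))
    (hrel : ∀ r ∈ relW, FreeGroup.mk r ∈ rels) (e : Entry α)
    (h : checkEntry relW hgens reps e = true) :
    e.i < reps.length ∧ e.j < reps.length ∧
    mkG rels ((reps[e.i]?).getD []) * PresentedGroup.of e.a *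
      (mkG rels ((reps[e.j]?).getD []))⁻¹ ∈ subgroupOfWords rels hgens := by
  unfold checkEntry at h
  simp only [Bool.and_eq_true, decide_eq_true_eq] at h
  obtain ⟨hi, hj, hred⟩ := h
  refine ⟨hi, hj, ?_⟩
  have h1 := mkG_eq_one_of_cert rels relW hrel _ _ hred
  rw [mkG_append, mkG_append, mkG_append, mkG_invRev, mkG_invRev] at h1
  have h2 : mkG rels [(e.a, true)] = PresentedGroup.of e.a := rfl
  rw [h2] at h1
  have h3 : mkG rels ((reps[e.i]?).getD []) * PresentedGroup.of e.a *
      (mkG rels ((reps[e.j]?).getD []))⁻¹ = mkG rels (prodWord hgens e.h) := by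
    rw [mul_inv_eq_one] at h1
    exact h1
  rw [h3]
  exact mkG_prodWord_mem rels hgens e.h

/-- Soundness of the coset table check: the cosets `H w_i` cover the presented group. -/
theorem covering (relW hgens reps : List (Word α)) (gens : List α) (tab : List (Entry α))
    (hrel : ∀ r ∈ relW, FreeGroup.mk r ∈ rels) (hgensAll : ∀ a : α, a ∈ gens)
    (hcheck : checkTable relW hgens reps gens tab = true) (g : PresentedGroup rels) :
    ∃ i, i < reps.length ∧
      g * (mkG rels ((reps[i]?).getD []))⁻¹ ∈ subgroupOfWords rels hgens := by
  unfold checkTable at hcheck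
  simp only [Bool.and_eq_true, decide_eq_true_eq, List.all_eq_true, List.any_eq_true,
    List.mem_range] at hcheck
  obtain ⟨h0, htab, hcomp, hsurj⟩ := hcheck
  have hg : g ∈ Subgroup.closure (Set.range (PresentedGroup.of : α → PresentedGroup rels)) := by
    rw [PresentedGroup.closure_range_of]; trivial
  induction hg using Subgroup.closure_induction_right with
  | one =>
    refine ⟨0, ?_, ?_⟩
    · by_contra hlen
      have : reps[0]? = none := by
        rw [List.getElem?_eq_none_iff]; omega
      rw [this] at h0
      exact absurd h0 (by simp)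
    · rw [h0, Option.getD_some, mkG_nil]
      simp
  | mul_right x hx y hy ih =>
    obtain ⟨a, rfl⟩ := hy
    obtain ⟨i, hi, hmem⟩ := ih
    obtain ⟨e, he, hei, hea⟩ := hcomp i hi a (hgensAll a)
    obtain ⟨-, hj, hent⟩ := checkEntry_sound rels relW hgens reps hrel e (htab e he)
    subst hei hea
    refine ⟨e.j, hj, ?_⟩
    have := mul_mem hmem hent
    convert this using 1
    group
  | mul_inv_cancel x hx y hy ih =>
    obtain ⟨a, rfl⟩ := hy
    obtain ⟨j, hj, hmem⟩ := ih
    obtain ⟨e, he, hej, hea⟩ := hsurj j hj a (hgensAll a)
    obtain ⟨hi, -, hent⟩ := checkEntry_sound rels relW hgens reps hrel e (htab e he)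
    subst hej hea
    refine ⟨e.i, hi, ?_⟩
    have := mul_mem hmem (inv_mem hent)
    convert this using 1
    group

/-- Cardinality bound from a certified coset table. -/
theorem card_le (relW hgens reps : List (Word α)) (gens : List α) (tab : List (Entry α))
    (hrel : ∀ r ∈ relW, FreeGroup.mk r ∈ rels) (hgensAll : ∀ a : α, a ∈ gens)
    (hcheck : checkTable relW hgens reps gens tab = true)
    [Finite (subgroupOfWords rels hgens)] :
    Finite (PresentedGroup rels) ∧
    Nat.card (PresentedGroup rels) ≤ reps.length * Nat.card (subgroupOfWords rels hgens) := by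
  let f : Fin reps.length × subgroupOfWords rels hgens → PresentedGroup rels :=
    fun p => (p.2 : PresentedGroup rels) * mkG rels ((reps[(p.1 : ℕ)]?).getD [])
  have hf : Function.Surjective f := by
    intro g
    obtain ⟨i, hi, hmem⟩ := covering rels relW hgens reps gens tab hrel hgensAll hcheck g
    refine ⟨(⟨i, hi⟩, ⟨_, hmem⟩), ?_⟩
    change g * (mkG rels ((reps[i]?).getD []))⁻¹ * mkG rels ((reps[i]?).getD []) = g
    group
  have hfin : Finite (PresentedGroup rels) := Finite.of_surjective f hf
  refine ⟨hfin, ?_⟩
  have := Nat.card_le_card_of_surjective f hf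
  rw [Nat.card_prod, Nat.card_fin] at this
  exact this

end soundness

end Cfsg.Agent.Lib.H17.PresCert
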