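import Mathlib
import Cfsg.Agent.Lib.H17.PresCert

set_option autoImplicit false

namespace Cfsg.Agent.Lib.H17.A5Pres

open Cfsg.Agent.Lib.H17.PresCert

def relW : List (Word (Fin 2)) :=
  [[(0, true), (0, true), (0, true)], [(1, true), (1, true), (1, true), (1, true), (1, true)], [(0, true), (1, true), (0, true), (1, true)]]

def hgens : List (Word (Fin 2)) := [[(1, true)]]

def reps : List (Word (Fin 2)) :=
  [[],
   [(0, true)],
   [(0, true), (0, true)],
   [(0, true), (0, true), (1, true)],
   [(0, true), (0, true), (1, true), (0, true)],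
   [(0, true), (0, true), (1, true), (1, true)],
   [(0, true), (0, true), (1, true), (0, true), (0, true)],
   [(0, true), (0, true), (1, true), (1, true), (0, true)],
   [(0, true), (0, true), (1, true), (0, true), (0, true), (1, true)],
   [(0, true), (0, true), (1, true), (0, true), (0, true), (1, true), (1, true)],
   [(0, true), (0, true), (1, true), (0, true), (0, true), (1, true), (1, true), (0, true)],
   [(0, true), (0, true), (1, true), (0, true), (0, true), (1, true), (1, true), (0, true), (0, true)]]

def tab : List (Entry (Fin 2)) :=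
  [⟨0, 0, 1, [], []⟩,
   ⟨0, 1, 0, [(0, true)], []⟩,
   ⟨1, 0, 2, [], []⟩,
   ⟨1, 1, 2, [(0, false)], [([], 2, true), ([(1, false)], 0, false)]⟩,
   ⟨2, 0, 0, [], [([], 0, true)]⟩,
   ⟨2, 1, 3, [], []⟩,
   ⟨3, 0, 4, [], []⟩,
   ⟨3, 1, 5, [], []⟩,
   ⟨4, 0, 6, [], []⟩,
   ⟨4, 1, 1, [], [([(0, true)], 2, true)]⟩,
   ⟨5, 0, 7, [], []⟩,
   ⟨5, 1, 4, [(0, true)], [([(0, true), (0, true)], 1, true), ([], 0, true), ([(1, true)], 2, false), ([(1, true), (0, true)], 2, false)]⟩,
   ⟨6, 0, 3, [], [([(0, true), (0, true), (1, true)], 0, true)]⟩,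
   ⟨6, 1, 8, [], []⟩,
   ⟨7, 0, 8, [(0, true)], [([(0, true), (0, true), (1, true), (1, true)], 0, true), ([(0, true), (0, true)], 1, true), ([], 0, true), ([(1, true)], 2, false), ([(1, true), (0, true)], 2, false), ([(1, true), (0, true), (0, true), (1, true), (0, true)], 2, false)]⟩,
   ⟨7, 1, 6, [], [([(0, true), (0, true), (1, true), (1, true)], 2, true), ([(0, true), (0, true), (1, true)], 0, false)]⟩,
   ⟨8, 0, 5, [(0, false)], [([(0, true), (0, true), (1, true), (0, true)], 2, true), ([(0, true)], 2, true), ([], 2, true), ([(1, false)], 0, false), ([(1, false), (0, true), (0, true)], 1, false)]⟩,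
   ⟨8, 1, 9, [], []⟩,
   ⟨9, 0, 10, [], []⟩,
   ⟨9, 1, 10, [(0, true)], [([(0, true), (0, true), (1, true), (0, true), (0, true), (1, true)], 1, true), ([(0, true), (0, true), (1, true)], 0, true), ([(0, true), (0, true), (1, true), (1, true)], 2, false), ([(0, true), (0, true), (1, true), (1, true), (0, true)], 2, false), ([(0, true), (0, true), (1, true), (1, true)], 0, true), ([(0, true), (0, true)], 1, true), ([], 0, true), ([(1, true)], 2, false), ([(1, true), (0, true)], 2, false), ([(1, true), (0, true), (0, true), (1, true), (0, true)], 2, false)]⟩,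
   ⟨10, 0, 11, [], []⟩,
   ⟨10, 1, 7, [(0, false)], [([(0, true), (0, true), (1, true), (0, true)], 2, true), ([(0, true)], 2, true), ([], 2, true), ([(1, false)], 0, false), ([(1, false), (0, true), (0, true)], 1, false), ([(1, false), (0, true), (0, true), (1, true), (1, true)], 0, false), ([(1, false), (0, true), (0, true), (1, true), (1, true), (0, true)], 2, true)]⟩,
   ⟨11, 0, 9, [], [([(0, true), (0, true), (1, true), (0, true), (0, true), (1, true), (1, true)], 0, true)]⟩,
   ⟨11, 1, 11, [(0, false)], [([(0, true), (0, true), (1, true), (0, true), (0, true), (1, true), (1, true), (0, true)], 2, true), ([(0, true), (0, true), (1, true), (0, true)], 2, true), ([(0, true)], 2, true), ([], 2, true), ([(1, false)], 0, false), ([(1, false), (0, true), (0, true)], 1, false), ([(1, false), (0, true), (0, true), (1, true), (1, true)], 0, false), ([(1, false), (0, true), (0, true), (1, true), (1, true), (0, true)], 2, true), ([(1, false), (0, true), (0, true), (1, true), (1, true)], 2, true), ([(1, false), (0, true), (0, true), (1, true)], 0, false), ([(1, false),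 (0, true), (0, true), (1, true), (0, true), (0, true), (1, true)], 1, false), ([(1, false), (0, true), (0, true), (1, true), (0, true), (0, true), (1, true), (1, true)], 0, false)]⟩]

set_option maxRecDepth 100000 in
theorem tab_ok : checkTable relW hgens reps [0, 1] tab = true := by decide

end Cfsg.Agent.Lib.H17.A5Pres
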