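import Mathlib
import Cfsg.Agent.Lib.H17.AGH13Defs
import Cfsg.Agent.Lib.H26.AGCERT

/-!
# S4150 piece H13/E2 (helper17): soundness of the leaf check `leafCheck`
-/

set_option autoImplicit false

namespace Cfsg.Agent.Lib.H17.AG

open Equiv Equiv.Perm Subgroup

theorem force_eq {α : Type} (T : Nat) (f : Nat → α) : force T f = f T := by
  cases T <;> rfl

theorem iter_succ (g : Nat → Nat) (n v : Nat) : iter g (n + 1) v = iter g n (g v) := rfl

theorem iter_eq (g : Nat → Nat) (n v : Nat) : iter g n v = g^[n] v := by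
  induction n generalizing v with
  | zero => rfl
  | succ n ih => rw [iter_succ, ih, Function.iterate_succ_apply]

theorem allUpTo_succ (p : Nat → Bool) (n : Nat) : allUpTo p (n + 1) = (allUpTo p n && p n) := rfl

theorem allUpTo_iff (p : Nat → Bool) (n : Nat) : allUpTo p n = true ↔ ∀ i, i < n → p i = true := by
  induction n with
  | zero => exact ⟨fun _ i hi => absurd hi (Nat.not_lt_zero i), fun _ => rfl⟩
  | succ n ih =>
    rw [allUpTo_succ, Bool.and_eq_true, ih]
    constructor
    · rintro ⟨h1, h2⟩ i hi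
      rcases Nat.lt_succ_iff_lt_or_eq.mp hi with h | h
      · exact h1 i h
      · rw [h]; exact h2
    · intro h
      exact ⟨fun i hi => h i (Nat.lt_succ_of_lt hi), h n (Nat.lt_succ_self n)⟩

theorem cntUpTo_succ (p : Nat → Bool) (n : Nat) :
    cntUpTo p (n + 1) = cntUpTo p n + (if p n = true then 1 else 0) := by
  show Nat.add (cntUpTo p n) (cond (p n) 1 0) = _
  cases p n <;> rfl

theorem cntUpTo_eq (p : Nat → Bool) (n : Nat) :
    cntUpTo p n = ((Finset.range n).filter (fun i => p i = true)).card := by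
  induction n with
  | zero => rfl
  | succ n ih =>
    rw [cntUpTo_succ, ih, Finset.range_add_one, Finset.filter_insert]
    by_cases h : p n = true
    · rw [if_pos h, if_pos h, Finset.card_insert_of_notMem]
      simp
    · rw [if_neg h, if_neg h, Nat.add_zero]

theorem look_eq (T i : Nat) : look T i = T / 16 ^ i % 16 := rfl

theorem tab_eq (g : Nat → Nat) : tab g =
    g 0 + 16 * (g 1 + 16 * (g 2 + 16 * (g 3 + 16 * (g 4 + 16 * (g 5 + 16 * (g 6 + 16 * (g 7 +
      16 * (g 8 + 16 * (g 9 + 16 * (g 10 + 16 * (g 11 + 16 * g 12))))))))))) := rfl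

theorem look_tab (g : Nat → Nat) (hg : ∀ i, i < 13 → g i < 16) (i : Nat) (hi : i < 13) :
    look (tab g) i = g i := by
  rw [look_eq, tab_eq]
  have h0 := hg 0 (by norm_num)
  have h1 := hg 1 (by norm_num)
  have h2 := hg 2 (by norm_num)
  have h3 := hg 3 (by norm_num)
  have h4 := hg 4 (by norm_num)
  have h5 := hg 5 (by norm_num)
  have h6 := hg 6 (by norm_num)
  have h7 := hg 7 (by norm_num)
  have h8 := hg 8 (by norm_num)
  have h9 := hg 9 (by norm_num)
  have h10 := hg 10 (by norm_num)
  have h11 := hg 11 (by norm_num)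
  have h12 := hg 12 (by norm_num)
  interval_cases i <;> norm_num <;> omega

/-! ### the `Nat`-function of a permutation -/

theorem nf_of_lt (σ : Perm (Fin 13)) {i : Nat} (hi : i < 13) : nf σ i = ((σ ⟨i, hi⟩ : Fin 13) : Nat) := by
  unfold nf; rw [dif_pos hi]

theorem nf_lt (σ : Perm (Fin 13)) {i : Nat} (hi : i < 13) : nf σ i < 13 := by
  rw [nf_of_lt σ hi]; exact Fin.is_lt _

theorem nf_val (σ : Perm (Fin 13)) (i : Fin 13) : nf σ (i : Nat) = ((σ i : Fin 13) : Nat) := by
  rw [nf_of_lt σ i.is_lt]

theorem nf_mul (σ τ : Perm (Fin 13)) {i : Nat} (hi : i < 13) : nf (σ * τ) i = nf σ (nf τ i) := by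
  rw [nf_of_lt _ hi, nf_of_lt τ hi, nf_val, Perm.mul_apply]

theorem nf_pow (σ : Perm (Fin 13)) (n : Nat) {i : Nat} (hi : i < 13) : nf (σ ^ n) i = (nf σ)^[n] i := by
  induction n generalizing i with
  | zero => rw [pow_zero, nf_of_lt _ hi]; rfl
  | succ n ih =>
    rw [pow_succ, nf_mul _ _ hi, ih (nf_lt σ hi), Function.iterate_succ_apply]

theorem finRotate_pow_val (a : Nat) (i : Fin 13) : (((finRotate 13 ^ a) i : Fin 13) : Nat) = (i + a) % 13 := by
  induction a generalizing i with
  | zero => simp [Nat.mod_eq_of_lt i.is_lt]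
  | succ a ih =>
    rw [pow_succ, Perm.mul_apply, ih, finRotate_apply, Fin.val_add]
    simp only [Fin.val_one]
    omega

theorem nf_finRotate_pow (a : Nat) {i : Nat} (hi : i < 13) : nf (finRotate 13 ^ a) i = (i + a) % 13 := by
  rw [nf_of_lt _ hi, finRotate_pow_val]

/-- iterates agree on the invariant set `[0, 13)`. -/
theorem iterate_congr_lt (f g : Nat → Nat) (hfg : ∀ i, i < 13 → f i = g i) (hg : ∀ i, i < 13 → g i < 13)
    (n : Nat) : ∀ v, v < 13 → f^[n] v = g^[n] v ∧ g^[n] v < 13 := by
  induction n with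
  | zero => intro v hv; exact ⟨rfl, hv⟩
  | succ n ih =>
    intro v hv
    rw [Function.iterate_succ_apply, Function.iterate_succ_apply, hfg v hv]
    exact ih (g v) (hg v hv)

theorem perm_eq_one_of_nf (σ : Perm (Fin 13)) (h : ∀ i, i < 13 → nf σ i = i) : σ = 1 := by
  ext i
  have := h i i.is_lt
  rw [nf_val] at this
  rw [this]; rfl

theorem support_card_eq (σ : Perm (Fin 13)) :
    σ.support.card = ((Finset.range 13).filter (fun i => nf σ i ≠ i)).card := by
  have h1 : σ.support = Finset.univ.filter (fun i : Fin 13 => nf σ (i : Nat) ≠ (i : Nat)) := by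
    ext i
    rw [Perm.mem_support, Finset.mem_filter, nf_val]
    simp only [Finset.mem_univ, true_and, ne_eq]
    rw [Fin.val_inj]
  rw [h1, Finset.card_filter, Finset.card_filter]
  exact Fin.sum_univ_eq_sum_range (fun j => if nf σ j ≠ j then 1 else 0) 13

/-- the table lookups of a word. -/
theorem wordOK_sound (x : Perm (Fin 13)) (X a b k r : Nat) (hX : ∀ i, i < 13 → look X i = nf x i)
    (h : wordOK X a b k r = true) :
    ((x ^ b * finRotate 13 ^ a) ^ k) ^ r = 1 ∧ ((x ^ b * finRotate 13 ^ a) ^ k).support.card = r := by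
  set u : Perm (Fin 13) := x ^ b * finRotate 13 ^ a with hu
  set w : Perm (Fin 13) := u ^ k with hw
  unfold wordOK at h
  rw [force_eq, force_eq, Bool.and_eq_true] at h
  obtain ⟨hA, hB⟩ := h
  -- the table `U`
  have hU : ∀ i, i < 13 →
      look (tab fun i => iter (look X) b (Nat.mod (Nat.add i a) 13)) i = nf u i := by
    intro i hi
    have key : ∀ j, j < 13 → iter (look X) b (Nat.mod (Nat.add j a) 13) = nf u j := by
      intro j hj
      have hm : (j + a) % 13 < 13 := Nat.mod_lt _ (by norm_num)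
      rw [iter_eq]
      show (look X)^[b] ((j + a) % 13) = nf u j
      rw [(iterate_congr_lt (look X) (nf x) hX (fun i hi => nf_lt x hi) b _ hm).1, hu, nf_mul _ _ hj,
        nf_finRotate_pow a hj, nf_pow x b hm]
    rw [look_tab _ (fun j hj => by rw [key j hj]; exact lt_trans (nf_lt u hj) (by norm_num)) i hi, key i hi]
  -- the table `W`
  have hW : ∀ i, i < 13 →
      look (tab fun i => iter
        (look (tab fun i => iter (look X) b (Nat.mod (Nat.add i a) 13))) k i) i = nf w i := by
    intro i hi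
    have key : ∀ j, j < 13 → iter
        (look (tab fun i => iter (look X) b (Nat.mod (Nat.add i a) 13))) k j = nf w j := by
      intro j hj
      rw [iter_eq, (iterate_congr_lt _ (nf u) hU (fun i hi => nf_lt u hi) k _ hj).1, hw, nf_pow u k hj]
    rw [look_tab _ (fun j hj => by rw [key j hj]; exact lt_trans (nf_lt w hj) (by norm_num)) i hi, key i hi]
  constructor
  · apply perm_eq_one_of_nf
    intro i hi
    rw [allUpTo_iff] at hA
    have h1 := Nat.eq_of_beq_eq_true (hA i hi)
    rw [iter_eq, (iterate_congr_lt _ (nf w) hW (fun i hi => nf_lt w hi) r _ hi).1] at h1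
    rw [nf_pow w r hi, h1]
  · have h1 := Nat.eq_of_beq_eq_true hB
    rw [cntUpTo_eq] at h1
    rw [support_card_eq, ← h1]
    congr 1
    apply Finset.filter_congr
    intro i hi
    rw [Finset.mem_range] at hi
    rw [← hW i hi]
    constructor
    · intro hne
      cases hb : Nat.beq (look _ i) i
      · rfl
      · exact absurd (Nat.eq_of_beq_eq_true hb) hne
    · intro hb heq
      rw [heq, Nat.beq_refl] at hb
      exact Bool.noConfusion hb

theorem leafCheck_sound (x : Perm (Fin 13)) (C idx X : Nat)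
    (hX : ∀ i, i < 13 → look X i = nf x i) (h : leafCheck C idx X = true) :
    alternatingGroup (Fin 13) ≤ closure ({x, finRotate 13} : Set (Perm (Fin 13))) := by
  unfold leafCheck at h
  rw [force_eq, force_eq, force_eq, force_eq, force_eq, Bool.and_eq_true] at h
  obtain ⟨hr, hw⟩ := h
  obtain ⟨hw1, hw2⟩ := wordOK_sound x X _ _ _ _ hX hw
  have hxG : x ∈ closure ({x, finRotate 13} : Set (Perm (Fin 13))) := subset_closure (by simp)
  have hyG : finRotate 13 ∈ closure ({x, finRotate 13} : Set (Perm (Fin 13))) :=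
    subset_closure (by simp)
  have hy : (finRotate 13).cycleType = {13} := cycleType_finRotate
  have hwG : ∀ a b k : Nat, (x ^ b * finRotate 13 ^ a) ^ k ∈
      closure ({x, finRotate 13} : Set (Perm (Fin 13))) := fun a b k =>
    pow_mem (mul_mem (pow_mem hxG b) (pow_mem hyG a)) k
  have hrr : ∀ r : Nat, (Nat.beq r 3 || (Nat.beq r 5 || Nat.beq r 7)) = true → r.Prime ∧ r + 3 ≤ 13 := by
    intro r hr
    rw [Bool.or_eq_true, Bool.or_eq_true] at hr
    rcases hr with h | h | h
    · rw [Nat.eq_of_beq_eq_true h]; norm_num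
    · rw [Nat.eq_of_beq_eq_true h]; norm_num
    · rw [Nat.eq_of_beq_eq_true h]; norm_num
  obtain ⟨hp, h3⟩ := hrr _ hr
  exact Cfsg.Agent.Lib.H26.AG.alt_le_of_small_cycle (by norm_num) _ (finRotate 13) hy hyG _ (hwG _ _ _)
    hp h3 hw1 hw2

end Cfsg.Agent.Lib.H17.AG
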