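import Mathlib
import Cfsg.Agent.Lib.H17.AGH13Defs

/-!
# S4150 piece H13/E5 (helper17): the bridge `exists_chain13`

For an `11`-cycle `x` of `Fin 13` with `x 0 = 0`, `x 1 = 1`, `x 2 = 3`, the list `[x² 2, …, x¹⁰ 2]` (as naturals)
is a permutation of `[4, …, 12]` and is a chain for the `Nat`-function of `x`.
-/

set_option autoImplicit false

namespace Cfsg.Agent.Lib.H17.AG

open Equiv Equiv.Perm

/-- `[x^(j+1) 2, …, x^(j+n) 2]` as naturals. -/
def cl (x : Perm (Fin 13)) : Nat → Nat → List Nat
  | _, 0 => []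
  | j, n + 1 => (((x ^ (j + 1)) 2 : Fin 13) : Nat) :: cl x (j + 1) n

theorem nf_val' (σ : Perm (Fin 13)) (i : Fin 13) : nf σ (i : Nat) = ((σ i : Fin 13) : Nat) := by
  unfold nf; rw [dif_pos i.is_lt]

theorem chain_cl (x : Perm (Fin 13)) (n : Nat) : ∀ j, (x ^ (j + n + 1)) 2 = 2 →
    Chain (nf x) (((x ^ j) 2 : Fin 13) : Nat) (cl x j n) := by
  induction n with
  | zero =>
    intro j h
    show nf x _ = 2
    rw [nf_val', ← Perm.mul_apply, ← pow_succ', h]; rfl
  | succ n ih =>
    intro j h
    refine ⟨?_, ?_⟩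
    · rw [nf_val', ← Perm.mul_apply, ← pow_succ']
    · apply ih (j + 1)
      rw [show j + 1 + n + 1 = j + (n + 1) + 1 by omega]; exact h

theorem length_cl (x : Perm (Fin 13)) (n : Nat) : ∀ j, (cl x j n).length = n := by
  induction n with
  | zero => intro j; rfl
  | succ n ih => intro j; simp [cl, ih]

theorem mem_cl (x : Perm (Fin 13)) (n : Nat) : ∀ j a, a ∈ cl x j n →
    ∃ i, j < i ∧ i ≤ j + n ∧ a = (((x ^ i) 2 : Fin 13) : Nat) := by
  induction n with
  | zero => intro j a h; simp [cl] at h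
  | succ n ih =>
    intro j a h
    rw [cl, List.mem_cons] at h
    rcases h with h | h
    · exact ⟨j + 1, by omega, by omega, h⟩
    · obtain ⟨i, h1, h2, h3⟩ := ih (j + 1) a h
      exact ⟨i, by omega, by omega, h3⟩

theorem exists_chain13 (x : Perm (Fin 13)) (h0 : x 0 = 0) (h1 : x 1 = 1) (h2 : x 2 = 3)
    (hc : x.cycleType = {11}) :
    ∃ l : List Nat, l.Perm [4, 5, 6, 7, 8, 9, 10, 11, 12] ∧ Chain (nf x) 3 l := by
  have hcyc : x.IsCycle := by
    rw [← card_cycleType_eq_one, hc]; rfl
  have hord : orderOf x = 11 := by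
    rw [← lcm_cycleType, hc]; rfl
  have hmove : x 2 ≠ 2 := by rw [h2]; decide
  -- `x ^ m` fixes `2` only if `11 ∣ m`
  have hfix : ∀ m, (x ^ m) 2 = 2 → 11 ∣ m := by
    intro m hm
    rw [← hord]
    apply orderOf_dvd_of_pow_eq_one
    exact (hcyc.pow_eq_one_iff' hmove).mpr hm
  have hinj : ∀ i j, i < j → j < i + 11 → (x ^ i) 2 ≠ (x ^ j) 2 := by
    intro i j hij hj heq
    have : (x ^ (j - i)) 2 = 2 := by
      have e : x ^ j = x ^ i * x ^ (j - i) := by rw [← pow_add]; congr 1; omega
      rw [e, Perm.mul_apply] at heq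
      exact ((x ^ i).injective heq).symm
    have := hfix _ this
    omega
  have hx0 : ∀ m, (x ^ m) 0 = 0 := by
    intro m
    induction m with
    | zero => rfl
    | succ m ih => rw [pow_succ, Perm.mul_apply, h0, ih]
  have hx1 : ∀ m, (x ^ m) 1 = 1 := by
    intro m
    induction m with
    | zero => rfl
    | succ m ih => rw [pow_succ, Perm.mul_apply, h1, ih]
  have hp1 : (x ^ 1) 2 = 3 := by rw [pow_one, h2]
  have hp11 : (x ^ 11) 2 = 2 := by rw [← hord, pow_orderOf_eq_one]; rfl
  refine ⟨cl x 1 9, ?_, ?_⟩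
  · -- a permutation of `[4..12]`
    have hnd : (cl x 1 9).Nodup := by
      have key : ∀ n j, j + n < 11 + 1 → (cl x j n).Nodup := by
        intro n
        induction n with
        | zero => intro j _; exact List.nodup_nil
        | succ n ih =>
          intro j hj
          rw [cl, List.nodup_cons]
          refine ⟨?_, ih (j + 1) (by omega)⟩
          intro hmem
          obtain ⟨i, hi1, hi2, hi3⟩ := mem_cl x n (j + 1) _ hmem
          exact hinj (j + 1) i hi1 (by omega) (Fin.val_injective hi3)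
      exact key 9 1 (by norm_num)
    have hsub : ∀ a ∈ cl x 1 9, a ∈ [4, 5, 6, 7, 8, 9, 10, 11, 12] := by
      intro a ha
      obtain ⟨i, hi1, hi2, rfl⟩ := mem_cl x 9 1 a ha
      have hlt : (((x ^ i) 2 : Fin 13) : Nat) < 13 := Fin.is_lt _
      have hne0 : (x ^ i) 2 ≠ 0 := by
        intro h
        have : (x ^ i) 2 = (x ^ i) 0 := by rw [h, hx0]
        exact absurd ((x ^ i).injective this) (by decide)
      have hne1 : (x ^ i) 2 ≠ 1 := by
        intro h
        have : (x ^ i) 2 = (x ^ i) 1 := by rw [h, hx1]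
        exact absurd ((x ^ i).injective this) (by decide)
      have hne2 : (x ^ i) 2 ≠ 2 := by
        intro h
        have := hfix i h
        omega
      have hne3 : (x ^ i) 2 ≠ 3 := by
        intro h
        exact hinj 1 i hi1 (by omega) (by rw [hp1, h])
      have e0 : (((x ^ i) 2 : Fin 13) : Nat) ≠ 0 := fun h => hne0 (Fin.val_injective h)
      have e1 : (((x ^ i) 2 : Fin 13) : Nat) ≠ 1 := fun h => hne1 (Fin.val_injective h)
      have e2 : (((x ^ i) 2 : Fin 13) : Nat) ≠ 2 := fun h => hne2 (Fin.val_injective h)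
      have e3 : (((x ^ i) 2 : Fin 13) : Nat) ≠ 3 := fun h => hne3 (Fin.val_injective h)
      simp only [List.mem_cons, List.not_mem_nil, or_false]
      omega
    apply List.perm_of_nodup_nodup_toFinset_eq hnd (by decide)
    apply Finset.eq_of_subset_of_card_le
    · intro a ha
      rw [List.mem_toFinset] at ha ⊢
      exact hsub a ha
    · rw [List.toFinset_card_of_nodup hnd, length_cl]
      decide
  · have := chain_cl x 9 1 (by rw [show 1 + 9 + 1 = 11 by norm_num]; exact hp11)
    rw [hp1] at this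
    exact this

end Cfsg.Agent.Lib.H17.AG
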