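import Mathlib
import Cfsg.Agent.Lib.H17.AGH13Defs
import Cfsg.Agent.Lib.H8.AGH13E4
import Cfsg.Agent.Lib.H17.AGH13S_4_5
import Cfsg.Agent.Lib.H17.AGH13S_4_6
import Cfsg.Agent.Lib.H17.AGH13S_4_7
import Cfsg.Agent.Lib.H17.AGH13S_4_8
import Cfsg.Agent.Lib.H17.AGH13S_4_9
import Cfsg.Agent.Lib.H17.AGH13S_4_10
import Cfsg.Agent.Lib.H17.AGH13S_4_11
import Cfsg.Agent.Lib.H17.AGH13S_4_12
import Cfsg.Agent.Lib.H17.AGH13S_5_4
import Cfsg.Agent.Lib.H17.AGH13S_5_6
import Cfsg.Agent.Lib.H17.AGH13S_5_7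
import Cfsg.Agent.Lib.H17.AGH13S_5_8
import Cfsg.Agent.Lib.H17.AGH13S_5_9
import Cfsg.Agent.Lib.H17.AGH13S_5_10
import Cfsg.Agent.Lib.H17.AGH13S_5_11
import Cfsg.Agent.Lib.H17.AGH13S_5_12
import Cfsg.Agent.Lib.H17.AGH13S_6_4
import Cfsg.Agent.Lib.H17.AGH13S_6_5
import Cfsg.Agent.Lib.H17.AGH13S_6_7
import Cfsg.Agent.Lib.H17.AGH13S_6_8
import Cfsg.Agent.Lib.H17.AGH13S_6_9
import Cfsg.Agent.Lib.H17.AGH13S_6_10
import Cfsg.Agent.Lib.H17.AGH13S_6_11
import Cfsg.Agent.Lib.H17.AGH13S_6_12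
import Cfsg.Agent.Lib.H17.AGH13S_7_4
import Cfsg.Agent.Lib.H17.AGH13S_7_5
import Cfsg.Agent.Lib.H17.AGH13S_7_6
import Cfsg.Agent.Lib.H17.AGH13S_7_8
import Cfsg.Agent.Lib.H17.AGH13S_7_9
import Cfsg.Agent.Lib.H17.AGH13S_7_10
import Cfsg.Agent.Lib.H17.AGH13S_7_11
import Cfsg.Agent.Lib.H17.AGH13S_7_12
import Cfsg.Agent.Lib.H17.AGH13S_8_4
import Cfsg.Agent.Lib.H17.AGH13S_8_5
import Cfsg.Agent.Lib.H17.AGH13S_8_6
import Cfsg.Agent.Lib.H17.AGH13S_8_7
import Cfsg.Agent.Lib.H17.AGH13S_8_9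
import Cfsg.Agent.Lib.H17.AGH13S_8_10
import Cfsg.Agent.Lib.H17.AGH13S_8_11
import Cfsg.Agent.Lib.H17.AGH13S_8_12
import Cfsg.Agent.Lib.H17.AGH13S_9_4
import Cfsg.Agent.Lib.H17.AGH13S_9_5
import Cfsg.Agent.Lib.H17.AGH13S_9_6
import Cfsg.Agent.Lib.H17.AGH13S_9_7
import Cfsg.Agent.Lib.H17.AGH13S_9_8
import Cfsg.Agent.Lib.H17.AGH13S_9_10
import Cfsg.Agent.Lib.H17.AGH13S_9_11
import Cfsg.Agent.Lib.H17.AGH13S_9_12
import Cfsg.Agent.Lib.H17.AGH13S_10_4
import Cfsg.Agent.Lib.H17.AGH13S_10_5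
import Cfsg.Agent.Lib.H17.AGH13S_10_6
import Cfsg.Agent.Lib.H17.AGH13S_10_7
import Cfsg.Agent.Lib.H17.AGH13S_10_8
import Cfsg.Agent.Lib.H17.AGH13S_10_9
import Cfsg.Agent.Lib.H17.AGH13S_10_11
import Cfsg.Agent.Lib.H17.AGH13S_10_12
import Cfsg.Agent.Lib.H17.AGH13S_11_4
import Cfsg.Agent.Lib.H17.AGH13S_11_5
import Cfsg.Agent.Lib.H17.AGH13S_11_6
import Cfsg.Agent.Lib.H17.AGH13S_11_7
import Cfsg.Agent.Lib.H17.AGH13S_11_8
import Cfsg.Agent.Lib.H17.AGH13S_11_9
import Cfsg.Agent.Lib.H17.AGH13S_11_10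
import Cfsg.Agent.Lib.H17.AGH13S_11_12
import Cfsg.Agent.Lib.H17.AGH13S_12_4
import Cfsg.Agent.Lib.H17.AGH13S_12_5
import Cfsg.Agent.Lib.H17.AGH13S_12_6
import Cfsg.Agent.Lib.H17.AGH13S_12_7
import Cfsg.Agent.Lib.H17.AGH13S_12_8
import Cfsg.Agent.Lib.H17.AGH13S_12_9
import Cfsg.Agent.Lib.H17.AGH13S_12_10
import Cfsg.Agent.Lib.H17.AGH13S_12_11

/-!
# S4150 piece H13/E6 (helper17): assembly of the 72 shards `shard_<c₂>_<c₃>` (files `AGH13S_<c₂>_<c₃>.lean`)
-/

set_option autoImplicit false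

namespace Cfsg.Agent.Lib.H17.AG


theorem shard_step (c2 c3 : Nat) (rem : List Nat) (C X : Nat) (hX : X = X0 + c2 * 16 ^ 3 + c3 * 16 ^ c2)
    (hs : dfs C 7 X c3 rem 0 = true) (hlen : rem.length = 7) (l' : List Nat) (hl' : l'.Perm rem) :
    ∃ C idx, leafCheck C idx (pathX X0 3 (c2 :: c3 :: l')) = true := by
  obtain ⟨idx, h⟩ := Cfsg.Agent.Lib.H8.AG.dfs_sound C 7 X c3 rem 0 hlen hs l' hl'
  refine ⟨C, idx, ?_⟩
  have e : pathX X0 3 (c2 :: c3 :: l') = pathX X c3 l' := by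
    rw [hX]; rfl
  rw [e]; exact h

theorem all_shards (l : List Nat) (hl : l.Perm [4, 5, 6, 7, 8, 9, 10, 11, 12]) :
    ∃ C idx, leafCheck C idx (pathX X0 3 l) = true := by
  match l, hl with
  | [], hl => exact absurd hl.length_eq (by decide)
  | [_], hl => exact absurd hl.length_eq (by simp)
  | c2 :: c3 :: l', hl =>
    rw [List.cons_perm_iff_perm_erase] at hl
    obtain ⟨hc2, hl⟩ := hl
    rw [List.cons_perm_iff_perm_erase] at hl
    obtain ⟨hc3, hl'⟩ := hl
    simp only [List.mem_cons, List.not_mem_nil, or_false] at hc2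
    rcases hc2 with rfl | rfl | rfl | rfl | rfl | rfl | rfl | rfl | rfl
    · -- c2 = 4
      have e : ([4, 5, 6, 7, 8, 9, 10, 11, 12] : List Nat).erase 4 = [5, 6, 7, 8, 9, 10, 11, 12] := by decide
      rw [e] at hc3 hl'
      simp only [List.mem_cons, List.not_mem_nil, or_false] at hc3
      rcases hc3 with rfl | rfl | rfl | rfl | rfl | rfl | rfl | rfl
      · have e2 : ([5, 6, 7, 8, 9, 10, 11, 12] : List Nat).erase 5 = [6, 7, 8, 9, 10, 11, 12] := by decide
        rw [e2] at hl'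
        exact shard_step 4 5 _ _ _ (by norm_num [X0]) shard_4_5 rfl l' hl'
      · have e2 : ([5, 6, 7, 8, 9, 10, 11, 12] : List Nat).erase 6 = [5, 7, 8, 9, 10, 11, 12] := by decide
        rw [e2] at hl'
        exact shard_step 4 6 _ _ _ (by norm_num [X0]) shard_4_6 rfl l' hl'
      · have e2 : ([5, 6, 7, 8, 9, 10, 11, 12] : List Nat).erase 7 = [5, 6, 8, 9, 10, 11, 12] := by decide
        rw [e2] at hl'
        exact shard_step 4 7 _ _ _ (by norm_num [X0]) shard_4_7 rfl l' hl'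
      · have e2 : ([5, 6, 7, 8, 9, 10, 11, 12] : List Nat).erase 8 = [5, 6, 7, 9, 10, 11, 12] := by decide
        rw [e2] at hl'
        exact shard_step 4 8 _ _ _ (by norm_num [X0]) shard_4_8 rfl l' hl'
      · have e2 : ([5, 6, 7, 8, 9, 10, 11, 12] : List Nat).erase 9 = [5, 6, 7, 8, 10, 11, 12] := by decide
        rw [e2] at hl'
        exact shard_step 4 9 _ _ _ (by norm_num [X0]) shard_4_9 rfl l' hl'
      · have e2 : ([5, 6, 7, 8, 9, 10, 11, 12] : List Nat).erase 10 = [5, 6, 7, 8, 9, 11, 12] := by decide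
        rw [e2] at hl'
        exact shard_step 4 10 _ _ _ (by norm_num [X0]) shard_4_10 rfl l' hl'
      · have e2 : ([5, 6, 7, 8, 9, 10, 11, 12] : List Nat).erase 11 = [5, 6, 7, 8, 9, 10, 12] := by decide
        rw [e2] at hl'
        exact shard_step 4 11 _ _ _ (by norm_num [X0]) shard_4_11 rfl l' hl'
      · have e2 : ([5, 6, 7, 8, 9, 10, 11, 12] : List Nat).erase 12 = [5, 6, 7, 8, 9, 10, 11] := by decide
        rw [e2] at hl'
        exact shard_step 4 12 _ _ _ (by norm_num [X0]) shard_4_12 rfl l' hl'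
    · -- c2 = 5
      have e : ([4, 5, 6, 7, 8, 9, 10, 11, 12] : List Nat).erase 5 = [4, 6, 7, 8, 9, 10, 11, 12] := by decide
      rw [e] at hc3 hl'
      simp only [List.mem_cons, List.not_mem_nil, or_false] at hc3
      rcases hc3 with rfl | rfl | rfl | rfl | rfl | rfl | rfl | rfl
      · have e2 : ([4, 6, 7, 8, 9, 10, 11, 12] : List Nat).erase 4 = [6, 7, 8, 9, 10, 11, 12] := by decide
        rw [e2] at hl'
        exact shard_step 5 4 _ _ _ (by norm_num [X0]) shard_5_4 rfl l' hl'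
      · have e2 : ([4, 6, 7, 8, 9, 10, 11, 12] : List Nat).erase 6 = [4, 7, 8, 9, 10, 11, 12] := by decide
        rw [e2] at hl'
        exact shard_step 5 6 _ _ _ (by norm_num [X0]) shard_5_6 rfl l' hl'
      · have e2 : ([4, 6, 7, 8, 9, 10, 11, 12] : List Nat).erase 7 = [4, 6, 8, 9, 10, 11, 12] := by decide
        rw [e2] at hl'
        exact shard_step 5 7 _ _ _ (by norm_num [X0]) shard_5_7 rfl l' hl'
      · have e2 : ([4, 6, 7, 8, 9, 10, 11, 12] : List Nat).erase 8 = [4, 6, 7, 9, 10, 11, 12] := by decide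
        rw [e2] at hl'
        exact shard_step 5 8 _ _ _ (by norm_num [X0]) shard_5_8 rfl l' hl'
      · have e2 : ([4, 6, 7, 8, 9, 10, 11, 12] : List Nat).erase 9 = [4, 6, 7, 8, 10, 11, 12] := by decide
        rw [e2] at hl'
        exact shard_step 5 9 _ _ _ (by norm_num [X0]) shard_5_9 rfl l' hl'
      · have e2 : ([4, 6, 7, 8, 9, 10, 11, 12] : List Nat).erase 10 = [4, 6, 7, 8, 9, 11, 12] := by decide
        rw [e2] at hl'
        exact shard_step 5 10 _ _ _ (by norm_num [X0]) shard_5_10 rfl l' hl'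
      · have e2 : ([4, 6, 7, 8, 9, 10, 11, 12] : List Nat).erase 11 = [4, 6, 7, 8, 9, 10, 12] := by decide
        rw [e2] at hl'
        exact shard_step 5 11 _ _ _ (by norm_num [X0]) shard_5_11 rfl l' hl'
      · have e2 : ([4, 6, 7, 8, 9, 10, 11, 12] : List Nat).erase 12 = [4, 6, 7, 8, 9, 10, 11] := by decide
        rw [e2] at hl'
        exact shard_step 5 12 _ _ _ (by norm_num [X0]) shard_5_12 rfl l' hl'
    · -- c2 = 6
      have e : ([4, 5, 6, 7, 8, 9, 10, 11, 12] : List Nat).erase 6 = [4, 5, 7, 8, 9, 10, 11, 12] := by decide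
      rw [e] at hc3 hl'
      simp only [List.mem_cons, List.not_mem_nil, or_false] at hc3
      rcases hc3 with rfl | rfl | rfl | rfl | rfl | rfl | rfl | rfl
      · have e2 : ([4, 5, 7, 8, 9, 10, 11, 12] : List Nat).erase 4 = [5, 7, 8, 9, 10, 11, 12] := by decide
        rw [e2] at hl'
        exact shard_step 6 4 _ _ _ (by norm_num [X0]) shard_6_4 rfl l' hl'
      · have e2 : ([4, 5, 7, 8, 9, 10, 11, 12] : List Nat).erase 5 = [4, 7, 8, 9, 10, 11, 12] := by decide
        rw [e2] at hl'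
        exact shard_step 6 5 _ _ _ (by norm_num [X0]) shard_6_5 rfl l' hl'
      · have e2 : ([4, 5, 7, 8, 9, 10, 11, 12] : List Nat).erase 7 = [4, 5, 8, 9, 10, 11, 12] := by decide
        rw [e2] at hl'
        exact shard_step 6 7 _ _ _ (by norm_num [X0]) shard_6_7 rfl l' hl'
      · have e2 : ([4, 5, 7, 8, 9, 10, 11, 12] : List Nat).erase 8 = [4, 5, 7, 9, 10, 11, 12] := by decide
        rw [e2] at hl'
        exact shard_step 6 8 _ _ _ (by norm_num [X0]) shard_6_8 rfl l' hl'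
      · have e2 : ([4, 5, 7, 8, 9, 10, 11, 12] : List Nat).erase 9 = [4, 5, 7, 8, 10, 11, 12] := by decide
        rw [e2] at hl'
        exact shard_step 6 9 _ _ _ (by norm_num [X0]) shard_6_9 rfl l' hl'
      · have e2 : ([4, 5, 7, 8, 9, 10, 11, 12] : List Nat).erase 10 = [4, 5, 7, 8, 9, 11, 12] := by decide
        rw [e2] at hl'
        exact shard_step 6 10 _ _ _ (by norm_num [X0]) shard_6_10 rfl l' hl'
      · have e2 : ([4, 5, 7, 8, 9, 10, 11, 12] : List Nat).erase 11 = [4, 5, 7, 8, 9, 10, 12] := by decide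
        rw [e2] at hl'
        exact shard_step 6 11 _ _ _ (by norm_num [X0]) shard_6_11 rfl l' hl'
      · have e2 : ([4, 5, 7, 8, 9, 10, 11, 12] : List Nat).erase 12 = [4, 5, 7, 8, 9, 10, 11] := by decide
        rw [e2] at hl'
        exact shard_step 6 12 _ _ _ (by norm_num [X0]) shard_6_12 rfl l' hl'
    · -- c2 = 7
      have e : ([4, 5, 6, 7, 8, 9, 10, 11, 12] : List Nat).erase 7 = [4, 5, 6, 8, 9, 10, 11, 12] := by decide
      rw [e] at hc3 hl'
      simp only [List.mem_cons, List.not_mem_nil, or_false] at hc3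
      rcases hc3 with rfl | rfl | rfl | rfl | rfl | rfl | rfl | rfl
      · have e2 : ([4, 5, 6, 8, 9, 10, 11, 12] : List Nat).erase 4 = [5, 6, 8, 9, 10, 11, 12] := by decide
        rw [e2] at hl'
        exact shard_step 7 4 _ _ _ (by norm_num [X0]) shard_7_4 rfl l' hl'
      · have e2 : ([4, 5, 6, 8, 9, 10, 11, 12] : List Nat).erase 5 = [4, 6, 8, 9, 10, 11, 12] := by decide
        rw [e2] at hl'
        exact shard_step 7 5 _ _ _ (by norm_num [X0]) shard_7_5 rfl l' hl'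
      · have e2 : ([4, 5, 6, 8, 9, 10, 11, 12] : List Nat).erase 6 = [4, 5, 8, 9, 10, 11, 12] := by decide
        rw [e2] at hl'
        exact shard_step 7 6 _ _ _ (by norm_num [X0]) shard_7_6 rfl l' hl'
      · have e2 : ([4, 5, 6, 8, 9, 10, 11, 12] : List Nat).erase 8 = [4, 5, 6, 9, 10, 11, 12] := by decide
        rw [e2] at hl'
        exact shard_step 7 8 _ _ _ (by norm_num [X0]) shard_7_8 rfl l' hl'
      · have e2 : ([4, 5, 6, 8, 9, 10, 11, 12] : List Nat).erase 9 = [4, 5, 6, 8, 10, 11, 12] := by decide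
        rw [e2] at hl'
        exact shard_step 7 9 _ _ _ (by norm_num [X0]) shard_7_9 rfl l' hl'
      · have e2 : ([4, 5, 6, 8, 9, 10, 11, 12] : List Nat).erase 10 = [4, 5, 6, 8, 9, 11, 12] := by decide
        rw [e2] at hl'
        exact shard_step 7 10 _ _ _ (by norm_num [X0]) shard_7_10 rfl l' hl'
      · have e2 : ([4, 5, 6, 8, 9, 10, 11, 12] : List Nat).erase 11 = [4, 5, 6, 8, 9, 10, 12] := by decide
        rw [e2] at hl'
        exact shard_step 7 11 _ _ _ (by norm_num [X0]) shard_7_11 rfl l' hl'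
      · have e2 : ([4, 5, 6, 8, 9, 10, 11, 12] : List Nat).erase 12 = [4, 5, 6, 8, 9, 10, 11] := by decide
        rw [e2] at hl'
        exact shard_step 7 12 _ _ _ (by norm_num [X0]) shard_7_12 rfl l' hl'
    · -- c2 = 8
      have e : ([4, 5, 6, 7, 8, 9, 10, 11, 12] : List Nat).erase 8 = [4, 5, 6, 7, 9, 10, 11, 12] := by decide
      rw [e] at hc3 hl'
      simp only [List.mem_cons, List.not_mem_nil, or_false] at hc3
      rcases hc3 with rfl | rfl | rfl | rfl | rfl | rfl | rfl | rfl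
      · have e2 : ([4, 5, 6, 7, 9, 10, 11, 12] : List Nat).erase 4 = [5, 6, 7, 9, 10, 11, 12] := by decide
        rw [e2] at hl'
        exact shard_step 8 4 _ _ _ (by norm_num [X0]) shard_8_4 rfl l' hl'
      · have e2 : ([4, 5, 6, 7, 9, 10, 11, 12] : List Nat).erase 5 = [4, 6, 7, 9, 10, 11, 12] := by decide
        rw [e2] at hl'
        exact shard_step 8 5 _ _ _ (by norm_num [X0]) shard_8_5 rfl l' hl'
      · have e2 : ([4, 5, 6, 7, 9, 10, 11, 12] : List Nat).erase 6 = [4, 5, 7, 9, 10, 11, 12] := by decide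
        rw [e2] at hl'
        exact shard_step 8 6 _ _ _ (by norm_num [X0]) shard_8_6 rfl l' hl'
      · have e2 : ([4, 5, 6, 7, 9, 10, 11, 12] : List Nat).erase 7 = [4, 5, 6, 9, 10, 11, 12] := by decide
        rw [e2] at hl'
        exact shard_step 8 7 _ _ _ (by norm_num [X0]) shard_8_7 rfl l' hl'
      · have e2 : ([4, 5, 6, 7, 9, 10, 11, 12] : List Nat).erase 9 = [4, 5, 6, 7, 10, 11, 12] := by decide
        rw [e2] at hl'
        exact shard_step 8 9 _ _ _ (by norm_num [X0]) shard_8_9 rfl l' hl'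
      · have e2 : ([4, 5, 6, 7, 9, 10, 11, 12] : List Nat).erase 10 = [4, 5, 6, 7, 9, 11, 12] := by decide
        rw [e2] at hl'
        exact shard_step 8 10 _ _ _ (by norm_num [X0]) shard_8_10 rfl l' hl'
      · have e2 : ([4, 5, 6, 7, 9, 10, 11, 12] : List Nat).erase 11 = [4, 5, 6, 7, 9, 10, 12] := by decide
        rw [e2] at hl'
        exact shard_step 8 11 _ _ _ (by norm_num [X0]) shard_8_11 rfl l' hl'
      · have e2 : ([4, 5, 6, 7, 9, 10, 11, 12] : List Nat).erase 12 = [4, 5, 6, 7, 9, 10, 11] := by decide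
        rw [e2] at hl'
        exact shard_step 8 12 _ _ _ (by norm_num [X0]) shard_8_12 rfl l' hl'
    · -- c2 = 9
      have e : ([4, 5, 6, 7, 8, 9, 10, 11, 12] : List Nat).erase 9 = [4, 5, 6, 7, 8, 10, 11, 12] := by decide
      rw [e] at hc3 hl'
      simp only [List.mem_cons, List.not_mem_nil, or_false] at hc3
      rcases hc3 with rfl | rfl | rfl | rfl | rfl | rfl | rfl | rfl
      · have e2 : ([4, 5, 6, 7, 8, 10, 11, 12] : List Nat).erase 4 = [5, 6, 7, 8, 10, 11, 12] := by decide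
        rw [e2] at hl'
        exact shard_step 9 4 _ _ _ (by norm_num [X0]) shard_9_4 rfl l' hl'
      · have e2 : ([4, 5, 6, 7, 8, 10, 11, 12] : List Nat).erase 5 = [4, 6, 7, 8, 10, 11, 12] := by decide
        rw [e2] at hl'
        exact shard_step 9 5 _ _ _ (by norm_num [X0]) shard_9_5 rfl l' hl'
      · have e2 : ([4, 5, 6, 7, 8, 10, 11, 12] : List Nat).erase 6 = [4, 5, 7, 8, 10, 11, 12] := by decide
        rw [e2] at hl'
        exact shard_step 9 6 _ _ _ (by norm_num [X0]) shard_9_6 rfl l' hl'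
      · have e2 : ([4, 5, 6, 7, 8, 10, 11, 12] : List Nat).erase 7 = [4, 5, 6, 8, 10, 11, 12] := by decide
        rw [e2] at hl'
        exact shard_step 9 7 _ _ _ (by norm_num [X0]) shard_9_7 rfl l' hl'
      · have e2 : ([4, 5, 6, 7, 8, 10, 11, 12] : List Nat).erase 8 = [4, 5, 6, 7, 10, 11, 12] := by decide
        rw [e2] at hl'
        exact shard_step 9 8 _ _ _ (by norm_num [X0]) shard_9_8 rfl l' hl'
      · have e2 : ([4, 5, 6, 7, 8, 10, 11, 12] : List Nat).erase 10 = [4, 5, 6, 7, 8, 11, 12] := by decide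
        rw [e2] at hl'
        exact shard_step 9 10 _ _ _ (by norm_num [X0]) shard_9_10 rfl l' hl'
      · have e2 : ([4, 5, 6, 7, 8, 10, 11, 12] : List Nat).erase 11 = [4, 5, 6, 7, 8, 10, 12] := by decide
        rw [e2] at hl'
        exact shard_step 9 11 _ _ _ (by norm_num [X0]) shard_9_11 rfl l' hl'
      · have e2 : ([4, 5, 6, 7, 8, 10, 11, 12] : List Nat).erase 12 = [4, 5, 6, 7, 8, 10, 11] := by decide
        rw [e2] at hl'
        exact shard_step 9 12 _ _ _ (by norm_num [X0]) shard_9_12 rfl l' hl'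
    · -- c2 = 10
      have e : ([4, 5, 6, 7, 8, 9, 10, 11, 12] : List Nat).erase 10 = [4, 5, 6, 7, 8, 9, 11, 12] := by decide
      rw [e] at hc3 hl'
      simp only [List.mem_cons, List.not_mem_nil, or_false] at hc3
      rcases hc3 with rfl | rfl | rfl | rfl | rfl | rfl | rfl | rfl
      · have e2 : ([4, 5, 6, 7, 8, 9, 11, 12] : List Nat).erase 4 = [5, 6, 7, 8, 9, 11, 12] := by decide
        rw [e2] at hl'
        exact shard_step 10 4 _ _ _ (by norm_num [X0]) shard_10_4 rfl l' hl'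
      · have e2 : ([4, 5, 6, 7, 8, 9, 11, 12] : List Nat).erase 5 = [4, 6, 7, 8, 9, 11, 12] := by decide
        rw [e2] at hl'
        exact shard_step 10 5 _ _ _ (by norm_num [X0]) shard_10_5 rfl l' hl'
      · have e2 : ([4, 5, 6, 7, 8, 9, 11, 12] : List Nat).erase 6 = [4, 5, 7, 8, 9, 11, 12] := by decide
        rw [e2] at hl'
        exact shard_step 10 6 _ _ _ (by norm_num [X0]) shard_10_6 rfl l' hl'
      · have e2 : ([4, 5, 6, 7, 8, 9, 11, 12] : List Nat).erase 7 = [4, 5, 6, 8, 9, 11, 12] := by decide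
        rw [e2] at hl'
        exact shard_step 10 7 _ _ _ (by norm_num [X0]) shard_10_7 rfl l' hl'
      · have e2 : ([4, 5, 6, 7, 8, 9, 11, 12] : List Nat).erase 8 = [4, 5, 6, 7, 9, 11, 12] := by decide
        rw [e2] at hl'
        exact shard_step 10 8 _ _ _ (by norm_num [X0]) shard_10_8 rfl l' hl'
      · have e2 : ([4, 5, 6, 7, 8, 9, 11, 12] : List Nat).erase 9 = [4, 5, 6, 7, 8, 11, 12] := by decide
        rw [e2] at hl'
        exact shard_step 10 9 _ _ _ (by norm_num [X0]) shard_10_9 rfl l' hl'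
      · have e2 : ([4, 5, 6, 7, 8, 9, 11, 12] : List Nat).erase 11 = [4, 5, 6, 7, 8, 9, 12] := by decide
        rw [e2] at hl'
        exact shard_step 10 11 _ _ _ (by norm_num [X0]) shard_10_11 rfl l' hl'
      · have e2 : ([4, 5, 6, 7, 8, 9, 11, 12] : List Nat).erase 12 = [4, 5, 6, 7, 8, 9, 11] := by decide
        rw [e2] at hl'
        exact shard_step 10 12 _ _ _ (by norm_num [X0]) shard_10_12 rfl l' hl'
    · -- c2 = 11
      have e : ([4, 5, 6, 7, 8, 9, 10, 11, 12] : List Nat).erase 11 = [4, 5, 6, 7, 8, 9, 10, 12] := by decide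
      rw [e] at hc3 hl'
      simp only [List.mem_cons, List.not_mem_nil, or_false] at hc3
      rcases hc3 with rfl | rfl | rfl | rfl | rfl | rfl | rfl | rfl
      · have e2 : ([4, 5, 6, 7, 8, 9, 10, 12] : List Nat).erase 4 = [5, 6, 7, 8, 9, 10, 12] := by decide
        rw [e2] at hl'
        exact shard_step 11 4 _ _ _ (by norm_num [X0]) shard_11_4 rfl l' hl'
      · have e2 : ([4, 5, 6, 7, 8, 9, 10, 12] : List Nat).erase 5 = [4, 6, 7, 8, 9, 10, 12] := by decide
        rw [e2] at hl'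
        exact shard_step 11 5 _ _ _ (by norm_num [X0]) shard_11_5 rfl l' hl'
      · have e2 : ([4, 5, 6, 7, 8, 9, 10, 12] : List Nat).erase 6 = [4, 5, 7, 8, 9, 10, 12] := by decide
        rw [e2] at hl'
        exact shard_step 11 6 _ _ _ (by norm_num [X0]) shard_11_6 rfl l' hl'
      · have e2 : ([4, 5, 6, 7, 8, 9, 10, 12] : List Nat).erase 7 = [4, 5, 6, 8, 9, 10, 12] := by decide
        rw [e2] at hl'
        exact shard_step 11 7 _ _ _ (by norm_num [X0]) shard_11_7 rfl l' hl'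
      · have e2 : ([4, 5, 6, 7, 8, 9, 10, 12] : List Nat).erase 8 = [4, 5, 6, 7, 9, 10, 12] := by decide
        rw [e2] at hl'
        exact shard_step 11 8 _ _ _ (by norm_num [X0]) shard_11_8 rfl l' hl'
      · have e2 : ([4, 5, 6, 7, 8, 9, 10, 12] : List Nat).erase 9 = [4, 5, 6, 7, 8, 10, 12] := by decide
        rw [e2] at hl'
        exact shard_step 11 9 _ _ _ (by norm_num [X0]) shard_11_9 rfl l' hl'
      · have e2 : ([4, 5, 6, 7, 8, 9, 10, 12] : List Nat).erase 10 = [4, 5, 6, 7, 8, 9, 12] := by decide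
        rw [e2] at hl'
        exact shard_step 11 10 _ _ _ (by norm_num [X0]) shard_11_10 rfl l' hl'
      · have e2 : ([4, 5, 6, 7, 8, 9, 10, 12] : List Nat).erase 12 = [4, 5, 6, 7, 8, 9, 10] := by decide
        rw [e2] at hl'
        exact shard_step 11 12 _ _ _ (by norm_num [X0]) shard_11_12 rfl l' hl'
    · -- c2 = 12
      have e : ([4, 5, 6, 7, 8, 9, 10, 11, 12] : List Nat).erase 12 = [4, 5, 6, 7, 8, 9, 10, 11] := by decide
      rw [e] at hc3 hl'
      simp only [List.mem_cons, List.not_mem_nil, or_false] at hc3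
      rcases hc3 with rfl | rfl | rfl | rfl | rfl | rfl | rfl | rfl
      · have e2 : ([4, 5, 6, 7, 8, 9, 10, 11] : List Nat).erase 4 = [5, 6, 7, 8, 9, 10, 11] := by decide
        rw [e2] at hl'
        exact shard_step 12 4 _ _ _ (by norm_num [X0]) shard_12_4 rfl l' hl'
      · have e2 : ([4, 5, 6, 7, 8, 9, 10, 11] : List Nat).erase 5 = [4, 6, 7, 8, 9, 10, 11] := by decide
        rw [e2] at hl'
        exact shard_step 12 5 _ _ _ (by norm_num [X0]) shard_12_5 rfl l' hl'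
      · have e2 : ([4, 5, 6, 7, 8, 9, 10, 11] : List Nat).erase 6 = [4, 5, 7, 8, 9, 10, 11] := by decide
        rw [e2] at hl'
        exact shard_step 12 6 _ _ _ (by norm_num [X0]) shard_12_6 rfl l' hl'
      · have e2 : ([4, 5, 6, 7, 8, 9, 10, 11] : List Nat).erase 7 = [4, 5, 6, 8, 9, 10, 11] := by decide
        rw [e2] at hl'
        exact shard_step 12 7 _ _ _ (by norm_num [X0]) shard_12_7 rfl l' hl'
      · have e2 : ([4, 5, 6, 7, 8, 9, 10, 11] : List Nat).erase 8 = [4, 5, 6, 7, 9, 10, 11] := by decide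
        rw [e2] at hl'
        exact shard_step 12 8 _ _ _ (by norm_num [X0]) shard_12_8 rfl l' hl'
      · have e2 : ([4, 5, 6, 7, 8, 9, 10, 11] : List Nat).erase 9 = [4, 5, 6, 7, 8, 10, 11] := by decide
        rw [e2] at hl'
        exact shard_step 12 9 _ _ _ (by norm_num [X0]) shard_12_9 rfl l' hl'
      · have e2 : ([4, 5, 6, 7, 8, 9, 10, 11] : List Nat).erase 10 = [4, 5, 6, 7, 8, 9, 11] := by decide
        rw [e2] at hl'
        exact shard_step 12 10 _ _ _ (by norm_num [X0]) shard_12_10 rfl l' hl'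
      · have e2 : ([4, 5, 6, 7, 8, 9, 10, 11] : List Nat).erase 11 = [4, 5, 6, 7, 8, 9, 10] := by decide
        rw [e2] at hl'
        exact shard_step 12 11 _ _ _ (by norm_num [X0]) shard_12_11 rfl l' hl'

end Cfsg.Agent.Lib.H17.AG
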