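import Mathlib
import Cfsg.Agent.Lib.H17.AGH13Defs
import Cfsg.Agent.Lib.H17.AGH13E2
import Cfsg.Agent.Lib.H10.AGH13E3
import Cfsg.Agent.Lib.H17.AGH13E5
import Cfsg.Agent.Lib.H17.AGH13E6

/-!
# S4150 piece H13 (helper17 route): `normalized13`

Assembly of the split `tools/blueprints/S4150_H13_sigs.lean`: E2 `leafCheck_sound` (helper17), E3 `look_pathX`
(helper10), E4 `dfs_sound` (helper8, used in E6), E5 `exists_chain13` (helper17), E6 `all_shards` (helper17: 72 shards,
about 20 s of `decide +kernel` each).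
-/

set_option autoImplicit false

namespace Cfsg.Agent.Lib.H17.AG

open Equiv Equiv.Perm Subgroup

/-- (H13) the 362880 normalised 11-cycles in degree 13. -/
theorem normalized13 : ∀ x : Perm (Fin 13), x 0 = 0 → x 1 = 1 → x 2 = 3 → x.cycleType = {11} →
    alternatingGroup (Fin 13) ≤ closure ({x, finRotate 13} : Set (Perm (Fin 13))) := by
  intro x h0 h1 h2 hc
  obtain ⟨l, hl, hch⟩ := exists_chain13 x h0 h1 h2 hc
  obtain ⟨C, idx, hleaf⟩ := all_shards l hl
  refine leafCheck_sound x C idx (pathX X0 3 l) ?_ hleaf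
  refine Cfsg.Agent.Lib.H10.AG.look_pathX (nf x) l ?_ ?_ ?_ hch hl
  · simp [nf, h0]
  · simp [nf, h1]
  · simp [nf, h2]

end Cfsg.Agent.Lib.H17.AG
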