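import Mathlib

set_option autoImplicit false

namespace Cfsg.Agent.Lib.H17

open Matrix Polynomial

/-- Cayley–Hamilton for an affine `3 × 3` matrix with linear part of determinant one. -/
theorem ch3 {F : Type*} [CommRing F] (a b c d x y : F) (hdet : a * d - b * c = 1) :
    (!![a, b, x; c, d, y; 0, 0, 1] : Matrix (Fin 3) (Fin 3) F) ^ 3 =
      (a + d + 1) • (!![a, b, x; c, d, y; 0, 0, 1] : Matrix (Fin 3) (Fin 3) F) ^ 2
        - (a + d + 1) • (!![a, b, x; c, d, y; 0, 0, 1] : Matrix (Fin 3) (Fin 3) F) + 1 := by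
  rw [pow_succ, pow_two]
  ext i j
  fin_cases i <;> fin_cases j
  · simp [Matrix.mul_apply, Fin.sum_univ_three]
    linear_combination (1 - a) * hdet
  · simp [Matrix.mul_apply, Fin.sum_univ_three]
    linear_combination (-b) * hdet
  · simp [Matrix.mul_apply, Fin.sum_univ_three]
    linear_combination (-x) * hdet
  · simp [Matrix.mul_apply, Fin.sum_univ_three]
    linear_combination (-c) * hdet
  · simp [Matrix.mul_apply, Fin.sum_univ_three]
    linear_combination (1 - d) * hdet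
  · simp [Matrix.mul_apply, Fin.sum_univ_three]
    linear_combination (-y) * hdet
  · simp [Matrix.mul_apply, Fin.sum_univ_three]
  · simp [Matrix.mul_apply, Fin.sum_univ_three]
  · simp [Matrix.mul_apply, Fin.sum_univ_three]

/-- Consequences of a cubic relation `M³ = S M² - S M + 1` in an algebra of characteristic two. -/
theorem pow_of_cubic {F A : Type*} [CommRing F] [Ring A] [Algebra F A] (h2 : (2 : F) = 0)
    (M : A) (S : F) (hM : M ^ 3 = S • M ^ 2 - S • M + 1) :
    (S = 0 → M ^ 3 = 1) ∧ (S = 1 → M ^ 4 = 1) ∧ (S ^ 2 + S + 1 = 0 → M ^ 5 = 1) := by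
  refine ⟨?_, ?_, ?_⟩
  · intro hS
    rw [hM, hS]; simp
  · intro hS
    rw [hS, one_smul, one_smul] at hM
    calc M ^ 4 = M ^ 3 * M := pow_succ M 3
      _ = (M ^ 2 - M + 1) * M := by rw [hM]
      _ = M ^ 3 - M ^ 2 + M := by
        rw [add_mul, sub_mul, one_mul, ← pow_succ, ← pow_two]
      _ = 1 := by rw [hM]; abel
  · intro hS
    -- polynomial division
    obtain ⟨α, hα⟩ : ∃ α : F, α = (S ^ 2 - S) * S + 1 - S ^ 2 := ⟨_, rfl⟩
    obtain ⟨β, hβ⟩ : ∃ β : F, β = -(S ^ 2 - S) * S + S := ⟨_, rfl⟩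
    obtain ⟨γ, hγ⟩ : ∃ γ : F, γ = S ^ 2 - S := ⟨_, rfl⟩
    have hpoly : (X : F[X]) ^ 5 = (X ^ 3 - C S * X ^ 2 + C S * X - 1) *
        (X ^ 2 + C S * X + C γ) + (C α * X ^ 2 + C β * X + C γ) := by
      rw [hα, hβ, hγ]
      simp only [map_add, map_sub, map_mul, map_pow, map_neg, map_one]
      ring
    have hchi : aeval M (X ^ 3 - C S * X ^ 2 + C S * X - 1 : F[X]) = 0 := by
      simp only [map_sub, map_add, map_mul, map_pow, aeval_X, aeval_C, map_one]
      rw [hM, Algebra.algebraMap_eq_smul_one]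
      simp only [smul_mul_assoc, one_mul]
      abel
    have h5 := congrArg (aeval M) hpoly
    rw [map_add, map_mul, hchi, zero_mul, zero_add] at h5
    simp only [map_add, map_mul, map_pow, aeval_X, aeval_C] at h5
    have e1 : α = 0 := by
      rw [hα]
      linear_combination (S - 3) * hS + (S + 2) * h2
    have e2 : β = 0 := by
      rw [hβ]
      linear_combination (-S + 2) * hS + (-1) * h2
    have e3 : γ = 1 := by
      rw [hγ]
      linear_combination hS - (S + 1) * h2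
    rw [e1, e2, e3] at h5
    simpa using h5

section
variable (F : Type*) [CommRing F]

/-- The affine subgroup of `SL(3,F)`: matrices with last row `(0,0,1)`. -/
def affSL : Subgroup (SpecialLinearGroup (Fin 3) F) where
  carrier := {M | (M : Matrix (Fin 3) (Fin 3) F) 2 0 = 0 ∧ (M : Matrix (Fin 3) (Fin 3) F) 2 1 = 0 ∧
      (M : Matrix (Fin 3) (Fin 3) F) 2 2 = 1}
  mul_mem' := by
    rintro M N ⟨h0, h1, h2⟩ ⟨k0, k1, k2⟩
    refine ⟨?_, ?_, ?_⟩ <;>
    simp [Matrix.mul_apply, Fin.sum_univ_three, h0, h1, h2, k0, k1, k2]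
  one_mem' := by
    refine ⟨?_, ?_, ?_⟩ <;> simp
  inv_mem' := by
    rintro M ⟨h0, h1, h2⟩
    have hdet := M.det_coe
    rw [Matrix.det_fin_three, h0, h1, h2] at hdet
    refine ⟨?_, ?_, ?_⟩
    · simp [Matrix.adjugate_fin_three, h0, h1, h2]
    · simp [Matrix.adjugate_fin_three, h0, h1, h2]
    · simp [Matrix.adjugate_fin_three, h0, h1, h2]
      linear_combination hdet

theorem mem_affSL (M : SpecialLinearGroup (Fin 3) F) : M ∈ affSL F ↔
    (M : Matrix (Fin 3) (Fin 3) F) 2 0 = 0 ∧ (M : Matrix (Fin 3) (Fin 3) F) 2 1 = 0 ∧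
      (M : Matrix (Fin 3) (Fin 3) F) 2 2 = 1 := Iff.rfl

theorem closure_eq_affSL :
    Subgroup.closure {M : SpecialLinearGroup (Fin 3) F |
      (M : Matrix (Fin 3) (Fin 3) F) 2 0 = 0 ∧ (M : Matrix (Fin 3) (Fin 3) F) 2 1 = 0 ∧
        (M : Matrix (Fin 3) (Fin 3) F) 2 2 = 1} = affSL F :=
  Subgroup.closure_eq (affSL F)

variable {F}

theorem affSL_eta (M : SpecialLinearGroup (Fin 3) F) (hM : M ∈ affSL F) :
    (M : Matrix (Fin 3) (Fin 3) F) =
      !![(M : Matrix (Fin 3) (Fin 3) F) 0 0, (M : Matrix (Fin 3) (Fin 3) F) 0 1,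
          (M : Matrix (Fin 3) (Fin 3) F) 0 2;
        (M : Matrix (Fin 3) (Fin 3) F) 1 0, (M : Matrix (Fin 3) (Fin 3) F) 1 1,
          (M : Matrix (Fin 3) (Fin 3) F) 1 2; 0, 0, 1] ∧
    (M : Matrix (Fin 3) (Fin 3) F) 0 0 * (M : Matrix (Fin 3) (Fin 3) F) 1 1 -
      (M : Matrix (Fin 3) (Fin 3) F) 0 1 * (M : Matrix (Fin 3) (Fin 3) F) 1 0 = 1 := by
  obtain ⟨h0, h1, h2⟩ := hM
  constructor
  · ext i j
    fin_cases i <;> fin_cases j <;> simp [h0, h1, h2]
  · have hdet := M.det_coe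
    rw [Matrix.det_fin_three, h0, h1, h2] at hdet
    linear_combination hdet

/-- Constructor for elements of the affine group. -/
def mkAff (a b c d x y : F) (h : a * d - b * c = 1) : SpecialLinearGroup (Fin 3) F :=
  ⟨!![a, b, x; c, d, y; 0, 0, 1], by rw [Matrix.det_fin_three]; simp; linear_combination h⟩

theorem mkAff_mem (a b c d x y : F) (h : a * d - b * c = 1) : mkAff a b c d x y h ∈ affSL F := by
  refine ⟨?_, ?_, ?_⟩ <;> simp [mkAff]

theorem coe_mkAff (a b c d x y : F) (h : a * d - b * c = 1) :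
    ((mkAff a b c d x y h : SpecialLinearGroup (Fin 3) F) : Matrix (Fin 3) (Fin 3) F) =
      !![a, b, x; c, d, y; 0, 0, 1] := rfl

theorem sl_pow_eq_one_iff (M : SpecialLinearGroup (Fin 3) F) (k : ℕ) :
    M ^ k = 1 ↔ (M : Matrix (Fin 3) (Fin 3) F) ^ k = 1 := by
  have h1 : ((M ^ k : SpecialLinearGroup (Fin 3) F) : Matrix (Fin 3) (Fin 3) F) =
      (M : Matrix (Fin 3) (Fin 3) F) ^ k := Matrix.SpecialLinearGroup.coe_pow M k
  constructor
  · intro h
    rw [← h1, h]
    exact Matrix.SpecialLinearGroup.coe_one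
  · intro h
    apply Matrix.SpecialLinearGroup.ext
    intro i j
    rw [h1, h, Matrix.SpecialLinearGroup.coe_one]

end

section
variable {F : Type*} [Field F] [Fintype F]

theorem two_eq_zero_of_card (hF : Fintype.card F = 4) : (2 : F) = 0 := by
  have h4 : ((4 : ℕ) : F) = 0 := by rw [← hF]; exact Nat.cast_card_eq_zero F
  have h22 : (2 : F) ^ 2 = 0 := by
    have : (2 : F) ^ 2 = ((4 : ℕ) : F) := by norm_num
    rw [this, h4]
  exact pow_eq_zero_iff (two_ne_zero) |>.mp h22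

theorem trichotomy_of_card (hF : Fintype.card F = 4) (S : F) :
    S = 0 ∨ S = 1 ∨ S ^ 2 + S + 1 = 0 := by
  have h := FiniteField.pow_card S
  rw [hF] at h
  have h' : S * ((S - 1) * (S ^ 2 + S + 1)) = 0 := by linear_combination h
  rcases mul_eq_zero.mp h' with h1 | h1
  · left; exact h1
  · rcases mul_eq_zero.mp h1 with h2 | h2
    · right; left; exact sub_eq_zero.mp h2
    · right; right; exact h2

/-- Every element of the affine group over the field with four elements has `M³=1`, `M⁴=1`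
or `M⁵=1`. -/
theorem affSL_pow_cases (hF : Fintype.card F = 4) (M : SpecialLinearGroup (Fin 3) F)
    (hM : M ∈ affSL F) : M ^ 3 = 1 ∨ M ^ 4 = 1 ∨ M ^ 5 = 1 := by
  obtain ⟨heta, hdet⟩ := affSL_eta M hM
  have h2 := two_eq_zero_of_card hF
  have hch := ch3 _ _ _ _ ((M : Matrix (Fin 3) (Fin 3) F) 0 2) ((M : Matrix (Fin 3) (Fin 3) F) 1 2) hdet
  rw [← heta] at hch
  obtain ⟨c1, c2, c3⟩ := pow_of_cubic h2 (M : Matrix (Fin 3) (Fin 3) F) _ hch
  rcases trichotomy_of_card hF ((M : Matrix (Fin 3) (Fin 3) F) 0 0 +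
    (M : Matrix (Fin 3) (Fin 3) F) 1 1 + 1) with h | h | h
  · left; exact (sl_pow_eq_one_iff M 3).mpr (c1 h)
  · right; left; exact (sl_pow_eq_one_iff M 4).mpr (c2 h)
  · right; right; exact (sl_pow_eq_one_iff M 5).mpr (c3 h)

theorem affSL_orderOf_mem (hF : Fintype.card F = 4) (M : SpecialLinearGroup (Fin 3) F)
    (hM : M ∈ affSL F) : orderOf M ∈ ({1, 2, 3, 4, 5} : Set ℕ) := by
  rcases affSL_pow_cases hF M hM with h | h | h
  · have := orderOf_dvd_of_pow_eq_one h
    rcases (Nat.dvd_prime Nat.prime_three).mp this with h | h <;> simp [h]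
  · have := orderOf_dvd_of_pow_eq_one h
    have h4 : (4 : ℕ) = 2 ^ 2 := by norm_num
    rw [h4, Nat.dvd_prime_pow Nat.prime_two] at this
    obtain ⟨m, hm, hm'⟩ := this
    interval_cases m <;> simp [hm']
  · have := orderOf_dvd_of_pow_eq_one h
    rcases (Nat.dvd_prime Nat.prime_five).mp this with h | h <;> simp [h]

end

section
variable {F : Type*} [Field F] [Fintype F]

theorem exists_omega (hF : Fintype.card F = 4) : ∃ ω : F, ω ^ 2 + ω + 1 = 0 := by
  classical
  have hex : ∃ ω : F, ω ∉ ({0, 1} : Finset F) := by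
    by_contra h
    push Not at h
    have h1 : Fintype.card F ≤ ({0, 1} : Finset F).card := by
      rw [← Finset.card_univ]
      exact Finset.card_le_card (fun x _ => h x)
    have h2 : ({0, 1} : Finset F).card ≤ 2 := Finset.card_le_two
    omega
  obtain ⟨ω, hω⟩ := hex
  simp only [Finset.mem_insert, Finset.mem_singleton, not_or] at hω
  rcases trichotomy_of_card hF ω with h | h | h
  · exact absurd h hω.1
  · exact absurd h hω.2
  · exact ⟨ω, h⟩

theorem exists_order_two (hF : Fintype.card F = 4) :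
    ∃ M ∈ affSL F, orderOf M = 2 := by
  have h2 := two_eq_zero_of_card hF
  refine ⟨mkAff 1 0 0 1 1 0 (by ring), mkAff_mem _ _ _ _ _ _ _, ?_⟩
  apply orderOf_eq_prime
  · rw [sl_pow_eq_one_iff, coe_mkAff, pow_two]
    ext i j
    fin_cases i <;> fin_cases j <;>
      simp [Matrix.mul_apply, Fin.sum_univ_three, one_add_one_eq_two, h2]
  · intro h
    have := congrArg (fun M : SpecialLinearGroup (Fin 3) F => (M : Matrix (Fin 3) (Fin 3) F) 0 2) h
    simp [coe_mkAff] at this

theorem exists_order_four (hF : Fintype.card F = 4) :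
    ∃ M ∈ affSL F, orderOf M = 4 := by
  have h2 := two_eq_zero_of_card hF
  refine ⟨mkAff 1 1 0 1 0 1 (by ring), mkAff_mem _ _ _ _ _ _ _, ?_⟩
  have hsq : ((mkAff 1 1 0 1 0 1 (by ring) : SpecialLinearGroup (Fin 3) F) :
      Matrix (Fin 3) (Fin 3) F) ^ 2 = !![1, 0, 1; 0, 1, 0; 0, 0, 1] := by
    rw [coe_mkAff, pow_two]
    ext i j
    fin_cases i <;> fin_cases j <;>
      simp [Matrix.mul_apply, Fin.sum_univ_three, one_add_one_eq_two, h2]
  have h4 : (4 : ℕ) = 2 ^ (1 + 1) := by norm_num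
  rw [h4]
  apply orderOf_eq_prime_pow
  · rw [pow_one, sl_pow_eq_one_iff, hsq]
    intro h
    have := congrArg (fun M : Matrix (Fin 3) (Fin 3) F => M 0 2) h
    simp at this
  · rw [sl_pow_eq_one_iff]
    have : (2 : ℕ) ^ (1 + 1) = 2 * 2 := by norm_num
    rw [this, pow_mul, hsq, pow_two]
    ext i j
    fin_cases i <;> fin_cases j <;>
      simp [Matrix.mul_apply, Fin.sum_univ_three, one_add_one_eq_two, h2]

theorem exists_order_three (hF : Fintype.card F = 4) :
    ∃ M ∈ affSL F, orderOf M = 3 := by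
  have h2 := two_eq_zero_of_card hF
  have hdet : (0 : F) * 1 - 1 * 1 = 1 := by linear_combination (-1 : F) * h2
  refine ⟨mkAff 0 1 1 1 0 0 hdet, mkAff_mem _ _ _ _ _ _ _, ?_⟩
  haveI : Fact (Nat.Prime 3) := ⟨Nat.prime_three⟩
  apply orderOf_eq_prime
  · rw [sl_pow_eq_one_iff, coe_mkAff]
    have hch := ch3 (0 : F) 1 1 1 0 0 hdet
    exact (pow_of_cubic h2 _ _ hch).1 (by linear_combination h2)
  · intro h
    have := congrArg (fun M : SpecialLinearGroup (Fin 3) F => (M : Matrix (Fin 3) (Fin 3) F) 0 0) h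
    simp [coe_mkAff] at this

theorem exists_order_five (hF : Fintype.card F = 4) :
    ∃ M ∈ affSL F, orderOf M = 5 := by
  have h2 := two_eq_zero_of_card hF
  obtain ⟨ω, hω⟩ := exists_omega hF
  have hdet : (0 : F) * ω - 1 * 1 = 1 := by linear_combination (-1 : F) * h2
  refine ⟨mkAff 0 1 1 ω 0 0 hdet, mkAff_mem _ _ _ _ _ _ _, ?_⟩
  haveI : Fact (Nat.Prime 5) := ⟨Nat.prime_five⟩
  apply orderOf_eq_prime
  · rw [sl_pow_eq_one_iff, coe_mkAff]
    have hch := ch3 (0 : F) 1 1 ω 0 0 hdet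
    exact (pow_of_cubic h2 _ _ hch).2.2 (by linear_combination hω + (ω + 1) * h2)
  · intro h
    have := congrArg (fun M : SpecialLinearGroup (Fin 3) F => (M : Matrix (Fin 3) (Fin 3) F) 0 0) h
    simp [coe_mkAff] at this

/-- The spectrum of `F₄² ⋊ SL(2,4)`. -/
theorem affSL_spectrum (hF : Fintype.card F = 4) :
    Set.range (orderOf : affSL F → ℕ) = {1, 2, 3, 4, 5} := by
  ext n
  constructor
  · rintro ⟨g, rfl⟩
    rw [← Subgroup.orderOf_coe]
    exact affSL_orderOf_mem hF g g.2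
  · intro hn
    simp only [Set.mem_insert_iff, Set.mem_singleton_iff] at hn
    rcases hn with rfl | rfl | rfl | rfl | rfl
    · exact ⟨1, orderOf_one⟩
    · obtain ⟨M, hM, ho⟩ := exists_order_two hF
      exact ⟨⟨M, hM⟩, by rw [← Subgroup.orderOf_coe]; exact ho⟩
    · obtain ⟨M, hM, ho⟩ := exists_order_three hF
      exact ⟨⟨M, hM⟩, by rw [← Subgroup.orderOf_coe]; exact ho⟩
    · obtain ⟨M, hM, ho⟩ := exists_order_four hF
      exact ⟨⟨M, hM⟩, by rw [← Subgroup.orderOf_coe]; exact ho⟩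
    · obtain ⟨M, hM, ho⟩ := exists_order_five hF
      exact ⟨⟨M, hM⟩, by rw [← Subgroup.orderOf_coe]; exact ho⟩

end

end Cfsg.Agent.Lib.H17
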