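import Mathlib
import Cfsg.Agent.Lib.H17.AffSL

set_option autoImplicit false

namespace Cfsg.Agent.Lib.H17

open Matrix

section
variable {F : Type*} [CommRing F]

/-- The linear part of an affine matrix, as a monoid homomorphism. -/
def linPart : affSL F →* Matrix (Fin 2) (Fin 2) F where
  toFun g := !![((g : SpecialLinearGroup (Fin 3) F) : Matrix (Fin 3) (Fin 3) F) 0 0,
    ((g : SpecialLinearGroup (Fin 3) F) : Matrix (Fin 3) (Fin 3) F) 0 1;
    ((g : SpecialLinearGroup (Fin 3) F) : Matrix (Fin 3) (Fin 3) F) 1 0,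
    ((g : SpecialLinearGroup (Fin 3) F) : Matrix (Fin 3) (Fin 3) F) 1 1]
  map_one' := by
    ext i j
    fin_cases i <;> fin_cases j <;> simp
  map_mul' := by
    rintro ⟨g, hg0, hg1, hg2⟩ ⟨h, hh0, hh1, hh2⟩
    ext i j
    fin_cases i <;> fin_cases j <;>
      simp [Matrix.mul_apply, Fin.sum_univ_three, hh0, hh1, hh2]

/-- The translation subgroup. -/
def transSub : Subgroup (affSL F) := (linPart (F := F)).ker

instance : (transSub (F := F)).Normal := MonoidHom.normal_ker _

theorem transSub_eta (g : affSL F) (hg : g ∈ transSub (F := F)) :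
    ((g : SpecialLinearGroup (Fin 3) F) : Matrix (Fin 3) (Fin 3) F) =
      !![1, 0, ((g : SpecialLinearGroup (Fin 3) F) : Matrix (Fin 3) (Fin 3) F) 0 2;
         0, 1, ((g : SpecialLinearGroup (Fin 3) F) : Matrix (Fin 3) (Fin 3) F) 1 2; 0, 0, 1] := by
  have h := (affSL_eta g.1 g.2).1
  have hk : linPart g = 1 := hg
  have h00 := congrFun (congrFun hk 0) 0
  have h01 := congrFun (congrFun hk 0) 1
  have h10 := congrFun (congrFun hk 1) 0
  have h11 := congrFun (congrFun hk 1) 1
  simp [linPart] at h00 h01 h10 h11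
  rw [h, h00, h01, h10, h11]
  simp

theorem transSub_comm (h2 : (2 : F) = 0) (x y : transSub (F := F)) : x * y = y * x := by
  apply Subtype.ext
  apply Subtype.ext
  apply Matrix.SpecialLinearGroup.ext
  intro i j
  have hx := transSub_eta x.1 x.2
  have hy := transSub_eta y.1 y.2
  simp only [Subgroup.coe_mul, Matrix.SpecialLinearGroup.coe_mul]
  rw [hx, hy]
  fin_cases i <;> fin_cases j <;>
    simp [Matrix.mul_apply, Fin.sum_univ_three, add_comm]

theorem transSub_sq (h2 : (2 : F) = 0) (x : transSub (F := F)) : x ^ 2 = 1 := by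
  apply Subtype.ext
  apply Subtype.ext
  apply Matrix.SpecialLinearGroup.ext
  intro i j
  have hx := transSub_eta x.1 x.2
  simp only [Subgroup.coe_pow, Subgroup.coe_one, Matrix.SpecialLinearGroup.coe_pow,
    Matrix.SpecialLinearGroup.coe_one]
  rw [hx, pow_two]
  fin_cases i <;> fin_cases j <;>
    simp [Matrix.mul_apply, Fin.sum_univ_three, ← two_mul, h2]

theorem transSub_ne_bot [Nontrivial F] : transSub (F := F) ≠ ⊥ := by
  intro hbot
  have hmem : (⟨mkAff 1 0 0 1 1 0 (by ring), mkAff_mem _ _ _ _ _ _ _⟩ : affSL F) ∈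
      transSub (F := F) := by
    change linPart _ = 1
    ext i j
    fin_cases i <;> fin_cases j <;> simp [linPart, coe_mkAff]
  rw [hbot, Subgroup.mem_bot] at hmem
  have h1 := congrArg (fun g : affSL F =>
    ((g : SpecialLinearGroup (Fin 3) F) : Matrix (Fin 3) (Fin 3) F) 0 2) hmem
  simp [coe_mkAff] at h1

end

end Cfsg.Agent.Lib.H17
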