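/-
ORTHOGONAL PHASE 2 (architect helper21), task O2-B4 (helper17): `Ω_{2m+1}(q)` (q odd, 2m+1 ≥ 7) normalises no field
subalgebra of prime degree of the matrix algebra.
Core: an element `g` of the normaliser of a field subalgebra `K` that fixes the common kernel of two linear
functionals pointwise centralises `K` (dimension > 4): for `x ∈ K` the element `g x g⁻¹ - x ∈ K` kills a non-zero vector
of `ker φ₁ ∩ ker φ₂ ∩ x⁻¹ ker φ₁ ∩ x⁻¹ ker φ₂`, so it is not invertible, so it is `0`.  The Siegel generators of `Ω`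
are of this kind (helper11 `commutator_eq_S`), so `K` centralises `Ω`, so `K` is scalar (helper11 `schur_fin`).
Transport to `Unit ⊕ (Fin m ⊕ Fin m)` as in helper11's `ts_maximal_any`.
-/
import Cfsg.Agent.Lib.H11.ConfOrth5
import Cfsg.Agent.Lib.H11.OmTs5
import Cfsg.Agent.Lib.H11.AschST0b
import Cfsg.Agent.Lib.H29.QuadOdd

set_option autoImplicit false
set_option linter.unusedSectionVars false

namespace Cfsg.Agent.Lib.H17.OP2

open Cfsg Cfsg.Geo
open scoped MatrixGroups Matrix Kronecker

variable {F : Type*} [Field F] [Fintype F]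

theorem b4_two_ne_zero (h : Odd (Fintype.card F)) : (2 : F) ≠ 0 := by
  apply Ring.two_ne_zero
  intro h2
  have h3 := FiniteField.even_card_of_char_two h2
  rcases h with ⟨k, hk⟩
  omega

section generic

variable {ι : Type} [Fintype ι] [DecidableEq ι]

/-- a linear map to `F^4` from a space of dimension `> 4` has a non-zero kernel vector. -/
theorem b4_exists_ker (L : (ι → F) →ₗ[F] (Fin 4 → F)) (h : 4 < Fintype.card ι) :
    ∃ z : ι → F, z ≠ 0 ∧ L z = 0 := by
  have h1 := LinearMap.finrank_range_add_finrank_ker L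
  rw [Module.finrank_fintype_fun_eq_card] at h1
  have h2 : Module.finrank F (LinearMap.range L) ≤ 4 := by
    have := Submodule.finrank_le (LinearMap.range L)
    rwa [Module.finrank_fintype_fun_eq_card, Fintype.card_fin] at this
  have h3 : 0 < Module.finrank F (LinearMap.ker L) := by omega
  obtain ⟨⟨z, hz⟩, hne⟩ :=
    (Module.finrank_pos_iff_exists_ne_zero (R := F) (M := LinearMap.ker L)).mp h3
  refine ⟨z, fun h0 => hne (Subtype.ext h0), LinearMap.mem_ker.mp hz⟩

/-- An element of the normaliser of a field subalgebra `K` fixing the common kernel of two functionals pointwise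
centralises `K` (dimension `> 4`). -/
theorem b4_commute (r : ℕ) (K : Subalgebra F (Matrix ι ι F)) (hK : IsFieldSubalgebra r K)
    (g : GL ι F) (hg : g ∈ subalgebraNormalizer K) (φ₁ φ₂ : (ι → F) →ₗ[F] F)
    (hfix : ∀ z : ι → F, φ₁ z = 0 → φ₂ z = 0 → (g : Matrix ι ι F) *ᵥ z = z)
    (hcard : 4 < Fintype.card ι) (x : Matrix ι ι F) (hx : x ∈ K) :
    (g : Matrix ι ι F) * x = x * (g : Matrix ι ι F) := by
  set gi : Matrix ι ι F := ((g⁻¹ : GL ι F) : Matrix ι ι F) with hgi
  have hggi : (g : Matrix ι ι F) * gi = 1 := by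
    rw [hgi, ← Units.val_mul, mul_inv_cancel, Units.val_one]
  have hgig : gi * (g : Matrix ι ι F) = 1 := by
    rw [hgi, ← Units.val_mul, inv_mul_cancel, Units.val_one]
  set d : Matrix ι ι F := (g : Matrix ι ι F) * x * gi - x with hd
  have hdK : d ∈ K := K.sub_mem ((hg x).mp hx) hx
  have hd0 : d = 0 := by
    by_contra hne
    obtain ⟨d', hd'K, hdd'⟩ := hK.inv d hdK hne
    have hd'd : d' * d = 1 := by rw [hK.comm d' hd'K d hdK]; exact hdd'
    -- the kernel vector
    set L : (ι → F) →ₗ[F] (Fin 4 → F) :=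
      LinearMap.pi ![φ₁, φ₂, φ₁.comp (Matrix.toLin' x), φ₂.comp (Matrix.toLin' x)] with hL
    obtain ⟨z, hz0, hz⟩ := b4_exists_ker L hcard
    have e0 : φ₁ z = 0 := by
      have := congrFun hz 0
      simpa [hL] using this
    have e1 : φ₂ z = 0 := by
      have := congrFun hz 1
      simpa [hL] using this
    have e2 : φ₁ (x *ᵥ z) = 0 := by
      have := congrFun hz 2
      simpa [hL, Matrix.toLin'_apply] using this
    have e3 : φ₂ (x *ᵥ z) = 0 := by
      have := congrFun hz 3
      simpa [hL, Matrix.toLin'_apply] using this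
    have f1 : (g : Matrix ι ι F) *ᵥ z = z := hfix z e0 e1
    have f2 : (g : Matrix ι ι F) *ᵥ (x *ᵥ z) = x *ᵥ z := hfix _ e2 e3
    have f3 : gi *ᵥ z = z := by
      have := congrArg (fun w => gi *ᵥ w) f1
      simp only [Matrix.mulVec_mulVec, hgig, Matrix.one_mulVec] at this
      exact this.symm
    have hdz : d *ᵥ z = 0 := by
      rw [hd, Matrix.sub_mulVec, ← Matrix.mulVec_mulVec, ← Matrix.mulVec_mulVec, f3, f2, sub_self]
    apply hz0
    have := congrArg (fun w => d' *ᵥ w) hdz
    simp only [Matrix.mulVec_mulVec, hd'd, Matrix.one_mulVec, Matrix.mulVec_zero] at this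
    exact this
  have h1 : (g : Matrix ι ι F) * x * gi = x := by
    have := hd0
    rw [hd, sub_eq_zero] at this
    exact this
  calc (g : Matrix ι ι F) * x = (g : Matrix ι ι F) * x * (gi * (g : Matrix ι ι F)) := by
        rw [hgig, mul_one]
    _ = ((g : Matrix ι ι F) * x * gi) * (g : Matrix ι ι F) := by simp only [mul_assoc]
    _ = x * (g : Matrix ι ι F) := by rw [h1]

/-- a field subalgebra of degree `≥ 2` is not contained in the scalars. -/
theorem b4_not_scalar (r : ℕ) (hr : 2 ≤ r) (K : Subalgebra F (Matrix ι ι F)) (hK : IsFieldSubalgebra r K)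
    (h : ∀ x ∈ K, ∃ l : F, x = l • (1 : Matrix ι ι F)) : False := by
  have hle : Subalgebra.toSubmodule K ≤ Submodule.span F {(1 : Matrix ι ι F)} := by
    intro x hx
    obtain ⟨l, hl⟩ := h x hx
    rw [hl]
    exact Submodule.smul_mem _ _ (Submodule.subset_span rfl)
  have h1 : Module.finrank F (Subalgebra.toSubmodule K) ≤ 1 := by
    refine (Submodule.finrank_mono hle).trans ?_
    have := finrank_span_finset_le_card (R := F) ({(1 : Matrix ι ι F)} : Finset (Matrix ι ι F))
    rw [Finset.coe_singleton, Finset.card_singleton] at this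
    exact this
  have h2 : Module.finrank F (Subalgebra.toSubmodule K) = r := hK.finrank_eq
  omega

end generic

section fin

open Cfsg.Agent.Lib.H11.CD Cfsg.Agent.Lib.H11.SiegelGen

variable {n : ℕ} (Q : QuadraticForm F (Fin n → F))

/-- the core on `Fin n` with a bundled form. -/
theorem b4_fin (hQ : (QuadraticMap.polarBilin Q).Nondegenerate) (h2 : (2 : F) ≠ 0) (hn : 7 ≤ n)
    (r : ℕ) (hr : 2 ≤ r) (K : Subalgebra F (Matrix (Fin n) (Fin n) F)) (hK : IsFieldSubalgebra r K) :
    ¬ omegaGL (⇑Q) ≤ subalgebraNormalizer K := by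
  intro hle
  have hS := commutator_eq_S Q hQ h2 (by omega)
  apply b4_not_scalar r hr K hK
  intro x hx
  apply Cfsg.Agent.Lib.H11.ConfOrth.schur_fin Q hQ h2 hn x
  intro s hs
  rw [hS] at hs
  -- `x` commutes with the closure of the Siegel generators
  have key : ∀ s ∈ S Q, ((s : GL (Fin n) F) : Matrix (Fin n) (Fin n) F) * x =
      x * ((s : GL (Fin n) F) : Matrix (Fin n) (Fin n) F) := by
    intro s hs
    unfold S at hs
    induction hs using Subgroup.closure_induction with
    | mem s hs =>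
      have hsΩ : (s : GL (Fin n) F) ∈ omegaGL (⇑Q) := by
        refine ⟨s, ?_, rfl⟩
        show s ∈ commutator ↥(isometryGroup F ⇑Q)
        rw [hS]
        exact Subgroup.subset_closure hs
      obtain ⟨u, v, c, hu, hv, huv, hsm⟩ := hs
      refine b4_commute r K hK (s : GL (Fin n) F) (hle hsΩ)
        (QuadraticMap.polarBilin Q u) (QuadraticMap.polarBilin Q v) ?_ (by simp; omega) x hx
      intro z h1 h2
      have h1' : QuadraticMap.polar (⇑Q) u z = 0 := h1
      have h2' : QuadraticMap.polar (⇑Q) v z = 0 := h2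
      rw [hsm, Cfsg.Agent.Lib.H4.siegelMatrix_mulVec, h1', h2', mul_zero, zero_smul, zero_smul,
        add_zero, sub_zero]
    | one => simp
    | mul a b _ _ ha hb =>
      rw [Subgroup.coe_mul, Units.val_mul, mul_assoc, hb, ← mul_assoc, ha, mul_assoc]
    | inv a _ ha =>
      set A : Matrix (Fin n) (Fin n) F := ((a : GL (Fin n) F) : Matrix (Fin n) (Fin n) F) with hA
      set Ai : Matrix (Fin n) (Fin n) F :=
        (((a⁻¹ : ↥(isometryGroup F ⇑Q)) : GL (Fin n) F) : Matrix (Fin n) (Fin n) F) with hAi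
      have e1 : Ai * A = 1 := by
        rw [hAi, hA, ← Units.val_mul, ← Subgroup.coe_mul, inv_mul_cancel, Subgroup.coe_one,
          Units.val_one]
      have e2 : A * Ai = 1 := by
        rw [hAi, hA, ← Units.val_mul, ← Subgroup.coe_mul, mul_inv_cancel, Subgroup.coe_one,
          Units.val_one]
      calc Ai * x = Ai * x * (A * Ai) := by rw [e2, mul_one]
        _ = Ai * (x * A) * Ai := by simp only [mul_assoc]
        _ = Ai * (A * x) * Ai := by rw [ha]
        _ = (Ai * A) * x * Ai := by simp only [mul_assoc]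
        _ = x * Ai := by rw [e1, one_mul]
  exact (key s hs).symm

end fin

section transport

open Cfsg.Agent.Lib.H11.IsoReindex Cfsg.Agent.Lib.H11.OmTs Cfsg.Agent.Lib.H11.AschS

variable {ι : Type} [Fintype ι] [DecidableEq ι]

/-- **O2-B4**, any index type, any non-degenerate quadratic form in dimension `≥ 7`, odd characteristic. -/
theorem b4_any (Q : (ι → F) → F) (hQ : IsNondegenerateQuadraticForm Q) (h2 : (2 : F) ≠ 0)
    (hn : 7 ≤ Fintype.card ι) (r : ℕ) (hr : 2 ≤ r) (K : Subalgebra F (Matrix ι ι F))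
    (hK : IsFieldSubalgebra r K) : ¬ omegaGL Q ≤ subalgebraNormalizer K := by
  intro hle
  obtain ⟨e, -⟩ : ∃ e : ι ≃ Fin (Fintype.card ι), True := ⟨Fintype.equivFin ι, trivial⟩
  set Q' := trQF e (Cfsg.Agent.Lib.H29.Orth.toQF Q hQ) with hQ'
  have hQ'nd := nondeg_trQF e _ (Cfsg.Agent.Lib.H29.Orth.toQF_nondegenerate Q hQ)
  set K' : Subalgebra F (Matrix (Fin (Fintype.card ι)) (Fin (Fintype.card ι)) F) := pbK e.symm K with hK'
  have hK'f : IsFieldSubalgebra r K' := isFieldSubalgebra_pbK e.symm K r hK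
  apply b4_fin Q' hQ'nd h2 hn r hr K' hK'f
  have hcoe : (⇑Q' : (Fin (Fintype.card ι) → F) → F) = tr e Q := by
    rw [hQ', coe_trQF, Cfsg.Agent.Lib.H29.Orth.coe_toQF]
  rw [hcoe]
  have hcomap := comap_omegaGL (F := F) e Q
  apply le_subalgebraNormalizer_pbK e.symm (omegaGL (tr e Q)) K
  rintro _ ⟨g', hg', rfl⟩
  apply hle
  rw [← hcomap, Subgroup.mem_comap]
  have : (Cfsg.Agent.Lib.H11.IsoReindex.glReindex (F := F) e).toMonoidHom
      ((Cfsg.Geo.glReindex (F := F) e.symm).toMonoidHom g') = g' := by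
    apply Units.ext
    ext i j
    show ((g' : GL (Fin (Fintype.card ι)) F) : Matrix _ _ F) (e (e.symm i)) (e (e.symm j)) =
      ((g' : GL (Fin (Fintype.card ι)) F) : Matrix _ _ F) i j
    rw [Equiv.apply_symm_apply, Equiv.apply_symm_apply]
  rw [this]
  exact hg'

end transport

/-- **O2-B4**. -/
theorem not_omega_le_subalgebraNormalizer (hodd : Odd (Fintype.card F)) (m : ℕ) (hm : 3 ≤ m) (r : ℕ) (hr : r.Prime)
    (K : Subalgebra F (Matrix (Unit ⊕ (Fin m ⊕ Fin m)) (Unit ⊕ (Fin m ⊕ Fin m)) F))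
    (hK : IsFieldSubalgebra r K) :
    ¬ omegaGL (quadFormOdd m F) ≤ subalgebraNormalizer K := by
  have h2 := b4_two_ne_zero hodd
  have hQ := Cfsg.Agent.Lib.H29.QuadOdd.isNondegenerateQuadraticForm (F := F) m h2
  refine b4_any (quadFormOdd m F) hQ h2 ?_ r hr.two_le K hK
  simp
  omega

end Cfsg.Agent.Lib.H17.OP2
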