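/-
S5673 project (orthogonal Aschbacher in odd dimension, architect helper24), module OM1 (helper17): a reducible
subgroup of the isometry group of a non-degenerate quadratic form (odd characteristic) stabilises a totally
singular subspace or a non-degenerate proper subspace.  Same argument as UM1 / SM1.
-/
import Cfsg.Agent.Lib.H24.AschODefs

set_option autoImplicit false

namespace Cfsg.Agent.Lib.H17.Asch

open Cfsg Cfsg.Geo Cfsg.Agent.Lib.Lead.Asch Cfsg.Agent.Lib.H24.Asch
open scoped MatrixGroups Matrix Kronecker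

variable {F : Type*} [Field F] [Fintype F] {n : ℕ}

theorem two_ne_zero_of_odd_card (h : Odd (Fintype.card F)) : (2 : F) ≠ 0 := by
  apply Ring.two_ne_zero
  intro h2
  have h3 := FiniteField.even_card_of_char_two h2
  rcases h with ⟨k, hk⟩
  omega

/-- The polar form as a bundled bilinear form. -/
def Bp {Q : (Fin n → F) → F} (hQ : IsNondegenerateQuadraticForm Q) : LinearMap.BilinForm F (Fin n → F) :=
  LinearMap.mk₂ F (QuadraticMap.polar Q) hQ.polar_bilinear.add_left hQ.polar_bilinear.smul_left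
    hQ.polar_bilinear.add_right hQ.polar_bilinear.smul_right

theorem Bp_refl {Q : (Fin n → F) → F} (hQ : IsNondegenerateQuadraticForm Q) : (Bp hQ).IsRefl := by
  intro u v h
  change QuadraticMap.polar Q v u = 0
  rw [QuadraticMap.polar_comm]
  exact h

theorem Bp_nondeg {Q : (Fin n → F) → F} (hQ : IsNondegenerateQuadraticForm Q) :
    (Bp hQ).Nondegenerate := by
  constructor
  · intro u hu
    by_contra hne
    obtain ⟨x, hx⟩ := (hQ.nondegenerate u hne).2
    exact hx (hu x)
  · intro v hv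
    by_contra hne
    obtain ⟨x, hx⟩ := (hQ.nondegenerate v hne).1
    exact hx (hv x)

/-- **OM1** reducible ⇒ class 1. -/
theorem otame_of_reducible (Q : (Fin n → F) → F) (hQ : OData Q) (H : Subgroup (GL (Fin n) F))
    (hH : H ≤ isometryGroup F Q) (h : ¬ ActsIrreducibly (matrixSet H)) : OC1 Q H := by
  unfold ActsIrreducibly at h
  push Not at h
  obtain ⟨W, hW, hbot, htop⟩ := h
  have h2 := two_ne_zero_of_odd_card hQ.qodd
  have key : ∀ g ∈ H, ∀ v ∈ W, (g : Matrix (Fin n) (Fin n) F) *ᵥ v ∈ W := by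
    intro g hg v hv
    have h1 := hW (g : Matrix (Fin n) (Fin n) F) ⟨g, hg, rfl⟩
    apply h1
    exact ⟨v, hv, by simp [Matrix.toLin'_apply]⟩
  have hQg : ∀ g ∈ H, ∀ v, Q ((g : Matrix (Fin n) (Fin n) F) *ᵥ v) = Q v := fun g hg v => hH hg v v
  have hfg : ∀ g ∈ H, ∀ u v, QuadraticMap.polar Q ((g : Matrix (Fin n) (Fin n) F) *ᵥ u)
      ((g : Matrix (Fin n) (Fin n) F) *ᵥ v) = QuadraticMap.polar Q u v := by
    intro g hg u v
    unfold QuadraticMap.polar
    rw [← Matrix.mulVec_add, hQg g hg, hQg g hg, hQg g hg]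
  set P : Submodule F (Fin n → F) := (Bp hQ.quad).orthogonal W with hP
  have hmemP : ∀ v, v ∈ P ↔ ∀ w ∈ W, QuadraticMap.polar Q w v = 0 := fun v => Iff.rfl
  have keyP : ∀ g ∈ H, ∀ v ∈ P, (g : Matrix (Fin n) (Fin n) F) *ᵥ v ∈ P := by
    intro g hg v hv
    rw [hmemP] at hv ⊢
    intro w hw
    have h1 := hv _ (key g⁻¹ (H.inv_mem hg) w hw)
    have h3 := hfg g hg (((g⁻¹ : GL (Fin n) F) : Matrix (Fin n) (Fin n) F) *ᵥ w) v
    rw [Matrix.mulVec_mulVec, ← Units.val_mul, mul_inv_cancel, Units.val_one, Matrix.one_mulVec, h1] at h3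
    exact h3
  have stab : ∀ X : Submodule F (Fin n → F),
      (∀ g ∈ H, ∀ v ∈ X, (g : Matrix (Fin n) (Fin n) F) *ᵥ v ∈ X) → H ≤ subspaceStabilizer X := by
    intro X hX g hg v
    change v ∈ X ↔ (g : Matrix (Fin n) (Fin n) F) *ᵥ v ∈ X
    constructor
    · exact hX g hg v
    · intro hv
      have h4 := hX g⁻¹ (H.inv_mem hg) _ hv
      rw [Matrix.mulVec_mulVec, ← Units.val_mul, inv_mul_cancel, Units.val_one, Matrix.one_mulVec] at h4
      exact h4
  by_cases hrad : W ⊓ P = ⊥
  · -- `W` is non-degenerate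
    right
    refine ⟨W, hbot, htop, ?_, stab W key⟩
    intro w hw hw0
    have hkey : ¬ ∀ x ∈ W, QuadraticMap.polar Q x w = 0 := by
      intro hall
      apply hw0
      have : w ∈ W ⊓ P := ⟨hw, (hmemP w).mpr hall⟩
      rw [hrad] at this
      exact (Submodule.mem_bot F).mp this
    push Not at hkey
    obtain ⟨x, hx, hne⟩ := hkey
    exact ⟨⟨x, hx, hne⟩, ⟨x, hx, by rwa [QuadraticMap.polar_comm]⟩⟩
  · -- the radical is totally singular
    left
    refine ⟨W ⊓ P, hrad, ?_, ?_⟩
    · intro w hw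
      have h1 : QuadraticMap.polar Q w w = 0 := (hmemP w).mp hw.2 w hw.1
      unfold QuadraticMap.polar at h1
      have h3 : Q (w + w) = 2 ^ 2 * Q w := by
        rw [← two_smul F w]
        exact hQ.quad.smul 2 w
      rw [h3] at h1
      have h4 : 2 * Q w = 0 := by linear_combination h1
      rcases mul_eq_zero.mp h4 with h5 | h5
      · exact absurd h5 h2
      · exact h5
    · apply stab
      intro g hg v hv
      exact ⟨key g hg v hv.1, keyP g hg v hv.2⟩

end Cfsg.Agent.Lib.H17.Asch
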