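/-
S5673 project (orthogonal odd Aschbacher), modules OX1-OX5, OX7, OXR: every class predicate `OCk` and the residual
class transport back along `glReindex e`, `e : κ ≃ Fin n`.  Built on helper11's generic pullback toolkit
(Lib/H11/AschST0a-e: `pbW`, `pbK`, `map_subfieldSubgroup`, `isResidualCore_comap`, ...) via
`QuadraticMap.polar (trQ e Q) = reF e (QuadraticMap.polar Q)`.  (helper17)
-/
import Cfsg.Agent.Lib.H24.AschODefs
import Cfsg.Agent.Lib.H24.AschOStd
import Cfsg.Agent.Lib.H11.AschST0e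

set_option autoImplicit false
set_option linter.unusedSectionVars false

namespace Cfsg.Agent.Lib.H17.Asch

open Cfsg Cfsg.Geo Cfsg.Agent.Lib.Lead.Asch Cfsg.Agent.Lib.H24.Asch Cfsg.Agent.Lib.H11.AschS
open scoped MatrixGroups Matrix Kronecker

variable {F : Type*} [Field F] [Fintype F] {n : ℕ}

section transport

variable {κ : Type} [Fintype κ] [DecidableEq κ]

/-- the polar form of the transported form is the transported polar form (helper11's `reF`). -/
theorem polar_trQ_eq_reF (e : κ ≃ Fin n) (Q : (κ → F) → F) :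
    QuadraticMap.polar (trQ e Q) = reF e (QuadraticMap.polar Q) := by
  funext u v
  rw [polar_trQ]
  rfl

theorem trQ_comp_symm (e : κ ≃ Fin n) (Q : (κ → F) → F) (w : κ → F) :
    trQ e Q (w ∘ e.symm) = Q w := by
  unfold trQ
  rw [comp_symm_comp']

theorem pbW_ne_top (e : κ ≃ Fin n) (W : Submodule F (Fin n → F)) (hW : W ≠ ⊤) : pbW e W ≠ ⊤ := by
  intro h
  apply hW
  rw [eq_top_iff]
  intro x _
  have h1 : x ∘ e ∈ pbW e W := by rw [h]; exact Submodule.mem_top
  exact (comp_mem_pbW e W x).1 h1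

theorem isTotallySingularQuad_pbW (e : κ ≃ Fin n) (Q : (κ → F) → F) (W : Submodule F (Fin n → F))
    (h : IsTotallySingularQuad (trQ e Q) W) : IsTotallySingularQuad Q (pbW e W) := by
  intro w hw
  have := h (w ∘ e.symm) hw
  rwa [trQ_comp_symm] at this

/-- the linear equivalence between a pulled back subspace and the original one. -/
noncomputable def pbWEquiv (e : κ ≃ Fin n) (W : Submodule F (Fin n → F)) : pbW e W ≃ₗ[F] W where
  toFun x := ⟨(x : κ → F) ∘ e.symm, x.2⟩
  invFun w := ⟨(w : Fin n → F) ∘ e, (comp_mem_pbW e W w.1).2 w.2⟩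
  map_add' a b := rfl
  map_smul' c a := rfl
  left_inv a := by
    apply Subtype.ext
    exact comp_symm_comp' e a.1
  right_inv a := by
    apply Subtype.ext
    exact comp_comp_symm' e a.1

theorem areIsometricFor_pbW (e : κ ≃ Fin n) (Q : (κ → F) → F) (W W' : Submodule F (Fin n → F))
    (h : AreIsometricFor (trQ e Q) W W') : AreIsometricFor Q (pbW e W) (pbW e W') := by
  obtain ⟨φ, hφ⟩ := h
  refine ⟨((pbWEquiv e W).trans φ).trans (pbWEquiv e W').symm, fun w => ?_⟩
  have h1 := hφ (pbWEquiv e W w)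
  have h2 : trQ e Q ((φ (pbWEquiv e W w) : W') : Fin n → F) =
      Q (((((pbWEquiv e W).trans φ).trans (pbWEquiv e W').symm w : pbW e W') : κ → F)) := rfl
  have h3 : trQ e Q ((pbWEquiv e W w : W) : Fin n → F) = Q (w : κ → F) :=
    trQ_comp_symm e Q (w : κ → F)
  rw [← h2, h1, h3]

theorem isOrthogonalMDecomposition_pbW (e : κ ≃ Fin n) (Q : (κ → F) → F) {t k : ℕ}
    (D : Fin t → Submodule F (Fin n → F)) (h : IsOrthogonalMDecomposition (trQ e Q) k D) :
    IsOrthogonalMDecomposition Q k (fun i => pbW e (D i)) := by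
  obtain ⟨h1, h2⟩ := h
  rw [polar_trQ_eq_reF] at h1
  exact ⟨⟨isMDecomposition_pbW e D h1.decomp,
    fun i => isNondegenerateOn_pbW e _ _ (h1.nondegenerate i),
    fun i j hij => areOrthogonalFor_pbW e _ _ _ (h1.orthogonal i j hij)⟩,
    fun i j => areIsometricFor_pbW e Q _ _ (h2 i j)⟩

/-- **OX1** -/
theorem OC1.of_tr (e : κ ≃ Fin n) (Q : (κ → F) → F) (H : Subgroup (GL κ F))
    (h : OC1 (trQ e Q) (H.map (glReindex e).toMonoidHom)) : OC1 Q H := by
  rcases h with h | h
  · obtain ⟨W, h1, h2, h3⟩ := h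
    exact Or.inl ⟨pbW e W, pbW_ne_bot e W h1, isTotallySingularQuad_pbW e Q W h2,
      le_subspaceStabilizer_pbW e H W h3⟩
  · obtain ⟨W, h1, h2, h3, h4⟩ := h
    rw [polar_trQ_eq_reF] at h3
    exact Or.inr ⟨pbW e W, pbW_ne_bot e W h1, pbW_ne_top e W h2, isNondegenerateOn_pbW e _ W h3,
      le_subspaceStabilizer_pbW e H W h4⟩

/-- **OX2** -/
theorem OC2.of_tr (e : κ ≃ Fin n) (Q : (κ → F) → F) (H : Subgroup (GL κ F))
    (h : OC2 (trQ e Q) (H.map (glReindex e).toMonoidHom)) : OC2 Q H := by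
  rcases h with h | h
  · obtain ⟨t, k, D, h1, h2, h3⟩ := h
    exact Or.inl ⟨t, k, fun i => pbW e (D i), h1, isOrthogonalMDecomposition_pbW e Q D h2,
      le_decompositionStabilizer_pbW e H D h3⟩
  · obtain ⟨t, D, h1, h2, h3⟩ := h
    exact Or.inr ⟨t, fun i => pbW e (D i), h1, isOrthogonalMDecomposition_pbW e Q D h2,
      le_decompositionStabilizer_pbW e H D h3⟩

/-- **OX3** -/
theorem OC3.of_tr (e : κ ≃ Fin n) (Q : (κ → F) → F) (H : Subgroup (GL κ F))
    (h : OC3 (trQ e Q) (H.map (glReindex e).toMonoidHom)) : OC3 Q H := by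
  obtain ⟨r, K, h1, h2, h3, h4, h5⟩ := h
  rw [polar_trQ_eq_reF] at h4
  refine ⟨r, pbK e K, h1, ?_, isFieldSubalgebra_pbK e K r h3, selfAdjoint_pbK e _ K h4,
    le_subalgebraNormalizer_pbK e H K h5⟩
  rw [Fintype.card_congr e]
  exact h2

/-- **OX4** -/
theorem OC4.of_tr (e : κ ≃ Fin n) (Q : (κ → F) → F) (H : Subgroup (GL κ F))
    (h : OC4 (trQ e Q) (H.map (glReindex e).toMonoidHom)) : OC4 Q H := by
  obtain ⟨n₁, n₂, e₁, P, f₁, f₂, h1, h2, h3, h4, h5, h6⟩ := h
  set P' : GL κ F := (glReindex (F := F) e).symm P with hP'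
  have hP : glReindex e P' = P := by rw [hP', MulEquiv.apply_symm_apply]
  refine ⟨n₁, n₂, e.trans e₁, P', f₁, f₂, h1, h2, h3, h4, ?_, ?_⟩
  · obtain ⟨c, hc, hxy⟩ := h5
    refine ⟨c, hc, fun x y => ?_⟩
    have := hxy x y
    rw [polar_trQ, ← hP, glReindex_mulVec_comp, glReindex_mulVec_comp] at this
    exact this
  · refine le_of_reH_le_map e H _ _ ?_ h6
    unfold tensorProductSubgroup
    rw [map_conj_map_glReindex, hP]

/-- **OX5** -/
theorem OC5.of_tr (e : κ ≃ Fin n) (Q : (κ → F) → F) (H : Subgroup (GL κ F))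
    (h : OC5 (trQ e Q) (H.map (glReindex e).toMonoidHom)) : OC5 Q H := by
  obtain ⟨F₀, r, P, h1, h2, h3, h4⟩ := h
  set P' : GL κ F := (glReindex (F := F) e).symm P with hP'
  have hP : glReindex e P' = P := by rw [hP', MulEquiv.apply_symm_apply]
  refine ⟨F₀, r, P', h1, h2, ?_, ?_⟩
  · intro u' hu
    have := h3 (u' ∘ e.symm) (fun i => hu _)
    unfold trQ at this
    rw [← hP, glReindex_mulVec_comp, comp_symm_comp'] at this
    exact this
  · refine le_of_reH_le_map e H _ _ ?_ h4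
    rw [map_subfieldSubgroup, hP]

/-- **OX7** -/
theorem OC7.of_tr (e : κ ≃ Fin n) (Q : (κ → F) → F) (H : Subgroup (GL κ F))
    (h : OC7 (trQ e Q) (H.map (glReindex e).toMonoidHom)) : OC7 Q H := by
  obtain ⟨k, t, e₁, P, f₁, h1, h2, h3, h4, h5, h6⟩ := h
  set P' : GL κ F := (glReindex (F := F) e).symm P with hP'
  have hP : glReindex e P' = P := by rw [hP', MulEquiv.apply_symm_apply]
  refine ⟨k, t, e.trans e₁, P', f₁, h1, h2, h3, h4, ?_, ?_⟩
  · obtain ⟨c, hc, hxy⟩ := h5
    refine ⟨c, hc, fun x y => ?_⟩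
    have := hxy x y
    rw [polar_trQ, ← hP, glReindex_mulVec_comp, glReindex_mulVec_comp] at this
    exact this
  · refine le_of_reH_le_map e H _ _ ?_ h6
    unfold tensorWreathSubgroup
    rw [map_conj_map_glReindex, hP]

/-- **OXR** the residual class transports back. -/
theorem InOrthogonalResidualClass.of_tr (e : κ ≃ Fin n) (H : Subgroup (GL κ F))
    (h : InOrthogonalResidualClass (H.map (glReindex e).toMonoidHom)) : InOrthogonalResidualClass H := by
  obtain ⟨P, hcore, hu⟩ := h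
  refine ⟨P.comap (glReindex (F := F) e).toMonoidHom, isResidualCore_comap e H P hcore, ?_⟩
  rintro ⟨σ, f', hf', hfix⟩
  exact hu ⟨σ, reF e f', isUnitaryForm_reF e σ f' hf', fixesForm_of_comap e P f' hfix⟩

end transport

end Cfsg.Agent.Lib.H17.Asch
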