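/-
Phase 2 of the S5630 project (helper28's farm-out), task P2-E6 (helper17): for `|F| = 3` the stabiliser in
`SL_4(3)` of a decomposition into two planes fixes, up to scalars, the symplectic form "sum of the two block
determinants".  The set-up (collected basis of the decomposition, block coefficients) follows helper2's P2-E5.
-/
import Cfsg.Agent.Lib.Lead.AschDefs2
import Cfsg.Agent.Lib.H28.GLBasic

set_option autoImplicit false

namespace Cfsg.Agent.Lib.H17.AschP2

open Cfsg Cfsg.Geo Cfsg.Agent.Lib.Lead.Asch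
open scoped MatrixGroups Matrix Kronecker

variable {F : Type*} [Field F] [Fintype F]

/-- The block permutation `⟨i, k⟩ ↦ ⟨σ i, k⟩`. -/
def rho (σ : Equiv.Perm (Fin 2)) : Equiv.Perm ((_ : Fin 2) × Fin 2) where
  toFun a := ⟨σ a.1, a.2⟩
  invFun a := ⟨σ.symm a.1, a.2⟩
  left_inv a := by simp
  right_inv a := by simp

theorem sign_rho : ∀ σ : Equiv.Perm (Fin 2), Equiv.Perm.sign (rho σ) = 1 := by decide

theorem eq_one_or_neg_one_of_card_three (hq : Fintype.card F = 3) (a : F) (ha : a ≠ 0) :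
    a = 1 ∨ a = -1 := by
  have h1 : a ^ (Fintype.card F - 1) = 1 := FiniteField.pow_card_sub_one_eq_one a ha
  rw [hq] at h1
  have h2 : (a - 1) * (a + 1) = 0 := by
    have : a ^ 2 = 1 := h1
    linear_combination this
  rcases mul_eq_zero.mp h2 with h | h
  · left; linear_combination h
  · right; linear_combination h

/-- **P2-E6** (n = 4, two blocks of dimension 2, `|F| = 3`). -/
theorem c2_m2_q3_n4 (D : Fin 2 → Submodule F (Fin 4 → F)) (hD : IsMDecomposition 2 D)
    (hq : Fintype.card F = 3) :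
    ∃ f : (Fin 4 → F) → (Fin 4 → F) → F, IsSymplecticForm f ∧
      decompositionStabilizer D ⊓ specialLinear (Fin 4) F ≤ similarityGroup f := by
  classical
  have hint := DirectSum.isInternal_submodule_of_iSupIndep_of_iSup_eq_top hD.indep hD.iSup_eq_top
  let b : ∀ i, Module.Basis (Fin 2) F (D i) := fun i =>
    Module.finBasisOfFinrankEq F (D i) (hD.finrank_eq i)
  let B := hint.collectedBasis b
  have hBmem : ∀ (i : Fin 2) (k : Fin 2), B ⟨i, k⟩ ∈ D i := fun i k =>
    hint.collectedBasis_mem b ⟨i, k⟩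
  let f : (Fin 4 → F) → (Fin 4 → F) → F := fun u v =>
    ∑ i : Fin 2, (B.repr u ⟨i, 0⟩ * B.repr v ⟨i, 1⟩ - B.repr u ⟨i, 1⟩ * B.repr v ⟨i, 0⟩)
  have hfdef : ∀ u v, f u v =
    ∑ i : Fin 2, (B.repr u ⟨i, 0⟩ * B.repr v ⟨i, 1⟩ - B.repr u ⟨i, 1⟩ * B.repr v ⟨i, 0⟩) :=
    fun _ _ => rfl
  have hskew : ∀ u v, f u v = - f v u := by
    intro u v
    rw [hfdef, hfdef, ← Finset.sum_neg_distrib]
    refine Finset.sum_congr rfl fun i _ => ?_
    ring
  have n01 : ∀ i : Fin 2, ¬ ((⟨i, 0⟩ : (_ : Fin 2) × Fin 2) = ⟨i, 1⟩) := by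
    intro i h
    have := eq_of_heq (Sigma.mk.inj h).2
    exact absurd this (by decide)
  have n10 : ∀ i : Fin 2, ¬ ((⟨i, 1⟩ : (_ : Fin 2) × Fin 2) = ⟨i, 0⟩) := fun i h => n01 i h.symm
  refine ⟨f, ⟨⟨?_, ?_, ?_, ?_⟩, hskew, ?_, ?_⟩, ?_⟩
  · intro x y v
    rw [hfdef, hfdef, hfdef, ← Finset.sum_add_distrib]
    refine Finset.sum_congr rfl fun i _ => ?_
    rw [map_add, Finsupp.add_apply, Finsupp.add_apply]
    ring
  · intro c x v
    rw [hfdef, hfdef, Finset.mul_sum]
    refine Finset.sum_congr rfl fun i _ => ?_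
    rw [map_smul, Finsupp.smul_apply, Finsupp.smul_apply, smul_eq_mul, smul_eq_mul]
    ring
  · intro v x y
    rw [hfdef, hfdef, hfdef, ← Finset.sum_add_distrib]
    refine Finset.sum_congr rfl fun i _ => ?_
    rw [map_add, Finsupp.add_apply, Finsupp.add_apply]
    ring
  · intro c v x
    rw [hfdef, hfdef, Finset.mul_sum]
    refine Finset.sum_congr rfl fun i _ => ?_
    rw [map_smul, Finsupp.smul_apply, Finsupp.smul_apply, smul_eq_mul, smul_eq_mul]
    ring
  · intro v
    rw [hfdef]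
    refine Finset.sum_eq_zero fun i _ => ?_
    ring
  · -- nondegenerate
    intro v hv
    have hrepr : B.repr v ≠ 0 := fun h => hv (by simpa using h)
    obtain ⟨a, ha⟩ : ∃ a, B.repr v a ≠ 0 := by
      by_contra hcon
      push Not at hcon
      exact hrepr (Finsupp.ext hcon)
    obtain ⟨i, k⟩ := a
    have hex : ∃ x, f x v ≠ 0 := by
      have hk : k = 0 ∨ k = 1 := by
        rcases k with ⟨k, hk⟩
        interval_cases k
        · left; rfl
        · right; rfl
      have hother : ∀ (k' : Fin 2) (j : Fin 2), j ≠ i → ∀ l : Fin 2,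
          (Finsupp.single (⟨i, k'⟩ : (_ : Fin 2) × Fin 2) (1 : F)) ⟨j, l⟩ = 0 := by
        intro k' j hji l
        rw [Finsupp.single_apply, if_neg]
        intro h
        exact hji (congrArg Sigma.fst h).symm
      rcases hk with rfl | rfl
      · refine ⟨B ⟨i, 1⟩, ?_⟩
        rw [hfdef, Finset.sum_eq_single i]
        · simp only [Module.Basis.repr_self]
          rw [Finsupp.single_apply, Finsupp.single_apply, if_neg (n10 i), if_pos rfl]
          intro h0
          apply ha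
          linear_combination -h0
        · intro j _ hji
          simp only [Module.Basis.repr_self]
          rw [hother 1 j hji 0, hother 1 j hji 1]
          ring
        · intro h; exact absurd (Finset.mem_univ i) h
      · refine ⟨B ⟨i, 0⟩, ?_⟩
        rw [hfdef, Finset.sum_eq_single i]
        · simp only [Module.Basis.repr_self]
          rw [Finsupp.single_apply, Finsupp.single_apply, if_pos rfl, if_neg (n01 i)]
          intro h0
          apply ha
          linear_combination h0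
        · intro j _ hji
          simp only [Module.Basis.repr_self]
          rw [hother 0 j hji 0, hother 0 j hji 1]
          ring
        · intro h; exact absurd (Finset.mem_univ i) h
    obtain ⟨x, hx⟩ := hex
    refine ⟨⟨x, hx⟩, ⟨x, ?_⟩⟩
    rw [hskew]
    exact neg_ne_zero.mpr hx
  · -- invariance up to a scalar
    rintro g ⟨hg, hgSL⟩
    obtain ⟨σ, hσ⟩ := hg
    have hgdet : (g : Matrix (Fin 4) (Fin 4) F).det = 1 :=
      (Cfsg.Agent.Lib.H28.mem_specialLinear_iff g).mp hgSL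
    set L : (Fin 4 → F) →ₗ[F] (Fin 4 → F) := Matrix.toLin' (g : Matrix (Fin 4) (Fin 4) F) with hL
    have hLapp : ∀ w, (g : Matrix (Fin 4) (Fin 4) F) *ᵥ w = L w := fun w => by
      rw [hL, Matrix.toLin'_apply]
    have hLmem : ∀ (i : Fin 2) (w : Fin 4 → F), w ∈ D i → L w ∈ D (σ i) := by
      intro i w hw
      rw [← hσ i]
      exact ⟨w, hw, rfl⟩
    let C : Fin 2 → Fin 2 → Fin 2 → F := fun i l k => B.repr (L (B ⟨i, k⟩)) ⟨σ i, l⟩
    have hzero : ∀ (j i : Fin 2) (k l : Fin 2), j ≠ i → B.repr (L (B ⟨j, k⟩)) ⟨σ i, l⟩ = 0 := by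
      intro j i k l hji
      have hne : σ j ≠ σ i := fun h => hji (σ.injective h)
      exact hint.collectedBasis_repr_of_mem_ne b (x := L (B ⟨j, k⟩)) (i := σ j) (j := σ i) (a := l)
        hne (hLmem j _ (hBmem j k))
    have key : ∀ (u : Fin 4 → F) (i : Fin 2) (l : Fin 2),
        B.repr (L u) ⟨σ i, l⟩ = C i l 0 * B.repr u ⟨i, 0⟩ + C i l 1 * B.repr u ⟨i, 1⟩ := by
      intro u i l
      have hu : u = ∑ a, B.repr u a • B a := (B.sum_repr u).symm
      conv_lhs => rw [hu]
      rw [map_sum, map_sum, Finsupp.finsetSum_apply, Fintype.sum_sigma]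
      rw [Finset.sum_eq_single i]
      · rw [Fin.sum_univ_two]
        simp only [map_smul, Finsupp.smul_apply, smul_eq_mul]
        show _ = B.repr (L (B ⟨i, 0⟩)) ⟨σ i, l⟩ * _ + B.repr (L (B ⟨i, 1⟩)) ⟨σ i, l⟩ * _
        ring
      · intro j _ hji
        refine Finset.sum_eq_zero fun k _ => ?_
        simp only [map_smul, Finsupp.smul_apply, smul_eq_mul]
        show _ * B.repr (L (B ⟨j, k⟩)) ⟨σ i, l⟩ = 0
        rw [hzero j i k l hji, mul_zero]
      · intro h; exact absurd (Finset.mem_univ i) h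
    -- the determinant
    let M := LinearMap.toMatrix B B L
    have hMdet : M.det = 1 := by
      rw [LinearMap.det_toMatrix, hL, LinearMap.det_toLin', hgdet]
    let e : ((_ : Fin 2) × Fin 2) ≃ Fin 2 × Fin 2 :=
      (Equiv.sigmaEquivProd (Fin 2) (Fin 2)).trans (Equiv.prodComm _ _)
    have hblock : ((M.submatrix (rho σ) id).submatrix e.symm e.symm) =
        Matrix.blockDiagonal (fun i : Fin 2 => Matrix.of (fun l k => C i l k)) := by
      ext ⟨l, i'⟩ ⟨k, i⟩
      rw [Matrix.blockDiagonal_apply]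
      show LinearMap.toMatrix B B L ⟨σ i', l⟩ ⟨i, k⟩ = if i' = i then C i' l k else 0
      rw [LinearMap.toMatrix_apply]
      by_cases hii : i' = i
      · subst hii
        rw [if_pos rfl]
      · rw [if_neg hii]
        exact hzero i i' k l (fun h => hii h.symm)
    have hdet2 : (C 0 0 0 * C 0 1 1 - C 0 0 1 * C 0 1 0) * (C 1 0 0 * C 1 1 1 - C 1 0 1 * C 1 1 0) = 1 := by
      have h1 := congrArg Matrix.det hblock
      rw [Matrix.det_submatrix_equiv_self, Matrix.det_permute, sign_rho, hMdet,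
        Matrix.det_blockDiagonal, Fin.prod_univ_two, Matrix.det_fin_two, Matrix.det_fin_two] at h1
      simp only [Matrix.of_apply] at h1
      rw [← h1]
      simp
    obtain ⟨δ₀, hδ₀⟩ : ∃ d, d = C 0 0 0 * C 0 1 1 - C 0 0 1 * C 0 1 0 := ⟨_, rfl⟩
    obtain ⟨δ₁, hδ₁⟩ : ∃ d, d = C 1 0 0 * C 1 1 1 - C 1 0 1 * C 1 1 0 := ⟨_, rfl⟩
    rw [← hδ₀, ← hδ₁] at hdet2
    have hδ₀ne : δ₀ ≠ 0 := fun h => by rw [h, zero_mul] at hdet2; exact zero_ne_one hdet2
    have hδ₁ne : δ₁ ≠ 0 := fun h => by rw [h, mul_zero] at hdet2; exact zero_ne_one hdet2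
    have h3 : (3 : F) = 0 := by
      have := Nat.cast_card_eq_zero F
      rw [hq] at this
      exact_mod_cast this
    have h2 : (2 : F) ≠ 0 := fun h => one_ne_zero (by linear_combination h3 - h)
    have hδeq : δ₁ = δ₀ := by
      rcases eq_one_or_neg_one_of_card_three hq δ₀ hδ₀ne with h0 | h0 <;>
      rcases eq_one_or_neg_one_of_card_three hq δ₁ hδ₁ne with h1 | h1
      · rw [h0, h1]
      · exfalso
        rw [h0, h1] at hdet2
        exact h2 (by linear_combination -hdet2)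
      · exfalso
        rw [h0, h1] at hdet2
        exact h2 (by linear_combination -hdet2)
      · rw [h0, h1]
    refine ⟨Units.mk0 δ₀ hδ₀ne, fun u v => ?_⟩
    rw [Units.val_mk0, hLapp, hLapp, hfdef, hfdef, ← Equiv.sum_comp σ, Fin.sum_univ_two,
      Fin.sum_univ_two, key u 0 0, key u 0 1, key v 0 0, key v 0 1, key u 1 0, key u 1 1,
      key v 1 0, key v 1 1]
    linear_combination
      (-(B.repr u ⟨0, 0⟩ * B.repr v ⟨0, 1⟩ - B.repr u ⟨0, 1⟩ * B.repr v ⟨0, 0⟩)) * hδ₀ +
      (-(B.repr u ⟨1, 0⟩ * B.repr v ⟨1, 1⟩ - B.repr u ⟨1, 1⟩ * B.repr v ⟨1, 0⟩)) * hδ₁ +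
      (B.repr u ⟨1, 0⟩ * B.repr v ⟨1, 1⟩ - B.repr u ⟨1, 1⟩ * B.repr v ⟨1, 0⟩) * hδeq

end Cfsg.Agent.Lib.H17.AschP2
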