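/-
SYMPLECTIC PHASE 2 (architect helper9), task SP2-B2 (helper17): `Sp_2m(F)` stabilises no decomposition into blocks
of dimension `k ≥ 2`.  A transvection `τ = stv u 1` is the identity on the hyperplane `u^⊥`, which meets every block,
so `τ` fixes every block; a block containing some `x` with `f x u ≠ 0` then contains `τ x - x = f x u • u`: every
non-zero vector lies in a block, which is absurd for `a + b`, `a ∈ D 0`, `b ∈ D 1`.
-/
import Cfsg.Agent.Lib.H11.AschSDefs
import Cfsg.Agent.Lib.H11.SubspMax2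

set_option autoImplicit false
set_option linter.unusedSectionVars false

namespace Cfsg.Agent.Lib.H17.AschSP2

open Cfsg Cfsg.Geo Cfsg.Agent.Lib.Lead.Asch Cfsg.Agent.Lib.H11.AschS
open scoped MatrixGroups Matrix Kronecker

variable {F : Type*} [Field F] [Fintype F] {m : ℕ}

/-- `x ↦ f x u` as a linear functional on a subspace. -/
def b2Phi (W : Submodule F (Fin m ⊕ Fin m → F)) (u : Fin m ⊕ Fin m → F) : W →ₗ[F] F where
  toFun x := sympForm m F (x : Fin m ⊕ Fin m → F) u
  map_add' _ _ := Cfsg.Agent.Lib.H4.sympForm_add_left m _ _ _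
  map_smul' c _ := Cfsg.Agent.Lib.H4.sympForm_smul_left m c _ _

/-- the hyperplane `u^⊥ = {x | f x u = 0}`. -/
def b2Perp (u : Fin m ⊕ Fin m → F) : Submodule F (Fin m ⊕ Fin m → F) where
  carrier := {x | sympForm m F x u = 0}
  add_mem' {x y} hx hy := by
    change sympForm m F (x + y) u = 0
    rw [Cfsg.Agent.Lib.H4.sympForm_add_left, hx, hy, add_zero]
  zero_mem' := by
    change sympForm m F 0 u = 0
    have := Cfsg.Agent.Lib.H4.sympForm_smul_left m (0 : F) (0 : Fin m ⊕ Fin m → F) u
    rwa [zero_smul, zero_mul] at this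
  smul_mem' c x hx := by
    change sympForm m F (c • x) u = 0
    rw [Cfsg.Agent.Lib.H4.sympForm_smul_left, hx, mul_zero]

/-- a subspace of dimension at least 2 meets every hyperplane `u^⊥` non-trivially. -/
theorem b2_exists_perp (W : Submodule F (Fin m ⊕ Fin m → F)) (hW : 2 ≤ Module.finrank F W)
    (u : Fin m ⊕ Fin m → F) : ∃ y ∈ W, y ≠ 0 ∧ sympForm m F y u = 0 := by
  have h1 := LinearMap.finrank_range_add_finrank_ker (b2Phi W u)
  have h2 : Module.finrank F (LinearMap.range (b2Phi W u)) ≤ 1 := by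
    have := Submodule.finrank_le (LinearMap.range (b2Phi W u))
    rwa [Module.finrank_self] at this
  have h3 : 0 < Module.finrank F (LinearMap.ker (b2Phi W u)) := by omega
  obtain ⟨⟨y, hy⟩, hne⟩ :=
    (Module.finrank_pos_iff_exists_ne_zero (R := F) (M := LinearMap.ker (b2Phi W u))).mp h3
  refine ⟨(y : Fin m ⊕ Fin m → F), y.2, ?_, ?_⟩
  · intro h0
    apply hne
    apply Subtype.ext
    apply Subtype.ext
    exact h0
  · exact LinearMap.mem_ker.mp hy

/-- **SP2-B2**. -/
theorem not_sp_le_decompositionStabilizer {t k : ℕ} (D : Fin t → Submodule F (Fin m ⊕ Fin m → F))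
    (hD : IsMDecomposition k D) (hk : 2 ≤ k) : ¬ spGL m F ≤ decompositionStabilizer D := by
  classical
  intro hle
  have hpair := hD.indep.pairwiseDisjoint
  -- every non-zero vector lies in a block
  have key : ∀ u : Fin m ⊕ Fin m → F, u ≠ 0 → ∃ i, u ∈ D i := by
    intro u hu
    obtain ⟨σ, hσ⟩ := hle (Cfsg.Agent.Lib.H11.SubspMax.stv_mem_spGL u (1 : F))
    have hτ : ∀ x : Fin m ⊕ Fin m → F,
        Matrix.toLin' ((Cfsg.Agent.Lib.H11.SubspMax.stv u (1 : F) : GL (Fin m ⊕ Fin m) F) :
          Matrix (Fin m ⊕ Fin m) (Fin m ⊕ Fin m) F) x = x + (sympForm m F x u) • u := by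
      intro x
      rw [Matrix.toLin'_apply, Cfsg.Agent.Lib.H11.SubspMax.stv_mulVec, one_mul]
    have hfix : ∀ i, σ i = i := by
      intro i
      by_contra hne
      obtain ⟨y, hyD, hy0, hyu⟩ := b2_exists_perp (D i) (by rw [hD.finrank_eq i]; exact hk) u
      have h1 : y ∈ D (σ i) := by
        rw [← hσ i]
        refine ⟨y, hyD, ?_⟩
        rw [hτ, hyu, zero_smul, add_zero]
      have h2 : Disjoint (D (σ i)) (D i) := hpair hne
      exact hy0 (Submodule.disjoint_def.mp h2 y h1 hyD)
    -- some block contains a vector not orthogonal to `u`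
    have hex : ∃ i, ∃ x ∈ D i, sympForm m F x u ≠ 0 := by
      by_contra hall
      push Not at hall
      obtain ⟨y, hy⟩ := Cfsg.Agent.Lib.H11.SubspMax.exists_sympForm_ne u hu
      have hy' : sympForm m F y u ≠ 0 := Cfsg.Agent.Lib.H11.SubspMax.sympForm_ne_swap hy
      apply hy'
      have hle' : iSup D ≤ b2Perp u := by
        apply iSup_le
        intro i x hx
        exact hall i x hx
      have hmem : y ∈ iSup D := by rw [hD.iSup_eq_top]; exact Submodule.mem_top
      exact hle' hmem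
    obtain ⟨i, x, hxD, hxu⟩ := hex
    refine ⟨i, ?_⟩
    have h1 : x + (sympForm m F x u) • u ∈ D i := by
      have : x + (sympForm m F x u) • u ∈ D (σ i) := by
        rw [← hσ i]
        exact ⟨x, hxD, hτ x⟩
      rwa [hfix i] at this
    have h2 : (sympForm m F x u) • u ∈ D i := by
      have := (D i).sub_mem h1 hxD
      rwa [add_sub_cancel_left] at this
    have h3 := (D i).smul_mem (sympForm m F x u)⁻¹ h2
    rwa [smul_smul, inv_mul_cancel₀ hxu, one_smul] at h3
  -- the contradiction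
  have ht := hD.two_le
  set i0 : Fin t := ⟨0, by omega⟩ with hi0
  set i1 : Fin t := ⟨1, by omega⟩ with hi1
  have h01 : i0 ≠ i1 := by
    intro h
    have := congrArg Fin.val h
    simp [hi0, hi1] at this
  have hne : ∀ i, D i ≠ ⊥ := by
    intro i h
    have := hD.finrank_eq i
    rw [h, finrank_bot] at this
    omega
  obtain ⟨a, haD, ha0⟩ := (Submodule.ne_bot_iff _).1 (hne i0)
  obtain ⟨b, hbD, hb0⟩ := (Submodule.ne_bot_iff _).1 (hne i1)
  have hdis01 : Disjoint (D i0) (D i1) := hpair h01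
  have hab : a + b ≠ 0 := by
    intro h
    have h1 : a = -b := eq_neg_of_add_eq_zero_left h
    have h2 : a ∈ D i1 := by rw [h1]; exact (D i1).neg_mem hbD
    exact ha0 (Submodule.disjoint_def.mp hdis01 a haD h2)
  obtain ⟨j, hj⟩ := key (a + b) hab
  by_cases hj0 : j = i0
  · rw [hj0] at hj
    have h1 : b ∈ D i0 := by
      have := (D i0).sub_mem hj haD
      rwa [add_sub_cancel_left] at this
    exact hb0 (Submodule.disjoint_def.mp hdis01 b h1 hbD)
  · have hdis0 : Disjoint (D i0) (⨆ l, ⨆ (_ : l ≠ i0), D l) := hD.indep i0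
    have hle1 : D i1 ≤ ⨆ l, ⨆ (_ : l ≠ i0), D l := le_iSup₂_of_le i1 (Ne.symm h01) le_rfl
    have hlej : D j ≤ ⨆ l, ⨆ (_ : l ≠ i0), D l := le_iSup₂_of_le j hj0 le_rfl
    have h1 : a ∈ ⨆ l, ⨆ (_ : l ≠ i0), D l := by
      have := (⨆ l, ⨆ (_ : l ≠ i0), D l).sub_mem (hlej hj) (hle1 hbD)
      rwa [add_sub_cancel_right] at this
    exact ha0 (Submodule.disjoint_def.mp hdis0 a haD h1)

end Cfsg.Agent.Lib.H17.AschSP2
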