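/-
SYMPLECTIC PHASE 2 (architect helper9), task SP2-F6 (helper17): an absolutely irreducible group `R ≤ GL_2m(F)` with
scalar commutators, `|R| = 2^(1+2k)` and `|Z(R)| = 2` lives in dimension `2m = 2^k`.
Transport of `R` along `Fin (m + m) ≃ Fin m ⊕ Fin m` (helper11 ST0d) + helper3's Burnside count
`|R| = |R ∩ scalars| * n²` (Lib/H3/AschM7B1, AschP2F4).
-/
import Cfsg.Agent.Lib.H11.AschSDefs
import Cfsg.Agent.Lib.H11.AschST0d
import Cfsg.Agent.Lib.H3.AschP2F4

set_option autoImplicit false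
set_option linter.unusedSectionVars false

namespace Cfsg.Agent.Lib.H17.AschSP2

open Cfsg Cfsg.Geo Cfsg.Agent.Lib.Lead.Asch Cfsg.Agent.Lib.H11.AschS
open scoped MatrixGroups Matrix Kronecker

variable {F : Type*} [Field F] [Fintype F] {m : ℕ}

/-- **SP2-F6**. -/
theorem sc6_dim (R : Subgroup (GL (Fin m ⊕ Fin m) F))
    (habs : ActsAbsolutelyIrreducibly (matrixSet R))
    (hcl2 : ∀ x ∈ R, ∀ y ∈ R, x * y * x⁻¹ * y⁻¹ ∈ scalars (Fin m ⊕ Fin m) F) (k : ℕ)
    (hcard : Nat.card R = 2 ^ (1 + 2 * k)) (hZ : Nat.card (Subgroup.center R) = 2) :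
    2 * m = 2 ^ k := by
  rcases Nat.eq_zero_or_pos m with hm | hm
  · -- `m = 0`: the group is trivial, so its centre has one element
    exfalso
    subst hm
    have : Subsingleton (GL (Fin 0 ⊕ Fin 0) F) := ⟨fun a b => Units.ext (Subsingleton.elim _ _)⟩
    have : Subsingleton R := ⟨fun a b => Subtype.ext (Subsingleton.elim _ _)⟩
    have : Subsingleton (Subgroup.center R) := ⟨fun a b => Subtype.ext (Subsingleton.elim _ _)⟩
    have h1 : Nat.card (Subgroup.center R) ≤ 1 := Finite.card_le_one_iff_subsingleton.mpr inferInstance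
    omega
  · set e : Fin (m + m) ≃ Fin m ⊕ Fin m := finSumFinEquiv.symm with he
    set Θ := glReindex (F := F) e with hΘ
    set R' : Subgroup (GL (Fin (m + m)) F) := R.comap Θ.toMonoidHom with hR'
    set ψ : ↥R' ≃* ↥R := comapEquiv Θ R with hψ
    have habs' : ActsAbsolutelyIrreducibly (matrixSet R') := absIrr_comap e R habs
    have hcl2' : ∀ x ∈ R', ∀ y ∈ R', x * y * x⁻¹ * y⁻¹ ∈ scalars (Fin (m + m)) F := by
      intro x hx y hy
      apply mem_scalars_of_glReindex e
      have := hcl2 (Θ x) hx (Θ y) hy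
      rw [map_mul, map_mul, map_mul, map_inv, map_inv]
      exact this
    have hspan := Cfsg.Agent.Lib.H3.Asch.span_eq_top_of_absIrr R' habs'
    have hc := Cfsg.Agent.Lib.H3.Asch.card_eq_of_span_eq_top (by omega : 0 < m + m) R' hcl2' hspan
    rw [Cfsg.Agent.Lib.H3.AschP2.card_scalars_subgroupOf_eq_card_center R' habs'] at hc
    have h1 : Nat.card R' = Nat.card R := Nat.card_congr ψ.toEquiv
    have h2 : Nat.card (Subgroup.center R') = Nat.card (Subgroup.center R) :=
      Nat.card_congr (Subgroup.centerCongr ψ).toEquiv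
    rw [h1, h2, hcard, hZ, pow_add, pow_one] at hc
    have h3 : (m + m) ^ 2 = 2 ^ (2 * k) := (Nat.eq_of_mul_eq_mul_left (by norm_num) hc).symm
    have h4 := Cfsg.Agent.Lib.H3.AschP2.eq_pow_of_sq_eq_pow h3
    omega

end Cfsg.Agent.Lib.H17.AschSP2
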