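import Cfsg.Agent.Lib.H17.AschSP2S5b
import Cfsg.Agent.Lib.H9.AschSP2C6
import Cfsg.Agent.Lib.H1.AschSM7b
import Cfsg.Agent.Lib.H11.AschST0d
import Cfsg.Agent.Lib.H11.SimMax5

/-!
# SP2-S5 (helper9's stretch farm-out): `Sp₂(3) wr S₃ < 2^{1+6}_-.O₆^-(2)` in `Sp₈(3)`

`tensorWreathSubgroup 2 3 e P ≤ N(R)` for `R = P (Q8 ⊗ Q8 ⊗ Q8) P⁻¹` with `C6Data 4 3 F R`.
-/

set_option autoImplicit false
set_option linter.unusedSectionVars false
set_option linter.unusedVariables false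

namespace Cfsg.Agent.Lib.H17.AschSP2

open Cfsg Cfsg.Geo Cfsg.Agent.Lib.Lead.Asch Cfsg.Agent.Lib.H11.AschS Cfsg.Agent.Lib.H16.Asch
  Cfsg.Agent.Lib.H21.Asch Cfsg.Agent.Lib.H9.AschSP2
open scoped MatrixGroups Matrix Kronecker

variable {F : Type*} [Field F] [Fintype F]

section transport

variable {ι : Type} [Fintype ι] [DecidableEq ι]

/-- the isomorphism `g ↦ P (reindex g) P⁻¹` -/
def thetaEquiv (e : ι ≃ (Fin 3 → Fin 2)) (P : GL ι F) : GL (Fin 3 → Fin 2) F ≃* GL ι F :=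
  (glReindex (F := F) e.symm).trans (MulAut.conj P)

omit [Fintype F] in
theorem thetaEquiv_apply (e : ι ≃ (Fin 3 → Fin 2)) (P : GL ι F) (g : GL (Fin 3 → Fin 2) F) :
    thetaEquiv e P g = P * glReindex e.symm g * P⁻¹ := rfl

omit [Fintype F] in
theorem thetaEquiv_mulVec (e : ι ≃ (Fin 3 → Fin 2)) (P : GL ι F) (g : GL (Fin 3 → Fin 2) F)
    (x : (Fin 3 → Fin 2) → F) :
    ((thetaEquiv e P g : GL ι F) : Matrix ι ι F) *ᵥ ((P : Matrix ι ι F) *ᵥ (x ∘ e)) =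
      (P : Matrix ι ι F) *ᵥ (((g : Matrix (Fin 3 → Fin 2) (Fin 3 → Fin 2) F) *ᵥ x) ∘ e) := by
  rw [thetaEquiv_apply, Units.val_mul, Units.val_mul, ← Matrix.mulVec_mulVec,
    ← Matrix.mulVec_mulVec, Matrix.mulVec_mulVec _ ((P⁻¹ : GL ι F) : Matrix ι ι F),
    ← Units.val_mul, inv_mul_cancel, Units.val_one, Matrix.one_mulVec]
  congr 1
  have := glReindex_mulVec_symm e.symm g x
  exact this

omit [Fintype F] in
theorem tensorWreathSubgroup_eq_map (e : ι ≃ (Fin 3 → Fin 2)) (P : GL ι F) :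
    tensorWreathSubgroup 2 3 e P =
      (tensorWreathStandard 2 3 F).map (thetaEquiv e P).toMonoidHom := by
  unfold tensorWreathSubgroup
  rw [Subgroup.map_map]
  rfl

omit [Fintype F] in
theorem thetaEquiv_scalars (e : ι ≃ (Fin 3 → Fin 2)) (P : GL ι F) (g : GL (Fin 3 → Fin 2) F)
    (hg : g ∈ scalars (Fin 3 → Fin 2) F) : thetaEquiv e P g ∈ scalars ι F := by
  rw [thetaEquiv_apply]
  have h1 : glReindex e.symm g ∈ scalars ι F := by
    rw [← map_scalars e.symm]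
    exact ⟨g, hg, rfl⟩
  exact scalars_normal.conj_mem _ h1 P

/-- the group `R = P (R₀ reindexed) P⁻¹` -/
def RR (hq : Fintype.card F = 3) (e : ι ≃ (Fin 3 → Fin 2)) (P : GL ι F) : Subgroup (GL ι F) :=
  (R0 hq).map (thetaEquiv e P).toMonoidHom

/-- the isomorphism `R₀ ≃ R` -/
noncomputable def RRequiv (hq : Fintype.card F = 3) (e : ι ≃ (Fin 3 → Fin 2)) (P : GL ι F) :
    R0 hq ≃* RR hq e P :=
  (R0 hq).equivMapOfInjective (thetaEquiv e P).toMonoidHom (thetaEquiv e P).injective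

theorem wreath_le_normalizer_RR (hq : Fintype.card F = 3) (e : ι ≃ (Fin 3 → Fin 2)) (P : GL ι F) :
    tensorWreathSubgroup 2 3 e P ≤ subgroupNormalizer (RR hq e P) := by
  rw [tensorWreathSubgroup_eq_map]
  unfold subgroupNormalizer RR
  exact le_trans (Subgroup.map_mono (wreath_le_normalizer hq)) (Subgroup.le_normalizer_map _)

theorem card_RR (hq : Fintype.card F = 3) (e : ι ≃ (Fin 3 → Fin 2)) (P : GL ι F) :
    Nat.card (RR hq e P) = 2 ^ (1 + 2 * 3) := by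
  rw [← Nat.card_congr (RRequiv hq e P).toEquiv, card_R0]

theorem card_center_RR (hq : Fintype.card F = 3) (e : ι ≃ (Fin 3 → Fin 2)) (P : GL ι F) :
    Nat.card (Subgroup.center (RR hq e P)) = 2 := by
  rw [← Nat.card_congr (Subgroup.centerCongr (RRequiv hq e P)).toEquiv, card_center_R0]

theorem isSymplecticType_RR (hq : Fintype.card F = 3) (e : ι ≃ (Fin 3 → Fin 2)) (P : GL ι F) :
    IsSymplecticTypeGroup 2 (RR hq e P) :=
  isSymplecticTypeGroup_of_equiv 2 (R0 hq) (RR hq e P) (RRequiv hq e P).symm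
    (isSymplecticType_R0 hq)

theorem comm_RR (hq : Fintype.card F = 3) (e : ι ≃ (Fin 3 → Fin 2)) (P : GL ι F)
    (x : GL ι F) (hx : x ∈ RR hq e P) (y : GL ι F) (hy : y ∈ RR hq e P) :
    x * y * x⁻¹ * y⁻¹ ∈ scalars ι F := by
  obtain ⟨x₀, hx₀, rfl⟩ := hx
  obtain ⟨y₀, hy₀, rfl⟩ := hy
  have h := thetaEquiv_scalars e P _ (comm_R0 hq x₀ y₀ hx₀ hy₀)
  simpa only [map_mul, map_inv, MulEquiv.coe_toMonoidHom] using h

theorem absIrr_RR (hq : Fintype.card F = 3) (e : ι ≃ (Fin 3 → Fin 2)) (P : GL ι F) :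
    ActsAbsolutelyIrreducibly (matrixSet (RR hq e P)) := by
  let φ₁ : (ι → F) ≃ₗ[F] (ι → F) :=
    { toFun := fun v => ((P⁻¹ : GL ι F) : Matrix ι ι F) *ᵥ v
      map_add' := fun v w => Matrix.mulVec_add _ v w
      map_smul' := fun c v => Matrix.mulVec_smul _ c v
      invFun := fun v => (P : Matrix ι ι F) *ᵥ v
      left_inv := fun v => by
        show (P : Matrix ι ι F) *ᵥ (((P⁻¹ : GL ι F) : Matrix ι ι F) *ᵥ v) = v
        rw [Matrix.mulVec_mulVec, ← Units.val_mul, mul_inv_cancel, Units.val_one,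
          Matrix.one_mulVec]
      right_inv := fun v => by
        show ((P⁻¹ : GL ι F) : Matrix ι ι F) *ᵥ ((P : Matrix ι ι F) *ᵥ v) = v
        rw [Matrix.mulVec_mulVec, ← Units.val_mul, inv_mul_cancel, Units.val_one,
          Matrix.one_mulVec] }
  let φ : (ι → F) ≃ₗ[F] ((Fin 3 → Fin 2) → F) :=
    φ₁.trans (LinearEquiv.funCongrLeft F F e.symm)
  have hφ : ∀ v : ι → F, φ v = (((P⁻¹ : GL ι F) : Matrix ι ι F) *ᵥ v) ∘ e.symm := fun v => rfl
  refine Cfsg.Agent.Lib.H8.Asch.actsAbsolutelyIrreducibly_transfer φ _ (matrixSet (R0 hq)) ?_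
    (absIrr_R0 hq)
  rintro _ ⟨g, hg, rfl⟩
  refine ⟨((thetaEquiv e P g : GL ι F) : Matrix ι ι F), ⟨thetaEquiv e P g, ⟨g, hg, rfl⟩, rfl⟩, ?_⟩
  intro v
  rw [hφ, hφ]
  have hv : v = (P : Matrix ι ι F) *ᵥ (((((P⁻¹ : GL ι F) : Matrix ι ι F) *ᵥ v) ∘ e.symm) ∘ e) := by
    rw [comp_symm_comp', Matrix.mulVec_mulVec, ← Units.val_mul, mul_inv_cancel, Units.val_one,
      Matrix.one_mulVec]
  conv_lhs => rw [hv]
  rw [thetaEquiv_mulVec, Matrix.mulVec_mulVec, ← Units.val_mul, inv_mul_cancel, Units.val_one,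
    Matrix.one_mulVec, comp_comp_symm']

end transport

/-! ### the form -/

section form

variable {ι : Type} [Fintype ι] [DecidableEq ι]

omit [Fintype F] in
theorem form_sum_eq (M : Matrix (Fin 3 → Fin 2) (Fin 3 → Fin 2) F)
    (x y : (Fin 3 → Fin 2) → F) :
    ∑ a, ∑ b, x a * M a b * y b = x ⬝ᵥ (M *ᵥ y) := by
  unfold dotProduct Matrix.mulVec dotProduct
  refine Finset.sum_congr rfl fun a _ => ?_
  rw [Finset.mul_sum]
  refine Finset.sum_congr rfl fun b _ => ?_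
  ring

omit [Fintype F] in
theorem dot_mulVec_mulVec (M N : Matrix (Fin 3 → Fin 2) (Fin 3 → Fin 2) F)
    (x y : (Fin 3 → Fin 2) → F) :
    (M *ᵥ x) ⬝ᵥ (N *ᵥ (M *ᵥ y)) = x ⬝ᵥ ((Mᵀ * N * M) *ᵥ y) := by
  rw [← Matrix.mulVec_mulVec, ← Matrix.mulVec_mulVec, Matrix.dotProduct_mulVec x Mᵀ,
    Matrix.vecMul_transpose]

/-- `R` consists of isometries of a form with a tensor power structure of an alternating form -/
theorem RR_preserves (hq : Fintype.card F = 3) (e : ι ≃ (Fin 3 → Fin 2)) (P : GL ι F)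
    (f : (ι → F) → (ι → F) → F) (f₁ : (Fin 2 → F) → (Fin 2 → F) → F) (hf₁ : IsSymplecticForm f₁)
    (hT : IsTensorPowerFormStructure id f f₁ e P) (x : GL ι F) (hx : x ∈ RR hq e P)
    (u v : ι → F) :
    f ((x : Matrix ι ι F) *ᵥ u) ((x : Matrix ι ι F) *ᵥ v) = f u v := by
  obtain ⟨c, hc0, hc⟩ := hT
  obtain ⟨g, hg, rfl⟩ := hx
  have hG00 : gramMatrix f₁ 0 0 = 0 := hf₁.alternating _
  have hG11 : gramMatrix f₁ 1 1 = 0 := hf₁.alternating _
  have hG10 : gramMatrix f₁ 1 0 = -gramMatrix f₁ 0 1 := hf₁.skew _ _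
  have hpres := R0_preserves hq (gramMatrix f₁) hG00 hG11 hG10 g hg
  have hform : ∀ x y : (Fin 3 → Fin 2) → F,
      f ((P : Matrix ι ι F) *ᵥ (x ∘ e)) ((P : Matrix ι ι F) *ᵥ (y ∘ e)) =
        c * (x ⬝ᵥ (pureT (fun _ : Fin 3 => gramMatrix f₁) *ᵥ y)) := by
    intro x y
    rw [hc x y, ← form_sum_eq]
    rfl
  have hu : ∀ w : ι → F, w = (P : Matrix ι ι F) *ᵥ
      (((((P⁻¹ : GL ι F) : Matrix ι ι F) *ᵥ w) ∘ e.symm) ∘ e) := by
    intro w
    rw [comp_symm_comp', Matrix.mulVec_mulVec, ← Units.val_mul, mul_inv_cancel, Units.val_one,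
      Matrix.one_mulVec]
  show f (((thetaEquiv e P g : GL ι F) : Matrix ι ι F) *ᵥ u)
    (((thetaEquiv e P g : GL ι F) : Matrix ι ι F) *ᵥ v) = f u v
  conv_lhs => rw [hu u, hu v]
  conv_rhs => rw [hu u, hu v]
  rw [thetaEquiv_mulVec, thetaEquiv_mulVec, hform, hform, dot_mulVec_mulVec, hpres]

end form

/-! ### minus type and the final statement -/

section final

theorem eight_equiv : Nonempty (Fin 8 ≃ Fin 4 ⊕ Fin 4) :=
  ⟨(finSumFinEquiv (m := 4) (n := 4)).symm⟩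

theorem minusType_RR (hq : Fintype.card F = 3) (e : Fin 4 ⊕ Fin 4 ≃ (Fin 3 → Fin 2))
    (P : GL (Fin 4 ⊕ Fin 4) F) (f₁ : (Fin 2 → F) → (Fin 2 → F) → F) (hf₁ : IsSymplecticForm f₁)
    (hT : IsTensorPowerFormStructure id (sympForm 4 F) f₁ e P) :
    IsOfMinusType 3 (RR hq e P) := by
  obtain ⟨e8⟩ := eight_equiv
  set R := RR hq e P with hR
  set Θ := glReindex (F := F) e8 with hΘ
  set R8 : Subgroup (GL (Fin 8) F) := R.comap Θ.toMonoidHom with hR8
  have ψ : ↥R8 ≃* ↥R := comapEquiv Θ R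
  have habs8 : ActsAbsolutelyIrreducibly (matrixSet R8) := absIrr_comap e8 R (absIrr_RR hq e P)
  have hf8 : IsSymplecticForm (reF e8.symm (sympForm 4 F)) :=
    isSymplecticForm_reF e8.symm _ (Cfsg.Agent.Lib.H11.SimMax.sympForm_isSymplectic F 4)
  have hmain : ∀ A : Subgroup R8, IsMulCommutative A → (∀ x ∈ A, x * x = 1) →
      Nat.card A < 2 * 8 := by
    intro A hA hAsq
    refine Cfsg.Agent.Lib.H1.AschS.card_lt_of_elementary hf8 (by norm_num) (two_ne_zero' hq) R8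
      habs8.1 ?_ ?_ ?_ (mem_center_iff_scalars R8 habs8) ?_ A hA hAsq
    · intro x hx u v
      have hx' : Θ x ∈ R := hx
      have h := RR_preserves hq e P (sympForm 4 F) f₁ hf₁ hT (Θ x) hx' (u ∘ e8.symm) (v ∘ e8.symm)
      rw [hΘ, glReindex_mulVec_symm, glReindex_mulVec_symm] at h
      exact h
    · intro x hx y hy
      have hx' : Θ x ∈ R := hx
      have hy' : Θ y ∈ R := hy
      have h := comm_RR hq e P (Θ x) hx' (Θ y) hy'
      apply mem_scalars_of_glReindex e8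
      simpa only [map_mul, map_inv] using h
    · rw [Nat.card_congr (Subgroup.centerCongr ψ).toEquiv]
      exact card_center_RR hq e P
    · rw [Nat.card_congr ψ.toEquiv, card_RR]
      norm_num
  have h8 : IsOfMinusType 3 R8 := by
    intro A hA hAsq
    have := hmain A hA hAsq
    norm_num at this ⊢
    exact this
  exact isOfMinusType_of_equiv 3 R8 R ψ.symm h8

/-- **SP2-S5** -/
theorem c7_q3 (hq : Fintype.card F = 3) (e : Fin 4 ⊕ Fin 4 ≃ (Fin 3 → Fin 2))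
    (P : GL (Fin 4 ⊕ Fin 4) F) (f₁ : (Fin 2 → F) → (Fin 2 → F) → F) (hf₁ : IsSymplecticForm f₁)
    (hT : IsTensorPowerFormStructure id (sympForm 4 F) f₁ e P) :
    ∃ R : Subgroup (GL (Fin 4 ⊕ Fin 4) F), C6Data 4 3 F R ∧
      tensorWreathSubgroup 2 3 e P ≤ subgroupNormalizer R := by
  refine ⟨RR hq e P, ⟨isSymplecticType_RR hq e P, absIrr_RR hq e P, ?_, card_RR hq e P,
    card_center_RR hq e P, minusType_RR hq e P f₁ hf₁ hT, comm_RR hq e P⟩,
    wreath_le_normalizer_RR hq e P⟩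
  intro x hx
  refine ⟨1, fun u v => ?_⟩
  rw [Units.val_one, one_mul]
  exact RR_preserves hq e P (sympForm 4 F) f₁ hf₁ hT x hx u v

end final

end Cfsg.Agent.Lib.H17.AschSP2
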