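import Mathlib

/-!
# SP2-S5 (helper9's stretch farm-out), part a: the quaternion group `Q8 ≤ SL₂(3)` as explicit matrices

`qB R : Fin 4 → M₂(R)` are the quaternion units `1, i, j, k` (they multiply like the quaternion
group when `3 = 0` in `R`).  The finite checks are done in `ZMod 3` by `decide` and transferred to
any field with three elements.
-/

set_option autoImplicit false

namespace Cfsg.Agent.Lib.H17.AschSP2

open scoped Matrix

/-- the quaternion units `1, i, j, k` as `2 × 2` matrices -/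
def qB (R : Type*) [CommRing R] : Fin 4 → Matrix (Fin 2) (Fin 2) R :=
  ![1, !![0, -1; 1, 0], !![1, 1; 1, -1], !![-1, 1; 1, 1]]

/-- the Klein four-group operation on the indices of the quaternion units -/
def qop : Fin 4 → Fin 4 → Fin 4 :=
  fun k l => ![![0, 1, 2, 3], ![1, 0, 3, 2], ![2, 3, 0, 1], ![3, 2, 1, 0]] k l

/-- the sign table of the quaternion units -/
def qsg : Fin 4 → Fin 4 → ℤˣ :=
  fun k l => ![![1, 1, 1, 1], ![1, -1, 1, -1], ![1, -1, -1, 1], ![1, 1, -1, -1]] k l

/-- an element of order 3 of `SL₂(3)` cycling `i, j, k` -/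
def qG (R : Type*) [CommRing R] : Matrix (Fin 2) (Fin 2) R := !![1, 1; 0, 1]

/-- its inverse -/
def qG' (R : Type*) [CommRing R] : Matrix (Fin 2) (Fin 2) R := !![1, -1; 0, 1]

/-- the action of `qG` on the indices -/
def qcyc : Fin 4 → Fin 4 := ![0, 2, 3, 1]

/-! ### facts about the index calculus -/

theorem qop_self : ∀ k : Fin 4, qop k k = 0 := by decide
theorem qop_comm : ∀ k l : Fin 4, qop k l = qop l k := by decide
theorem qop_zero_left : ∀ k : Fin 4, qop 0 k = k := by decide
theorem qop_zero_right : ∀ k : Fin 4, qop k 0 = k := by decide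
theorem qop_eq_zero_iff : ∀ k l : Fin 4, qop k l = 0 ↔ l = k := by decide
theorem qop_assoc : ∀ k l m : Fin 4, qop (qop k l) m = qop k (qop l m) := by decide
theorem qsg_zero_left : ∀ k : Fin 4, qsg 0 k = 1 := by decide
theorem qsg_zero_right : ∀ k : Fin 4, qsg k 0 = 1 := by decide
theorem qsg_self : ∀ k : Fin 4, k ≠ 0 → qsg k k = -1 := by decide
theorem qsg_anti : ∀ k l : Fin 4, k ≠ 0 → l ≠ 0 → k ≠ l → qsg k l = -qsg l k := by decide
theorem qsg_symm_self : ∀ k : Fin 4, qsg k k * qsg k k = 1 := by decide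
theorem qcyc_zero : qcyc 0 = 0 := by decide
theorem qcyc_ne_zero : ∀ k : Fin 4, k ≠ 0 → qcyc k ≠ 0 := by decide
theorem qcyc_ne_self : ∀ k : Fin 4, k ≠ 0 → qcyc k ≠ k := by decide
theorem qsg_cyc : ∀ k : Fin 4, k ≠ 0 → qsg k (qcyc k) * qsg (qcyc k) k = -1 := by decide

/-! ### the model `ZMod 3` -/

set_option maxRecDepth 4000 in
theorem qB_mul_zmod : ∀ k l : Fin 4,
    qB (ZMod 3) k * qB (ZMod 3) l = ((qsg k l : ℤ) : ZMod 3) • qB (ZMod 3) (qop k l) := by
  decide

set_option maxRecDepth 4000 in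
theorem qB_enum_zmod : ∀ p q r s : ZMod 3, p * s - q * r = 1 → p + s = 0 →
    ∃ k : Fin 4, k ≠ 0 ∧ ∃ u : ℤˣ, !![p, q; r, s] = ((u : ℤ) : ZMod 3) • qB (ZMod 3) k := by
  decide

set_option maxRecDepth 4000 in
theorem qB_conj_zmod : ∀ k : Fin 4,
    qG (ZMod 3) * qB (ZMod 3) k * qG' (ZMod 3) = qB (ZMod 3) (qcyc k) := by
  decide

set_option maxRecDepth 4000 in
theorem qB_det_zmod : ∀ k : Fin 4,
    qB (ZMod 3) k 0 0 * qB (ZMod 3) k 1 1 - qB (ZMod 3) k 0 1 * qB (ZMod 3) k 1 0 = 1 := by
  decide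

/-! ### transfer -/

theorem qB_map {R S : Type*} [CommRing R] [CommRing S] (φ : R →+* S) (k : Fin 4) :
    (qB R k).map φ = qB S k := by
  fin_cases k <;> ext a b <;> fin_cases a <;> fin_cases b <;> simp [qB]

theorem qG_map {R S : Type*} [CommRing R] [CommRing S] (φ : R →+* S) :
    (qG R).map φ = qG S := by
  ext a b; fin_cases a <;> fin_cases b <;> simp [qG]

theorem qG'_map {R S : Type*} [CommRing R] [CommRing S] (φ : R →+* S) :
    (qG' R).map φ = qG' S := by
  ext a b; fin_cases a <;> fin_cases b <;> simp [qG']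

theorem qG_mul_qG' (R : Type*) [CommRing R] : qG R * qG' R = 1 := by
  ext a b; fin_cases a <;> fin_cases b <;> simp [qG, qG', Matrix.mul_apply, Fin.sum_univ_two]

theorem qG'_mul_qG (R : Type*) [CommRing R] : qG' R * qG R = 1 := by
  ext a b; fin_cases a <;> fin_cases b <;> simp [qG, qG', Matrix.mul_apply, Fin.sum_univ_two]

theorem qB_zero (R : Type*) [CommRing R] : qB R 0 = 1 := rfl

theorem qB_trace (R : Type*) [CommRing R] (k : Fin 4) :
    (qB R k).trace = if k = 0 then 2 else 0 := by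
  fin_cases k <;> simp [qB, Matrix.trace_fin_two]

section field

variable {F : Type*} [Field F] [Fintype F]

/-- the ring isomorphism from `ZMod 3` -/
noncomputable def zeq (hq : Fintype.card F = 3) : ZMod 3 ≃+* F :=
  ZMod.ringEquivOfPrime F Nat.prime_three hq

theorem three_eq_zero (hq : Fintype.card F = 3) : (3 : F) = 0 := by
  have h : (3 : ZMod 3) = 0 := by decide
  rw [← map_ofNat (zeq hq) 3, h, map_zero]

theorem two_ne_zero' (hq : Fintype.card F = 3) : (2 : F) ≠ 0 := by
  intro h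
  have h3 : (2 : ZMod 3) = 0 := by
    apply (zeq hq).injective
    rw [map_ofNat, map_zero, h]
  exact absurd h3 (by decide)

/-- every element of a field with three elements is `0`, `1` or `-1` -/
theorem eq_zero_or_one_or_neg_one (hq : Fintype.card F = 3) (x : F) : x = 0 ∨ x = 1 ∨ x = -1 := by
  have h : ∀ y : ZMod 3, y = 0 ∨ y = 1 ∨ y = -1 := by decide
  rcases h ((zeq hq).symm x) with h | h | h
  · left
    have := congrArg (zeq hq) h
    simpa using this
  · right; left
    have := congrArg (zeq hq) h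
    simpa using this
  · right; right
    have := congrArg (zeq hq) h
    simpa using this

theorem qB_mul (hq : Fintype.card F = 3) (k l : Fin 4) :
    qB F k * qB F l = ((qsg k l : ℤ) : F) • qB F (qop k l) := by
  have h := congrArg (fun M => M.map (zeq hq : ZMod 3 →+* F)) (qB_mul_zmod k l)
  simp only [Matrix.map_mul, qB_map] at h
  rw [h]
  ext a b
  simp [Matrix.map_apply, Matrix.smul_apply, ← qB_map (zeq hq : ZMod 3 →+* F) (qop k l)]

theorem qB_conj (hq : Fintype.card F = 3) (k : Fin 4) :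
    qG F * qB F k * qG' F = qB F (qcyc k) := by
  have h := congrArg (fun M => M.map (zeq hq : ZMod 3 →+* F)) (qB_conj_zmod k)
  simp only [Matrix.map_mul, qB_map, qG_map, qG'_map] at h
  exact h

theorem qB_det (hq : Fintype.card F = 3) (k : Fin 4) : (qB F k).det = 1 := by
  rw [Matrix.det_fin_two]
  have h := congrArg (zeq hq) (qB_det_zmod k)
  simp only [map_sub, map_mul, map_one] at h
  have e : ∀ a b, (zeq hq) (qB (ZMod 3) k a b) = qB F k a b := by
    intro a b
    rw [← qB_map (zeq hq : ZMod 3 →+* F) k]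
    rfl
  rw [e, e, e, e] at h
  exact h

/-- the elements of determinant one and trace zero of `GL₂(3)` are `± i, ± j, ± k` -/
theorem qB_enum (hq : Fintype.card F = 3) (a : Matrix (Fin 2) (Fin 2) F) (hd : a.det = 1)
    (ht : a.trace = 0) : ∃ k : Fin 4, k ≠ 0 ∧ ∃ u : ℤˣ, a = ((u : ℤ) : F) • qB F k := by
  rw [Matrix.det_fin_two] at hd
  rw [Matrix.trace_fin_two] at ht
  have h1 : (zeq hq).symm (a 0 0) * (zeq hq).symm (a 1 1) -
      (zeq hq).symm (a 0 1) * (zeq hq).symm (a 1 0) = 1 := by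
    rw [← map_mul, ← map_mul, ← map_sub, hd, map_one]
  have h2 : (zeq hq).symm (a 0 0) + (zeq hq).symm (a 1 1) = 0 := by
    rw [← map_add, ht, map_zero]
  obtain ⟨k, hk, u, hu⟩ := qB_enum_zmod _ _ _ _ h1 h2
  refine ⟨k, hk, u, ?_⟩
  have h := congrArg (fun M => M.map (zeq hq : ZMod 3 →+* F)) hu
  have e1 : (!![(zeq hq).symm (a 0 0), (zeq hq).symm (a 0 1);
      (zeq hq).symm (a 1 0), (zeq hq).symm (a 1 1)]).map (zeq hq : ZMod 3 →+* F) = a := by
    ext i j
    fin_cases i <;> fin_cases j <;> simp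
  simp only [e1] at h
  rw [h]
  ext i j
  simp [Matrix.map_apply, Matrix.smul_apply, ← qB_map (zeq hq : ZMod 3 →+* F) k]

end field

end Cfsg.Agent.Lib.H17.AschSP2
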