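import Cfsg.Agent.Lib.H17.AschSP2S5a
import Cfsg.Agent.Lib.H21.AschM83C
import Cfsg.Agent.Lib.H16.AschU93b

/-!
# SP2-S5 (helper9's stretch farm-out), part b: the standard model `2^{1+6}_- = Q8 ∘ Q8 ∘ Q8`
inside `GL (Fin 3 → Fin 2) F`, `|F| = 3`

`qT c = B_{c 0} ⊗ B_{c 1} ⊗ B_{c 2}` for `c : Fin 3 → Fin 4`; `R0 = {± qT c}`.
-/

set_option autoImplicit false
set_option linter.unusedSectionVars false
set_option linter.unusedVariables false

namespace Cfsg.Agent.Lib.H17.AschSP2

open Cfsg Cfsg.Geo Cfsg.Agent.Lib.H16.Asch Cfsg.Agent.Lib.H21.Asch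
open scoped MatrixGroups Matrix

/-! ### general lemmas on pure tensors -/

section ring

variable {R : Type*} [CommRing R] {m t : ℕ}

theorem pureT_smul' (a : Fin t → R) (gs : Fin t → Matrix (Fin m) (Fin m) R) :
    pureT (fun s => a s • gs s) = (∏ s, a s) • pureT gs := by
  ext x y
  simp only [pureT_apply, Matrix.smul_apply, smul_eq_mul, Finset.prod_mul_distrib]

theorem trace_pureT (gs : Fin t → Matrix (Fin m) (Fin m) R) :
    (pureT gs).trace = ∏ s, (gs s).trace := by
  unfold Matrix.trace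
  simp only [Matrix.diag_apply, pureT_apply]
  rw [Finset.prod_univ_sum]
  simp only [Fintype.piFinset_univ]

end ring

/-! ### signs -/

section sign

variable {F : Type*} [Field F]

/-- the sign `± 1` in the field -/
def sgnU (F : Type*) [Field F] : ℤˣ →* Fˣ := Units.map (Int.castRingHom F).toMonoidHom

theorem sgnU_coe (u : ℤˣ) : ((sgnU F u : Fˣ) : F) = ((u : ℤ) : F) := rfl

theorem sgnU_mul_self (u : ℤˣ) : sgnU F u * sgnU F u = 1 := by
  rw [← map_mul, Int.units_mul_self, map_one]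

theorem sgnU_coe_mul_self (u : ℤˣ) : ((sgnU F u : Fˣ) : F) * ((sgnU F u : Fˣ) : F) = 1 := by
  rw [← Units.val_mul, sgnU_mul_self, Units.val_one]

theorem sgnU_neg_one : ((sgnU F (-1) : Fˣ) : F) = -1 := by
  rw [sgnU_coe]; simp

theorem sgnU_cases (u : ℤˣ) : ((sgnU F u : Fˣ) : F) = 1 ∨ ((sgnU F u : Fˣ) : F) = -1 := by
  rcases Int.units_eq_one_or u with rfl | rfl
  · left; rw [map_one, Units.val_one]
  · right; exact sgnU_neg_one

theorem sgnU_injective (h2 : (2 : F) ≠ 0) : Function.Injective (sgnU F) := by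
  intro u v huv
  have h := congrArg (fun x : Fˣ => (x : F)) huv
  simp only [sgnU_coe] at h
  rcases Int.units_eq_one_or u with rfl | rfl <;> rcases Int.units_eq_one_or v with rfl | rfl
  · rfl
  · exfalso
    simp at h
    apply h2
    linear_combination h
  · exfalso
    simp at h
    apply h2
    linear_combination -h
  · rfl

end sign

/-! ### the tensors `qT c` -/

section tensors

variable {F : Type*} [Field F] [Fintype F]

/-- the tensor `B_{c 0} ⊗ B_{c 1} ⊗ B_{c 2}` of quaternion units -/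
def qT (F : Type*) [Field F] (c : Fin 3 → Fin 4) : Matrix (Fin 3 → Fin 2) (Fin 3 → Fin 2) F :=
  pureT (fun s => qB F (c s))

/-- the product of index vectors -/
def cop (c c' : Fin 3 → Fin 4) : Fin 3 → Fin 4 := fun s => qop (c s) (c' s)

/-- the sign of the product of two tensors -/
def csg (c c' : Fin 3 → Fin 4) : ℤˣ := ∏ s, qsg (c s) (c' s)

theorem cop_self (c : Fin 3 → Fin 4) : cop c c = 0 := funext fun s => qop_self (c s)
theorem cop_comm (c c' : Fin 3 → Fin 4) : cop c c' = cop c' c := funext fun s => qop_comm _ _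
theorem cop_zero_left (c : Fin 3 → Fin 4) : cop 0 c = c := funext fun s => qop_zero_left _
theorem cop_zero_right (c : Fin 3 → Fin 4) : cop c 0 = c := funext fun s => qop_zero_right _

theorem cop_eq_zero_iff (c c' : Fin 3 → Fin 4) : cop c c' = 0 ↔ c' = c := by
  constructor
  · intro h
    funext s
    exact (qop_eq_zero_iff (c s) (c' s)).1 (congrFun h s)
  · rintro rfl
    exact cop_self _

theorem csg_zero_left (c : Fin 3 → Fin 4) : csg 0 c = 1 := by
  unfold csg
  exact Finset.prod_eq_one fun s _ => qsg_zero_left _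

theorem csg_zero_right (c : Fin 3 → Fin 4) : csg c 0 = 1 := by
  unfold csg
  exact Finset.prod_eq_one fun s _ => qsg_zero_right _

theorem qB_mul' (hq : Fintype.card F = 3) (k l : Fin 4) :
    qB F k * qB F l = ((sgnU F (qsg k l) : Fˣ) : F) • qB F (qop k l) := qB_mul hq k l

theorem qT_zero : qT F 0 = 1 := by
  unfold qT
  have : (fun s : Fin 3 => qB F ((0 : Fin 3 → Fin 4) s)) = fun _ => 1 := funext fun s => rfl
  rw [this, pureT_one]

theorem qT_mul (hq : Fintype.card F = 3) (c c' : Fin 3 → Fin 4) :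
    qT F c * qT F c' = ((sgnU F (csg c c') : Fˣ) : F) • qT F (cop c c') := by
  unfold qT
  rw [← pureT_mul]
  have : (fun s => qB F (c s) * qB F (c' s)) =
      fun s => ((sgnU F (qsg (c s) (c' s)) : Fˣ) : F) • qB F (qop (c s) (c' s)) :=
    funext fun s => qB_mul' hq _ _
  rw [this, pureT_smul']
  congr 1
  unfold csg
  rw [map_prod, Units.coe_prod]

theorem qT_trace (c : Fin 3 → Fin 4) : (qT F c).trace = if c = 0 then 8 else 0 := by
  unfold qT
  rw [trace_pureT]
  simp only [qB_trace]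
  by_cases hc : c = 0
  · subst hc
    simp
    norm_num
  · rw [if_neg hc]
    obtain ⟨s, hs⟩ := Function.ne_iff.mp hc
    exact Finset.prod_eq_zero (Finset.mem_univ s) (if_neg hs)

theorem eight_ne_zero (hq : Fintype.card F = 3) : (8 : F) ≠ 0 := by
  have h2 := two_ne_zero' hq
  have : (8 : F) = 2 * 2 * 2 := by norm_num
  rw [this]
  exact mul_ne_zero (mul_ne_zero h2 h2) h2

/-- the trace form on the tensors -/
theorem qT_mul_trace (hq : Fintype.card F = 3) (d c : Fin 3 → Fin 4) :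
    (qT F d * qT F c).trace = if c = d then ((sgnU F (csg d d) : Fˣ) : F) * 8 else 0 := by
  rw [qT_mul hq, Matrix.trace_smul, qT_trace, smul_eq_mul]
  by_cases h : c = d
  · subst h
    rw [if_pos (cop_self c), if_pos rfl]
  · rw [if_neg h, if_neg, mul_zero]
    rw [cop_eq_zero_iff]
    exact h

theorem qT_linearIndependent (hq : Fintype.card F = 3) :
    LinearIndependent F (fun c : Fin 3 → Fin 4 => qT F c) := by
  rw [Fintype.linearIndependent_iff]
  intro g hg d
  have h1 := congrArg (fun M => (qT F d * M).trace) hg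
  simp only [Finset.mul_sum, Matrix.mul_smul, Matrix.trace_sum, Matrix.trace_smul, smul_eq_mul,
    qT_mul_trace hq, mul_zero, Matrix.trace_zero] at h1
  rw [Finset.sum_eq_single d] at h1
  · rw [if_pos rfl] at h1
    rcases mul_eq_zero.1 h1 with h | h
    · exact h
    · exfalso
      rcases mul_eq_zero.1 h with h | h
      · exact Units.ne_zero _ h
      · exact eight_ne_zero hq h
  · intro c _ hc
    rw [if_neg hc, mul_zero]
  · intro h
    exact absurd (Finset.mem_univ d) h

theorem qT_span (hq : Fintype.card F = 3) :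
    Submodule.span F (Set.range (fun c : Fin 3 → Fin 4 => qT F c)) = ⊤ := by
  apply (qT_linearIndependent hq).span_eq_top_of_card_eq_finrank'
  rw [Module.finrank_matrix]
  simp

end tensors

/-! ### the group `R₀` -/

section group

variable {F : Type*} [Field F] [Fintype F]

theorem qT_mul_self (hq : Fintype.card F = 3) (c : Fin 3 → Fin 4) :
    qT F c * qT F c = ((sgnU F (csg c c) : Fˣ) : F) • (1 : Matrix (Fin 3 → Fin 2) (Fin 3 → Fin 2) F) := by
  rw [qT_mul hq, cop_self, qT_zero]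

/-- the group `R₀ = {± qT c}` of order `2^7` -/
def R0 (hq : Fintype.card F = 3) : Subgroup (GL (Fin 3 → Fin 2) F) where
  carrier := {g | ∃ (u : ℤˣ) (c : Fin 3 → Fin 4),
    (g : Matrix (Fin 3 → Fin 2) (Fin 3 → Fin 2) F) = ((sgnU F u : Fˣ) : F) • qT F c}
  one_mem' := ⟨1, 0, by simp only [map_one, Units.val_one, one_smul, qT_zero]⟩
  mul_mem' := by
    rintro a b ⟨u, c, ha⟩ ⟨u', c', hb⟩
    refine ⟨u * u' * csg c c', cop c c', ?_⟩
    rw [Units.val_mul, ha, hb, Matrix.smul_mul, Matrix.mul_smul, smul_smul, qT_mul hq, smul_smul,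
      map_mul, map_mul, Units.val_mul, Units.val_mul]
  inv_mem' := by
    rintro a ⟨u, c, ha⟩
    refine ⟨u * csg c c, c, ?_⟩
    rw [Matrix.coe_units_inv]
    apply Matrix.inv_eq_right_inv
    rw [ha, Matrix.smul_mul, Matrix.mul_smul, smul_smul, qT_mul_self hq, smul_smul,
      ← Units.val_mul, ← Units.val_mul, ← map_mul, ← map_mul]
    have : u * (u * csg c c) * csg c c = 1 := by
      rw [← mul_assoc, Int.units_mul_self, one_mul, Int.units_mul_self]
    rw [this, map_one, Units.val_one, one_smul]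

theorem mem_R0 (hq : Fintype.card F = 3) (g : GL (Fin 3 → Fin 2) F) :
    g ∈ R0 hq ↔ ∃ (u : ℤˣ) (c : Fin 3 → Fin 4),
      (g : Matrix (Fin 3 → Fin 2) (Fin 3 → Fin 2) F) = ((sgnU F u : Fˣ) : F) • qT F c := Iff.rfl

/-- uniqueness of the representation `a • qT c` -/
theorem qT_smul_inj (hq : Fintype.card F = 3) {a b : F} {c c' : Fin 3 → Fin 4} (ha : a ≠ 0)
    (h : a • qT F c = b • qT F c') : c' = c ∧ a = b := by
  have h1 := congrArg (fun M => (qT F c * M).trace) h
  simp only [Matrix.mul_smul, Matrix.trace_smul, smul_eq_mul, qT_mul_trace hq, if_true] at h1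
  have hne : ((sgnU F (csg c c) : Fˣ) : F) * 8 ≠ 0 :=
    mul_ne_zero (Units.ne_zero _) (eight_ne_zero hq)
  by_cases hc : c' = c
  · rw [if_pos hc] at h1
    exact ⟨hc, mul_right_cancel₀ hne h1⟩
  · rw [if_neg hc, mul_zero] at h1
    exact absurd h1 (mul_ne_zero ha hne)

/-- the elements `± qT c` as units -/
noncomputable def tGL (hq : Fintype.card F = 3) (u : ℤˣ) (c : Fin 3 → Fin 4) :
    GL (Fin 3 → Fin 2) F where
  val := ((sgnU F u : Fˣ) : F) • qT F c
  inv := ((sgnU F (u * csg c c) : Fˣ) : F) • qT F c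
  val_inv := by
    rw [Matrix.smul_mul, Matrix.mul_smul, smul_smul, qT_mul_self hq, smul_smul,
      ← Units.val_mul, ← Units.val_mul, ← map_mul, ← map_mul]
    have : u * (u * csg c c) * csg c c = 1 := by
      rw [← mul_assoc, Int.units_mul_self, one_mul, Int.units_mul_self]
    rw [this, map_one, Units.val_one, one_smul]
  inv_val := by
    rw [Matrix.smul_mul, Matrix.mul_smul, smul_smul, qT_mul_self hq, smul_smul,
      ← Units.val_mul, ← Units.val_mul, ← map_mul, ← map_mul]
    have : u * csg c c * u * csg c c = 1 := by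
      rw [mul_comm (u * csg c c) u, ← mul_assoc, Int.units_mul_self, one_mul, Int.units_mul_self]
    rw [this, map_one, Units.val_one, one_smul]

theorem tGL_val (hq : Fintype.card F = 3) (u : ℤˣ) (c : Fin 3 → Fin 4) :
    ((tGL hq u c : GL (Fin 3 → Fin 2) F) : Matrix (Fin 3 → Fin 2) (Fin 3 → Fin 2) F) =
      ((sgnU F u : Fˣ) : F) • qT F c := rfl

theorem tGL_mem (hq : Fintype.card F = 3) (u : ℤˣ) (c : Fin 3 → Fin 4) : tGL hq u c ∈ R0 hq :=
  ⟨u, c, rfl⟩

theorem card_R0 (hq : Fintype.card F = 3) : Nat.card (R0 hq) = 2 ^ (1 + 2 * 3) := by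
  have hbij : Function.Bijective
      (fun p : ℤˣ × (Fin 3 → Fin 4) => (⟨tGL hq p.1 p.2, tGL_mem hq p.1 p.2⟩ : R0 hq)) := by
    constructor
    · rintro ⟨u, c⟩ ⟨u', c'⟩ h
      have h1 := congrArg (fun x : R0 hq => ((x : GL (Fin 3 → Fin 2) F) :
        Matrix (Fin 3 → Fin 2) (Fin 3 → Fin 2) F)) h
      simp only [tGL_val] at h1
      obtain ⟨hc, hu⟩ := qT_smul_inj hq (Units.ne_zero _) h1
      have hu' : u = u' := sgnU_injective (two_ne_zero' hq) (Units.ext hu)
      rw [hc, hu']
    · rintro ⟨g, u, c, hg⟩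
      exact ⟨(u, c), Subtype.ext (Units.ext hg.symm)⟩
  rw [← Nat.card_congr (Equiv.ofBijective _ hbij)]
  simp [Nat.card_eq_fintype_card]

end group

/-! ### general lemmas: commutant of a spanning set, centre of an absolutely irreducible group -/

section general

variable {F : Type*} [Field F] {ι : Type} [Fintype ι] [DecidableEq ι]

theorem scalar_of_commute_span' {S : Set (Matrix ι ι F)} (hS : Submodule.span F S = ⊤)
    (M : Matrix ι ι F) (hM : ∀ s ∈ S, M * s = s * M) : ∃ c : F, M = c • (1 : Matrix ι ι F) := by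
  have hall : ∀ N : Matrix ι ι F, M * N = N * M := by
    intro N
    have hN : N ∈ Submodule.span F S := by rw [hS]; trivial
    induction hN using Submodule.span_induction with
    | mem x hx => exact hM x hx
    | zero => rw [mul_zero, zero_mul]
    | add x y _ _ hx hy => rw [mul_add, add_mul, hx, hy]
    | smul a x _ hx => rw [Matrix.mul_smul, Matrix.smul_mul, hx]
  have h1 : M ∈ Set.range (Matrix.scalar ι) := by
    rw [Matrix.mem_range_scalar_iff_commute_single']
    intro i j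
    exact (hall _).symm
  obtain ⟨c, hc⟩ := h1
  refine ⟨c, ?_⟩
  rw [← hc, Matrix.smul_one_eq_diagonal]
  rfl

theorem actsAbsIrr_of_span_eq_top' {S : Set (Matrix ι ι F)} (hS : Submodule.span F S = ⊤) :
    ActsAbsolutelyIrreducibly S :=
  ⟨actsIrreducibly_of_span_eq_top hS, fun M hM => scalar_of_commute_span' hS M hM⟩

/-- in an absolutely irreducible group the centre consists of the scalar elements -/
theorem mem_center_iff_scalars (R : Subgroup (GL ι F))
    (habs : ActsAbsolutelyIrreducibly (matrixSet R)) (x : R) :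
    x ∈ Subgroup.center R ↔ (x : GL ι F) ∈ scalars ι F := by
  constructor
  · intro hx
    rw [Subgroup.mem_center_iff] at hx
    have hcomm : ∀ s ∈ matrixSet R, ((x : GL ι F) : Matrix ι ι F) * s = s * ((x : GL ι F) : Matrix ι ι F) := by
      rintro _ ⟨g, hg, rfl⟩
      have h := hx ⟨g, hg⟩
      have h2 := congrArg (fun y : R => ((y : GL ι F) : Matrix ι ι F)) h
      simp only [Subgroup.coe_mul, Units.val_mul] at h2
      exact h2.symm
    obtain ⟨c, hc⟩ := habs.2 _ hcomm
    rw [mem_scalars_iff]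
    by_cases hc0 : c = 0
    · refine ⟨1, ?_⟩
      rw [hc0, zero_smul] at hc
      have h1 : (1 : Matrix ι ι F) = 0 := by
        have := (x : GL ι F).inv_val
        rw [hc, mul_zero] at this
        exact this.symm
      rw [hc, Units.val_one, one_smul, h1]
    · exact ⟨Units.mk0 c hc0, hc⟩
  · intro hx
    rw [mem_scalars_iff] at hx
    obtain ⟨c, hc⟩ := hx
    rw [Subgroup.mem_center_iff]
    intro g
    apply Subtype.ext
    apply Units.ext
    simp only [Subgroup.coe_mul, Units.val_mul]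
    rw [hc, Matrix.mul_smul, Matrix.smul_mul, Matrix.mul_one, Matrix.one_mul]

end general

/-! ### properties of `R₀` -/

section props

variable {F : Type*} [Field F] [Fintype F]

theorem absIrr_R0 (hq : Fintype.card F = 3) : ActsAbsolutelyIrreducibly (matrixSet (R0 hq)) := by
  apply actsAbsIrr_of_span_eq_top'
  rw [eq_top_iff, ← qT_span hq]
  apply Submodule.span_mono
  rintro _ ⟨c, rfl⟩
  refine ⟨tGL hq 1 c, tGL_mem hq 1 c, ?_⟩
  show ((sgnU F 1 : Fˣ) : F) • qT F c = qT F c
  rw [map_one, Units.val_one, one_smul]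

theorem qT_comm_sign (hq : Fintype.card F = 3) (c c' : Fin 3 → Fin 4) :
    qT F c * qT F c' = ((sgnU F (csg c c' * csg c' c) : Fˣ) : F) • (qT F c' * qT F c) := by
  rw [qT_mul hq c c', qT_mul hq c' c, cop_comm c' c, smul_smul, ← Units.val_mul, ← map_mul]
  have : csg c c' * csg c' c * csg c' c = csg c c' := by
    rw [mul_assoc, Int.units_mul_self, mul_one]
  rw [this]

/-- commutators in `R₀` are scalar -/
theorem comm_R0 (hq : Fintype.card F = 3) (x y : GL (Fin 3 → Fin 2) F) (hx : x ∈ R0 hq)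
    (hy : y ∈ R0 hq) : x * y * x⁻¹ * y⁻¹ ∈ scalars (Fin 3 → Fin 2) F := by
  obtain ⟨u, c, hxv⟩ := hx
  obtain ⟨u', c', hyv⟩ := hy
  rw [mem_scalars_iff]
  refine ⟨sgnU F (csg c c' * csg c' c), ?_⟩
  have hz : (x * y * x⁻¹ * y⁻¹) * (y * x) = x * y := by group
  have h1 : ((x * y : GL (Fin 3 → Fin 2) F) : Matrix (Fin 3 → Fin 2) (Fin 3 → Fin 2) F) =
      ((sgnU F (csg c c' * csg c' c) : Fˣ) : F) •
        ((y * x : GL (Fin 3 → Fin 2) F) : Matrix (Fin 3 → Fin 2) (Fin 3 → Fin 2) F) := by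
    rw [Units.val_mul, Units.val_mul, hxv, hyv, Matrix.smul_mul, Matrix.mul_smul, Matrix.smul_mul,
      Matrix.mul_smul, qT_comm_sign hq c c']
    simp only [smul_smul]
    congr 1
    ring
  have h2 := congrArg (fun z : GL (Fin 3 → Fin 2) F =>
    (z : Matrix (Fin 3 → Fin 2) (Fin 3 → Fin 2) F)) hz
  beta_reduce at h2
  rw [Units.val_mul, h1] at h2
  have h3 := congrArg (fun M => M * (((y * x)⁻¹ : GL (Fin 3 → Fin 2) F) :
    Matrix (Fin 3 → Fin 2) (Fin 3 → Fin 2) F)) h2
  simp only [Matrix.mul_assoc, Matrix.smul_mul] at h3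
  rw [← Units.val_mul, mul_inv_cancel, Units.val_one, Matrix.mul_one] at h3
  exact h3

theorem center_R0_iff (hq : Fintype.card F = 3) (x : R0 hq) :
    x ∈ Subgroup.center (R0 hq) ↔ (x : GL (Fin 3 → Fin 2) F) ∈ scalars (Fin 3 → Fin 2) F :=
  mem_center_iff_scalars (R0 hq) (absIrr_R0 hq) x

/-- the scalars of a field with three elements are `± 1` -/
theorem scalars_eq (hq : Fintype.card F = 3) {ι : Type} [Fintype ι] [DecidableEq ι] (x : GL ι F)
    (hx : x ∈ scalars ι F) : (x : Matrix ι ι F) = 1 ∨ (x : Matrix ι ι F) = -1 := by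
  rw [mem_scalars_iff] at hx
  obtain ⟨c, hc⟩ := hx
  rcases eq_zero_or_one_or_neg_one hq (c : F) with h | h | h
  · exact absurd h c.ne_zero
  · left; rw [hc, h, one_smul]
  · right; rw [hc, h, neg_smul, one_smul]

theorem neg_one_mem_R0 (hq : Fintype.card F = 3) : (-1 : GL (Fin 3 → Fin 2) F) ∈ R0 hq := by
  refine ⟨-1, 0, ?_⟩
  rw [sgnU_neg_one, qT_zero, neg_smul, one_smul]
  rfl

theorem one_ne_neg_one (hq : Fintype.card F = 3) :
    (1 : Matrix (Fin 3 → Fin 2) (Fin 3 → Fin 2) F) ≠ -1 := by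
  intro h
  have h1 := congrFun (congrFun h (fun _ => 0)) (fun _ => 0)
  simp only [Matrix.one_apply_eq, Matrix.neg_apply] at h1
  apply two_ne_zero' hq
  linear_combination h1

theorem card_center_R0 (hq : Fintype.card F = 3) : Nat.card (Subgroup.center (R0 hq)) = 2 := by
  rw [Nat.card_eq_two_iff]
  have hm1 : (⟨-1, neg_one_mem_R0 hq⟩ : R0 hq) ∈ Subgroup.center (R0 hq) := by
    rw [center_R0_iff, mem_scalars_iff]
    exact ⟨-1, by simp⟩
  refine ⟨1, ⟨⟨-1, neg_one_mem_R0 hq⟩, hm1⟩, ?_, ?_⟩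
  · intro h
    have h1 := congrArg (fun z : Subgroup.center (R0 hq) =>
      (((z : R0 hq) : GL (Fin 3 → Fin 2) F) : Matrix (Fin 3 → Fin 2) (Fin 3 → Fin 2) F)) h
    exact one_ne_neg_one hq h1
  · rw [Set.eq_univ_iff_forall]
    rintro ⟨z, hz⟩
    rcases scalars_eq hq _ ((center_R0_iff hq z).1 hz) with h | h
    · left
      apply Subtype.ext
      apply Subtype.ext
      apply Units.ext
      exact h
    · right
      rw [Set.mem_singleton_iff]
      apply Subtype.ext
      apply Subtype.ext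
      apply Units.ext
      exact h

/-- squares in `R₀` are `± 1` -/
theorem sq_R0 (hq : Fintype.card F = 3) (x : GL (Fin 3 → Fin 2) F) (hx : x ∈ R0 hq) :
    ∃ u : ℤˣ, ((x * x : GL (Fin 3 → Fin 2) F) : Matrix (Fin 3 → Fin 2) (Fin 3 → Fin 2) F) =
      ((sgnU F u : Fˣ) : F) • (1 : Matrix (Fin 3 → Fin 2) (Fin 3 → Fin 2) F) := by
  obtain ⟨u, c, hxv⟩ := hx
  refine ⟨csg c c, ?_⟩
  rw [Units.val_mul, hxv, Matrix.smul_mul, Matrix.mul_smul, smul_smul, qT_mul_self hq, smul_smul,
    sgnU_coe_mul_self, one_mul]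

theorem pow_four_R0 (hq : Fintype.card F = 3) (x : R0 hq) : x ^ 4 = 1 := by
  obtain ⟨u, hu⟩ := sq_R0 hq x.1 x.2
  apply Subtype.ext
  apply Units.ext
  have e : x ^ 4 = (x * x) * (x * x) := by rw [← pow_two x, ← pow_add]
  rw [e]
  simp only [Subgroup.coe_mul, Subgroup.coe_one, Units.val_one]
  rw [Units.val_mul, hu, Matrix.smul_mul, Matrix.one_mul, smul_smul, sgnU_coe_mul_self, one_smul]

/-- an element of order four -/
theorem exists_sq_ne_one (hq : Fintype.card F = 3) : ∃ x : R0 hq, x ^ 2 ≠ 1 := by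
  refine ⟨⟨tGL hq 1 (fun s => if s = 0 then 1 else 0), tGL_mem hq _ _⟩, ?_⟩
  intro h
  have h1 := congrArg (fun z : R0 hq =>
    ((z : GL (Fin 3 → Fin 2) F) : Matrix (Fin 3 → Fin 2) (Fin 3 → Fin 2) F)) h
  simp only [pow_two, Subgroup.coe_mul, Subgroup.coe_one, Units.val_one, Units.val_mul, tGL_val,
    map_one, one_smul] at h1
  rw [qT_mul_self hq] at h1
  have h2 : csg (fun s : Fin 3 => if s = 0 then (1 : Fin 4) else 0)
      (fun s : Fin 3 => if s = 0 then (1 : Fin 4) else 0) = -1 := by decide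
  rw [h2, sgnU_neg_one, neg_smul, one_smul] at h1
  exact one_ne_neg_one hq h1.symm

theorem exponent_R0 (hq : Fintype.card F = 3) : Monoid.exponent (R0 hq) = 2 * Nat.gcd 2 2 := by
  have hdvd : Monoid.exponent (R0 hq) ∣ 4 :=
    Monoid.exponent_dvd_of_forall_pow_eq_one (pow_four_R0 hq)
  obtain ⟨x, hx⟩ := exists_sq_ne_one hq
  have hpow := Monoid.pow_exponent_eq_one x
  have hle : Monoid.exponent (R0 hq) ≤ 4 := Nat.le_of_dvd (by norm_num) hdvd
  have h4 : Monoid.exponent (R0 hq) = 4 := by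
    generalize Monoid.exponent (R0 hq) = n at hdvd hpow hle
    interval_cases n
    · simp at hdvd
    · exfalso; apply hx; rw [pow_two]; rw [pow_one] at hpow; rw [hpow, one_mul]
    · exact absurd hpow hx
    · exfalso; revert hdvd; decide
    · rfl
  rw [h4]
  rfl

end props

/-! ### `R₀` is normalised by the tensor wreath group -/

section norm

variable {F : Type*} [Field F] [Fintype F]

/-- conjugates of the quaternion units under `GL₂(3)` -/
theorem conj_qB (hq : Fintype.card F = 3) (g : GL (Fin 2) F) (k : Fin 4) :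
    ∃ (u : ℤˣ) (k' : Fin 4), (g : Matrix (Fin 2) (Fin 2) F) * qB F k *
      ((g⁻¹ : GL (Fin 2) F) : Matrix (Fin 2) (Fin 2) F) = ((sgnU F u : Fˣ) : F) • qB F k' := by
  by_cases hk : k = 0
  · subst hk
    refine ⟨1, 0, ?_⟩
    rw [qB_zero, Matrix.mul_one, ← Units.val_mul, mul_inv_cancel, Units.val_one, map_one,
      Units.val_one, one_smul]
  · have hd : ((g : Matrix (Fin 2) (Fin 2) F) * qB F k *
        ((g⁻¹ : GL (Fin 2) F) : Matrix (Fin 2) (Fin 2) F)).det = 1 := by
      rw [Matrix.det_units_conj, qB_det hq]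
    have ht : ((g : Matrix (Fin 2) (Fin 2) F) * qB F k *
        ((g⁻¹ : GL (Fin 2) F) : Matrix (Fin 2) (Fin 2) F)).trace = 0 := by
      rw [Matrix.trace_units_conj, qB_trace, if_neg hk]
    obtain ⟨k', -, u, hu⟩ := qB_enum hq _ hd ht
    exact ⟨u, k', hu⟩

omit [Fintype F] in
theorem pure_inv (gs : Fin 3 → GL (Fin 2) F) (g : GL (Fin 3 → Fin 2) F)
    (hg : (g : Matrix (Fin 3 → Fin 2) (Fin 3 → Fin 2) F) =
      pureT (fun i => ((gs i : GL (Fin 2) F) : Matrix (Fin 2) (Fin 2) F))) :
    ((g⁻¹ : GL (Fin 3 → Fin 2) F) : Matrix (Fin 3 → Fin 2) (Fin 3 → Fin 2) F) =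
      pureT (fun i => (((gs i)⁻¹ : GL (Fin 2) F) : Matrix (Fin 2) (Fin 2) F)) := by
  rw [Matrix.coe_units_inv]
  apply Matrix.inv_eq_right_inv
  rw [hg, ← pureT_mul]
  have : (fun i => ((gs i : GL (Fin 2) F) : Matrix (Fin 2) (Fin 2) F) *
      (((gs i)⁻¹ : GL (Fin 2) F) : Matrix (Fin 2) (Fin 2) F)) = fun _ => 1 :=
    funext fun i => by rw [← Units.val_mul, mul_inv_cancel, Units.val_one]
  rw [this, pureT_one]

theorem pure_conj_mem (hq : Fintype.card F = 3) (gs : Fin 3 → GL (Fin 2) F)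
    (g : GL (Fin 3 → Fin 2) F)
    (hg : (g : Matrix (Fin 3 → Fin 2) (Fin 3 → Fin 2) F) =
      pureT (fun i => ((gs i : GL (Fin 2) F) : Matrix (Fin 2) (Fin 2) F)))
    (h : GL (Fin 3 → Fin 2) F) (hh : h ∈ R0 hq) : g * h * g⁻¹ ∈ R0 hq := by
  obtain ⟨u, c, hv⟩ := hh
  have hginv := pure_inv gs g hg
  choose us ks hks using fun s => conj_qB hq (gs s) (c s)
  refine ⟨u * ∏ s, us s, ks, ?_⟩
  rw [Units.val_mul, Units.val_mul, hg, hginv, hv, Matrix.mul_smul, Matrix.smul_mul]
  unfold qT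
  rw [← pureT_mul, ← pureT_mul]
  simp only [hks]
  rw [pureT_smul', smul_smul, map_mul, Units.val_mul, map_prod, Units.coe_prod]

theorem perm_conj_mem (hq : Fintype.card F = 3) (σ : Equiv.Perm (Fin 3))
    (g : GL (Fin 3 → Fin 2) F)
    (hg : (g : Matrix (Fin 3 → Fin 2) (Fin 3 → Fin 2) F) = permMat σ)
    (h : GL (Fin 3 → Fin 2) F) (hh : h ∈ R0 hq) : g * h * g⁻¹ ∈ R0 hq := by
  obtain ⟨u, c, hv⟩ := hh
  refine ⟨u, fun k => c (σ.symm k), ?_⟩
  have hginv : ((g⁻¹ : GL (Fin 3 → Fin 2) F) : Matrix (Fin 3 → Fin 2) (Fin 3 → Fin 2) F) =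
      permMat σ⁻¹ := by
    rw [Matrix.coe_units_inv]
    apply Matrix.inv_eq_right_inv
    rw [hg, ← permMat_mul, mul_inv_cancel, permMat_one]
  rw [Units.val_mul, Units.val_mul, hg, hginv, hv, Matrix.mul_smul, Matrix.smul_mul]
  unfold qT
  rw [permMat_mul_pureT, Matrix.mul_assoc, ← permMat_mul, mul_inv_cancel, permMat_one,
    Matrix.mul_one]

theorem perm_inv' (σ : Equiv.Perm (Fin 3)) (g : GL (Fin 3 → Fin 2) F)
    (hg : (g : Matrix (Fin 3 → Fin 2) (Fin 3 → Fin 2) F) = permMat σ) :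
    ((g⁻¹ : GL (Fin 3 → Fin 2) F) : Matrix (Fin 3 → Fin 2) (Fin 3 → Fin 2) F) = permMat σ⁻¹ := by
  rw [Matrix.coe_units_inv]
  apply Matrix.inv_eq_right_inv
  rw [hg, ← permMat_mul, mul_inv_cancel, permMat_one]

/-- the standard tensor wreath group normalises `R₀` -/
theorem wreath_le_normalizer (hq : Fintype.card F = 3) :
    tensorWreathStandard 2 3 F ≤ Subgroup.normalizer ((R0 hq : Subgroup (GL (Fin 3 → Fin 2) F)) :
      Set (GL (Fin 3 → Fin 2) F)) := by
  unfold tensorWreathStandard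
  rw [Subgroup.closure_le]
  intro g hg
  have key : (∀ h ∈ R0 hq, g * h * g⁻¹ ∈ R0 hq) ∧ (∀ h ∈ R0 hq, g⁻¹ * h * g ∈ R0 hq) := by
    rcases hg with ⟨gs, hgs⟩ | ⟨σ, hσ⟩
    · have hgv : (g : Matrix (Fin 3 → Fin 2) (Fin 3 → Fin 2) F) =
          pureT (fun i => ((gs i : GL (Fin 2) F) : Matrix (Fin 2) (Fin 2) F)) := by
        ext x y; exact hgs x y
      refine ⟨fun h hh => pure_conj_mem hq gs g hgv h hh, fun h hh => ?_⟩
      have := pure_conj_mem hq (fun i => (gs i)⁻¹) g⁻¹ (pure_inv gs g hgv) h hh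
      rwa [inv_inv] at this
    · have hgv : (g : Matrix (Fin 3 → Fin 2) (Fin 3 → Fin 2) F) = permMat σ := by
        ext x y; exact hσ x y
      refine ⟨fun h hh => perm_conj_mem hq σ g hgv h hh, fun h hh => ?_⟩
      have := perm_conj_mem hq σ⁻¹ g⁻¹ (perm_inv' σ g hgv) h hh
      rwa [inv_inv] at this
  rw [SetLike.mem_coe, Subgroup.mem_set_normalizer_iff]
  intro h
  constructor
  · exact key.1 h
  · intro hh
    have := key.2 _ hh
    have e : g⁻¹ * (g * h * g⁻¹) * g = h := by group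
    rwa [e] at this

end norm

/-! ### characteristic abelian subgroups of `R₀` are cyclic -/

section char

variable {F : Type*} [Field F] [Fintype F]

/-- `qG` as an element of `GL₂` -/
def qGL (F : Type*) [Field F] : GL (Fin 2) F := ⟨qG F, qG' F, qG_mul_qG' F, qG'_mul_qG F⟩

/-- the element `1 ⊗ … ⊗ qG ⊗ … ⊗ 1` -/
def gPos (F : Type*) [Field F] (s : Fin 3) : GL (Fin 3 → Fin 2) F :=
  ⟨posEmb s (qG F), posEmb s (qG' F), by rw [← posEmb_mul, qG_mul_qG', posEmb_one],
    by rw [← posEmb_mul, qG'_mul_qG, posEmb_one]⟩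

theorem gPos_conj (hq : Fintype.card F = 3) (s : Fin 3) (c : Fin 3 → Fin 4) :
    posEmb s (qG F) * qT F c * posEmb s (qG' F) =
      qT F (Function.update c s (qcyc (c s))) := by
  unfold qT
  rw [posEmb_def, posEmb_def, ← pureT_mul, ← pureT_mul]
  congr 1
  funext i
  by_cases hi : i = s
  · subst hi
    simp only [Function.update_self]
    exact qB_conj hq _
  · simp [Function.update_of_ne hi]

omit [Fintype F] in
theorem gPos_mem_wreath (s : Fin 3) : gPos F s ∈ tensorWreathStandard 2 3 F := by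
  apply Subgroup.subset_closure
  left
  refine ⟨Function.update (fun _ => 1) s (qGL F), fun x y => ?_⟩
  show posEmb s (qG F) x y = _
  rw [posEmb_def, pureT_apply]
  refine Finset.prod_congr rfl fun i _ => ?_
  by_cases hi : i = s
  · subst hi
    simp only [Function.update_self]
    rfl
  · simp only [Function.update_of_ne hi]
    rfl

theorem csg_update (c : Fin 3 → Fin 4) (s : Fin 3) (hs : c s ≠ 0) :
    csg c (Function.update c s (qcyc (c s))) * csg (Function.update c s (qcyc (c s))) c = -1 := by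
  unfold csg
  rw [← Finset.prod_mul_distrib, Finset.prod_eq_single s]
  · rw [Function.update_self]
    exact qsg_cyc _ hs
  · intro t _ hts
    rw [Function.update_of_ne hts]
    exact qsg_symm_self _
  · intro h
    exact absurd (Finset.mem_univ s) h

theorem cyclic_of_char_R0 (hq : Fintype.card F = 3) (A : Subgroup (R0 hq))
    (hA : A.Characteristic) (hcomm : IsMulCommutative A) : IsCyclic A := by
  have hle : A ≤ Subgroup.center (R0 hq) := by
    intro x hx
    obtain ⟨u, c, hxv⟩ := x.2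
    by_cases hc : c = 0
    · rw [center_R0_iff, mem_scalars_iff]
      exact ⟨sgnU F u, by rw [hxv, hc, qT_zero]⟩
    · exfalso
      obtain ⟨s, hs⟩ := Function.ne_iff.mp hc
      have hs' : c s ≠ 0 := hs
      have hgn : gPos F s ∈ Subgroup.normalizer ((R0 hq : Subgroup (GL (Fin 3 → Fin 2) F)) :
          Set (GL (Fin 3 → Fin 2) F)) := wreath_le_normalizer hq (gPos_mem_wreath s)
      let ψ : MulAut (R0 hq) := (R0 hq).normalizerMonoidHom ⟨gPos F s, hgn⟩
      have hψx : ψ x ∈ A := by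
        have h1 := hA.fixed ψ
        rw [← h1] at hx
        exact hx
      have hxy : x * ψ x = ψ x * x := by
        have := hcomm.is_comm.comm (⟨x, hx⟩ : A) ⟨ψ x, hψx⟩
        exact congrArg Subtype.val this
      have hψv : (((ψ x : R0 hq) : GL (Fin 3 → Fin 2) F) :
          Matrix (Fin 3 → Fin 2) (Fin 3 → Fin 2) F) =
          ((sgnU F u : Fˣ) : F) • qT F (Function.update c s (qcyc (c s))) := by
        show ((gPos F s * (x : GL (Fin 3 → Fin 2) F) * (gPos F s)⁻¹ : GL (Fin 3 → Fin 2) F) :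
          Matrix (Fin 3 → Fin 2) (Fin 3 → Fin 2) F) = _
        rw [Units.val_mul, Units.val_mul, hxv]
        show posEmb s (qG F) * _ * posEmb s (qG' F) = _
        rw [Matrix.mul_smul, Matrix.smul_mul, gPos_conj hq]
      have h1 := congrArg (fun z : R0 hq => ((z : GL (Fin 3 → Fin 2) F) :
        Matrix (Fin 3 → Fin 2) (Fin 3 → Fin 2) F)) hxy
      simp only [Subgroup.coe_mul, Units.val_mul, hxv, hψv, Matrix.smul_mul, Matrix.mul_smul] at h1
      rw [qT_mul hq c, qT_mul hq _ c, cop_comm _ c] at h1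
      simp only [smul_smul] at h1
      obtain ⟨-, h2⟩ := qT_smul_inj hq
        (mul_ne_zero (Units.ne_zero _) (mul_ne_zero (Units.ne_zero _) (Units.ne_zero _))) h1
      have h3 : ((sgnU F (csg c (Function.update c s (qcyc (c s)))) : Fˣ) : F) =
          ((sgnU F (csg (Function.update c s (qcyc (c s))) c) : Fˣ) : F) :=
        mul_left_cancel₀ (Units.ne_zero _) (mul_left_cancel₀ (Units.ne_zero _) h2)
      have h4 : csg c (Function.update c s (qcyc (c s))) =
          csg (Function.update c s (qcyc (c s))) c :=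
        sgnU_injective (two_ne_zero' hq) (Units.ext h3)
      have h5 := csg_update c s hs'
      rw [h4, Int.units_mul_self] at h5
      exact absurd h5 (by decide)
  have : Fact (Nat.Prime 2) := ⟨Nat.prime_two⟩
  have : IsCyclic (Subgroup.center (R0 hq)) := isCyclic_of_prime_card (card_center_R0 hq)
  exact Subgroup.isCyclic_of_le hle

theorem isSymplecticType_R0 (hq : Fintype.card F = 3) : IsSymplecticTypeGroup 2 (R0 hq) where
  prime := Nat.prime_two
  pGroup := IsPGroup.of_card (card_R0 hq)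
  cyclic_of_characteristic := cyclic_of_char_R0 hq
  exponent_eq := exponent_R0 hq

end char

/-! ### `R₀` preserves the tensor cube of an alternating `2 × 2` form -/

section form

variable {F : Type*} [Field F] [Fintype F]

omit [Fintype F] in
theorem transpose_alt_mul (G : Matrix (Fin 2) (Fin 2) F) (h00 : G 0 0 = 0) (h11 : G 1 1 = 0)
    (h10 : G 1 0 = -G 0 1) (a : Matrix (Fin 2) (Fin 2) F) : aᵀ * G * a = a.det • G := by
  rw [Matrix.det_fin_two]
  ext i j
  fin_cases i <;> fin_cases j <;>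
    simp [Matrix.mul_apply, Fin.sum_univ_two, h00, h11, h10] <;> ring

theorem R0_preserves (hq : Fintype.card F = 3) (G : Matrix (Fin 2) (Fin 2) F) (h00 : G 0 0 = 0)
    (h11 : G 1 1 = 0) (h10 : G 1 0 = -G 0 1) (x : GL (Fin 3 → Fin 2) F) (hx : x ∈ R0 hq) :
    (x : Matrix (Fin 3 → Fin 2) (Fin 3 → Fin 2) F)ᵀ * pureT (fun _ : Fin 3 => G) *
      (x : Matrix (Fin 3 → Fin 2) (Fin 3 → Fin 2) F) = pureT (fun _ : Fin 3 => G) := by
  obtain ⟨u, c, hxv⟩ := hx
  rw [hxv, Matrix.transpose_smul, Matrix.smul_mul, Matrix.smul_mul, Matrix.mul_smul, smul_smul,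
    sgnU_coe_mul_self, one_smul]
  unfold qT
  rw [pureT_transpose, ← pureT_mul, ← pureT_mul]
  congr 1
  funext s
  rw [transpose_alt_mul G h00 h11 h10, qB_det hq, one_smul]

end form

end Cfsg.Agent.Lib.H17.AschSP2
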