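import Mathlib
import Cfsg.Prelude.Def_Chevalley

set_option autoImplicit false

/-! # Base change of Chevalley groups along an isomorphism of fields -/

namespace Cfsg.Agent.Lib.H17.ChevBC

open Cfsg.Lie Matrix

variable (D : ChevalleyDatum) {F K : Type*} [Field F] [Field K]

/-- the matrices of the root elements are compatible with homomorphisms of fields -/
theorem xMat_map (e : F →+* K) (r : Fin D.nroots) (t : F) :
    (D.xMat F r t).map e = D.xMat K r (e t) := by
  ext row col
  rw [Matrix.map_apply]
  unfold ChevalleyDatum.xMat
  rw [Matrix.of_apply, Matrix.of_apply]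
  rcases col with i | s
  · rcases row with i' | u
    · dsimp only
      split_ifs <;> simp
    · dsimp only
      split_ifs <;> simp
  · dsimp only
    by_cases h1 : s = r
    · rw [if_pos h1, if_pos h1]
      rcases row with i' | u
      · simp
      · dsimp only
        split_ifs <;> simp
    · rw [if_neg h1, if_neg h1]
      by_cases h2 : s.val = D.negIdx.getD r.val 0
      · rw [if_pos h2, if_pos h2]
        rcases row with i' | u
        · simp
        · dsimp only
          split_ifs <;> simp
      · rw [if_neg h2, if_neg h2]
        rcases row with i' | u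
        · simp
        · dsimp only
          rw [map_add, map_list_sum, List.map_map]
          congr 1
          · split_ifs <;> simp
          · congr 1
            apply List.map_congr_left
            intro km _
            simp

/-- base change of invertible matrices -/
noncomputable def glMap (e : F ≃+* K) : GL D.Idx F ≃* GL D.Idx K where
  toFun := Matrix.GeneralLinearGroup.map (e : F →+* K)
  invFun := Matrix.GeneralLinearGroup.map (e.symm : K →+* F)
  left_inv g := by
    apply Matrix.GeneralLinearGroup.ext
    intro i j
    simp
  right_inv g := by
    apply Matrix.GeneralLinearGroup.ext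
    intro i j
    simp
  map_mul' a b := map_mul _ a b

theorem glMap_val (e : F ≃+* K) (g : GL D.Idx F) :
    ((glMap D e g : GL D.Idx K) : Matrix D.Idx D.Idx K) = (g : Matrix D.Idx D.Idx F).map e := rfl

theorem glMap_group_le (e : F ≃+* K) : (D.group F).map (glMap D e).toMonoidHom ≤ D.group K := by
  rw [Subgroup.map_le_iff_le_comap]
  unfold ChevalleyDatum.group
  rw [Subgroup.closure_le]
  rintro g ⟨r, t, hg⟩
  rw [SetLike.mem_coe, Subgroup.mem_comap]
  apply Subgroup.subset_closure
  refine ⟨r, e t, ?_⟩
  change ((glMap D e g : GL D.Idx K) : Matrix D.Idx D.Idx K) = _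
  rw [glMap_val, hg]
  exact xMat_map D (e : F →+* K) r t

/-- the Chevalley groups over isomorphic fields are isomorphic -/
noncomputable def groupEquiv (e : F ≃+* K) : D.group F ≃* D.group K where
  toFun g := ⟨glMap D e g.1, glMap_group_le D e ⟨g.1, g.2, rfl⟩⟩
  invFun g := ⟨glMap D e.symm g.1, glMap_group_le D e.symm ⟨g.1, g.2, rfl⟩⟩
  left_inv g := by
    apply Subtype.ext
    exact (glMap D e).symm_apply_apply g.1
  right_inv g := by
    apply Subtype.ext
    exact (glMap D e).apply_symm_apply g.1
  map_mul' a b := by
    apply Subtype.ext
    exact map_mul (glMap D e) a.1 b.1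

end Cfsg.Agent.Lib.H17.ChevBC
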