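import Cfsg.Agent.Lib.H17.PermActs

set_option autoImplicit false

/-! # Deciding conjugacy and computing centralisers in a permutation group with a chain

If `g * x = y * g` then `g` maps the points `δ, x δ, x (x δ), …` to the points
`g δ, y (g δ), y (y (g δ)), …`; when the former are the base of a chain of stabilisers, sifting
decides for every point `δ'` whether an element with `g δ = δ'` can exist, and an element commuting
with `x` is determined by the image of `δ`. -/

namespace Cfsg.Agent.Lib.H17.ConjTest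

open Cfsg.Agent.Lib.H17.CosetCert Cfsg.Agent.Lib.H17.Sgs Cfsg.Agent.Lib.H17.SgsCent
  Cfsg.Agent.Lib.H17.Sift Cfsg.Agent.Lib.H17.PermActs

theorem orbl_length (A : ℕ → ℕ) (k : ℕ) : ∀ q, (orbl A k q).length = k := by
  induction k with
  | zero => intro q; rfl
  | succ k ih =>
    intro q
    rw [orbl_succ, List.length_cons, ih]

theorem mem_orbl (A : ℕ → ℕ) (k : ℕ) : ∀ q p, p ∈ orbl A k q → ∃ i < k, p = iterA A i q := by
  induction k with
  | zero =>
    intro q p h
    rw [orbl_zero] at h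
    exact absurd h (by simp)
  | succ k ih =>
    intro q p h
    rw [orbl_succ] at h
    rcases List.mem_cons.mp h with rfl | h
    · exact ⟨0, Nat.succ_pos k, rfl⟩
    · obtain ⟨i, hi, rfl⟩ := ih _ _ h
      exact ⟨i + 1, Nat.succ_lt_succ hi, (iterA_succ' A i q).symm⟩

section

variable (wb Wm : ℕ) {G : Type*} [Group G] {n : ℕ} (φ : G →* Equiv.Perm (Fin n)) (tabs : List ℕ)

/-- a base from the order of its stabiliser -/
theorem isBase_of_card (bs : List ℕ) (h : Nat.card (stabL φ bs) = 1) : IsBase φ bs := by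
  intro g hg
  have hmem : g ∈ stabL φ bs := by
    rw [mem_stabL_iff_pt]
    intro c hc _
    exact hg c hc
  haveI : Subsingleton (stabL φ bs) := (Nat.card_eq_one_iff_unique.mp h).1
  have := Subsingleton.elim (⟨g, hmem⟩ : stabL φ bs) 1
  exact congrArg Subtype.val this

variable {φ}

theorem pt_conj {g x y : G} {X Y : ℕ → ℕ} (hx : Acts φ x X) (hy : Acts φ y Y)
    (h : g * x = y * g) (δ : ℕ) (hδ : δ < n) : pt φ g (X δ) = Y (pt φ g δ) := by
  rw [← hx.pt δ hδ, ← pt_mul φ g x δ hδ, h, pt_mul φ y g δ hδ, hy.pt _ (pt_lt φ g δ hδ)]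

/-- an element conjugating `x` to `y` maps an orbit of `x` to an orbit of `y` -/
theorem maps_of_conj {g x y : G} {X Y : ℕ → ℕ} (hx : Acts φ x X) (hy : Acts φ y Y)
    (h : g * x = y * g) : ∀ (Ls : List Lvl) (δ : ℕ), δ < n →
      Ls.map Lvl.b = orbl X Ls.length δ → Maps φ g Ls (orbl Y Ls.length (pt φ g δ)) := by
  intro Ls
  induction Ls with
  | nil =>
    intro δ _ _
    trivial
  | cons L Ls ih =>
    intro δ hδ hL
    rw [List.length_cons, orbl_succ, List.map_cons, List.cons.injEq] at hL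
    rw [List.length_cons, orbl_succ]
    refine ⟨by rw [hL.1], ?_⟩
    have := ih (X δ) (hx.lt δ hδ) hL.2
    rwa [pt_conj hx hy h δ hδ] at this

variable (hgood : ∀ t ∈ tabs, Good wb Wm n t) (htabs : ∀ t ∈ tabs, ∃ g : G, φ g = σ wb Wm n t)

include hgood htabs in
/-- the image of `δ` under an element conjugating `x` to `y` is one of the points where the sift
does not fail -/
theorem conj_cases (Ls : List Lvl) (hchain : ChainOK wb Wm φ tabs [] Ls) {x y : G}
    {X Y : ℕ → ℕ} (hx : Acts φ x X) (hy : Acts φ y Y) (δ : ℕ) (hδ : δ < n)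
    (hL : Ls.map Lvl.b = orbl X Ls.length δ) (good : ℕ → Bool)
    (hchk : allLt (fun δ' => cond (good δ') true
      (Nat.beq (sift wb Wm Ls (orbl Y Ls.length δ')) 0)) n = true)
    (g : G) (hg : g * x = y * g) : good (pt φ g δ) = true := by
  have h1 := allLt_sound _ _ hchk (pt φ g δ) (pt_lt φ g δ hδ)
  cases hgd : good (pt φ g δ) with
  | true => rfl
  | false =>
    exfalso
    rw [hgd] at h1
    have h2 : sift wb Wm Ls (orbl Y Ls.length (pt φ g δ)) = 0 := Nat.eq_of_beq_eq_true h1
    apply sift_sound wb Wm φ tabs hgood htabs Ls [] hchain _ h2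
    refine ⟨g, ?_, maps_of_conj hx hy hg Ls δ hδ hL⟩
    rw [stabL_nil]
    trivial

omit hgood htabs in
/-- an element commuting with `x` which fixes `δ` fixes the orbit of `δ` under `x` -/
theorem fix_orbl_of_comm {u x : G} {X : ℕ → ℕ} (hx : Acts φ x X) (hu : u * x = x * u) :
    ∀ (k δ : ℕ), δ < n → pt φ u δ = δ → ∀ p ∈ orbl X k δ, pt φ u p = p := by
  intro k
  induction k with
  | zero =>
    intro δ _ _ p hp
    rw [orbl_zero] at hp
    exact absurd hp (by simp)
  | succ k ih =>
    intro δ hδ hfix p hp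
    rw [orbl_succ] at hp
    rcases List.mem_cons.mp hp with rfl | hp
    · exact hfix
    · apply ih (X δ) (hx.lt δ hδ) _ p hp
      rw [pt_conj hx hx hu δ hδ, hfix]

omit hgood htabs in
/-- two elements commuting with `x` which agree at `δ` are equal, if the orbit of `δ` under `x`
is a base -/
theorem eq_of_comm_agree {g c x : G} {X : ℕ → ℕ} (k δ : ℕ) (hδ : δ < n)
    (hbase : IsBase φ (orbl X k δ)) (hx : Acts φ x X) (hg : g * x = x * g) (hc : c * x = x * c)
    (h : pt φ g δ = pt φ c δ) : g = c := by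
  have hu : (c⁻¹ * g) * x = x * (c⁻¹ * g) := by
    have hc' : c⁻¹ * x = x * c⁻¹ := by
      have : x = c⁻¹ * (c * x) := by group
      calc c⁻¹ * x = c⁻¹ * x * c * c⁻¹ := by group
        _ = c⁻¹ * (c * x) * c⁻¹ := by rw [hc]; group
        _ = x * c⁻¹ := by group
    calc c⁻¹ * g * x = c⁻¹ * (g * x) := by group
      _ = c⁻¹ * (x * g) := by rw [hg]
      _ = (c⁻¹ * x) * g := by group
      _ = x * c⁻¹ * g := by rw [hc']
      _ = x * (c⁻¹ * g) := by group
  have hfix : pt φ (c⁻¹ * g) δ = δ := by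
    rw [pt_mul φ c⁻¹ g δ hδ, h, ← pt_mul φ c⁻¹ c δ hδ, inv_mul_cancel, pt_one]
  have h1 : c⁻¹ * g = 1 := hbase _ (fix_orbl_of_comm hx hu k δ hδ hfix)
  have : g = c * (c⁻¹ * g) := by group
  rw [this, h1, mul_one]

end

end Cfsg.Agent.Lib.H17.ConjTest
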