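import Cfsg.Agent.Lib.H17.CosetCert

set_option autoImplicit false
set_option linter.style.haveILetI false

/-!
# Permutation representations from packed coset tables

Kernel-checkable verification that packed tables define involutory permutations of `Fin n`
satisfying given words, transitivity, and orbit computations for a subgroup.
-/

namespace Cfsg.Agent.Lib.H17.CosetCert

/-! ## generalities -/

theorem prod_reverse_of_invol_list {K : Type*} [Group K] (l : List K)
    (h : ∀ g ∈ l, g * g = 1) : l.reverse.prod = (l.prod)⁻¹ := by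
  rw [List.prod_inv_reverse]
  congr 2
  symm
  calc l.map (fun x => x⁻¹) = l.map id := by
        apply List.map_congr_left
        intro g hg
        exact inv_eq_of_mul_eq_one_left (h g hg)
    _ = l := List.map_id l

/-- for an involutory assignment, `lift f` of a word only depends on the letters -/
theorem lift_mk_of_invol {α : Type*} {K : Type*} [Group K] (f : α → K)
    (hinv : ∀ a, f a * f a = 1) (L : List (α × Bool)) :
    FreeGroup.lift f (FreeGroup.mk L) = ((L.map Prod.fst).map f).prod := by
  rw [FreeGroup.lift_mk, List.map_map]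
  congr 1
  apply List.map_congr_left
  intro p _
  cases p.2 with
  | true => rfl
  | false => exact inv_eq_of_mul_eq_one_left (hinv p.1)

section tables

variable (wb Wm : ℕ)

/-- entry `i` of a packed table -/
def lk (t i : ℕ) : ℕ := Nat.mod (Nat.shiftRight t (Nat.mul i wb)) Wm

/-- apply a word, given as the list of the packed tables of its letters, first letter first -/
noncomputable def applyT (ts : List ℕ) : ℕ → ℕ :=
  List.rec (motive := fun _ => ℕ → ℕ) (fun i => i)
    (fun t _ ih i => force (lk wb Wm t i) ih) ts

theorem applyT_nil (i : ℕ) : applyT wb Wm [] i = i := rfl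

theorem applyT_cons (t : ℕ) (ts : List ℕ) (i : ℕ) :
    applyT wb Wm (t :: ts) i = applyT wb Wm ts (lk wb Wm t i) := by
  change force (lk wb Wm t i) (applyT wb Wm ts) = _
  rw [force_eq]

theorem applyT_append (ts us : List ℕ) (i : ℕ) :
    applyT wb Wm (ts ++ us) i = applyT wb Wm us (applyT wb Wm ts i) := by
  induction ts generalizing i with
  | nil => rfl
  | cons t ts ih => rw [List.cons_append, applyT_cons, applyT_cons, ih]

/-- all points `< n` are fixed by the word -/
noncomputable def checkWord (ts : List ℕ) (n : ℕ) : Bool :=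
  Nat.rec (motive := fun _ => Bool) true
    (fun i ih => cond (Nat.beq (applyT wb Wm ts i) i) ih false) n

theorem checkWord_sound (ts : List ℕ) (n : ℕ) (h : checkWord wb Wm ts n = true) :
    ∀ i < n, applyT wb Wm ts i = i := by
  induction n with
  | zero => intro i hi; omega
  | succ n ih =>
    have h' : cond (Nat.beq (applyT wb Wm ts n) n) (checkWord wb Wm ts n) false = true := h
    cases hb : Nat.beq (applyT wb Wm ts n) n with
    | false => rw [hb] at h'; exact absurd h' (by simp)
    | true =>
      rw [hb] at h'
      intro i hi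
      rcases Nat.lt_succ_iff_lt_or_eq.mp hi with hlt | rfl
      · exact ih h' i hlt
      · exact Nat.eq_of_beq_eq_true hb

/-- all entries `i < n` of the table are `< N` -/
noncomputable def checkRange (t N n : ℕ) : Bool :=
  Nat.rec (motive := fun _ => Bool) true
    (fun i ih => cond (Nat.ble N (lk wb Wm t i)) false ih) n

theorem checkRange_sound (t N n : ℕ) (h : checkRange wb Wm t N n = true) :
    ∀ i < n, lk wb Wm t i < N := by
  induction n with
  | zero => intro i hi; omega
  | succ n ih =>
    have h' : cond (Nat.ble N (lk wb Wm t n)) false (checkRange wb Wm t N n) = true := h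
    cases hb : Nat.ble N (lk wb Wm t n) with
    | true => rw [hb] at h'; exact absurd h' (by simp)
    | false =>
      rw [hb] at h'
      intro i hi
      rcases Nat.lt_succ_iff_lt_or_eq.mp hi with hlt | rfl
      · exact ih h' i hlt
      · by_contra hcon
        have : Nat.ble N (lk wb Wm t i) = true := Nat.ble_eq.mpr (not_lt.mp hcon)
        rw [this] at hb
        exact absurd hb (by simp)

variable (n : ℕ)

/-- the table defines an involutory permutation of the points `< n` -/
def Good (t : ℕ) : Prop :=
  (∀ i < n, lk wb Wm t i < n) ∧ (∀ i < n, lk wb Wm t (lk wb Wm t i) = i)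

theorem good_of_checks (t : ℕ) (h1 : checkRange wb Wm t n n = true)
    (h2 : checkWord wb Wm [t, t] n = true) : Good wb Wm n t := by
  refine ⟨checkRange_sound wb Wm t n n h1, fun i hi => ?_⟩
  have := checkWord_sound wb Wm [t, t] n h2 i hi
  rwa [applyT_cons, applyT_cons, applyT_nil] at this

open Classical in
/-- the permutation of `Fin n` of a packed table (the identity if the table is not good) -/
noncomputable def σ (t : ℕ) : Equiv.Perm (Fin n) :=
  if h : Good wb Wm n t then
    { toFun := fun i => ⟨lk wb Wm t i, h.1 i i.2⟩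
      invFun := fun i => ⟨lk wb Wm t i, h.1 i i.2⟩
      left_inv := fun i => Fin.ext (h.2 i i.2)
      right_inv := fun i => Fin.ext (h.2 i i.2) }
  else 1

theorem σ_apply (t : ℕ) (h : Good wb Wm n t) (i : Fin n) :
    ((σ wb Wm n t i : Fin n) : ℕ) = lk wb Wm t i := by
  unfold σ
  rw [dif_pos h]
  rfl

theorem σ_mul_self (t : ℕ) : σ wb Wm n t * σ wb Wm n t = 1 := by
  by_cases h : Good wb Wm n t
  · ext i
    rw [Equiv.Perm.mul_apply, σ_apply wb Wm n t h, σ_apply wb Wm n t h]
    exact h.2 i i.2
  · unfold σ
    rw [dif_neg h]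
    simp

theorem prod_reverse_apply (ts : List ℕ) (hg : ∀ t ∈ ts, Good wb Wm n t) (i : Fin n) :
    ((((ts.map (σ wb Wm n)).reverse.prod) i : Fin n) : ℕ) = applyT wb Wm ts i := by
  induction ts generalizing i with
  | nil => simp [applyT_nil]
  | cons t ts ih =>
    rw [List.map_cons, List.reverse_cons, List.prod_append, List.prod_singleton,
      Equiv.Perm.mul_apply, ih (fun t' ht' => hg t' (List.mem_cons_of_mem _ ht')), applyT_cons,
      σ_apply wb Wm n t (hg t List.mem_cons_self)]

theorem prod_apply (ts : List ℕ) (hg : ∀ t ∈ ts, Good wb Wm n t) (i : Fin n) :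
    ((((ts.map (σ wb Wm n)).prod) i : Fin n) : ℕ) = applyT wb Wm ts.reverse i := by
  have := prod_reverse_apply wb Wm n ts.reverse
    (fun t ht => hg t (List.mem_reverse.mp ht)) i
  rw [List.map_reverse, List.reverse_reverse] at this
  exact this

theorem prod_eq_one_of_check (ts : List ℕ) (hg : ∀ t ∈ ts, Good wb Wm n t)
    (h : checkWord wb Wm ts n = true) : (ts.map (σ wb Wm n)).prod = 1 := by
  have h1 : (ts.map (σ wb Wm n)).reverse.prod = 1 := by
    ext i
    rw [prod_reverse_apply wb Wm n ts hg i, checkWord_sound wb Wm ts n h i i.2]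
    rfl
  rw [prod_reverse_of_invol_list _ (by
    intro g hg'
    obtain ⟨t, -, rfl⟩ := List.mem_map.mp hg'
    exact σ_mul_self wb Wm n t)] at h1
  exact inv_eq_one.mp h1

end tables

section abstract

variable {G : Type*} [Group G] (H : Subgroup G) {n : ℕ} (φ : G →* Equiv.Perm (Fin n)) (z : Fin n)

/-- **Lower bound.** A transitive permutation representation of degree `n` in which `H` fixes a
point shows `n ∣ [G : H]`. -/
theorem dvd_index_of_perm (htrans : ∀ i : Fin n, ∃ g : G, φ g z = i)
    (hH : ∀ h ∈ H, φ h z = z) : n ∣ H.index := by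
  letI : MulAction G (Fin n) := MulAction.compHom (Fin n) φ
  have hsmul : ∀ (g : G) (i : Fin n), g • i = φ g i := fun _ _ => rfl
  haveI : MulAction.IsPretransitive G (Fin n) := by
    constructor
    intro i j
    obtain ⟨gi, hgi⟩ := htrans i
    obtain ⟨gj, hgj⟩ := htrans j
    refine ⟨gj * gi⁻¹, ?_⟩
    rw [hsmul, map_mul, map_inv, Equiv.Perm.mul_apply, ← hgi]
    simp [hgj]
  have hle : H ≤ MulAction.stabilizer G z := by
    intro h hh
    rw [MulAction.mem_stabilizer_iff, hsmul]
    exact hH h hh
  have h1 := MulAction.index_stabilizer_of_transitive G z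
  rw [Nat.card_fin] at h1
  rw [← h1]
  exact Subgroup.index_dvd_of_le hle

/-- with the upper bound, the index is exactly `n` and `H` is the full point stabiliser -/
theorem index_eq_and_stab (hn : 0 < n) (htrans : ∀ i : Fin n, ∃ g : G, φ g z = i)
    (hH : ∀ h ∈ H, φ h z = z) (hfin : Finite (G ⧸ H)) (hle : Nat.card (G ⧸ H) ≤ n) :
    H.index = n ∧ ∀ g : G, φ g z = z → g ∈ H := by
  have hdvd := dvd_index_of_perm H φ z htrans hH
  have hidx : H.index = Nat.card (G ⧸ H) := rfl
  have hpos : 0 < H.index := by
    rw [hidx]
    exact Nat.card_pos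
  have heq : H.index = n := by
    apply le_antisymm (by rw [hidx]; exact hle)
    exact Nat.le_of_dvd hpos hdvd
  refine ⟨heq, ?_⟩
  letI : MulAction G (Fin n) := MulAction.compHom (Fin n) φ
  have hsmul : ∀ (g : G) (i : Fin n), g • i = φ g i := fun _ _ => rfl
  haveI : MulAction.IsPretransitive G (Fin n) := by
    constructor
    intro i j
    obtain ⟨gi, hgi⟩ := htrans i
    obtain ⟨gj, hgj⟩ := htrans j
    refine ⟨gj * gi⁻¹, ?_⟩
    rw [hsmul, map_mul, map_inv, Equiv.Perm.mul_apply, ← hgi]
    simp [hgj]
  have hle' : H ≤ MulAction.stabilizer G z := by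
    intro h hh
    rw [MulAction.mem_stabilizer_iff, hsmul]
    exact hH h hh
  have h1 := MulAction.index_stabilizer_of_transitive G z
  rw [Nat.card_fin] at h1
  have hrel : H.relIndex (MulAction.stabilizer G z) = 1 := by
    have := Subgroup.relIndex_mul_index hle'
    rw [h1, heq] at this
    exact Nat.eq_of_mul_eq_mul_right hn (by rw [this, one_mul])
  have hge : MulAction.stabilizer G z ≤ H := Subgroup.relIndex_eq_one.mp hrel
  intro g hg
  apply hge
  rw [MulAction.mem_stabilizer_iff, hsmul]
  exact hg

/-- the point of a coset -/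
def ptOf (hH : ∀ h ∈ H, φ h z = z) : G ⧸ H → Fin n :=
  fun q => Quotient.liftOn' q (fun g => φ g z) (by
    intro a b hab
    rw [QuotientGroup.leftRel_apply] at hab
    have := hH _ hab
    rw [map_mul, map_inv, Equiv.Perm.mul_apply] at this
    change φ a z = φ b z
    have h2 : φ a ((φ a)⁻¹ (φ b z)) = φ b z := by simp
    rw [this] at h2
    exact h2)

theorem ptOf_mk (hH : ∀ h ∈ H, φ h z = z) (g : G) :
    ptOf H φ z hH (g : G ⧸ H) = φ g z := rfl

theorem ptOf_smul (hH : ∀ h ∈ H, φ h z = z) (g : G) (q : G ⧸ H) :
    ptOf H φ z hH (g • q) = φ g (ptOf H φ z hH q) := by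
  induction q using Quotient.inductionOn' with
  | h a =>
    change ptOf H φ z hH ((g * a : G) : G ⧸ H) = φ g (φ a z)
    rw [ptOf_mk, map_mul, Equiv.Perm.mul_apply]

theorem ptOf_injective (hH : ∀ h ∈ H, φ h z = z) (hstab : ∀ g : G, φ g z = z → g ∈ H) :
    Function.Injective (ptOf H φ z hH) := by
  intro q1 q2
  induction q1 using Quotient.inductionOn' with
  | h a =>
    induction q2 using Quotient.inductionOn' with
    | h b =>
      intro hab
      change φ a z = φ b z at hab
      apply Quotient.sound'
      rw [QuotientGroup.leftRel_apply]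
      apply hstab
      rw [map_mul, map_inv, Equiv.Perm.mul_apply, ← hab]
      simp

/-- the image of an `H`-orbit on the cosets is the corresponding orbit on points -/
theorem ptOf_image_orbit (hH : ∀ h ∈ H, φ h z = z) (q : G ⧸ H) :
    ptOf H φ z hH '' (MulAction.orbit H q) = {i | ∃ h ∈ H, φ h (ptOf H φ z hH q) = i} := by
  ext i
  constructor
  · rintro ⟨q', ⟨h, rfl⟩, rfl⟩
    refine ⟨h, h.2, ?_⟩
    change φ h _ = ptOf H φ z hH ((h : G) • q)
    rw [ptOf_smul]
  · rintro ⟨h, hh, rfl⟩
    refine ⟨(⟨h, hh⟩ : H) • q, ⟨⟨h, hh⟩, rfl⟩, ?_⟩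
    change ptOf H φ z hH ((h : G) • q) = _
    rw [ptOf_smul]

end abstract


section conn

variable (wb Wm : ℕ)

/-- some table in `tabs` sends `i` to a point of rank `< ri` -/
noncomputable def anyLess (gr : ℕ) (tabs : List ℕ) : ℕ → ℕ → Bool :=
  List.rec (motive := fun _ => ℕ → ℕ → Bool) (fun _ _ => false)
    (fun t _ ih i ri => cond (Nat.ble ri (lk wb Wm gr (lk wb Wm t i))) (ih i ri) true) tabs

theorem anyLess_sound (gr : ℕ) (tabs : List ℕ) (i ri : ℕ)
    (h : anyLess wb Wm gr tabs i ri = true) :
    ∃ t ∈ tabs, lk wb Wm gr (lk wb Wm t i) < ri := by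
  induction tabs with
  | nil => exact absurd h (by simp [anyLess])
  | cons t ts ih =>
    have h' : cond (Nat.ble ri (lk wb Wm gr (lk wb Wm t i))) (anyLess wb Wm gr ts i ri) true
        = true := h
    cases hb : Nat.ble ri (lk wb Wm gr (lk wb Wm t i)) with
    | true =>
      rw [hb] at h'
      obtain ⟨t', ht', hlt⟩ := ih h'
      exact ⟨t', List.mem_cons_of_mem _ ht', hlt⟩
    | false =>
      refine ⟨t, List.mem_cons_self, ?_⟩
      by_contra hcon
      have : Nat.ble ri (lk wb Wm gr (lk wb Wm t i)) = true := Nat.ble_eq.mpr (not_lt.mp hcon)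
      rw [this] at hb
      exact absurd hb (by simp)

/-- every point `0 < i < n` has a neighbour of smaller rank -/
noncomputable def checkConn (gr : ℕ) (tabs : List ℕ) (n : ℕ) : Bool :=
  Nat.rec (motive := fun _ => Bool) true
    (fun i ih => cond (Nat.beq i 0) ih
      (cond (force (lk wb Wm gr i) fun ri => anyLess wb Wm gr tabs i ri) ih false)) n

theorem checkConn_sound (gr : ℕ) (tabs : List ℕ) (n : ℕ)
    (h : checkConn wb Wm gr tabs n = true) :
    ∀ i < n, i ≠ 0 → ∃ t ∈ tabs, lk wb Wm gr (lk wb Wm t i) < lk wb Wm gr i := by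
  induction n with
  | zero => intro i hi; omega
  | succ n ih =>
    have h' : cond (Nat.beq n 0) (checkConn wb Wm gr tabs n)
        (cond (force (lk wb Wm gr n) fun ri => anyLess wb Wm gr tabs n ri)
          (checkConn wb Wm gr tabs n) false) = true := h
    rw [force_eq] at h'
    intro i hi hi0
    have hrest : checkConn wb Wm gr tabs n = true := by
      cases hb : Nat.beq n 0 with
      | true => rw [hb] at h'; exact h'
      | false =>
        rw [hb] at h'
        cases ha : anyLess wb Wm gr tabs n (lk wb Wm gr n) with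
        | true => rw [ha] at h'; exact h'
        | false => rw [ha] at h'; exact absurd h' (by simp)
    rcases Nat.lt_succ_iff_lt_or_eq.mp hi with hlt | rfl
    · exact ih hrest i hlt hi0
    · have hb : Nat.beq i 0 = false := by
        cases hb : Nat.beq i 0 with
        | false => rfl
        | true => exact absurd (Nat.eq_of_beq_eq_true hb) hi0
      rw [hb] at h'
      cases ha : anyLess wb Wm gr tabs i (lk wb Wm gr i) with
      | true => exact anyLess_sound wb Wm gr tabs i _ ha
      | false => rw [ha] at h'; exact absurd h' (by simp)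

/-- transitivity of the represented group from the connectivity check -/
theorem trans_of_conn {G : Type*} [Group G] (n : ℕ) (hn : 0 < n) (φ : G →* Equiv.Perm (Fin n))
    (gr : ℕ) (tabs : List ℕ) (hgood : ∀ t ∈ tabs, Good wb Wm n t)
    (hφ : ∀ t ∈ tabs, ∃ g : G, φ g = σ wb Wm n t)
    (h : checkConn wb Wm gr tabs n = true) :
    ∀ i : Fin n, ∃ g : G, φ g ⟨0, hn⟩ = i := by
  have hs := checkConn_sound wb Wm gr tabs n h
  have key : ∀ r : ℕ, ∀ i : Fin n, lk wb Wm gr i = r → ∃ g : G, φ g i = ⟨0, hn⟩ := by
    intro r
    induction r using Nat.strong_induction_on with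
    | _ r ih =>
      intro i hir
      by_cases hi0 : (i : ℕ) = 0
      · exact ⟨1, by rw [map_one]; exact Fin.ext hi0⟩
      · obtain ⟨t, ht, hlt⟩ := hs i i.2 hi0
        obtain ⟨gt, hgt⟩ := hφ t ht
        have hj : lk wb Wm t i < n := (hgood t ht).1 i i.2
        obtain ⟨g', hg'⟩ := ih _ (by rw [← hir]; exact hlt) ⟨lk wb Wm t i, hj⟩ rfl
        refine ⟨g' * gt, ?_⟩
        rw [map_mul, Equiv.Perm.mul_apply, hgt]
        have : σ wb Wm n t i = ⟨lk wb Wm t i, hj⟩ := Fin.ext (σ_apply wb Wm n t (hgood t ht) i)
        rw [this, hg']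
  intro i
  obtain ⟨g, hg⟩ := key _ i rfl
  refine ⟨g⁻¹, ?_⟩
  rw [map_inv, ← hg]
  simp

end conn

section orbits

variable (wb Wm : ℕ)

/-- number of set bits of `mask` below `n`, added to `acc` -/
noncomputable def countBits (mask : ℕ) (n : ℕ) : ℕ → ℕ :=
  Nat.rec (motive := fun _ => ℕ → ℕ) (fun acc => acc)
    (fun i ih acc => cond (tb mask i) (force (Nat.succ acc) ih) (ih acc)) n

theorem countBits_eq (mask n acc : ℕ) :
    countBits mask n acc = acc + ((Finset.range n).filter fun i => tb mask i = true).card := by
  induction n generalizing acc with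
  | zero => simp [countBits]
  | succ n ih =>
    have h' : countBits mask (n + 1) acc =
        cond (tb mask n) (force (Nat.succ acc) (countBits mask n)) (countBits mask n acc) := rfl
    rw [h', force_eq, Finset.range_add_one, Finset.filter_insert]
    cases hb : tb mask n with
    | true =>
      simp only [cond_true, if_true]
      rw [ih, Finset.card_insert_of_notMem (by simp)]
      omega
    | false =>
      simp only [cond_false, Bool.false_eq_true, if_false]
      rw [ih]

theorem ncard_mask (mask n : ℕ) :
    Set.ncard {i : Fin n | tb mask i = true} = countBits mask n 0 := by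
  rw [countBits_eq, zero_add]
  rw [← Set.ncard_coe_finset]
  have : ((Finset.range n).filter fun i => tb mask i = true : Set ℕ) =
      (fun i : Fin n => (i : ℕ)) '' {i : Fin n | tb mask i = true} := by
    ext j
    simp only [Finset.coe_filter, Finset.mem_range, Set.mem_ofPred_eq, Set.mem_image]
    constructor
    · rintro ⟨hj, hb⟩; exact ⟨⟨j, hj⟩, hb, rfl⟩
    · rintro ⟨i, hb, rfl⟩; exact ⟨i.2, hb⟩
  rw [this, Set.ncard_image_of_injective _ Fin.val_injective]

/-- every word of `hw` maps the masked points `< n` into the mask -/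
noncomputable def allIn (mask : ℕ) (hw : List (List ℕ)) : ℕ → Bool :=
  List.rec (motive := fun _ => ℕ → Bool) (fun _ => true)
    (fun ts _ ih i => cond (tb mask (applyT wb Wm ts i)) (ih i) false) hw

theorem allIn_sound (mask : ℕ) (hw : List (List ℕ)) (i : ℕ)
    (h : allIn wb Wm mask hw i = true) : ∀ ts ∈ hw, tb mask (applyT wb Wm ts i) = true := by
  induction hw with
  | nil => intro ts hts; exact absurd hts (by simp)
  | cons ts0 hw ih =>
    have h' : cond (tb mask (applyT wb Wm ts0 i)) (allIn wb Wm mask hw i) false = true := h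
    cases hb : tb mask (applyT wb Wm ts0 i) with
    | false => rw [hb] at h'; exact absurd h' (by simp)
    | true =>
      rw [hb] at h'
      intro ts hts
      rcases List.mem_cons.mp hts with rfl | hts'
      · exact hb
      · exact ih h' ts hts'

/-- the mask is closed under the words of `hw` -/
noncomputable def checkClosed (mask : ℕ) (hw : List (List ℕ)) (n : ℕ) : Bool :=
  Nat.rec (motive := fun _ => Bool) true
    (fun i ih => cond (tb mask i) (cond (allIn wb Wm mask hw i) ih false) ih) n

theorem checkClosed_sound (mask : ℕ) (hw : List (List ℕ)) (n : ℕ)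
    (h : checkClosed wb Wm mask hw n = true) :
    ∀ i < n, tb mask i = true → ∀ ts ∈ hw, tb mask (applyT wb Wm ts i) = true := by
  induction n with
  | zero => intro i hi; omega
  | succ n ih =>
    have h' : cond (tb mask n) (cond (allIn wb Wm mask hw n) (checkClosed wb Wm mask hw n) false)
        (checkClosed wb Wm mask hw n) = true := h
    have hrest : checkClosed wb Wm mask hw n = true := by
      cases hb : tb mask n with
      | false => rw [hb] at h'; exact h'
      | true =>
        rw [hb] at h'
        cases ha : allIn wb Wm mask hw n with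
        | true => rw [ha] at h'; exact h'
        | false => rw [ha] at h'; exact absurd h' (by simp)
    intro i hi hbi
    rcases Nat.lt_succ_iff_lt_or_eq.mp hi with hlt | rfl
    · exact ih hrest i hlt hbi
    · rw [hbi] at h'
      cases ha : allIn wb Wm mask hw i with
      | true => exact allIn_sound wb Wm mask hw i ha
      | false => rw [ha] at h'; exact absurd h' (by simp)

/-- some word of `hw` sends `i` to a masked point of rank `< ri` -/
noncomputable def anyDown (mask hr : ℕ) (hw : List (List ℕ)) : ℕ → ℕ → Bool :=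
  List.rec (motive := fun _ => ℕ → ℕ → Bool) (fun _ _ => false)
    (fun ts _ ih i ri =>
      force (applyT wb Wm ts i) fun j =>
        cond (tb mask j) (cond (Nat.ble ri (lk wb Wm hr j)) (ih i ri) true) (ih i ri)) hw

theorem anyDown_sound (mask hr : ℕ) (hw : List (List ℕ)) (i ri : ℕ)
    (h : anyDown wb Wm mask hr hw i ri = true) :
    ∃ ts ∈ hw, tb mask (applyT wb Wm ts i) = true ∧ lk wb Wm hr (applyT wb Wm ts i) < ri := by
  induction hw with
  | nil => exact absurd h (by simp [anyDown])
  | cons ts0 hw ih =>
    have h' : (force (applyT wb Wm ts0 i) fun j =>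
        cond (tb mask j) (cond (Nat.ble ri (lk wb Wm hr j)) (anyDown wb Wm mask hr hw i ri) true)
          (anyDown wb Wm mask hr hw i ri)) = true := h
    rw [force_eq] at h'
    cases hb : tb mask (applyT wb Wm ts0 i) with
    | false =>
      rw [hb] at h'
      obtain ⟨ts, hts, h1, h2⟩ := ih h'
      exact ⟨ts, List.mem_cons_of_mem _ hts, h1, h2⟩
    | true =>
      rw [hb] at h'
      cases hr' : Nat.ble ri (lk wb Wm hr (applyT wb Wm ts0 i)) with
      | true =>
        rw [hr'] at h'
        obtain ⟨ts, hts, h1, h2⟩ := ih h'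
        exact ⟨ts, List.mem_cons_of_mem _ hts, h1, h2⟩
      | false =>
        refine ⟨ts0, List.mem_cons_self, hb, ?_⟩
        by_contra hcon
        have : Nat.ble ri (lk wb Wm hr (applyT wb Wm ts0 i)) = true :=
          Nat.ble_eq.mpr (not_lt.mp hcon)
        rw [this] at hr'
        exact absurd hr' (by simp)

/-- every masked point other than `p` is sent by some word to a masked point of smaller rank -/
noncomputable def checkOrbConn (mask hr p : ℕ) (hw : List (List ℕ)) (n : ℕ) : Bool :=
  Nat.rec (motive := fun _ => Bool) true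
    (fun i ih => cond (tb mask i)
      (cond (Nat.beq i p) ih
        (cond (force (lk wb Wm hr i) fun ri => anyDown wb Wm mask hr hw i ri) ih false)) ih) n

theorem checkOrbConn_sound (mask hr p : ℕ) (hw : List (List ℕ)) (n : ℕ)
    (h : checkOrbConn wb Wm mask hr p hw n = true) :
    ∀ i < n, tb mask i = true → i ≠ p → ∃ ts ∈ hw, tb mask (applyT wb Wm ts i) = true ∧
      lk wb Wm hr (applyT wb Wm ts i) < lk wb Wm hr i := by
  induction n with
  | zero => intro i hi; omega
  | succ n ih =>
    have h' : cond (tb mask n)
      (cond (Nat.beq n p) (checkOrbConn wb Wm mask hr p hw n)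
        (cond (force (lk wb Wm hr n) fun ri => anyDown wb Wm mask hr hw n ri)
          (checkOrbConn wb Wm mask hr p hw n) false)) (checkOrbConn wb Wm mask hr p hw n)
        = true := h
    rw [force_eq] at h'
    have hrest : checkOrbConn wb Wm mask hr p hw n = true := by
      cases hb : tb mask n with
      | false => rw [hb] at h'; exact h'
      | true =>
        rw [hb] at h'
        cases hp : Nat.beq n p with
        | true => rw [hp] at h'; exact h'
        | false =>
          rw [hp] at h'
          cases ha : anyDown wb Wm mask hr hw n (lk wb Wm hr n) with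
          | true => rw [ha] at h'; exact h'
          | false => rw [ha] at h'; exact absurd h' (by simp)
    intro i hi hbi hip
    rcases Nat.lt_succ_iff_lt_or_eq.mp hi with hlt | rfl
    · exact ih hrest i hlt hbi hip
    · rw [hbi] at h'
      have hp : Nat.beq i p = false := by
        cases hp : Nat.beq i p with
        | false => rfl
        | true => exact absurd (Nat.eq_of_beq_eq_true hp) hip
      rw [hp] at h'
      cases ha : anyDown wb Wm mask hr hw i (lk wb Wm hr i) with
      | true => exact anyDown_sound wb Wm mask hr hw i _ ha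
      | false => rw [ha] at h'; exact absurd h' (by simp)

/-- a permutation mapping a finite set into itself maps it onto itself -/
theorem perm_inv_stable {n : ℕ} (f : Equiv.Perm (Fin n)) (O : Set (Fin n))
    (h : ∀ i ∈ O, f i ∈ O) : ∀ i ∈ O, f⁻¹ i ∈ O := by
  intro i hi
  let r : O → O := fun x => ⟨f x, h x x.2⟩
  have hinj : Function.Injective r := by
    intro a b hab
    apply Subtype.ext
    have : f a = f b := congrArg Subtype.val hab
    exact f.injective this
  have hsurj : Function.Surjective r := Finite.injective_iff_surjective.mp hinj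
  obtain ⟨j, hj⟩ := hsurj ⟨i, hi⟩
  have hji : f j = i := congrArg Subtype.val hj
  rw [← hji]
  simp

/-- **Orbit computation.** If the mask contains `p`, is closed under (the inverses of) the
generators of `H` and is connected to `p`, then it is the orbit of `p`. -/
theorem orbit_eq_mask {G : Type*} [Group G] (n : ℕ) (φ : G →* Equiv.Perm (Fin n))
    (S : Set G) (mask hr : ℕ) (p : Fin n) (hw : List (List ℕ))
    (hgood : ∀ ts ∈ hw, ∀ t ∈ ts, Good wb Wm n t)
    (hS : ∀ s ∈ S, ∃ ts ∈ hw, φ s = (ts.map (σ wb Wm n)).prod)
    (hS' : ∀ ts ∈ hw, ∃ s ∈ S, φ s = (ts.map (σ wb Wm n)).prod)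
    (hp : tb mask p = true)
    (hclosed : checkClosed wb Wm mask hw n = true)
    (hconn : checkOrbConn wb Wm mask hr p hw n = true) :
    {i : Fin n | ∃ h ∈ Subgroup.closure S, φ h p = i} = {i : Fin n | tb mask i = true} := by
  have hcl := checkClosed_sound wb Wm mask hw n hclosed
  have hcn := checkOrbConn_sound wb Wm mask hr p hw n hconn
  -- inverse of a generator word applied to a point
  have hinvapp : ∀ ts ∈ hw, ∀ i : Fin n,
      ((((ts.map (σ wb Wm n)).prod)⁻¹ i : Fin n) : ℕ) = applyT wb Wm ts i := by
    intro ts hts i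
    rw [← prod_reverse_of_invol_list _ (by
      intro g hg'
      obtain ⟨t, -, rfl⟩ := List.mem_map.mp hg'
      exact σ_mul_self wb Wm n t)]
    exact prod_reverse_apply wb Wm n ts (hgood ts hts) i
  let O : Set (Fin n) := {i : Fin n | tb mask i = true}
  have hstab : ∀ h ∈ Subgroup.closure S, ∀ i ∈ O, φ h i ∈ O := by
    intro h hh
    induction hh using Subgroup.closure_induction with
    | mem s hs =>
      obtain ⟨ts, hts, hφs⟩ := hS s hs
      have h1 : ∀ i ∈ O, (φ s)⁻¹ i ∈ O := by
        intro i hi
        change tb mask ((φ s)⁻¹ i : Fin n) = true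
        rw [hφs, hinvapp ts hts i]
        exact hcl i i.2 hi ts hts
      have h2 := perm_inv_stable (φ s)⁻¹ O h1
      simpa using h2
    | one => intro i hi; rw [map_one]; exact hi
    | mul a b _ _ iha ihb =>
      intro i hi
      rw [map_mul, Equiv.Perm.mul_apply]
      exact iha _ (ihb _ hi)
    | inv a _ iha =>
      intro i hi
      rw [map_inv]
      exact perm_inv_stable (φ a) O iha i hi
  ext i
  constructor
  · rintro ⟨h, hh, rfl⟩
    exact hstab h hh p hp
  · intro hi
    have key : ∀ r : ℕ, ∀ i : Fin n, tb mask i = true → lk wb Wm hr i = r →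
        ∃ h ∈ Subgroup.closure S, φ h p = i := by
      intro r
      induction r using Nat.strong_induction_on with
      | _ r ih =>
        intro i hi hir
        by_cases hip : (i : ℕ) = (p : ℕ)
        · exact ⟨1, one_mem _, by rw [map_one]; exact (Fin.ext hip).symm⟩
        · obtain ⟨ts, hts, hj1, hj2⟩ := hcn i i.2 hi hip
          obtain ⟨s, hs, hφs⟩ := hS' ts hts
          -- j = (φ s)⁻¹ i
          have hj : (((φ s)⁻¹ i : Fin n) : ℕ) = applyT wb Wm ts i := by
            rw [hφs]; exact hinvapp ts hts i
          obtain ⟨h', hh', hh'p⟩ := ih _ (by rw [← hir]; exact hj2) ((φ s)⁻¹ i)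
            (by rw [hj]; exact hj1) (by rw [hj])
          refine ⟨s * h', mul_mem (Subgroup.subset_closure hs) hh', ?_⟩
          rw [map_mul, Equiv.Perm.mul_apply, hh'p]
          simp
    exact key _ i hi rfl

end orbits

end Cfsg.Agent.Lib.H17.CosetCert
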