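import Cfsg.Agent.Lib.H17.CosetPermR

set_option autoImplicit false

/-!
# Table checks with a two-level lookup

The kernel caches the intermediate big numbers of every table lookup while it checks one
declaration.  Here the lookup first extracts a block of the table (few distinct shifts of the
big table, so few cached big numbers) and then the entry from the block.
-/

namespace Cfsg.Agent.Lib.H17.CosetCert

/-- two-level lookup: blocks of `bb` entries, `BB = bb * wb` bits, `BW = 2 ^ BB` -/
def lk2 (wb Wm bb BB BW : ℕ) (t i : ℕ) : ℕ :=
  force (Nat.div i bb) fun bi =>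
  force (Nat.mul bi BB) fun sh =>
  force (Nat.mod (Nat.shiftRight t sh) BW) fun blk =>
  Nat.mod (Nat.shiftRight blk (Nat.mul (Nat.mod i bb) wb)) Wm

theorem lk2_eq_lk (wb bb : ℕ) (hbb : 0 < bb) (t i : ℕ) :
    lk2 wb (2 ^ wb) bb (bb * wb) (2 ^ (bb * wb)) t i = lk wb (2 ^ wb) t i := by
  unfold lk2 lk
  simp only [force_eq]
  change ((t >>> (i / bb * (bb * wb))) % 2 ^ (bb * wb)) >>> (i % bb * wb) % 2 ^ wb =
    (t >>> (i * wb)) % 2 ^ wb
  apply Nat.eq_of_testBit_eq
  intro j
  simp only [Nat.testBit_mod_two_pow, Nat.testBit_shiftRight]
  by_cases hj : j < wb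
  · have h1 : i % bb * wb + j < bb * wb := by
      have : i % bb < bb := Nat.mod_lt _ hbb
      calc i % bb * wb + j < i % bb * wb + wb := by omega
        _ = (i % bb + 1) * wb := by ring
        _ ≤ bb * wb := Nat.mul_le_mul_right _ (by omega)
    have h2 : i / bb * (bb * wb) + (i % bb * wb + j) = i * wb + j := by
      have := Nat.div_add_mod i bb
      calc i / bb * (bb * wb) + (i % bb * wb + j) = (bb * (i / bb) + i % bb) * wb + j := by ring
        _ = i * wb + j := by rw [this]
    simp [hj, h1, h2]
  · simp [hj]

section generic

variable (L : ℕ → ℕ → ℕ)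

/-- apply a word, looking entries up with `L` -/
noncomputable def applyTG (ts : List ℕ) : ℕ → ℕ :=
  List.rec (motive := fun _ => ℕ → ℕ) (fun i => i)
    (fun t _ ih i => force (L t i) ih) ts

theorem applyTG_cons (t : ℕ) (ts : List ℕ) (i : ℕ) :
    applyTG L (t :: ts) i = applyTG L ts (L t i) := by
  change force (L t i) (applyTG L ts) = _
  rw [force_eq]

theorem applyTG_eq (wb Wm : ℕ) (hL : ∀ t i, L t i = lk wb Wm t i) (ts : List ℕ) (i : ℕ) :
    applyTG L ts i = applyT wb Wm ts i := by
  induction ts generalizing i with
  | nil => rfl
  | cons t ts ih => rw [applyTG_cons, applyT_cons, ih, hL]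

/-- the points `lo ≤ i < lo + cnt` are fixed by the word -/
noncomputable def checkWordG (ts : List ℕ) (lo cnt : ℕ) : Bool :=
  Nat.rec (motive := fun _ => Bool) true
    (fun k ih => force (Nat.add lo k) fun i => cond (Nat.beq (applyTG L ts i) i) ih false) cnt

theorem checkWordG_sound (ts : List ℕ) (lo cnt : ℕ) (h : checkWordG L ts lo cnt = true) :
    ∀ i, lo ≤ i → i < lo + cnt → applyTG L ts i = i := by
  induction cnt with
  | zero => intro i h1 h2; omega
  | succ k ih =>
    have h' : (force (Nat.add lo k) fun i =>
        cond (Nat.beq (applyTG L ts i) i) (checkWordG L ts lo k) false) = true := h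
    rw [force_eq] at h'
    cases hb : Nat.beq (applyTG L ts (Nat.add lo k)) (Nat.add lo k) with
    | false => rw [hb] at h'; exact absurd h' (by simp)
    | true =>
      rw [hb] at h'
      intro i h1 h2
      by_cases hi : i = lo + k
      · subst hi; exact Nat.eq_of_beq_eq_true hb
      · exact ih h' i h1 (by omega)

/-- the entries `lo ≤ i < lo + cnt` of the table are `< N` -/
noncomputable def checkRangeG (t N lo cnt : ℕ) : Bool :=
  Nat.rec (motive := fun _ => Bool) true
    (fun k ih => force (Nat.add lo k) fun i => cond (Nat.ble N (L t i)) false ih) cnt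

theorem checkRangeG_sound (t N lo cnt : ℕ) (h : checkRangeG L t N lo cnt = true) :
    ∀ i, lo ≤ i → i < lo + cnt → L t i < N := by
  induction cnt with
  | zero => intro i h1 h2; omega
  | succ k ih =>
    have h' : (force (Nat.add lo k) fun i =>
        cond (Nat.ble N (L t i)) false (checkRangeG L t N lo k)) = true := h
    rw [force_eq] at h'
    cases hb : Nat.ble N (L t (Nat.add lo k)) with
    | true => rw [hb] at h'; exact absurd h' (by simp)
    | false =>
      rw [hb] at h'
      intro i h1 h2
      by_cases hi : i = lo + k
      · subst hi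
        by_contra hcon
        have : Nat.ble N (L t (lo + k)) = true := Nat.ble_eq.mpr (not_lt.mp hcon)
        have hb' : Nat.ble N (L t (lo + k)) = false := hb
        rw [this] at hb'
        exact absurd hb' (by simp)
      · exact ih h' i h1 (by omega)

/-- some table in `tabs` sends `i` to a point of rank `< ri` -/
noncomputable def anyLessG (gr : ℕ) (tabs : List ℕ) : ℕ → ℕ → Bool :=
  List.rec (motive := fun _ => ℕ → ℕ → Bool) (fun _ _ => false)
    (fun t _ ih i ri => cond (Nat.ble ri (L gr (L t i))) (ih i ri) true) tabs

theorem anyLessG_sound (gr : ℕ) (tabs : List ℕ) (i ri : ℕ)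
    (h : anyLessG L gr tabs i ri = true) : ∃ t ∈ tabs, L gr (L t i) < ri := by
  induction tabs with
  | nil => exact absurd h (by simp [anyLessG])
  | cons t ts ih =>
    have h' : cond (Nat.ble ri (L gr (L t i))) (anyLessG L gr ts i ri) true = true := h
    cases hb : Nat.ble ri (L gr (L t i)) with
    | true =>
      rw [hb] at h'
      obtain ⟨t', ht', hlt⟩ := ih h'
      exact ⟨t', List.mem_cons_of_mem _ ht', hlt⟩
    | false =>
      refine ⟨t, List.mem_cons_self, ?_⟩
      by_contra hcon
      have : Nat.ble ri (L gr (L t i)) = true := Nat.ble_eq.mpr (not_lt.mp hcon)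
      rw [this] at hb
      exact absurd hb (by simp)

/-- every point `i ≠ 0` with `lo ≤ i < lo + cnt` has a neighbour of smaller rank -/
noncomputable def checkConnG (gr : ℕ) (tabs : List ℕ) (lo cnt : ℕ) : Bool :=
  Nat.rec (motive := fun _ => Bool) true
    (fun k ih => force (Nat.add lo k) fun i => cond (Nat.beq i 0) ih
      (cond (force (L gr i) fun ri => anyLessG L gr tabs i ri) ih false)) cnt

theorem checkConnG_sound (gr : ℕ) (tabs : List ℕ) (lo cnt : ℕ)
    (h : checkConnG L gr tabs lo cnt = true) :
    ∀ i, lo ≤ i → i < lo + cnt → i ≠ 0 → ∃ t ∈ tabs, L gr (L t i) < L gr i := by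
  induction cnt with
  | zero => intro i h1 h2; omega
  | succ k ih =>
    have h' : (force (Nat.add lo k) fun i => cond (Nat.beq i 0) (checkConnG L gr tabs lo k)
        (cond (force (L gr i) fun ri => anyLessG L gr tabs i ri)
          (checkConnG L gr tabs lo k) false)) = true := h
    rw [force_eq, force_eq] at h'
    have hrest : checkConnG L gr tabs lo k = true := by
      cases hb : Nat.beq (Nat.add lo k) 0 with
      | true => rw [hb] at h'; exact h'
      | false =>
        rw [hb] at h'
        cases ha : anyLessG L gr tabs (Nat.add lo k) (L gr (Nat.add lo k)) with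
        | true => rw [ha] at h'; exact h'
        | false => rw [ha] at h'; exact absurd h' (by simp)
    intro i h1 h2 hi0
    by_cases hi : i = lo + k
    · subst hi
      have hb : Nat.beq (Nat.add lo k) 0 = false := by
        cases hb : Nat.beq (Nat.add lo k) 0 with
        | false => rfl
        | true => exact absurd (Nat.eq_of_beq_eq_true hb) hi0
      rw [hb] at h'
      cases ha : anyLessG L gr tabs (Nat.add lo k) (L gr (Nat.add lo k)) with
      | true => exact anyLessG_sound L gr tabs _ _ ha
      | false => rw [ha] at h'; exact absurd h' (by simp)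
    · exact ih hrest i h1 (by omega) hi0

/-- every word of `hw` maps `i` into the mask -/
noncomputable def allInG (mask : ℕ) (hw : List (List ℕ)) : ℕ → Bool :=
  List.rec (motive := fun _ => ℕ → Bool) (fun _ => true)
    (fun ts _ ih i => cond (tb mask (applyTG L ts i)) (ih i) false) hw

theorem allInG_sound (mask : ℕ) (hw : List (List ℕ)) (i : ℕ)
    (h : allInG L mask hw i = true) : ∀ ts ∈ hw, tb mask (applyTG L ts i) = true := by
  induction hw with
  | nil => intro ts hts; exact absurd hts (by simp)
  | cons ts0 hw ih =>
    have h' : cond (tb mask (applyTG L ts0 i)) (allInG L mask hw i) false = true := h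
    cases hb : tb mask (applyTG L ts0 i) with
    | false => rw [hb] at h'; exact absurd h' (by simp)
    | true =>
      rw [hb] at h'
      intro ts hts
      rcases List.mem_cons.mp hts with rfl | hts'
      · exact hb
      · exact ih h' ts hts'

/-- the masked points `lo ≤ i < lo + cnt` are mapped into the mask by the words -/
noncomputable def checkClosedG (mask : ℕ) (hw : List (List ℕ)) (lo cnt : ℕ) : Bool :=
  Nat.rec (motive := fun _ => Bool) true
    (fun k ih => force (Nat.add lo k) fun i =>
      cond (tb mask i) (cond (allInG L mask hw i) ih false) ih) cnt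

theorem checkClosedG_sound (mask : ℕ) (hw : List (List ℕ)) (lo cnt : ℕ)
    (h : checkClosedG L mask hw lo cnt = true) :
    ∀ i, lo ≤ i → i < lo + cnt → tb mask i = true →
      ∀ ts ∈ hw, tb mask (applyTG L ts i) = true := by
  induction cnt with
  | zero => intro i h1 h2; omega
  | succ k ih =>
    have h' : (force (Nat.add lo k) fun i =>
        cond (tb mask i) (cond (allInG L mask hw i) (checkClosedG L mask hw lo k) false)
          (checkClosedG L mask hw lo k)) = true := h
    rw [force_eq] at h'
    have hrest : checkClosedG L mask hw lo k = true := by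
      cases hb : tb mask (Nat.add lo k) with
      | false => rw [hb] at h'; exact h'
      | true =>
        rw [hb] at h'
        cases ha : allInG L mask hw (Nat.add lo k) with
        | true => rw [ha] at h'; exact h'
        | false => rw [ha] at h'; exact absurd h' (by simp)
    intro i h1 h2 hbi
    by_cases hi : i = lo + k
    · subst hi
      have hbi' : tb mask (Nat.add lo k) = true := hbi
      rw [hbi'] at h'
      cases ha : allInG L mask hw (Nat.add lo k) with
      | true => exact allInG_sound L mask hw _ ha
      | false => rw [ha] at h'; exact absurd h' (by simp)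
    · exact ih hrest i h1 (by omega) hbi

/-- some word of `hw` sends `i` to a masked point of rank `< ri` -/
noncomputable def anyDownG (mask hr : ℕ) (hw : List (List ℕ)) : ℕ → ℕ → Bool :=
  List.rec (motive := fun _ => ℕ → ℕ → Bool) (fun _ _ => false)
    (fun ts _ ih i ri =>
      force (applyTG L ts i) fun j =>
        cond (tb mask j) (cond (Nat.ble ri (L hr j)) (ih i ri) true) (ih i ri)) hw

theorem anyDownG_sound (mask hr : ℕ) (hw : List (List ℕ)) (i ri : ℕ)
    (h : anyDownG L mask hr hw i ri = true) :
    ∃ ts ∈ hw, tb mask (applyTG L ts i) = true ∧ L hr (applyTG L ts i) < ri := by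
  induction hw with
  | nil => exact absurd h (by simp [anyDownG])
  | cons ts0 hw ih =>
    have h' : (force (applyTG L ts0 i) fun j =>
        cond (tb mask j) (cond (Nat.ble ri (L hr j)) (anyDownG L mask hr hw i ri) true)
          (anyDownG L mask hr hw i ri)) = true := h
    rw [force_eq] at h'
    cases hb : tb mask (applyTG L ts0 i) with
    | false =>
      rw [hb] at h'
      obtain ⟨ts, hts, h1, h2⟩ := ih h'
      exact ⟨ts, List.mem_cons_of_mem _ hts, h1, h2⟩
    | true =>
      rw [hb] at h'
      cases hr' : Nat.ble ri (L hr (applyTG L ts0 i)) with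
      | true =>
        rw [hr'] at h'
        obtain ⟨ts, hts, h1, h2⟩ := ih h'
        exact ⟨ts, List.mem_cons_of_mem _ hts, h1, h2⟩
      | false =>
        refine ⟨ts0, List.mem_cons_self, hb, ?_⟩
        by_contra hcon
        have : Nat.ble ri (L hr (applyTG L ts0 i)) = true := Nat.ble_eq.mpr (not_lt.mp hcon)
        rw [this] at hr'
        exact absurd hr' (by simp)

/-- the masked points `i ≠ p`, `lo ≤ i < lo + cnt`, are sent by some word to a masked point of
smaller rank -/
noncomputable def checkOrbConnG (mask hr p : ℕ) (hw : List (List ℕ)) (lo cnt : ℕ) : Bool :=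
  Nat.rec (motive := fun _ => Bool) true
    (fun k ih => force (Nat.add lo k) fun i => cond (tb mask i)
      (cond (Nat.beq i p) ih
        (cond (force (L hr i) fun ri => anyDownG L mask hr hw i ri) ih false)) ih) cnt

theorem checkOrbConnG_sound (mask hr p : ℕ) (hw : List (List ℕ)) (lo cnt : ℕ)
    (h : checkOrbConnG L mask hr p hw lo cnt = true) :
    ∀ i, lo ≤ i → i < lo + cnt → tb mask i = true → i ≠ p →
      ∃ ts ∈ hw, tb mask (applyTG L ts i) = true ∧ L hr (applyTG L ts i) < L hr i := by
  induction cnt with
  | zero => intro i h1 h2; omega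
  | succ k ih =>
    have h' : (force (Nat.add lo k) fun i => cond (tb mask i)
      (cond (Nat.beq i p) (checkOrbConnG L mask hr p hw lo k)
        (cond (force (L hr i) fun ri => anyDownG L mask hr hw i ri)
          (checkOrbConnG L mask hr p hw lo k) false))
        (checkOrbConnG L mask hr p hw lo k)) = true := h
    rw [force_eq, force_eq] at h'
    have hrest : checkOrbConnG L mask hr p hw lo k = true := by
      cases hb : tb mask (Nat.add lo k) with
      | false => rw [hb] at h'; exact h'
      | true =>
        rw [hb] at h'
        cases hp : Nat.beq (Nat.add lo k) p with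
        | true => rw [hp] at h'; exact h'
        | false =>
          rw [hp] at h'
          cases ha : anyDownG L mask hr hw (Nat.add lo k) (L hr (Nat.add lo k)) with
          | true => rw [ha] at h'; exact h'
          | false => rw [ha] at h'; exact absurd h' (by simp)
    intro i h1 h2 hbi hip
    by_cases hi : i = lo + k
    · subst hi
      have hbi' : tb mask (Nat.add lo k) = true := hbi
      rw [hbi'] at h'
      have hp : Nat.beq (Nat.add lo k) p = false := by
        cases hp : Nat.beq (Nat.add lo k) p with
        | false => rfl
        | true => exact absurd (Nat.eq_of_beq_eq_true hp) hip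
      rw [hp] at h'
      cases ha : anyDownG L mask hr hw (Nat.add lo k) (L hr (Nat.add lo k)) with
      | true => exact anyDownG_sound L mask hr hw _ _ ha
      | false => rw [ha] at h'; exact absurd h' (by simp)
    · exact ih hrest i h1 (by omega) hbi hip

end generic

end Cfsg.Agent.Lib.H17.CosetCert
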