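import Cfsg.Agent.Lib.H17.CosetPerm2

set_option autoImplicit false

/-! # The two-level lookup with explicit parameters -/

namespace Cfsg.Agent.Lib.H17.CosetCert

theorem lk2_eq_lk' (wb Wm bb BB BW : ℕ) (hW : Wm = 2 ^ wb) (hBB : BB = bb * wb)
    (hBW : BW = 2 ^ BB) (hbb : 0 < bb) (t i : ℕ) :
    lk2 wb Wm bb BB BW t i = lk wb Wm t i := by
  subst hW
  subst hBB
  subst hBW
  exact lk2_eq_lk wb bb hbb t i

end Cfsg.Agent.Lib.H17.CosetCert
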