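import Cfsg.Agent.Lib.H17.CosetPerm

set_option autoImplicit false

/-!
# Range versions of the table checks

The kernel caches the intermediate big numbers of every table lookup while it checks one
declaration, so the checks over all points are split into ranges of points, one declaration each.
-/

namespace Cfsg.Agent.Lib.H17.CosetCert

section ranges

variable (wb Wm : ℕ)

/-- the points `lo ≤ i < lo + cnt` are fixed by the word -/
noncomputable def checkWordR (ts : List ℕ) (lo cnt : ℕ) : Bool :=
  Nat.rec (motive := fun _ => Bool) true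
    (fun k ih => force (Nat.add lo k) fun i => cond (Nat.beq (applyT wb Wm ts i) i) ih false) cnt

theorem checkWordR_sound (ts : List ℕ) (lo cnt : ℕ) (h : checkWordR wb Wm ts lo cnt = true) :
    ∀ i, lo ≤ i → i < lo + cnt → applyT wb Wm ts i = i := by
  induction cnt with
  | zero => intro i h1 h2; omega
  | succ k ih =>
    have h' : (force (Nat.add lo k) fun i =>
        cond (Nat.beq (applyT wb Wm ts i) i) (checkWordR wb Wm ts lo k) false) = true := h
    rw [force_eq] at h'
    cases hb : Nat.beq (applyT wb Wm ts (Nat.add lo k)) (Nat.add lo k) with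
    | false => rw [hb] at h'; exact absurd h' (by simp)
    | true =>
      rw [hb] at h'
      intro i h1 h2
      by_cases hi : i = lo + k
      · subst hi; exact Nat.eq_of_beq_eq_true hb
      · exact ih h' i h1 (by omega)

/-- the entries `lo ≤ i < lo + cnt` of the table are `< N` -/
noncomputable def checkRangeR (t N lo cnt : ℕ) : Bool :=
  Nat.rec (motive := fun _ => Bool) true
    (fun k ih => force (Nat.add lo k) fun i => cond (Nat.ble N (lk wb Wm t i)) false ih) cnt

theorem checkRangeR_sound (t N lo cnt : ℕ) (h : checkRangeR wb Wm t N lo cnt = true) :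
    ∀ i, lo ≤ i → i < lo + cnt → lk wb Wm t i < N := by
  induction cnt with
  | zero => intro i h1 h2; omega
  | succ k ih =>
    have h' : (force (Nat.add lo k) fun i =>
        cond (Nat.ble N (lk wb Wm t i)) false (checkRangeR wb Wm t N lo k)) = true := h
    rw [force_eq] at h'
    cases hb : Nat.ble N (lk wb Wm t (Nat.add lo k)) with
    | true => rw [hb] at h'; exact absurd h' (by simp)
    | false =>
      rw [hb] at h'
      intro i h1 h2
      by_cases hi : i = lo + k
      · subst hi
        by_contra hcon
        have : Nat.ble N (lk wb Wm t (lo + k)) = true := Nat.ble_eq.mpr (not_lt.mp hcon)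
        have hb' : Nat.ble N (lk wb Wm t (lo + k)) = false := hb
        rw [this] at hb'
        exact absurd hb' (by simp)
      · exact ih h' i h1 (by omega)

/-- every point `i ≠ 0` with `lo ≤ i < lo + cnt` has a neighbour of smaller rank -/
noncomputable def checkConnR (gr : ℕ) (tabs : List ℕ) (lo cnt : ℕ) : Bool :=
  Nat.rec (motive := fun _ => Bool) true
    (fun k ih => force (Nat.add lo k) fun i => cond (Nat.beq i 0) ih
      (cond (force (lk wb Wm gr i) fun ri => anyLess wb Wm gr tabs i ri) ih false)) cnt

theorem checkConnR_sound (gr : ℕ) (tabs : List ℕ) (lo cnt : ℕ)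
    (h : checkConnR wb Wm gr tabs lo cnt = true) :
    ∀ i, lo ≤ i → i < lo + cnt → i ≠ 0 →
      ∃ t ∈ tabs, lk wb Wm gr (lk wb Wm t i) < lk wb Wm gr i := by
  induction cnt with
  | zero => intro i h1 h2; omega
  | succ k ih =>
    have h' : (force (Nat.add lo k) fun i => cond (Nat.beq i 0) (checkConnR wb Wm gr tabs lo k)
        (cond (force (lk wb Wm gr i) fun ri => anyLess wb Wm gr tabs i ri)
          (checkConnR wb Wm gr tabs lo k) false)) = true := h
    rw [force_eq, force_eq] at h'
    have hrest : checkConnR wb Wm gr tabs lo k = true := by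
      cases hb : Nat.beq (Nat.add lo k) 0 with
      | true => rw [hb] at h'; exact h'
      | false =>
        rw [hb] at h'
        cases ha : anyLess wb Wm gr tabs (Nat.add lo k) (lk wb Wm gr (Nat.add lo k)) with
        | true => rw [ha] at h'; exact h'
        | false => rw [ha] at h'; exact absurd h' (by simp)
    intro i h1 h2 hi0
    by_cases hi : i = lo + k
    · subst hi
      have hb : Nat.beq (Nat.add lo k) 0 = false := by
        cases hb : Nat.beq (Nat.add lo k) 0 with
        | false => rfl
        | true => exact absurd (Nat.eq_of_beq_eq_true hb) hi0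
      rw [hb] at h'
      cases ha : anyLess wb Wm gr tabs (Nat.add lo k) (lk wb Wm gr (Nat.add lo k)) with
      | true => exact anyLess_sound wb Wm gr tabs _ _ ha
      | false => rw [ha] at h'; exact absurd h' (by simp)
    · exact ih hrest i h1 (by omega) hi0

/-- the masked points `lo ≤ i < lo + cnt` are mapped into the mask by the words -/
noncomputable def checkClosedR (mask : ℕ) (hw : List (List ℕ)) (lo cnt : ℕ) : Bool :=
  Nat.rec (motive := fun _ => Bool) true
    (fun k ih => force (Nat.add lo k) fun i =>
      cond (tb mask i) (cond (allIn wb Wm mask hw i) ih false) ih) cnt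

theorem checkClosedR_sound (mask : ℕ) (hw : List (List ℕ)) (lo cnt : ℕ)
    (h : checkClosedR wb Wm mask hw lo cnt = true) :
    ∀ i, lo ≤ i → i < lo + cnt → tb mask i = true →
      ∀ ts ∈ hw, tb mask (applyT wb Wm ts i) = true := by
  induction cnt with
  | zero => intro i h1 h2; omega
  | succ k ih =>
    have h' : (force (Nat.add lo k) fun i =>
        cond (tb mask i) (cond (allIn wb Wm mask hw i) (checkClosedR wb Wm mask hw lo k) false)
          (checkClosedR wb Wm mask hw lo k)) = true := h
    rw [force_eq] at h'
    have hrest : checkClosedR wb Wm mask hw lo k = true := by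
      cases hb : tb mask (Nat.add lo k) with
      | false => rw [hb] at h'; exact h'
      | true =>
        rw [hb] at h'
        cases ha : allIn wb Wm mask hw (Nat.add lo k) with
        | true => rw [ha] at h'; exact h'
        | false => rw [ha] at h'; exact absurd h' (by simp)
    intro i h1 h2 hbi
    by_cases hi : i = lo + k
    · subst hi
      have hbi' : tb mask (Nat.add lo k) = true := hbi
      rw [hbi'] at h'
      cases ha : allIn wb Wm mask hw (Nat.add lo k) with
      | true => exact allIn_sound wb Wm mask hw _ ha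
      | false => rw [ha] at h'; exact absurd h' (by simp)
    · exact ih hrest i h1 (by omega) hbi

/-- the masked points `i ≠ p`, `lo ≤ i < lo + cnt`, are sent by some word to a masked point of
smaller rank -/
noncomputable def checkOrbConnR (mask hr p : ℕ) (hw : List (List ℕ)) (lo cnt : ℕ) : Bool :=
  Nat.rec (motive := fun _ => Bool) true
    (fun k ih => force (Nat.add lo k) fun i => cond (tb mask i)
      (cond (Nat.beq i p) ih
        (cond (force (lk wb Wm hr i) fun ri => anyDown wb Wm mask hr hw i ri) ih false)) ih) cnt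

theorem checkOrbConnR_sound (mask hr p : ℕ) (hw : List (List ℕ)) (lo cnt : ℕ)
    (h : checkOrbConnR wb Wm mask hr p hw lo cnt = true) :
    ∀ i, lo ≤ i → i < lo + cnt → tb mask i = true → i ≠ p →
      ∃ ts ∈ hw, tb mask (applyT wb Wm ts i) = true ∧
        lk wb Wm hr (applyT wb Wm ts i) < lk wb Wm hr i := by
  induction cnt with
  | zero => intro i h1 h2; omega
  | succ k ih =>
    have h' : (force (Nat.add lo k) fun i => cond (tb mask i)
      (cond (Nat.beq i p) (checkOrbConnR wb Wm mask hr p hw lo k)
        (cond (force (lk wb Wm hr i) fun ri => anyDown wb Wm mask hr hw i ri)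
          (checkOrbConnR wb Wm mask hr p hw lo k) false))
        (checkOrbConnR wb Wm mask hr p hw lo k)) = true := h
    rw [force_eq, force_eq] at h'
    have hrest : checkOrbConnR wb Wm mask hr p hw lo k = true := by
      cases hb : tb mask (Nat.add lo k) with
      | false => rw [hb] at h'; exact h'
      | true =>
        rw [hb] at h'
        cases hp : Nat.beq (Nat.add lo k) p with
        | true => rw [hp] at h'; exact h'
        | false =>
          rw [hp] at h'
          cases ha : anyDown wb Wm mask hr hw (Nat.add lo k) (lk wb Wm hr (Nat.add lo k)) with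
          | true => rw [ha] at h'; exact h'
          | false => rw [ha] at h'; exact absurd h' (by simp)
    intro i h1 h2 hbi hip
    by_cases hi : i = lo + k
    · subst hi
      have hbi' : tb mask (Nat.add lo k) = true := hbi
      rw [hbi'] at h'
      have hp : Nat.beq (Nat.add lo k) p = false := by
        cases hp : Nat.beq (Nat.add lo k) p with
        | false => rfl
        | true => exact absurd (Nat.eq_of_beq_eq_true hp) hip
      rw [hp] at h'
      cases ha : anyDown wb Wm mask hr hw (Nat.add lo k) (lk wb Wm hr (Nat.add lo k)) with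
      | true => exact anyDown_sound wb Wm mask hr hw _ _ ha
      | false => rw [ha] at h'; exact absurd h' (by simp)
    · exact ih hrest i h1 (by omega) hbi hip

end ranges

section pointwise

variable (wb Wm : ℕ) (n : ℕ)

theorem prod_eq_one_of_fix (ts : List ℕ) (hg : ∀ t ∈ ts, Good wb Wm n t)
    (h : ∀ i < n, applyT wb Wm ts i = i) : (ts.map (σ wb Wm n)).prod = 1 := by
  have h1 : (ts.map (σ wb Wm n)).reverse.prod = 1 := by
    ext i
    rw [prod_reverse_apply wb Wm n ts hg i, h i i.2]
    rfl
  rw [prod_reverse_of_invol_list _ (by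
    intro g hg'
    obtain ⟨t, -, rfl⟩ := List.mem_map.mp hg'
    exact σ_mul_self wb Wm n t)] at h1
  exact inv_eq_one.mp h1

theorem good_of_fix (t : ℕ) (h1 : ∀ i < n, lk wb Wm t i < n)
    (h2 : ∀ i < n, applyT wb Wm [t, t] i = i) : Good wb Wm n t := by
  refine ⟨h1, fun i hi => ?_⟩
  have := h2 i hi
  rwa [applyT_cons, applyT_cons, applyT_nil] at this

/-- transitivity from the pointwise connectivity statement -/
theorem trans_of_conn' {G : Type*} [Group G] (hn : 0 < n) (φ : G →* Equiv.Perm (Fin n))
    (gr : ℕ) (tabs : List ℕ) (hgood : ∀ t ∈ tabs, Good wb Wm n t)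
    (hφ : ∀ t ∈ tabs, ∃ g : G, φ g = σ wb Wm n t)
    (hs : ∀ i < n, i ≠ 0 → ∃ t ∈ tabs, lk wb Wm gr (lk wb Wm t i) < lk wb Wm gr i) :
    ∀ i : Fin n, ∃ g : G, φ g ⟨0, hn⟩ = i := by
  have key : ∀ r : ℕ, ∀ i : Fin n, lk wb Wm gr i = r → ∃ g : G, φ g i = ⟨0, hn⟩ := by
    intro r
    induction r using Nat.strong_induction_on with
    | _ r ih =>
      intro i hir
      by_cases hi0 : (i : ℕ) = 0
      · exact ⟨1, by rw [map_one]; exact Fin.ext hi0⟩
      · obtain ⟨t, ht, hlt⟩ := hs i i.2 hi0
        obtain ⟨gt, hgt⟩ := hφ t ht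
        have hj : lk wb Wm t i < n := (hgood t ht).1 i i.2
        obtain ⟨g', hg'⟩ := ih _ (by rw [← hir]; exact hlt) ⟨lk wb Wm t i, hj⟩ rfl
        refine ⟨g' * gt, ?_⟩
        rw [map_mul, Equiv.Perm.mul_apply, hgt]
        have : σ wb Wm n t i = ⟨lk wb Wm t i, hj⟩ := Fin.ext (σ_apply wb Wm n t (hgood t ht) i)
        rw [this, hg']
  intro i
  obtain ⟨g, hg⟩ := key _ i rfl
  refine ⟨g⁻¹, ?_⟩
  rw [map_inv, ← hg]
  simp

/-- orbit computation from the pointwise closure and connectivity statements -/
theorem orbit_eq_mask' {G : Type*} [Group G] (φ : G →* Equiv.Perm (Fin n))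
    (S : Set G) (mask hr : ℕ) (p : Fin n) (hw : List (List ℕ))
    (hgood : ∀ ts ∈ hw, ∀ t ∈ ts, Good wb Wm n t)
    (hS : ∀ s ∈ S, ∃ ts ∈ hw, φ s = (ts.map (σ wb Wm n)).prod)
    (hS' : ∀ ts ∈ hw, ∃ s ∈ S, φ s = (ts.map (σ wb Wm n)).prod)
    (hp : tb mask p = true)
    (hcl : ∀ i < n, tb mask i = true → ∀ ts ∈ hw, tb mask (applyT wb Wm ts i) = true)
    (hcn : ∀ i < n, tb mask i = true → i ≠ p → ∃ ts ∈ hw, tb mask (applyT wb Wm ts i) = true ∧
      lk wb Wm hr (applyT wb Wm ts i) < lk wb Wm hr i) :
    {i : Fin n | ∃ h ∈ Subgroup.closure S, φ h p = i} = {i : Fin n | tb mask i = true} := by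
  have hinvapp : ∀ ts ∈ hw, ∀ i : Fin n,
      ((((ts.map (σ wb Wm n)).prod)⁻¹ i : Fin n) : ℕ) = applyT wb Wm ts i := by
    intro ts hts i
    rw [← prod_reverse_of_invol_list _ (by
      intro g hg'
      obtain ⟨t, -, rfl⟩ := List.mem_map.mp hg'
      exact σ_mul_self wb Wm n t)]
    exact prod_reverse_apply wb Wm n ts (hgood ts hts) i
  let O : Set (Fin n) := {i : Fin n | tb mask i = true}
  have hstab : ∀ h ∈ Subgroup.closure S, ∀ i ∈ O, φ h i ∈ O := by
    intro h hh
    induction hh using Subgroup.closure_induction with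
    | mem s hs =>
      obtain ⟨ts, hts, hφs⟩ := hS s hs
      have h1 : ∀ i ∈ O, (φ s)⁻¹ i ∈ O := by
        intro i hi
        change tb mask ((φ s)⁻¹ i : Fin n) = true
        rw [hφs, hinvapp ts hts i]
        exact hcl i i.2 hi ts hts
      have h2 := perm_inv_stable (φ s)⁻¹ O h1
      simpa using h2
    | one => intro i hi; rw [map_one]; exact hi
    | mul a b _ _ iha ihb =>
      intro i hi
      rw [map_mul, Equiv.Perm.mul_apply]
      exact iha _ (ihb _ hi)
    | inv a _ iha =>
      intro i hi
      rw [map_inv]
      exact perm_inv_stable (φ a) O iha i hi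
  ext i
  constructor
  · rintro ⟨h, hh, rfl⟩
    exact hstab h hh p hp
  · intro hi
    have key : ∀ r : ℕ, ∀ i : Fin n, tb mask i = true → lk wb Wm hr i = r →
        ∃ h ∈ Subgroup.closure S, φ h p = i := by
      intro r
      induction r using Nat.strong_induction_on with
      | _ r ih =>
        intro i hi hir
        by_cases hip : (i : ℕ) = (p : ℕ)
        · exact ⟨1, one_mem _, by rw [map_one]; exact (Fin.ext hip).symm⟩
        · obtain ⟨ts, hts, hj1, hj2⟩ := hcn i i.2 hi hip
          obtain ⟨s, hs, hφs⟩ := hS' ts hts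
          have hj : (((φ s)⁻¹ i : Fin n) : ℕ) = applyT wb Wm ts i := by
            rw [hφs]; exact hinvapp ts hts i
          obtain ⟨h', hh', hh'p⟩ := ih _ (by rw [← hir]; exact hj2) ((φ s)⁻¹ i)
            (by rw [hj]; exact hj1) (by rw [hj])
          refine ⟨s * h', mul_mem (Subgroup.subset_closure hs) hh', ?_⟩
          rw [map_mul, Equiv.Perm.mul_apply, hh'p]
          simp
    exact key _ i hi rfl

end pointwise

end Cfsg.Agent.Lib.H17.CosetCert
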