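import Cfsg.Agent.Lib.H17.CosetPerm
import Cfsg.Prelude.Def_SporCoxeter

set_option autoImplicit false

/-!
# Glue between Coxeter-style presentations and relator words
-/

namespace Cfsg.Agent.Lib.H17.CoxGlue

open Cfsg.Spor Cfsg.Agent.Lib.H17.CosetCert

variable {α : Type*}

/-- the word `(x y)^m` -/
def pairW (x y : α) (m : ℕ) : List α := (List.replicate m [x, y]).flatten

theorem prod_pairW {K : Type*} [Group K] (f : α → K) (x y : α) (m : ℕ) :
    ((pairW x y m).map f).prod = (f x * f y) ^ m := by
  unfold pairW
  induction m with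
  | zero => simp
  | succ m ih =>
    rw [List.replicate_succ, List.flatten_cons, List.map_append, List.prod_append, ih, pow_succ']
    simp

theorem coxLabel_self [DecidableEq α] (edges : List (α × ℕ × α)) (x : α) : coxLabel edges x x = 1 := by
  unfold coxLabel
  rw [if_pos rfl]

section lift

variable [DecidableEq α] {K : Type*} [Group K] (edges : List (α × ℕ × α)) (f : α → K)

theorem cox_diag (hinv : ∀ a, f a * f a = 1) (x : α) :
    FreeGroup.lift f ((FreeGroup.of x * FreeGroup.of x) ^ coxLabel edges x x) = 1 := by
  rw [coxLabel_self, pow_one, map_mul, FreeGroup.lift_apply_of, hinv]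

theorem cox_lt (x y : α) (m : ℕ) (hm : coxLabel edges x y = m)
    (h : ((pairW x y m).map f).prod = 1) :
    FreeGroup.lift f ((FreeGroup.of x * FreeGroup.of y) ^ coxLabel edges x y) = 1 := by
  rw [hm, map_pow, map_mul, FreeGroup.lift_apply_of, FreeGroup.lift_apply_of, ← prod_pairW]
  exact h

theorem cox_gt (x y : α) (m : ℕ) (hm : coxLabel edges x y = m)
    (h : ((pairW y x m).map f).prod = 1) :
    FreeGroup.lift f ((FreeGroup.of x * FreeGroup.of y) ^ coxLabel edges x y) = 1 := by
  rw [hm, map_pow, map_mul, FreeGroup.lift_apply_of, FreeGroup.lift_apply_of]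
  rw [prod_pairW] at h
  have : f x * f y = f x * (f y * f x) * (f x)⁻¹ := by group
  rw [this, conj_pow, h]
  group

end lift

section pres

variable (rels : Set (FreeGroup α))

theorem mk_eq_lift : (PresentedGroup.mk rels : FreeGroup α →* PresentedGroup rels) =
    FreeGroup.lift (PresentedGroup.of (rels := rels)) := by
  apply FreeGroup.ext_hom
  intro a
  rw [FreeGroup.lift_apply_of]
  rfl

theorem pres_pair (x y : α) (m : ℕ)
    (hmem : (FreeGroup.of x * FreeGroup.of y) ^ m ∈ rels) :
    ((pairW x y m).map (PresentedGroup.of (rels := rels))).prod = 1 := by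
  rw [prod_pairW]
  have := PresentedGroup.one_of_mem hmem
  rw [map_pow, map_mul] at this
  exact this

theorem pres_word (hinv : ∀ a : α, (PresentedGroup.of a : PresentedGroup rels) *
    PresentedGroup.of a = 1) (L : List (α × Bool)) (hmem : FreeGroup.mk L ∈ rels) :
    ((L.map Prod.fst).map (PresentedGroup.of (rels := rels))).prod = 1 := by
  have := PresentedGroup.one_of_mem hmem
  rw [mk_eq_lift, lift_mk_of_invol _ hinv] at this
  exact this

theorem cox_of_mul_self [DecidableEq α] (edges : List (α × ℕ × α)) (R : Set (FreeGroup α)) (a : α)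
    (ha : a ∈ coxNodes edges) :
    (PresentedGroup.of a : PresentedGroup (coxRelators edges ∪ R)) * PresentedGroup.of a = 1 := by
  have hmem : (FreeGroup.of a * FreeGroup.of a) ^ coxLabel edges a a ∈ coxRelators edges ∪ R :=
    Or.inl ⟨a, ha, a, ha, rfl⟩
  have := PresentedGroup.one_of_mem hmem
  rw [coxLabel_self, pow_one, map_mul] at this
  exact this

end pres

end Cfsg.Agent.Lib.H17.CoxGlue
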