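import Mathlib

/-!
# A cyclic `p`-operator on an `F_p`-space (helper17)

Let `V` be a finite `ZMod p`-module, `T` an endomorphism with `T ^ p = 1`, and `x : V` with
`(∑ i < p, T ^ i) x ≠ 0`.  Then there is a linear functional `f` with kernel of index `p` such
that the largest "`T`-invariant part" `{a | ∀ i < p, f (T ^ i a) = 0}` has index at least `p ^ p`.
-/

set_option autoImplicit false

namespace Cfsg.Agent.Lib.H17.CyclicModule

open Polynomial

variable {p : ℕ} [Fact p.Prime]

theorem poly_id : (∑ i ∈ Finset.range p, (X : (ZMod p)[X]) ^ i) = (X - 1) ^ (p - 1) := by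
  have h1 : (∑ i ∈ Finset.range p, (X : (ZMod p)[X]) ^ i) * (X - 1) = X ^ p - 1 :=
    geom_sum_mul X p
  have h2 : (X - 1 : (ZMod p)[X]) ^ p = X ^ p - 1 := by rw [sub_pow_char, one_pow]
  have h3 : (X - 1 : (ZMod p)[X]) ^ (p - 1) * (X - 1) = X ^ p - 1 := by
    rw [← pow_succ, Nat.sub_add_cancel (Fact.out : p.Prime).one_le, h2]
  have hne : (X - 1 : (ZMod p)[X]) ≠ 0 := by
    have := X_sub_C_ne_zero (1 : ZMod p)
    simpa using this
  exact mul_right_cancel₀ hne (h1.trans h3.symm)

variable {V : Type*} [AddCommGroup V] [Module (ZMod p) V]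

theorem sum_pow_eq (T : Module.End (ZMod p) V) :
    (∑ i ∈ Finset.range p, T ^ i) = (T - 1) ^ (p - 1) := by
  have := congrArg (aeval T) (poly_id (p := p))
  simpa using this

theorem sub_one_pow_eq_zero (T : Module.End (ZMod p) V) (hT : T ^ p = 1) : (T - 1) ^ p = 0 := by
  have h2 : (X - 1 : (ZMod p)[X]) ^ p = X ^ p - 1 := by rw [sub_pow_char, one_pow]
  have := congrArg (aeval T) h2
  simp only [map_pow, map_sub, aeval_X, map_one] at this
  rw [this, hT, sub_self]

/-- `f ∘ (T-1)^k` vanishes on `a` as soon as all `f ∘ T^i`, `i ≤ k`, vanish on `a`. -/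
theorem apply_sub_one_pow_eq_zero (T : Module.End (ZMod p) V) (f : Module.Dual (ZMod p) V) :
    ∀ (k : ℕ) (a : V), (∀ i ≤ k, f ((T ^ i) a) = 0) → f (((T - 1) ^ k) a) = 0 := by
  intro k
  induction k with
  | zero => intro a h; simpa using h 0 le_rfl
  | succ k ih =>
    intro a h
    have e : ((T - 1) ^ (k + 1)) a = ((T - 1) ^ k) (T a) - ((T - 1) ^ k) a := by
      rw [pow_succ]
      simp [Module.End.mul_apply, sub_eq_add_neg, map_add, map_neg]
    rw [e, map_sub, ih (T a), ih a, sub_zero]
    · intro i hi; exact h i (hi.trans (Nat.le_succ k))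
    · intro i hi
      have := h (i + 1) (Nat.succ_le_succ hi)
      rwa [pow_succ, Module.End.mul_apply] at this

variable [Finite V]

theorem card_lt_of_lt {M N : Submodule (ZMod p) V} (h : M < N) :
    p * Nat.card M ≤ Nat.card N := by
  have hM := Module.natCard_eq_pow_finrank (K := ZMod p) (V := M)
  have hN := Module.natCard_eq_pow_finrank (K := ZMod p) (V := N)
  rw [Nat.card_zmod] at hM hN
  have hlt : Module.finrank (ZMod p) M < Module.finrank (ZMod p) N :=
    Submodule.finrank_lt_finrank_of_lt h
  rw [hM, hN, ← pow_succ']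
  exact Nat.pow_le_pow_right (Fact.out : p.Prime).pos hlt

theorem main (T : Module.End (ZMod p) V) (hT : T ^ p = 1) (x : V)
    (hx : (∑ i ∈ Finset.range p, T ^ i) x ≠ 0) :
    ∃ f : Module.Dual (ZMod p) V, Function.Surjective f ∧
      p ^ p * Nat.card {a : V // ∀ i < p, f ((T ^ i) a) = 0} ≤ Nat.card V := by
  classical
  set s : Module.End (ZMod p) V := T - 1 with hs
  have hsp : s ^ p = 0 := sub_one_pow_eq_zero T hT
  have hv : (s ^ (p - 1)) x ≠ 0 := by rw [hs, ← sum_pow_eq]; exact hx
  obtain ⟨f, hf⟩ : ∃ f : Module.Dual (ZMod p) V, f ((s ^ (p - 1)) x) ≠ 0 := by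
    by_contra hcon
    push Not at hcon
    exact hv ((Module.forall_dual_apply_eq_zero_iff (ZMod p) _).mp hcon)
  have hp1 : 1 ≤ p := (Fact.out : p.Prime).one_le
  refine ⟨f, ?_, ?_⟩
  · intro c
    refine ⟨(c / f ((s ^ (p - 1)) x)) • (s ^ (p - 1)) x, ?_⟩
    rw [map_smul, smul_eq_mul, div_mul_cancel₀ _ hf]
  · -- the chain
    let H : ℕ → Submodule (ZMod p) V := fun k =>
      ⨅ j ∈ Finset.Ico k p, LinearMap.ker (f ∘ₗ (s ^ j))
    have hmemH : ∀ k (a : V), a ∈ H k ↔ ∀ j, k ≤ j → j < p → f ((s ^ j) a) = 0 := by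
      intro k a
      simp only [H, Submodule.mem_iInf, Finset.mem_Ico, LinearMap.mem_ker, LinearMap.comp_apply]
      constructor
      · intro h j hj1 hj2; exact h j ⟨hj1, hj2⟩
      · intro h j hj; exact h j hj.1 hj.2
    have hstrict : ∀ k, k < p → H k < H (k + 1) := by
      intro k hk
      refine lt_of_le_of_ne ?_ ?_
      · intro a ha
        rw [hmemH] at ha ⊢
        intro j hj1 hj2
        exact ha j (Nat.le_of_succ_le hj1) hj2
      · intro heq
        have hw : (s ^ (p - 1 - k)) x ∈ H (k + 1) := by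
          rw [hmemH]
          intro j hj1 hj2
          rw [← Module.End.mul_apply, ← pow_add]
          have : p ≤ j + (p - 1 - k) := by omega
          obtain ⟨d, hd⟩ := Nat.exists_eq_add_of_le this
          rw [hd, pow_add, hsp, zero_mul, LinearMap.zero_apply, map_zero]
        rw [← heq, hmemH] at hw
        have := hw k le_rfl hk
        rw [← Module.End.mul_apply, ← pow_add] at this
        have e : k + (p - 1 - k) = p - 1 := by omega
        rw [e] at this
        exact hf this
    have hchain : ∀ k, k ≤ p → p ^ k * Nat.card (H 0) ≤ Nat.card (H k) := by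
      intro k
      induction k with
      | zero => intro _; simp
      | succ k ih =>
        intro hk
        have h1 := ih (Nat.le_of_succ_le hk)
        have h2 := card_lt_of_lt (hstrict k hk)
        calc p ^ (k + 1) * Nat.card (H 0) = p * (p ^ k * Nat.card (H 0)) := by ring
          _ ≤ p * Nat.card (H k) := Nat.mul_le_mul_left p h1
          _ ≤ Nat.card (H (k + 1)) := h2
    have htop : H p = ⊤ := by
      rw [eq_top_iff]
      intro a _
      rw [hmemH]
      intro j hj1 hj2
      omega
    have h3 := hchain p le_rfl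
    rw [htop] at h3
    have h4 : Nat.card (⊤ : Submodule (ZMod p) V) = Nat.card V :=
      Nat.card_congr (Submodule.topEquiv (R := ZMod p) (M := V)).toEquiv
    rw [h4] at h3
    refine le_trans (Nat.mul_le_mul_left _ ?_) h3
    -- core' injects into H 0
    apply Nat.card_le_card_of_injective
      (fun a : {a : V // ∀ i < p, f ((T ^ i) a) = 0} => (⟨a.1, by
        rw [hmemH]
        intro j _ hj2
        apply apply_sub_one_pow_eq_zero T f j a.1
        intro i hi
        exact a.2 i (lt_of_le_of_lt hi hj2)⟩ : H 0))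
    intro a b hab
    apply Subtype.ext
    exact congrArg (fun z : H 0 => (z : V)) hab

end Cfsg.Agent.Lib.H17.CyclicModule
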