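import Cfsg.Agent.Lib.H17.CyclicModule

set_option autoImplicit false

namespace Cfsg.Agent.Lib.H17.CyclicModule

variable {p : ℕ} [Fact p.Prime]

theorem mul_version_aux {M : Type*} [CommGroup M] [Finite M] [Module (ZMod p) (Additive M)]
    (τ : M →* M) (hτ : ∀ a, (τ^[p]) a = a) (x : M)
    (hx : (∏ i ∈ Finset.range p, (τ^[i]) x) ≠ 1) :
    ∃ K : Subgroup M, Nat.card M = p * Nat.card K ∧
      p ^ p * Nat.card {a : M // ∀ i < p, (τ^[i]) a ∈ K} ≤ Nat.card M := by
  set T : Module.End (ZMod p) (Additive M) :=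
    (MonoidHom.toAdditive τ).toZModLinearMap p with hT
  have hT1 : ∀ v : Additive M, T v = Additive.ofMul (τ (Additive.toMul v)) := fun v => rfl
  have hTi : ∀ i (v : Additive M),
      (T ^ i) v = Additive.ofMul ((τ^[i]) (Additive.toMul v)) := by
    intro i
    induction i with
    | zero => intro v; simp
    | succ i ih =>
      intro v
      rw [pow_succ', Module.End.mul_apply, ih, hT1, Function.iterate_succ_apply']
      rfl
  have hTp : T ^ p = 1 := by
    apply LinearMap.ext
    intro v
    rw [hTi, hτ]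
    rfl
  have hx' : (∑ i ∈ Finset.range p, T ^ i) (Additive.ofMul x) ≠ 0 := by
    rw [LinearMap.sum_apply]
    simp only [hTi, toMul_ofMul]
    rw [← ofMul_prod]
    intro h
    exact hx (Additive.ofMul.injective (h.trans ofMul_one.symm))
  obtain ⟨f, hfs, hf⟩ := main T hTp (Additive.ofMul x) hx'
  let K : Subgroup M := AddSubgroup.toSubgroup' (LinearMap.ker f).toAddSubgroup
  have hmemK : ∀ a : M, a ∈ K ↔ f (Additive.ofMul a) = 0 := by
    intro a
    rfl
  refine ⟨K, ?_, ?_⟩
  · -- card
    have h1 := Submodule.card_eq_card_quotient_mul_card (LinearMap.ker f)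
    have h2 : Nat.card (Additive M ⧸ LinearMap.ker f) = p := by
      rw [Nat.card_congr (f.quotKerEquivOfSurjective hfs).toEquiv, Nat.card_zmod]
    have h3 : Nat.card (LinearMap.ker f) = Nat.card K :=
      Nat.card_congr ⟨fun a => ⟨Additive.toMul a.1, a.2⟩, fun a => ⟨Additive.ofMul a.1, a.2⟩,
        fun _ => rfl, fun _ => rfl⟩
    have h4 : Nat.card (Additive M) = Nat.card M := Nat.card_congr Additive.toMul
    rw [← h4, h1, h2, h3, mul_comm]
  · have h4 : Nat.card (Additive M) = Nat.card M := Nat.card_congr Additive.toMul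
    rw [← h4]
    refine le_trans (Nat.mul_le_mul_left _ (le_of_eq ?_)) hf
    apply Nat.card_congr
    refine ⟨fun a => ⟨Additive.ofMul a.1, fun i hi => ?_⟩,
      fun v => ⟨Additive.toMul v.1, fun i hi => ?_⟩, fun _ => rfl, fun _ => rfl⟩
    · rw [hTi]; exact (hmemK _).mp (a.2 i hi)
    · rw [hmemK]
      have := v.2 i hi
      rwa [hTi] at this

theorem mul_version {M : Type*} [Group M] [Finite M] (hcomm : ∀ a b : M, a * b = b * a)
    (hexp : ∀ a : M, a ^ p = 1)
    (τ : M →* M) (hτ : ∀ a, (τ^[p]) a = a) (x : M)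
    (hx : ((List.range p).map (fun i => (τ^[i]) x)).prod ≠ 1) :
    ∃ K : Subgroup M, Nat.card M = p * Nat.card K ∧
      p ^ p * Nat.card {a : M // ∀ i < p, (τ^[i]) a ∈ K} ≤ Nat.card M := by
  let inst : CommGroup M := { ‹Group M› with mul_comm := hcomm }
  have hexp' : ∀ v : Additive M, p • v = 0 := by
    intro v
    exact congrArg Additive.ofMul (hexp (Additive.toMul v))
  let instM : Module (ZMod p) (Additive M) := AddCommGroup.zmodModule hexp'
  have hx' : (∏ i ∈ Finset.range p, (τ^[i]) x) ≠ 1 := by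
    rw [Finset.prod_eq_multiset_prod, Finset.range_val, ← Multiset.coe_range,
      Multiset.map_coe, Multiset.prod_coe]
    exact hx
  exact @mul_version_aux p _ M inst _ instM τ hτ x hx'

end Cfsg.Agent.Lib.H17.CyclicModule
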