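import Cfsg.Agent.Lib.H17.SgsCent

set_option autoImplicit false

/-! # Deciding whether some element of a permutation group maps the base to given points

With the notation of `Sgs`: for a chain of stabilisers whose orbits are known, the points which an
element must map the base points to are moved down to the base points one after the other, by
words of the stabilisers; if a point is not in the orbit, no element maps the base to the given
points. -/

namespace Cfsg.Agent.Lib.H17.Sift

open Cfsg.Agent.Lib.H17.CosetCert Cfsg.Agent.Lib.H17.Sgs Cfsg.Agent.Lib.H17.SgsCent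

/-- a level of a chain: base point, orbit, ranks, words -/
structure Lvl where
  /-- the base point -/
  b : ℕ
  /-- the orbit -/
  mask : ℕ
  /-- the ranks -/
  hr : ℕ
  /-- the words -/
  hw : List (List ℕ)

section defs

variable (wb Wm : ℕ)

/-- the first word sending `i` to a masked point of rank `< ri` -/
noncomputable def findDown (mask hr : ℕ) (hw : List (List ℕ)) : ℕ → ℕ → Option (List ℕ) :=
  List.rec (motive := fun _ => ℕ → ℕ → Option (List ℕ)) (fun _ _ => none)
    (fun ts _ ih i ri =>
      force (applyT wb Wm ts i) fun j =>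
        cond (tb mask j) (cond (Nat.ble ri (lk wb Wm hr j)) (ih i ri) (some ts)) (ih i ri)) hw

theorem findDown_mem (mask hr : ℕ) (hw : List (List ℕ)) (i ri : ℕ) (ts : List ℕ)
    (h : findDown wb Wm mask hr hw i ri = some ts) : ts ∈ hw := by
  induction hw with
  | nil => exact absurd h (by simp [findDown])
  | cons ts0 hw ih =>
    have h' : (force (applyT wb Wm ts0 i) fun j =>
        cond (tb mask j) (cond (Nat.ble ri (lk wb Wm hr j)) (findDown wb Wm mask hr hw i ri)
          (some ts0)) (findDown wb Wm mask hr hw i ri)) = some ts := h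
    rw [force_eq] at h'
    cases hb : tb mask (applyT wb Wm ts0 i) with
    | false =>
      rw [hb] at h'
      exact List.mem_cons_of_mem _ (ih h')
    | true =>
      rw [hb] at h'
      cases hr' : Nat.ble ri (lk wb Wm hr (applyT wb Wm ts0 i)) with
      | true =>
        rw [hr'] at h'
        exact List.mem_cons_of_mem _ (ih h')
      | false =>
        rw [hr'] at h'
        simp only [cond_true, cond_false, Option.some.injEq] at h'
        rw [← h']
        exact List.mem_cons_self

/-- move `x` down to the base point `b`, moving the points of `rest` along -/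
noncomputable def walk (mask hr b : ℕ) (hw : List (List ℕ)) : ℕ → ℕ → List ℕ → Option (List ℕ) :=
  Nat.rec (motive := fun _ => ℕ → List ℕ → Option (List ℕ))
    (fun x rest => cond (Nat.beq x b) (some rest) none)
    (fun _ ih x rest => cond (Nat.beq x b) (some rest)
      (match findDown wb Wm mask hr hw x (lk wb Wm hr x) with
        | none => none
        | some ts => force (applyT wb Wm ts x) fun x' => ih x' (rest.map (applyT wb Wm ts))))

theorem walk_zero (mask hr b : ℕ) (hw : List (List ℕ)) (x : ℕ) (rest : List ℕ) :
    walk wb Wm mask hr b hw 0 x rest = cond (Nat.beq x b) (some rest) none := rfl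

theorem walk_succ (mask hr b : ℕ) (hw : List (List ℕ)) (fuel x : ℕ) (rest : List ℕ) :
    walk wb Wm mask hr b hw (fuel + 1) x rest = cond (Nat.beq x b) (some rest)
      (match findDown wb Wm mask hr hw x (lk wb Wm hr x) with
        | none => none
        | some ts => walk wb Wm mask hr b hw fuel (applyT wb Wm ts x)
            (rest.map (applyT wb Wm ts))) := by
  change cond (Nat.beq x b) (some rest)
      (match findDown wb Wm mask hr hw x (lk wb Wm hr x) with
        | none => none
        | some ts => force (applyT wb Wm ts x) fun x' =>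
            walk wb Wm mask hr b hw fuel x' (rest.map (applyT wb Wm ts))) = _
  cases findDown wb Wm mask hr hw x (lk wb Wm hr x) with
  | none => rfl
  | some ts => simp only [force_eq]

/-- `0`: some point is not in the orbit; `1`: all points are moved to the base; `2`: no word
found -/
noncomputable def sift : List Lvl → List ℕ → ℕ
  | [], _ => 1
  | _ :: _, [] => 1
  | L :: Ls, x :: rest =>
    force x fun x' => cond (tb L.mask x')
      (match walk wb Wm L.mask L.hr L.b L.hw (Nat.succ (lk wb Wm L.hr x')) x' rest with
        | none => 2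
        | some rest' => sift Ls rest')
      0

theorem sift_cons (L : Lvl) (Ls : List Lvl) (x : ℕ) (rest : List ℕ) :
    sift wb Wm (L :: Ls) (x :: rest) = cond (tb L.mask x)
      (match walk wb Wm L.mask L.hr L.b L.hw (Nat.succ (lk wb Wm L.hr x)) x rest with
        | none => 2
        | some rest' => sift wb Wm Ls rest')
      0 := by
  change (force x fun x' => cond (tb L.mask x')
      (match walk wb Wm L.mask L.hr L.b L.hw (Nat.succ (lk wb Wm L.hr x')) x' rest with
        | none => 2
        | some rest' => sift wb Wm Ls rest')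
      0) = _
  rw [force_eq]

end defs

section sound

variable (wb Wm : ℕ) {G : Type*} [Group G] {n : ℕ} (φ : G →* Equiv.Perm (Fin n)) (tabs : List ℕ)

/-- the image of a point, as a number -/
noncomputable def pt (g : G) (b : ℕ) : ℕ := if h : b < n then ((φ g ⟨b, h⟩ : Fin n) : ℕ) else b

theorem pt_of_lt (g : G) (b : ℕ) (h : b < n) : pt φ g b = ((φ g ⟨b, h⟩ : Fin n) : ℕ) := by
  unfold pt
  rw [dif_pos h]

theorem pt_lt (g : G) (b : ℕ) (h : b < n) : pt φ g b < n := by
  rw [pt_of_lt φ g b h]
  exact (φ g ⟨b, h⟩).2

theorem pt_one (b : ℕ) : pt φ (1 : G) b = b := by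
  unfold pt
  split
  · rw [map_one]
    rfl
  · rfl

theorem pt_mul (g h : G) (b : ℕ) (hb : b < n) : pt φ (g * h) b = pt φ g (pt φ h b) := by
  rw [pt_of_lt φ (g * h) b hb, pt_of_lt φ h b hb, pt_of_lt φ g _ (φ h ⟨b, hb⟩).2, map_mul,
    Equiv.Perm.mul_apply]

theorem mem_stabL_iff_pt (bs : List ℕ) (g : G) : g ∈ stabL φ bs ↔ ∀ c ∈ bs, c < n → pt φ g c = c := by
  constructor
  · intro hg c hc hcn
    rw [pt_of_lt φ g c hcn, hg c hc hcn]
  · intro h c hc hcn
    apply Fin.ext
    have := h c hc hcn
    rw [pt_of_lt φ g c hcn] at this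
    exact this

/-- a level whose words lie in the stabiliser of the earlier base points and whose mask contains
the orbit of the base point under this stabiliser -/
structure LvlOK (bs : List ℕ) (L : Lvl) : Prop where
  hb : L.b < n
  hletters : ∀ ts ∈ L.hw, ∀ t ∈ ts, t ∈ tabs
  hfix : ∀ ts ∈ L.hw, ∀ c ∈ bs, applyT wb Wm ts c = c
  horb : ∀ g ∈ stabL φ bs, tb L.mask (pt φ g L.b) = true

/-- a chain of such levels -/
def ChainOK : List ℕ → List Lvl → Prop
  | _, [] => True
  | bs, L :: Ls => LvlOK wb Wm φ tabs bs L ∧ ChainOK (L.b :: bs) Ls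

/-- the element maps the base points to the points of the list -/
def Maps (g : G) : List Lvl → List ℕ → Prop
  | [], [] => True
  | [], _ :: _ => False
  | _ :: _, [] => False
  | L :: Ls, x :: rest => pt φ g L.b = x ∧ Maps g Ls rest

theorem maps_lt (g : G) (Ms : List Lvl) : ∀ (bs : List ℕ), ChainOK wb Wm φ tabs bs Ms →
    ∀ r : List ℕ, Maps φ g Ms r → ∀ y ∈ r, y < n := by
  induction Ms with
  | nil =>
    intro bs _ r hr
    cases r with
    | nil => simp
    | cons y r => exact absurd hr (by simp [Maps])
  | cons M Ms ih =>
    intro bs hc r hr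
    cases r with
    | nil => simp
    | cons y r =>
      obtain ⟨hM, hc'⟩ := hc
      obtain ⟨hy, hr'⟩ := hr
      intro z hz
      rcases List.mem_cons.mp hz with rfl | hz
      · rw [← hy]
        exact pt_lt φ g M.b hM.hb
      · exact ih _ hc' r hr' z hz

theorem maps_mul (g v : G) (Ms : List Lvl) : ∀ (bs : List ℕ), ChainOK wb Wm φ tabs bs Ms →
    ∀ r : List ℕ, Maps φ g Ms r → Maps φ (v * g) Ms (r.map (pt φ v)) := by
  induction Ms with
  | nil =>
    intro bs _ r hr
    cases r with
    | nil => trivial
    | cons y r => exact absurd hr (by simp [Maps])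
  | cons M Ms ih =>
    intro bs hc r hr
    cases r with
    | nil => exact absurd hr (by simp [Maps])
    | cons y r =>
      obtain ⟨hM, hc'⟩ := hc
      obtain ⟨hy, hr'⟩ := hr
      refine ⟨?_, ih _ hc' r hr'⟩
      rw [pt_mul φ v g M.b hM.hb, hy]

variable (hgood : ∀ t ∈ tabs, Good wb Wm n t) (htabs : ∀ t ∈ tabs, ∃ g : G, φ g = σ wb Wm n t)

include hgood htabs in
/-- the element of a word of a level -/
theorem word_elt (bs : List ℕ) (ts : List ℕ) (hl : ∀ t ∈ ts, t ∈ tabs)
    (hfix : ∀ c ∈ bs, applyT wb Wm ts c = c) :
    ∃ w ∈ stabL φ bs, ∀ y, y < n → pt φ w y = applyT wb Wm ts y := by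
  have hgoodw : ∀ t ∈ ts, Good wb Wm n t := fun t ht => hgood t (hl t ht)
  have hinvapp : ∀ i : Fin n,
      ((((ts.map (σ wb Wm n)).prod)⁻¹ i : Fin n) : ℕ) = applyT wb Wm ts i := by
    intro i
    rw [← prod_reverse_of_invol_list _ (by
      intro g hg'
      obtain ⟨t, -, rfl⟩ := List.mem_map.mp hg'
      exact σ_mul_self wb Wm n t)]
    exact prod_reverse_apply wb Wm n ts hgoodw i
  obtain ⟨s, hs⟩ := exists_of_word wb Wm φ tabs htabs ts hl
  refine ⟨s⁻¹, ?_, ?_⟩
  · apply Subgroup.inv_mem
    intro c hc hcn'
    have h1 : ((((ts.map (σ wb Wm n)).prod)⁻¹ ⟨c, hcn'⟩ : Fin n) : ℕ) = c := by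
      rw [hinvapp ⟨c, hcn'⟩]
      exact hfix c hc
    have h2 : ((ts.map (σ wb Wm n)).prod)⁻¹ ⟨c, hcn'⟩ = ⟨c, hcn'⟩ := Fin.ext h1
    rw [hs]
    exact (Equiv.Perm.inv_eq_iff_eq).mp h2 |>.symm
  · intro y hy
    rw [pt_of_lt φ s⁻¹ y hy, map_inv, hs]
    exact hinvapp ⟨y, hy⟩

include hgood htabs in
theorem walk_sound (bs : List ℕ) (L : Lvl) (hL : LvlOK wb Wm φ tabs bs L) (fuel : ℕ) :
    ∀ (x : ℕ) (rest rest' : List ℕ), x < n → (∀ y ∈ rest, y < n) →
      walk wb Wm L.mask L.hr L.b L.hw fuel x rest = some rest' →
      ∃ v ∈ stabL φ bs, pt φ v x = L.b ∧ rest' = rest.map (pt φ v) := by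
  induction fuel with
  | zero =>
    intro x rest rest' _ _ h
    rw [walk_zero] at h
    cases hxb : Nat.beq x L.b with
    | false => rw [hxb] at h; exact absurd h (by simp)
    | true =>
      rw [hxb] at h
      simp only [cond_true, Option.some.injEq] at h
      refine ⟨1, one_mem _, ?_, ?_⟩
      · rw [pt_one]
        exact Nat.eq_of_beq_eq_true hxb
      · rw [← h]
        have e1 : pt φ (1 : G) = id := funext (pt_one φ)
        rw [e1, List.map_id]
  | succ fuel ih =>
    intro x rest rest' hx hrest h
    rw [walk_succ] at h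
    cases hxb : Nat.beq x L.b with
    | true =>
      rw [hxb] at h
      simp only [cond_true, Option.some.injEq] at h
      refine ⟨1, one_mem _, ?_, ?_⟩
      · rw [pt_one]
        exact Nat.eq_of_beq_eq_true hxb
      · rw [← h]
        have e1 : pt φ (1 : G) = id := funext (pt_one φ)
        rw [e1, List.map_id]
    | false =>
      rw [hxb] at h
      simp only [cond_false] at h
      cases hf : findDown wb Wm L.mask L.hr L.hw x (lk wb Wm L.hr x) with
      | none => rw [hf] at h; exact absurd h (by simp)
      | some ts =>
        rw [hf] at h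
        simp only at h
        have hts := findDown_mem wb Wm _ _ _ _ _ _ hf
        obtain ⟨w, hw, hwy⟩ := word_elt wb Wm φ tabs hgood htabs bs ts (hL.hletters ts hts)
          (hL.hfix ts hts)
        have hx' : applyT wb Wm ts x < n := by
          rw [← hwy x hx]
          exact pt_lt φ w x hx
        have hmap : rest.map (applyT wb Wm ts) = rest.map (pt φ w) := by
          apply List.map_congr_left
          intro y hy
          exact (hwy y (hrest y hy)).symm
        have hrest' : ∀ y ∈ rest.map (applyT wb Wm ts), y < n := by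
          rw [hmap]
          intro y hy
          obtain ⟨z, hz, rfl⟩ := List.mem_map.mp hy
          exact pt_lt φ w z (hrest z hz)
        obtain ⟨v, hv, hvx, hvr⟩ := ih _ _ _ hx' hrest' h
        refine ⟨v * w, mul_mem hv hw, ?_, ?_⟩
        · rw [pt_mul φ v w x hx, hwy x hx]
          exact hvx
        · rw [hvr, hmap, List.map_map]
          apply List.map_congr_left
          intro y hy
          exact (pt_mul φ v w y (hrest y hy)).symm

include hgood htabs in
/-- if the sift fails at a point which is not in the orbit, no element of the stabiliser maps the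
base points to the points of the list -/
theorem sift_sound (Ls : List Lvl) : ∀ (bs : List ℕ), ChainOK wb Wm φ tabs bs Ls →
    ∀ target : List ℕ, sift wb Wm Ls target = 0 → ¬ ∃ g ∈ stabL φ bs, Maps φ g Ls target := by
  induction Ls with
  | nil =>
    intro bs _ target h
    exact absurd h (by simp [sift])
  | cons L Ls ih =>
    intro bs hc target h
    cases target with
    | nil => exact absurd h (by simp [sift])
    | cons x rest =>
      rintro ⟨g, hg, hgx, hgr⟩
      obtain ⟨hL, hc'⟩ := hc
      rw [sift_cons] at h
      have hmask : tb L.mask x = true := by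
        rw [← hgx]
        exact hL.horb g hg
      rw [hmask] at h
      simp only [cond_true] at h
      have hx : x < n := by
        rw [← hgx]
        exact pt_lt φ g L.b hL.hb
      cases hwk : walk wb Wm L.mask L.hr L.b L.hw (Nat.succ (lk wb Wm L.hr x)) x rest with
      | none => rw [hwk] at h; exact absurd h (by simp)
      | some rest' =>
        rw [hwk] at h
        simp only at h
        have hrest := maps_lt wb Wm φ tabs g Ls _ hc' rest hgr
        obtain ⟨v, hv, hvx, hvr⟩ := walk_sound wb Wm φ tabs hgood htabs bs L hL _ x rest rest' hx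
          hrest hwk
        apply ih _ hc' rest' h
        refine ⟨v * g, ?_, ?_⟩
        · rw [mem_stabL_iff_pt]
          intro c hc hcn
          rcases List.mem_cons.mp hc with rfl | hc
          · rw [pt_mul φ v g _ hcn, hgx]
            exact hvx
          · have h1 := (mem_stabL_iff_pt φ bs g).mp hg c hc hcn
            have h2 := (mem_stabL_iff_pt φ bs v).mp hv c hc hcn
            rw [pt_mul φ v g c hcn, h1, h2]
        · rw [hvr]
          exact maps_mul wb Wm φ tabs g v Ls _ hc' rest hgr

end sound

end Cfsg.Agent.Lib.H17.Sift
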