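import Mathlib
import Cfsg.Agent.Lib.H27.OutM23
import Cfsg.Agent.Lib.H17.Sift

set_option autoImplicit false

/-! # An extension of the Mathieu group `M23` inside a permutation group: the quotient

A group acts on points; 23 of them, and 23 elements, carry labels in `ZMod 23`.  The elements of the
group which move the labelled points and (by conjugation) the labelled elements by one and the same
permutation of `M23` form a subgroup, and this subgroup maps to `M23`. -/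

namespace Cfsg.Agent.Lib.H17.ExtCore

open Cfsg Cfsg.Agent.Lib.H28 Cfsg.Agent.Lib.H27 Cfsg.Agent.Lib.H27.OutM
  Cfsg.Agent.Lib.H17.Sgs Cfsg.Agent.Lib.H17.Sift

variable {G : Type} [Group G] {n : ℕ} (φ : G →* Equiv.Perm (Fin n)) (β : ℕ → ℕ) (tt : ℕ → G)

/-- `g` moves the labelled points and the labelled elements as `σ` moves the labels -/
def Moves (g : G) (σ : Equiv.Perm GolayPt) : Prop :=
  σ ∈ Cfsg.Spor.M23 ∧ ∀ x : ZMod 23, pt φ g (β x.val) = β (gIdx (σ (some x))) ∧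
    g * tt x.val * g⁻¹ = tt (gIdx (σ (some x)))

theorem some_of_mem {σ : Equiv.Perm GolayPt} (h : σ ∈ Cfsg.Spor.M23) (x : ZMod 23) :
    ∃ y : ZMod 23, σ (some x) = some y := by
  have hn : σ none = none := (mem_M23.mp h).2
  cases hy : σ (some x) with
  | none => exact absurd (σ.injective (hy.trans hn.symm)) (by simp)
  | some y => exact ⟨y, rfl⟩

variable {φ β tt}

theorem Moves.one : Moves φ β tt (1 : G) 1 := by
  refine ⟨Subgroup.one_mem _, fun x => ⟨?_, ?_⟩⟩
  · rw [pt_one]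
    rfl
  · rw [inv_one, mul_one, one_mul]
    rfl

theorem Moves.mul (hβ : ∀ x < 23, β x < n) {g h : G} {σ τ : Equiv.Perm GolayPt}
    (hg : Moves φ β tt g σ) (hh : Moves φ β tt h τ) : Moves φ β tt (g * h) (σ * τ) := by
  refine ⟨Subgroup.mul_mem _ hg.1 hh.1, fun x => ?_⟩
  obtain ⟨y, hy⟩ := some_of_mem hh.1 x
  have h1 := hh.2 x
  have h2 := hg.2 y
  rw [hy] at h1
  rw [Equiv.Perm.mul_apply, hy]
  change pt φ h (β x.val) = β y.val ∧ h * tt x.val * h⁻¹ = tt y.val at h1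
  constructor
  · rw [pt_mul φ g h _ (hβ _ (ZMod.val_lt x)), h1.1, h2.1]
  · have : g * h * tt x.val * (g * h)⁻¹ = g * (h * tt x.val * h⁻¹) * g⁻¹ := by group
    rw [this, h1.2, h2.2]

theorem Moves.inv (hβ : ∀ x < 23, β x < n) {g : G} {σ : Equiv.Perm GolayPt}
    (hg : Moves φ β tt g σ) : Moves φ β tt g⁻¹ σ⁻¹ := by
  refine ⟨Subgroup.inv_mem _ hg.1, fun x => ?_⟩
  obtain ⟨y, hy⟩ := some_of_mem (Subgroup.inv_mem _ hg.1) x
  have hy' : σ (some y) = some x := by
    rw [← hy]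
    simp
  have h1 := hg.2 y
  rw [hy'] at h1
  rw [hy]
  change pt φ g (β y.val) = β x.val ∧ g * tt y.val * g⁻¹ = tt x.val at h1
  change pt φ g⁻¹ (β x.val) = β y.val ∧ g⁻¹ * tt x.val * g⁻¹⁻¹ = tt y.val
  constructor
  · rw [← h1.1, ← pt_mul φ g⁻¹ g _ (hβ _ (ZMod.val_lt y)), inv_mul_cancel, pt_one]
  · rw [← h1.2]
    group

theorem Moves.unique (hinj : ∀ x < 23, ∀ y < 23, β x = β y → x = y) {g : G}
    {σ τ : Equiv.Perm GolayPt} (hs : Moves φ β tt g σ) (ht : Moves φ β tt g τ) : σ = τ := by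
  ext p
  cases p with
  | none => rw [(mem_M23.mp hs.1).2, (mem_M23.mp ht.1).2]
  | some x =>
    obtain ⟨y, hy⟩ := some_of_mem hs.1 x
    obtain ⟨z, hz⟩ := some_of_mem ht.1 x
    have h1 := (hs.2 x).1
    have h2 := (ht.2 x).1
    rw [hy] at h1
    rw [hz] at h2
    rw [hy, hz]
    have := hinj _ (ZMod.val_lt y) _ (ZMod.val_lt z) (h1.symm.trans h2)
    rw [ZMod.val_injective 23 this]

variable (φ β tt)

/-- the elements which move the labels by a permutation of `M23` -/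
def ext (hβ : ∀ x < 23, β x < n) : Subgroup G where
  carrier := {g | ∃ σ, Moves φ β tt g σ}
  one_mem' := ⟨1, Moves.one⟩
  mul_mem' := by
    rintro a b ⟨σ, hs⟩ ⟨τ, ht⟩
    exact ⟨σ * τ, hs.mul hβ ht⟩
  inv_mem' := by
    rintro a ⟨σ, hs⟩
    exact ⟨σ⁻¹, hs.inv hβ⟩

variable {φ β tt}

theorem mem_ext (hβ : ∀ x < 23, β x < n) (g : G) : g ∈ ext φ β tt hβ ↔ ∃ σ, Moves φ β tt g σ :=
  Iff.rfl

/-- the permutation of an element -/
noncomputable def sig (hβ : ∀ x < 23, β x < n) (g : ext φ β tt hβ) : Equiv.Perm GolayPt :=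
  Classical.choose g.2

theorem sig_spec (hβ : ∀ x < 23, β x < n) (g : ext φ β tt hβ) :
    Moves φ β tt (g : G) (sig hβ g) := Classical.choose_spec g.2

/-- the map to `M23` -/
noncomputable def rho (hβ : ∀ x < 23, β x < n)
    (hinj : ∀ x < 23, ∀ y < 23, β x = β y → x = y) : ext φ β tt hβ →* ↥Cfsg.Spor.M23 :=
  MonoidHom.mk' (fun g => ⟨sig hβ g, (sig_spec hβ g).1⟩) (by
    intro a b
    apply Subtype.ext
    change sig hβ (a * b) = sig hβ a * sig hβ b
    exact Moves.unique hinj (sig_spec hβ (a * b)) ((sig_spec hβ a).mul hβ (sig_spec hβ b)))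

theorem rho_apply (hβ : ∀ x < 23, β x < n) (hinj : ∀ x < 23, ∀ y < 23, β x = β y → x = y)
    (g : ext φ β tt hβ) : ((rho hβ hinj g : ↥Cfsg.Spor.M23) : Equiv.Perm GolayPt) = sig hβ g := rfl

theorem rho_eq_of_moves (hβ : ∀ x < 23, β x < n) (hinj : ∀ x < 23, ∀ y < 23, β x = β y → x = y)
    (g : ext φ β tt hβ) {σ : Equiv.Perm GolayPt} (h : Moves φ β tt (g : G) σ) :
    ((rho hβ hinj g : ↥Cfsg.Spor.M23) : Equiv.Perm GolayPt) = σ :=
  Moves.unique hinj (sig_spec hβ g) h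

/-- the three generators of `M23` are reached, so every element is -/
theorem rho_surjective (hβ : ∀ x < 23, β x < n) (hinj : ∀ x < 23, ∀ y < 23, β x = β y → x = y)
    (hs : ∃ g, Moves φ β tt g (wordPerm sw)) (hd : ∃ g, Moves φ β tt g (wordPerm dw))
    (hu : ∃ g, Moves φ β tt g (wordPerm uw)) : Function.Surjective (rho (φ := φ) (tt := tt) hβ hinj) := by
  have key : ∀ τ ∈ K23, ∃ g, Moves φ β tt g τ := by
    intro τ hτ
    unfold K23 at hτ
    induction hτ using Subgroup.closure_induction with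
    | mem x hx =>
      rcases hx with rfl | rfl | rfl
      · exact hs
      · exact hd
      · exact hu
    | one => exact ⟨1, Moves.one⟩
    | mul a b _ _ iha ihb =>
      obtain ⟨g, hg⟩ := iha
      obtain ⟨h, hh⟩ := ihb
      exact ⟨g * h, hg.mul hβ hh⟩
    | inv a _ iha =>
      obtain ⟨g, hg⟩ := iha
      exact ⟨g⁻¹, hg.inv hβ⟩
  rintro ⟨τ, hτ⟩
  rw [← K23_eq] at hτ
  obtain ⟨g, hg⟩ := key τ hτ
  refine ⟨⟨g, τ, hg⟩, ?_⟩
  apply Subtype.ext
  exact rho_eq_of_moves hβ hinj _ hg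

end Cfsg.Agent.Lib.H17.ExtCore
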