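import Cfsg.Agent.Lib.H17.ExtCoreA

set_option autoImplicit false

/-! # An extension of the Mathieu group `M23` inside a permutation group: the kernel -/

namespace Cfsg.Agent.Lib.H17.ExtCore

open Cfsg Cfsg.Agent.Lib.H28 Cfsg.Agent.Lib.H27 Cfsg.Agent.Lib.H27.OutM
  Cfsg.Agent.Lib.H17.Sgs Cfsg.Agent.Lib.H17.Sift

variable {G : Type} [Group G] {n : ℕ} {φ : G →* Equiv.Perm (Fin n)} {β : ℕ → ℕ} {tt : ℕ → G}
  (hβ : ∀ x < 23, β x < n) (hinj : ∀ x < 23, ∀ y < 23, β x = β y → x = y) (E0 : Subgroup G)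

theorem le_ext (hE0 : ∀ a ∈ E0, Moves φ β tt a 1) : E0 ≤ ext φ β tt hβ :=
  fun a ha => ⟨1, hE0 a ha⟩

/-- the kernel as a subgroup of the extension -/
def ker0 : Subgroup (ext φ β tt hβ) := E0.subgroupOf (ext φ β tt hβ)

theorem mem_ker0 (g : ext φ β tt hβ) : g ∈ ker0 hβ E0 ↔ (g : G) ∈ E0 := Subgroup.mem_subgroupOf

theorem fix_of_moves_one {g : G} (h : Moves φ β tt g 1) : ∀ x < 23, pt φ g (β x) = β x := by
  intro x hx
  have := (h.2 (x : ZMod 23)).1
  rw [ZMod.val_natCast_of_lt hx] at this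
  rw [this]
  change β (ZMod.val ((x : ℕ) : ZMod 23)) = β x
  rw [ZMod.val_natCast_of_lt hx]

theorem ker_rho (hE0 : ∀ a ∈ E0, Moves φ β tt a 1)
    (hstab : ∀ g : G, (∀ x < 23, pt φ g (β x) = β x) → g ∈ E0) :
    (rho (φ := φ) (tt := tt) hβ hinj).ker = ker0 hβ E0 := by
  ext g
  rw [MonoidHom.mem_ker, mem_ker0]
  constructor
  · intro h
    have h1 : sig hβ g = 1 := by
      have := congrArg Subtype.val h
      exact this
    have h2 := sig_spec hβ g
    rw [h1] at h2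
    exact hstab _ (fix_of_moves_one h2)
  · intro h
    apply Subtype.ext
    exact rho_eq_of_moves hβ hinj g (hE0 _ h)

include hinj in
theorem ker0_normal (hE0 : ∀ a ∈ E0, Moves φ β tt a 1)
    (hstab : ∀ g : G, (∀ x < 23, pt φ g (β x) = β x) → g ∈ E0) : (ker0 (φ := φ) (tt := tt) hβ E0).Normal := by
  rw [← ker_rho hβ hinj E0 hE0 hstab]
  exact MonoidHom.normal_ker _

/-- the quotient is `M23` -/
noncomputable def quotEquiv (hE0 : ∀ a ∈ E0, Moves φ β tt a 1)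
    (hstab : ∀ g : G, (∀ x < 23, pt φ g (β x) = β x) → g ∈ E0)
    (hsurj : Function.Surjective (rho (φ := φ) (tt := tt) hβ hinj)) :
    letI := ker0_normal hβ hinj E0 hE0 hstab
    (ext φ β tt hβ ⧸ ker0 (φ := φ) (tt := tt) hβ E0) ≃* ↥Cfsg.Spor.M23 :=
  letI := ker0_normal hβ hinj E0 hE0 hstab
  (QuotientGroup.quotientMulEquivOfEq (ker_rho hβ hinj E0 hE0 hstab).symm).trans
    (QuotientGroup.quotientKerEquivOfSurjective _ hsurj)

theorem quotEquiv_mk (hE0 : ∀ a ∈ E0, Moves φ β tt a 1)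
    (hstab : ∀ g : G, (∀ x < 23, pt φ g (β x) = β x) → g ∈ E0)
    (hsurj : Function.Surjective (rho (φ := φ) (tt := tt) hβ hinj)) (g : ext φ β tt hβ) :
    letI := ker0_normal hβ hinj E0 hE0 hstab
    quotEquiv hβ hinj E0 hE0 hstab hsurj (QuotientGroup.mk g) = rho hβ hinj g := rfl

end Cfsg.Agent.Lib.H17.ExtCore
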