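import Cfsg.Agent.Lib.H17.ExtCoreB

set_option autoImplicit false

/-! # An extension of the Mathieu group `M23` inside a permutation group: the map from the words -/

namespace Cfsg.Agent.Lib.H17.ExtCore

open Cfsg Cfsg.Agent.Lib.H28 Cfsg.Agent.Lib.H27 Cfsg.Agent.Lib.H27.OutM
  Cfsg.Agent.Lib.H17.Sgs Cfsg.Agent.Lib.H17.Sift

variable {G : Type} [Group G] (E0 : Subgroup G) (tt : ℕ → G)

/-- an abelian subgroup as a commutative group -/
@[reducible] def commGroupOf (hcomm : ∀ a ∈ E0, ∀ b ∈ E0, a * b = b * a) : CommGroup ↥E0 :=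
  { (inferInstance : Group ↥E0) with mul_comm := fun a b => Subtype.ext (hcomm a a.2 b b.2) }

/-- the labelled elements in the subgroup -/
def tE (htt : ∀ x : ZMod 23, tt x.val ∈ E0) (x : ZMod 23) : ↥E0 := ⟨tt x.val, htt x⟩

/-- the product of the labelled elements chosen by a word -/
noncomputable def theta0 (hcomm : ∀ a ∈ E0, ∀ b ∈ E0, a * b = b * a)
    (htt : ∀ x : ZMod 23, tt x.val ∈ E0) (w : GolayPt → ZMod 2) : ↥E0 :=
  letI := commGroupOf E0 hcomm
  ∏ x : ZMod 23, tE E0 tt htt x ^ (w (some x)).val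

variable {E0 tt}

theorem pow_val_add {H : Type*} [Group H] (a : H) (ha : a ^ 2 = 1) (u v : ZMod 2) :
    a ^ (u + v).val = a ^ u.val * a ^ v.val := by
  have hu := ZMod.val_lt u
  have hv := ZMod.val_lt v
  rw [ZMod.val_add]
  generalize u.val = p at *
  generalize v.val = q at *
  interval_cases p <;> interval_cases q
  · simp
  · simp
  · simp
  · rw [← pow_add, ha]
    norm_num

theorem theta0_add (hcomm : ∀ a ∈ E0, ∀ b ∈ E0, a * b = b * a)
    (hsq : ∀ a ∈ E0, a ^ 2 = 1)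
    (htt : ∀ x : ZMod 23, tt x.val ∈ E0) (w w' : GolayPt → ZMod 2) :
    theta0 E0 tt hcomm htt (w + w') = theta0 E0 tt hcomm htt w * theta0 E0 tt hcomm htt w' := by
  let _ := commGroupOf E0 hcomm
  change (∏ x : ZMod 23, tE E0 tt htt x ^ ((w + w') (some x)).val) =
    (∏ x : ZMod 23, tE E0 tt htt x ^ (w (some x)).val) * ∏ x : ZMod 23, tE E0 tt htt x ^ (w' (some x)).val
  rw [← Finset.prod_mul_distrib]
  apply Finset.prod_congr rfl
  intro x _
  rw [Pi.add_apply]
  apply pow_val_add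
  apply Subtype.ext
  exact hsq _ (htt x)

theorem theta0_zero (hcomm : ∀ a ∈ E0, ∀ b ∈ E0, a * b = b * a)
    (htt : ∀ x : ZMod 23, tt x.val ∈ E0) : theta0 E0 tt hcomm htt 0 = 1 := by
  let _ := commGroupOf E0 hcomm
  change (∏ x : ZMod 23, tE E0 tt htt x ^ ((0 : GolayPt → ZMod 2) (some x)).val) = 1
  simp

theorem theta0_single (hcomm : ∀ a ∈ E0, ∀ b ∈ E0, a * b = b * a)
    (htt : ∀ x : ZMod 23, tt x.val ∈ E0) (y : ZMod 23) :
    theta0 E0 tt hcomm htt (Pi.single (some y) 1) = tE E0 tt htt y := by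
  let _ := commGroupOf E0 hcomm
  change (∏ x : ZMod 23, tE E0 tt htt x ^ ((Pi.single (some y) 1 : GolayPt → ZMod 2) (some x)).val) = _
  have h1 : (1 : ZMod 2).val = 1 := rfl
  rw [Finset.prod_eq_single y]
  · simp [h1]
  · intro b _ hb
    have : (Pi.single (some y) 1 : GolayPt → ZMod 2) (some b) = 0 := by
      rw [Pi.single_apply, if_neg]
      intro h
      exact hb (Option.some.inj h)
    rw [this]
    simp
  · intro h
    exact absurd (Finset.mem_univ y) h

theorem theta0_single_none (hcomm : ∀ a ∈ E0, ∀ b ∈ E0, a * b = b * a)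
    (htt : ∀ x : ZMod 23, tt x.val ∈ E0) :
    theta0 E0 tt hcomm htt (Pi.single none 1) = 1 := by
  let _ := commGroupOf E0 hcomm
  change (∏ x : ZMod 23, tE E0 tt htt x ^ ((Pi.single none 1 : GolayPt → ZMod 2) (some x)).val) = 1
  apply Finset.prod_eq_one
  intro x _
  have : (Pi.single none 1 : GolayPt → ZMod 2) (some x) = 0 := by
    rw [Pi.single_apply, if_neg]
    simp
  rw [this]
  simp

/-- conjugation by an element which permutes the labelled elements -/
theorem theta0_conj (hcomm : ∀ a ∈ E0, ∀ b ∈ E0, a * b = b * a)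
    (htt : ∀ x : ZMod 23, tt x.val ∈ E0) (g : G) (hg : ∀ a ∈ E0, g * a * g⁻¹ ∈ E0)
    (σ : Equiv.Perm GolayPt) (hσ : σ ∈ Cfsg.Spor.M23)
    (hconj : ∀ x : ZMod 23, g * tt x.val * g⁻¹ = tt (gIdx (σ (some x)))) (w : GolayPt → ZMod 2) :
    ((theta0 E0 tt hcomm htt (w ∘ ⇑σ⁻¹) : ↥E0) : G) = g * (theta0 E0 tt hcomm htt w : ↥E0) * g⁻¹ := by
  let _ := commGroupOf E0 hcomm
  -- conjugation as an endomorphism of the subgroup
  let c : ↥E0 →* ↥E0 :=
    { toFun := fun a => ⟨g * a * g⁻¹, hg a a.2⟩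
      map_one' := by apply Subtype.ext; simp
      map_mul' := by intro a b; apply Subtype.ext; simp }
  have hc : ∀ a : ↥E0, ((c a : ↥E0) : G) = g * a * g⁻¹ := fun _ => rfl
  rw [← hc]
  congr 1
  change (∏ x : ZMod 23, tE E0 tt htt x ^ ((w ∘ ⇑σ⁻¹) (some x)).val) =
    c (∏ x : ZMod 23, tE E0 tt htt x ^ (w (some x)).val)
  rw [map_prod]
  -- the permutation of the labels
  have hsome : ∀ x : ZMod 23, ∃ y : ZMod 23, σ (some x) = some y := some_of_mem hσ
  let τ : Equiv.Perm (ZMod 23) := Equiv.removeNone σ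
  have hτ : ∀ x : ZMod 23, some (τ x) = σ (some x) := fun x => Equiv.removeNone_some σ (hsome x)
  rw [← Equiv.prod_comp τ]
  apply Finset.prod_congr rfl
  intro x _
  have h1 : (w ∘ ⇑σ⁻¹) (some (τ x)) = w (some x) := by
    rw [Function.comp_apply, hτ]
    simp
  rw [h1, map_pow]
  congr 1
  apply Subtype.ext
  rw [hc]
  change tt (τ x).val = g * tt x.val * g⁻¹
  rw [hconj x, ← hτ]
  rfl

end Cfsg.Agent.Lib.H17.ExtCore
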