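import Cfsg.Agent.Lib.H17.Pc2

set_option autoImplicit false

/-! # Normal elementary abelian subgroups of a 2-group given by a polycyclic sequence

The group `T0` is generated by a polycyclic sequence `L1 ++ L2` with factors of order two, the
later part `L2` generating an elementary abelian normal subgroup `E0`.  If no element outside
`E0 ∪ a0 E0` lies in a normal elementary abelian subgroup, and the centraliser of `a0` in `E0` is
small, then `E0` is the largest normal elementary abelian subgroup, and the only one of its order. -/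

namespace Cfsg.Agent.Lib.H17.SylEA

open Cfsg.Agent.Lib.H17.Pc2

variable {G : Type*} [Group G]

theorem closure_list_append_le (L1 L2 : List G) :
    Subgroup.closure {x | x ∈ L2} ≤ Subgroup.closure {x | x ∈ L1 ++ L2} :=
  Subgroup.closure_mono fun x hx => List.mem_append_right _ hx

theorem nf2_append_zero (L1 L2 : List G) (u : ℕ) :
    nf2 (L1 ++ L2) (2 ^ L1.length * u) = nf2 L2 u := by
  have := nf2_append L1 L2 0 u (by positivity)
  rw [zero_add, nf2_zero, one_mul] at this
  exact this

theorem split (l1 e : ℕ) : e = e % 2 ^ l1 + 2 ^ l1 * (e / 2 ^ l1) := (Nat.mod_add_div e (2 ^ l1)).symm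

theorem div_lt (l1 l2 e : ℕ) (h : e < 2 ^ (l1 + l2)) : e / 2 ^ l1 < 2 ^ l2 := by
  rw [Nat.div_lt_iff_lt_mul (by positivity), mul_comm, ← pow_add]
  exact h

/-- the subgroup is the set of normal forms -/
theorem coe_eq_image (L : List G) (h : PcOK2 L) :
    ((Subgroup.closure {x | x ∈ L} : Subgroup G) : Set G) = nf2 L '' (Finset.range (2 ^ L.length) : Set ℕ) := by
  ext x
  constructor
  · intro hx
    obtain ⟨e, he, rfl⟩ := mem_nf2 L h x hx
    exact ⟨e, by simpa using he, rfl⟩
  · rintro ⟨e, _, rfl⟩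
    exact nf2_mem L e

theorem card_closure (L : List G) (h : PcOK2 L)
    (hinj : ∀ e < 2 ^ L.length, ∀ e' < 2 ^ L.length, nf2 L e = nf2 L e' → e = e') :
    Nat.card (Subgroup.closure {x | x ∈ L}) = 2 ^ L.length := by
  have h1 : Nat.card (Subgroup.closure {x | x ∈ L}) =
      Set.ncard ((Subgroup.closure {x | x ∈ L} : Subgroup G) : Set G) := by
    rw [← Nat.card_coe_set_eq]
    rfl
  rw [h1, coe_eq_image L h, Set.ncard_image_of_injOn, Set.ncard_coe_finset, Finset.card_range]
  intro e he e' he' hee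
  exact hinj e (by simpa using he) e' (by simpa using he') hee

/-- conjugation by a generator maps the subgroup onto itself -/
theorem conj_mem_iff_of_finite [Finite G] (E : Subgroup G) (s : G) (h : ∀ x ∈ E, s * x * s⁻¹ ∈ E) :
    ∀ x, s⁻¹ * x * s ∈ E ↔ x ∈ E := by
  have hinj : Function.Injective (fun x : E => (⟨s * x * s⁻¹, h x x.2⟩ : E)) := by
    intro x y hxy
    have := congrArg Subtype.val hxy
    simp only at this
    exact Subtype.ext (by simpa using this)
  have hsurj := Finite.surjective_of_injective hinj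
  intro x
  constructor
  · intro hx
    have := h _ hx
    have e : s * (s⁻¹ * x * s) * s⁻¹ = x := by group
    rwa [e] at this
  · intro hx
    obtain ⟨y, hy⟩ := hsurj ⟨x, hx⟩
    have := congrArg Subtype.val hy
    simp only at this
    rw [← this]
    have e : s⁻¹ * (s * ↑y * s⁻¹) * s = y := by group
    rw [e]
    exact y.2

open Classical in
theorem main [Finite G] (L1 L2 : List G) (z c : ℕ)
    (hpc : PcOK2 (L1 ++ L2))
    (hsq2 : ∀ x ∈ L2, x ^ 2 = 1) (hcomm2 : ∀ x ∈ L2, ∀ y ∈ L2, x * y = y * x)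
    (hnormE : ∀ s ∈ L1, ∀ t ∈ L2, s * t * s⁻¹ ∈ Subgroup.closure {x | x ∈ L2})
    (hinj : ∀ e < 2 ^ (L1 ++ L2).length, ∀ e' < 2 ^ (L1 ++ L2).length,
      nf2 (L1 ++ L2) e = nf2 (L1 ++ L2) e' → e = e')
    (hexcl : ∀ A : Subgroup G, A ≤ Subgroup.closure {x | x ∈ L1 ++ L2} →
      (∀ t ∈ Subgroup.closure {x | x ∈ L1 ++ L2}, ∀ x ∈ A, t * x * t⁻¹ ∈ A) →
      (∀ x ∈ A, ∀ y ∈ A, x * y = y * x) → (∀ x ∈ A, x ^ 2 = 1) →
      ∀ e1 < 2 ^ L1.length, e1 ≠ 0 → e1 ≠ z → ∀ u < 2 ^ L2.length,
        nf2 (L1 ++ L2) (e1 + 2 ^ L1.length * u) ∉ A)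
    (fix : ℕ → Bool)
    (hfixcount : ((Finset.range (2 ^ L2.length)).filter (fun u => fix u = true)).card ≤ c)
    (hc : 2 * c < 2 ^ L2.length)
    (hfix : ∀ u < 2 ^ L2.length, fix u = false →
      nf2 L1 z * nf2 L2 u ≠ nf2 L2 u * nf2 L1 z) :
    Nat.card (Subgroup.closure {x | x ∈ L1 ++ L2}) = 2 ^ (L1.length + L2.length) ∧
    Nat.card (Subgroup.closure {x | x ∈ L2}) = 2 ^ L2.length ∧
    Subgroup.closure {x | x ∈ L2} ≤ Subgroup.closure {x | x ∈ L1 ++ L2} ∧
    (∀ t ∈ Subgroup.closure {x | x ∈ L1 ++ L2}, ∀ x ∈ Subgroup.closure {x | x ∈ L2},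
      t * x * t⁻¹ ∈ Subgroup.closure {x | x ∈ L2}) ∧
    (∀ x ∈ Subgroup.closure {x | x ∈ L2}, ∀ y ∈ Subgroup.closure {x | x ∈ L2}, x * y = y * x) ∧
    (∀ x ∈ Subgroup.closure {x | x ∈ L2}, x ^ 2 = 1) ∧
    ∀ A : Subgroup G, A ≤ Subgroup.closure {x | x ∈ L1 ++ L2} →
      (∀ t ∈ Subgroup.closure {x | x ∈ L1 ++ L2}, ∀ x ∈ A, t * x * t⁻¹ ∈ A) →
      (∀ x ∈ A, ∀ y ∈ A, x * y = y * x) → (∀ x ∈ A, x ^ 2 = 1) →
      Nat.card A ≤ 2 ^ L2.length ∧ (Nat.card A = 2 ^ L2.length → A = Subgroup.closure {x | x ∈ L2}) := by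
  set T0 := Subgroup.closure {x | x ∈ L1 ++ L2} with hT0
  set E0 := Subgroup.closure {x | x ∈ L2} with hE0
  have hpc2 : PcOK2 L2 := by
    have := hpc.drop L1.length
    rwa [List.drop_left] at this
  have hlen : (L1 ++ L2).length = L1.length + L2.length := List.length_append
  have hinj2 : ∀ u < 2 ^ L2.length, ∀ u' < 2 ^ L2.length, nf2 L2 u = nf2 L2 u' → u = u' := by
    intro u hu u' hu' h
    have h1 : 2 ^ L1.length * u < 2 ^ (L1 ++ L2).length := by
      rw [hlen, pow_add]
      exact Nat.mul_lt_mul_of_pos_left hu (by positivity)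
    have h2 : 2 ^ L1.length * u' < 2 ^ (L1 ++ L2).length := by
      rw [hlen, pow_add]
      exact Nat.mul_lt_mul_of_pos_left hu' (by positivity)
    have := hinj _ h1 _ h2 (by rw [nf2_append_zero, nf2_append_zero, h])
    exact Nat.eq_of_mul_eq_mul_left (by positivity) this
  have hcardT : Nat.card T0 = 2 ^ (L1.length + L2.length) := by
    rw [← hlen]
    exact card_closure _ hpc hinj
  have hcardE : Nat.card E0 = 2 ^ L2.length := card_closure _ hpc2 hinj2
  have hle : E0 ≤ T0 := closure_list_append_le L1 L2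
  -- E0 is abelian of exponent two
  have hcommE : ∀ x ∈ E0, ∀ y ∈ E0, x * y = y * x := by
    intro x hx y hy
    induction hx, hy using Subgroup.closure_induction₂ with
    | mem a b ha hb => exact hcomm2 a ha b hb
    | one_left a _ => simp
    | one_right a _ => simp
    | mul_left a b c _ _ _ h1 h2 => rw [mul_assoc, h2, ← mul_assoc, h1, mul_assoc]
    | mul_right b c a _ _ _ h1 h2 => rw [← mul_assoc, h1, mul_assoc, h2, ← mul_assoc]
    | inv_left a b _ _ h =>
      have : a⁻¹ * b = a⁻¹ * (b * a) * a⁻¹ := by group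
      rw [this, ← h]
      group
    | inv_right a b _ _ h =>
      have : a * b⁻¹ = b⁻¹ * (b * a) * b⁻¹ := by group
      rw [this, ← h]
      group
  have hsqE : ∀ x ∈ E0, x ^ 2 = 1 := by
    intro x hx
    induction hx using Subgroup.closure_induction with
    | mem t ht => exact hsq2 t ht
    | one => simp
    | mul a b ha hb iha ihb =>
      rw [pow_two, mul_assoc, ← mul_assoc b, ← hcommE a ha b hb, mul_assoc, ← pow_two b, ihb, mul_one,
        ← pow_two, iha]
    | inv a _ iha => rw [inv_pow, iha, inv_one]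
  -- E0 is normal in T0
  have hnormGen : ∀ s ∈ L1 ++ L2, ∀ x ∈ E0, s * x * s⁻¹ ∈ E0 := by
    intro s hs
    apply conj_mem E0 s {x | x ∈ L2} rfl
    intro t ht
    rcases List.mem_append.mp hs with hs1 | hs2
    · exact hnormE s hs1 t ht
    · exact E0.mul_mem (E0.mul_mem (Subgroup.subset_closure hs2) (Subgroup.subset_closure ht))
        (E0.inv_mem (Subgroup.subset_closure hs2))
  have hnorm : ∀ t ∈ T0, ∀ x ∈ E0, t * x * t⁻¹ ∈ E0 := by
    intro t ht
    induction ht using Subgroup.closure_induction with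
    | mem s hs => exact hnormGen s hs
    | one => intro x hx; simpa using hx
    | mul a b _ _ iha ihb =>
      intro x hx
      have : a * b * x * (a * b)⁻¹ = a * (b * x * b⁻¹) * a⁻¹ := by group
      rw [this]
      exact iha _ (ihb x hx)
    | inv a _ iha =>
      intro x hx
      have := (conj_mem_iff_of_finite E0 a iha x).mpr hx
      simpa using this
  refine ⟨hcardT, hcardE, hle, hnorm, hcommE, hsqE, ?_⟩
  intro A hAT hAn hAc hAs
  have hex := hexcl A hAT hAn hAc hAs
  set a0 := nf2 L1 z with ha0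
  -- the shape of the elements of A
  have hshape : ∀ x ∈ A, x ∈ E0 ∨ ∃ y ∈ E0, x = a0 * y := by
    intro x hx
    obtain ⟨e, he, rfl⟩ := mem_nf2 _ hpc x (hAT hx)
    rw [hlen] at he
    have hu := div_lt L1.length L2.length e he
    have h1 : e % 2 ^ L1.length < 2 ^ L1.length := Nat.mod_lt _ (by positivity)
    have hsp := split L1.length e
    have hnf : nf2 (L1 ++ L2) e = nf2 L1 (e % 2 ^ L1.length) * nf2 L2 (e / 2 ^ L1.length) := by
      conv_lhs => rw [hsp]
      exact nf2_append L1 L2 _ _ h1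
    by_cases h0 : e % 2 ^ L1.length = 0
    · left
      rw [hnf, h0, nf2_zero, one_mul]
      exact nf2_mem L2 _
    · by_cases hz : e % 2 ^ L1.length = z
      · right
        exact ⟨nf2 L2 (e / 2 ^ L1.length), nf2_mem L2 _, by rw [hnf, hz]⟩
      · exfalso
        apply hex _ h1 h0 hz _ hu
        rw [← hsp]
        exact hx
  by_cases hAE : A ≤ E0
  · constructor
    · rw [← hcardE]
      exact Subgroup.card_le_of_le hAE
    · intro hc'
      exact Subgroup.eq_of_le_of_card_ge hAE (by rw [hcardE, hc'])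
  · have : ∃ a ∈ A, a ∉ E0 := by
      by_contra hcon
      push Not at hcon
      exact hAE hcon
    obtain ⟨a, haA, haE⟩ := this
    obtain ⟨y0, hy0, rfl⟩ := (hshape a haA).resolve_left haE
    -- the fixed vectors
    let F : Finset G := ((Finset.range (2 ^ L2.length)).filter (fun u => fix u = true)).image (nf2 L2)
    have hFc : F.card ≤ c := le_trans Finset.card_image_le (by convert hfixcount)
    have hAF : ∀ y ∈ A, y ∈ E0 → y ∈ F := by
      intro y hyA hyE
      obtain ⟨u, hu, rfl⟩ := mem_nf2 _ hpc2 y hyE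
      have h1 := hAc _ hyA _ haA
      have h2 := hcommE _ hyE _ hy0
      have h3 : a0 * nf2 L2 u = nf2 L2 u * a0 := by
        have : nf2 L2 u * a0 * y0 = a0 * nf2 L2 u * y0 := by
          rw [mul_assoc, h1, mul_assoc, mul_assoc, h2]
        exact (mul_right_cancel this).symm
      cases hf : fix u with
      | false => exact absurd h3 (hfix u hu hf)
      | true =>
        refine Finset.mem_image.mpr ⟨u, ?_, rfl⟩
        rw [Finset.mem_filter, Finset.mem_range]
        exact ⟨hu, hf⟩
    have hsub : (A : Set G) ⊆ (F ∪ F.image (fun y => a0 * y0 * y) : Finset G) := by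
      intro x hx
      rw [Finset.coe_union, Set.mem_union]
      rcases hshape x hx with hxE | ⟨y1, hy1, rfl⟩
      · left
        exact hAF x hx hxE
      · right
        have hmem : (a0 * y0)⁻¹ * (a0 * y1) ∈ A := A.mul_mem (A.inv_mem haA) hx
        have heq : (a0 * y0)⁻¹ * (a0 * y1) = y0⁻¹ * y1 := by group
        have hE : y0⁻¹ * y1 ∈ E0 := E0.mul_mem (E0.inv_mem hy0) hy1
        rw [heq] at hmem
        have := hAF _ hmem hE
        rw [Finset.coe_image]
        exact ⟨y0⁻¹ * y1, this, by group⟩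
    have hcardA : Nat.card A ≤ 2 * c := by
      have h1 : Nat.card A = Set.ncard (A : Set G) := by
        rw [← Nat.card_coe_set_eq]
        rfl
      rw [h1]
      calc Set.ncard (A : Set G) ≤ Set.ncard ((F ∪ F.image (fun y => a0 * y0 * y) : Finset G) : Set G) :=
            Set.ncard_le_ncard hsub (Finset.finite_toSet _)
        _ = (F ∪ F.image (fun y => a0 * y0 * y)).card := Set.ncard_coe_finset _
        _ ≤ F.card + (F.image (fun y => a0 * y0 * y)).card := Finset.card_union_le _ _
        _ ≤ c + c := Nat.add_le_add hFc (le_trans Finset.card_image_le hFc)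
        _ = 2 * c := by ring
    constructor
    · omega
    · intro h
      omega

/-! ## The polycyclic relations from their parts -/

theorem pcOK2_comm (L2 : List G) (hsq2 : ∀ x ∈ L2, x ^ 2 = 1)
    (hcomm2 : ∀ x ∈ L2, ∀ y ∈ L2, x * y = y * x) : PcOK2 L2 := by
  induction L2 with
  | nil => trivial
  | cons s L ih =>
    refine ⟨?_, ?_, ?_⟩
    · intro t ht
      have := hcomm2 s (List.mem_cons_self ..) t (List.mem_cons_of_mem _ ht)
      have e : s * t * s⁻¹ = t := by rw [this]; group
      rw [e]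
      exact Subgroup.subset_closure ht
    · rw [hsq2 s (List.mem_cons_self ..)]
      exact Subgroup.one_mem _
    · exact ih (fun x hx => hsq2 x (List.mem_cons_of_mem _ hx))
        (fun x hx y hy => hcomm2 x (List.mem_cons_of_mem _ hx) y (List.mem_cons_of_mem _ hy))

theorem pcOK2_of_parts (L1 L2 : List G)
    (h1 : ∀ i j, i < j → j < L1.length →
      ∃ e, L1.getD i 1 * L1.getD j 1 = nf2 (L1.drop (i + 1) ++ L2) e * L1.getD i 1)
    (h1s : ∀ i, i < L1.length → ∃ e, L1.getD i 1 ^ 2 = nf2 (L1.drop (i + 1) ++ L2) e)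
    (hn : ∀ s ∈ L1, ∀ t ∈ L2, s * t * s⁻¹ ∈ Subgroup.closure {x | x ∈ L2})
    (hsq2 : ∀ x ∈ L2, x ^ 2 = 1) (hcomm2 : ∀ x ∈ L2, ∀ y ∈ L2, x * y = y * x) :
    PcOK2 (L1 ++ L2) := by
  induction L1 with
  | nil => exact pcOK2_comm L2 hsq2 hcomm2
  | cons s L ih =>
    refine ⟨?_, ?_, ?_⟩
    · intro t ht
      rcases List.mem_append.mp ht with ht1 | ht2
      · obtain ⟨j, hj, rfl⟩ := List.getElem_of_mem ht1
        obtain ⟨e, he⟩ := h1 0 (j + 1) (by omega) (by simpa using hj)
        have he' : s * L[j] = nf2 (L ++ L2) e * s := by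
          simpa [List.getD_eq_getElem?_getD, hj] using he
        have : s * L[j] * s⁻¹ = nf2 (L ++ L2) e := by rw [he']; group
        rw [this]
        exact nf2_mem _ e
      · exact closure_list_append_le L L2 (hn s (List.mem_cons_self ..) t ht2)
    · obtain ⟨e, he⟩ := h1s 0 (by simp)
      have he' : s ^ 2 = nf2 (L ++ L2) e := by simpa using he
      rw [he']
      exact nf2_mem _ e
    · apply ih
      · intro i j hij hj
        obtain ⟨e, he⟩ := h1 (i + 1) (j + 1) (by omega) (by simpa using hj)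
        exact ⟨e, by simpa using he⟩
      · intro i hi
        obtain ⟨e, he⟩ := h1s (i + 1) (by simpa using hi)
        exact ⟨e, by simpa using he⟩
      · intro s' hs' t ht
        exact hn s' (List.mem_cons_of_mem _ hs') t ht

end Cfsg.Agent.Lib.H17.SylEA
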