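import Cfsg.Agent.Lib.H17.ExtCoreC
import Cfsg.Agent.Lib.H17.SylEA

set_option autoImplicit false

/-! # An extension of the Mathieu group `M23` inside a permutation group: the kernel of the map
from the words

The labelled elements are products of commuting involutions, chosen by binary digits.  The product
chosen by a word has the digits which are the sum (without carry) of the digits of its factors.
If these vanish on the generating words of the Golay code, the kernel of the map from the words is
the code together with its translate by a word of weight one, by counting. -/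

namespace Cfsg.Agent.Lib.H17.ExtCore

open Cfsg Cfsg.Agent.Lib.H28 Cfsg.Agent.Lib.H17.Pc2

variable {G : Type} [Group G]

/-- commuting involutions: the digits of a product are the sums of the digits without carry -/
theorem nf2_mul_xor (L : List G) (hsq : ∀ x ∈ L, x ^ 2 = 1)
    (hcomm : ∀ x ∈ L, ∀ y ∈ L, x * y = y * x) (u v : ℕ) :
    nf2 L u * nf2 L v = nf2 L (u ^^^ v) := by
  induction L generalizing u v with
  | nil => simp [nf2]
  | cons s L ih =>
    rw [nf2_cons, nf2_cons, nf2_cons]
    have hs : ∀ t ∈ L, s * t = t * s := fun t ht =>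
      hcomm s (List.mem_cons_self ..) t (List.mem_cons_of_mem _ ht)
    have h1 : (u ^^^ v) % 2 = (u % 2 + v % 2) % 2 := by
      rw [Nat.xor_mod_two_eq]
      omega
    have h2 : (u ^^^ v) / 2 = u / 2 ^^^ v / 2 := Nat.xor_div_two
    rw [h1, h2, ← ih (fun x hx => hsq x (List.mem_cons_of_mem _ hx))
      (fun x hx y hy => hcomm x (List.mem_cons_of_mem _ hx) y (List.mem_cons_of_mem _ hy))]
    have hc : nf2 L (u / 2) * s ^ (v % 2) = s ^ (v % 2) * nf2 L (u / 2) :=
      ((Commute.pow_left (nf2_comm_of_comm L s hs (u / 2)) (v % 2)).eq).symm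
    have hp : s ^ (u % 2) * s ^ (v % 2) = s ^ ((u % 2 + v % 2) % 2) := by
      have h2' := hsq s (List.mem_cons_self ..)
      have hu : u % 2 < 2 := Nat.mod_lt _ (by norm_num)
      have hv : v % 2 < 2 := Nat.mod_lt _ (by norm_num)
      generalize u % 2 = a at hu ⊢
      generalize v % 2 = b at hv ⊢
      interval_cases a <;> interval_cases b <;> simp [← pow_two, h2']
    calc s ^ (u % 2) * nf2 L (u / 2) * (s ^ (v % 2) * nf2 L (v / 2))
        = s ^ (u % 2) * (nf2 L (u / 2) * s ^ (v % 2)) * nf2 L (v / 2) := by group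
      _ = s ^ (u % 2) * s ^ (v % 2) * (nf2 L (u / 2) * nf2 L (v / 2)) := by rw [hc]; group
      _ = _ := by rw [hp]

/-- the digits of the product chosen by a word -/
def synd (cx : ℕ → ℕ) (w : GolayPt → ZMod 2) : ℕ :=
  (Finset.univ : Finset (ZMod 23)).fold (· ^^^ ·) 0
    (fun x => if w (some x) = 0 then 0 else cx x.val)

theorem zmod2_cases (a : ZMod 2) : a = 0 ∨ a = 1 := by
  revert a
  decide

section

variable (L : List G) (cx : ℕ → ℕ)

/-- the product chosen by a word, by its digits -/
theorem theta0_eq_nf2 (hsq : ∀ x ∈ L, x ^ 2 = 1) (hcomm : ∀ x ∈ L, ∀ y ∈ L, x * y = y * x)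
    (hcommE : ∀ a ∈ Subgroup.closure {x | x ∈ L}, ∀ b ∈ Subgroup.closure {x | x ∈ L}, a * b = b * a)
    (htt : ∀ x : ZMod 23, (fun k => nf2 L (cx k)) x.val ∈ Subgroup.closure {x | x ∈ L})
    (w : GolayPt → ZMod 2) :
    ((theta0 (Subgroup.closure {x | x ∈ L}) (fun k => nf2 L (cx k)) hcommE htt w :
      ↥(Subgroup.closure {x | x ∈ L})) : G) = nf2 L (synd cx w) := by
  let _ := commGroupOf (Subgroup.closure {x | x ∈ L}) hcommE
  have key : ∀ s : Finset (ZMod 23),
      ((∏ x ∈ s, tE (Subgroup.closure {x | x ∈ L}) (fun k => nf2 L (cx k)) htt x ^ (w (some x)).val :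
        ↥(Subgroup.closure {x | x ∈ L})) : G) =
      nf2 L (s.fold (· ^^^ ·) 0 (fun x => if w (some x) = 0 then 0 else cx x.val)) := by
    intro s
    induction s using Finset.induction_on with
    | empty =>
      rw [Finset.prod_empty, Finset.fold_empty, nf2_zero]
      rfl
    | insert a s ha ih =>
      rw [Finset.prod_insert ha, Finset.fold_insert ha, ← nf2_mul_xor L hsq hcomm, ← ih]
      change ((tE (Subgroup.closure {x | x ∈ L}) (fun k => nf2 L (cx k)) htt a ^ (w (some a)).val :
        ↥(Subgroup.closure {x | x ∈ L})) : G) * _ = _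
      congr 1
      rcases zmod2_cases (w (some a)) with h | h
      · rw [h, if_pos rfl, nf2_zero]
        have : (0 : ZMod 2).val = 0 := rfl
        rw [this, pow_zero]
        rfl
      · rw [h, if_neg (by decide)]
        have : (1 : ZMod 2).val = 1 := rfl
        rw [this, pow_one]
        rfl
  exact key Finset.univ

end

/-! ## The map from the words as a homomorphism -/

section

variable (E0 : Subgroup G) (tt : ℕ → G)
  (hcommE : ∀ a ∈ E0, ∀ b ∈ E0, a * b = b * a) (hsqE : ∀ a ∈ E0, a ^ 2 = 1)
  (htt : ∀ x : ZMod 23, tt x.val ∈ E0)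

/-- the map from the words -/
noncomputable def Theta : (GolayPt → ZMod 2) →+ Additive ↥E0 :=
  AddMonoidHom.mk' (fun w => Additive.ofMul (theta0 E0 tt hcommE htt w)) (fun a b => by
    change Additive.ofMul (theta0 E0 tt hcommE htt (a + b)) =
      Additive.ofMul (theta0 E0 tt hcommE htt a * theta0 E0 tt hcommE htt b)
    rw [theta0_add hcommE hsqE htt])

theorem Theta_apply (w : GolayPt → ZMod 2) :
    Theta E0 tt hcommE hsqE htt w = Additive.ofMul (theta0 E0 tt hcommE htt w) := rfl

theorem Theta_eq_zero_iff (w : GolayPt → ZMod 2) :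
    Theta E0 tt hcommE hsqE htt w = 0 ↔ theta0 E0 tt hcommE htt w = 1 := Iff.rfl

include hsqE in
theorem Theta_surjective (hE0 : ∃ T : Set G, E0 = Subgroup.closure T ∧ ∀ a ∈ T, ∃ x : ZMod 23, tt x.val = a) :
    Function.Surjective (Theta E0 tt hcommE hsqE htt) := by
  obtain ⟨T, rfl, hT⟩ := hE0
  have key : ∀ a ∈ Subgroup.closure T,
      ∃ w, ((theta0 (Subgroup.closure T) tt hcommE htt w : ↥(Subgroup.closure T)) : G) = a := by
    intro a ha
    induction ha using Subgroup.closure_induction with
    | mem a ha =>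
      obtain ⟨x, hx⟩ := hT a ha
      refine ⟨Pi.single (some x) 1, ?_⟩
      rw [theta0_single hcommE htt x]
      exact hx
    | one => exact ⟨0, by rw [theta0_zero hcommE htt]; rfl⟩
    | mul a b _ _ iha ihb =>
      obtain ⟨u, hu⟩ := iha
      obtain ⟨v, hv⟩ := ihb
      refine ⟨u + v, ?_⟩
      rw [theta0_add hcommE hsqE htt, ← hu, ← hv]
      rfl
    | inv a ha iha =>
      obtain ⟨u, hu⟩ := iha
      refine ⟨u, ?_⟩
      rw [hu]
      have h2 := hsqE a ha
      rw [pow_two] at h2
      exact (inv_eq_of_mul_eq_one_left h2).symm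
  intro a
  obtain ⟨w, hw⟩ := key (Additive.toMul a : ↥(Subgroup.closure T)) (Additive.toMul a).2
  exact ⟨w, congrArg Additive.ofMul (Subtype.ext hw)⟩

end

/-! ## The kernel, by counting -/

theorem card_words : Nat.card (GolayPt → ZMod 2) = 2 ^ 24 := by
  rw [Nat.card_fun, Nat.card_zmod, Nat.card_eq_fintype_card, Fintype.card_option, ZMod.card]

/-- a word of weight one does not lie in the code -/
theorem single_none_not_mem : (Pi.single none 1 : GolayPt → ZMod 2) ∉ golayCode := by
  intro h
  have := golayCode_orth _ h _ one_mem_golayCode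
  rw [Finset.sum_eq_single none] at this
  · simp at this
  · intro b _ hb
    rw [Pi.single_apply, if_neg hb, zero_mul]
  · intro h
    exact absurd (Finset.mem_univ _) h

/-- the code and its translate -/
def codeE : Set (GolayPt → ZMod 2) :=
  {w | w ∈ golayCode ∨ w + Pi.single none 1 ∈ golayCode}

theorem ncard_codeE : codeE.ncard = 2 ^ 13 := by
  have h1 : codeE = (golayCode : Set (GolayPt → ZMod 2)) ∪
      (fun w => w + Pi.single none 1) '' (golayCode : Set (GolayPt → ZMod 2)) := by
    ext w
    unfold codeE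
    rw [Set.mem_union, Set.mem_setOf_eq, Set.mem_image]
    constructor
    · rintro (h | h)
      · exact Or.inl h
      · refine Or.inr ⟨w + Pi.single none 1, h, ?_⟩
        rw [add_assoc, ← two_smul (ZMod 2)]
        have : (2 : ZMod 2) = 0 := rfl
        rw [this, zero_smul, add_zero]
    · rintro (h | ⟨v, hv, rfl⟩)
      · exact Or.inl h
      · right
        rw [add_assoc, ← two_smul (ZMod 2)]
        have : (2 : ZMod 2) = 0 := rfl
        rw [this, zero_smul, add_zero]
        exact hv
  have hdisj : Disjoint (golayCode : Set (GolayPt → ZMod 2))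
      ((fun w => w + Pi.single none 1) '' (golayCode : Set (GolayPt → ZMod 2))) := by
    rw [Set.disjoint_left]
    rintro w hw ⟨v, hv, rfl⟩
    apply single_none_not_mem
    have := golayCode.sub_mem hw hv
    simpa using this
  have hc : (golayCode : Set (GolayPt → ZMod 2)).ncard = 4096 := by
    rw [← golayCode_natCard, ← Nat.card_coe_set_eq]
    rfl
  rw [h1, Set.ncard_union_eq hdisj (Set.toFinite _) (Set.toFinite _),
    Set.ncard_image_of_injective _ (add_left_injective _), hc]
  norm_num

section

variable (L : List G) (cx : ℕ → ℕ)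

/-- the kernel of the map from the words -/
theorem theta0_eq_one_iff (hsq : ∀ x ∈ L, x ^ 2 = 1) (hcomm : ∀ x ∈ L, ∀ y ∈ L, x * y = y * x)
    (hcommE : ∀ a ∈ Subgroup.closure {x | x ∈ L}, ∀ b ∈ Subgroup.closure {x | x ∈ L}, a * b = b * a)
    (hsqE : ∀ a ∈ Subgroup.closure {x | x ∈ L}, a ^ 2 = 1)
    (htt : ∀ x : ZMod 23, (fun k => nf2 L (cx k)) x.val ∈ Subgroup.closure {x | x ∈ L})
    (hsynd : ∀ m ∈ genMasks, synd cx (W m) = 0)
    (hcard : Nat.card ↥(Subgroup.closure {x | x ∈ L}) = 2 ^ 11)
    (hgen : ∀ a ∈ L, ∃ x : ZMod 23, nf2 L (cx x.val) = a) (w : GolayPt → ZMod 2) :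
    theta0 (Subgroup.closure {x | x ∈ L}) (fun k => nf2 L (cx k)) hcommE htt w = 1 ↔
      w ∈ golayCode ∨ w + Pi.single none 1 ∈ golayCode := by
  set E0 := Subgroup.closure {x | x ∈ L} with hE0
  set tt : ℕ → G := fun k => nf2 L (cx k) with htt'
  -- the generating words
  have hmask : ∀ m ∈ genMasks, theta0 E0 tt hcommE htt (W m) = 1 := by
    intro m hm
    apply Subtype.ext
    rw [theta0_eq_nf2 L cx hsq hcomm hcommE htt, hsynd m hm, nf2_zero]
    rfl
  have hcode : ∀ v ∈ golayCode, theta0 E0 tt hcommE htt v = 1 := by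
    intro v hv
    unfold golayCode at hv
    induction hv using Submodule.span_induction with
    | mem v hv =>
      rcases hv with ⟨t, rfl⟩ | hv
      · rw [qrWord_eq_W]
        apply hmask
        unfold genMasks
        exact List.mem_append_left _ (qrMasks_getD_mem t)
      · rw [Set.mem_singleton_iff] at hv
        rw [hv, one_eq_W]
        apply hmask
        unfold genMasks
        exact List.mem_append_right _ (List.mem_singleton.mpr rfl)
    | zero => exact theta0_zero hcommE htt
    | add u v _ _ hu hv => rw [theta0_add hcommE hsqE htt, hu, hv, one_mul]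
    | smul a v _ hv =>
      rcases zmod2_cases a with rfl | rfl
      · rw [zero_smul]
        exact theta0_zero hcommE htt
      · rw [one_smul]
        exact hv
  have hsub : codeE ⊆ ((Theta E0 tt hcommE hsqE htt).ker : Set (GolayPt → ZMod 2)) := by
    rintro v (hv | hv)
    · exact (Theta_eq_zero_iff E0 tt hcommE hsqE htt v).mpr (hcode v hv)
    · apply (Theta_eq_zero_iff E0 tt hcommE hsqE htt v).mpr
      have := hcode _ hv
      rw [theta0_add hcommE hsqE htt, theta0_single_none hcommE htt, mul_one] at this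
      exact this
  have hsurj := Theta_surjective E0 tt hcommE hsqE htt ⟨{x | x ∈ L}, rfl, hgen⟩
  have hker : Nat.card (Theta E0 tt hcommE hsqE htt).ker = 2 ^ 13 := by
    have h1 := AddSubgroup.card_mul_index (Theta E0 tt hcommE hsqE htt).ker
    rw [AddSubgroup.index_ker, card_words, AddMonoidHom.range_eq_top.mpr hsurj] at h1
    have h2 : Nat.card (⊤ : AddSubgroup (Additive ↥E0)) = 2 ^ 11 := by
      rw [← hcard]
      exact Nat.card_congr (AddSubgroup.topEquiv.toEquiv.trans Additive.toMul)
    rw [h2] at h1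
    have : (2 : ℕ) ^ 24 = 2 ^ 13 * 2 ^ 11 := by norm_num
    rw [this] at h1
    exact Nat.eq_of_mul_eq_mul_right (by positivity) h1
  have heq : codeE = ((Theta E0 tt hcommE hsqE htt).ker : Set (GolayPt → ZMod 2)) := by
    apply Set.eq_of_subset_of_ncard_le hsub _ (Set.toFinite _)
    rw [ncard_codeE, ← hker, ← Nat.card_coe_set_eq]
    exact le_of_eq rfl
  rw [← Theta_eq_zero_iff E0 tt hcommE hsqE htt w, ← AddMonoidHom.mem_ker, ← SetLike.mem_coe, ← heq]
  rfl

end

end Cfsg.Agent.Lib.H17.ExtCore
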