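import Cfsg.Agent.Lib.H17.ExtCoreD

set_option autoImplicit false

/-! # An extension of the Mathieu group `M23` inside a permutation group: the statement

From the facts on the labelled points and elements, the extension, its kernel, the isomorphism of
the quotient with `M23`, the map from the words onto the kernel, and the fact that the kernel has
no complement (a quaternion subgroup of `M23` does not lift). -/

namespace Cfsg.Agent.Lib.H17.ExtCore

open Cfsg Cfsg.Agent.Lib.H28 Cfsg.Agent.Lib.H27 Cfsg.Agent.Lib.H27.OutM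
  Cfsg.Agent.Lib.H17.Sgs Cfsg.Agent.Lib.H17.Sift Cfsg.Agent.Lib.H17.Pc2

variable {G : Type} [Group G] {n : ℕ} {φ : G →* Equiv.Perm (Fin n)} {β : ℕ → ℕ} {tt : ℕ → G}

theorem moves_one_of_fix (E0 : Subgroup G) (hcommE : ∀ a ∈ E0, ∀ b ∈ E0, a * b = b * a)
    (htt : ∀ x : ZMod 23, tt x.val ∈ E0) {a : G} (ha : a ∈ E0)
    (hfix : ∀ x < 23, pt φ a (β x) = β x) : Moves φ β tt a 1 := by
  refine ⟨Subgroup.one_mem _, fun x => ⟨?_, ?_⟩⟩
  · rw [hfix _ (ZMod.val_lt x)]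
    rfl
  · rw [hcommE a ha _ (htt x), mul_inv_cancel_right]
    rfl

theorem moves_one_of_closure (hβ : ∀ x < 23, β x < n) (T : Set G)
    (hcommE : ∀ a ∈ Subgroup.closure T, ∀ b ∈ Subgroup.closure T, a * b = b * a)
    (htt : ∀ x : ZMod 23, tt x.val ∈ Subgroup.closure T)
    (hfix : ∀ a ∈ T, ∀ x < 23, pt φ a (β x) = β x) :
    ∀ a ∈ Subgroup.closure T, Moves φ β tt a 1 := by
  intro a ha
  induction ha using Subgroup.closure_induction with
  | mem a ha => exact moves_one_of_fix _ hcommE htt (Subgroup.subset_closure ha) (hfix a ha)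
  | one => exact Moves.one
  | mul a b _ _ iha ihb =>
    have := iha.mul hβ ihb
    rwa [one_mul] at this
  | inv a _ iha =>
    have := iha.inv hβ
    rwa [inv_one] at this

/-- the labels move as the word says -/
theorem moves_of_word (g : G) (w : List ℕ) (h23 : evalPt w 23 = 23)
    (h : ∀ x < 23, pt φ g (β x) = β (evalPt w x) ∧ g * tt x * g⁻¹ = tt (evalPt w x)) :
    Moves φ β tt g (wordPerm w) := by
  refine ⟨wordPerm_mem_M23 h23, fun x => ?_⟩
  have h1 : gIdx (wordPerm w (some x)) = evalPt w x.val := by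
    rw [gIdx_wordPerm]
    rfl
  rw [h1]
  exact h _ (ZMod.val_lt x)

section

variable [Finite G] (L : List G) (cx : ℕ → ℕ)

set_option maxHeartbeats 1600000 in
theorem main (hβ : ∀ x < 23, β x < n) (hinj : ∀ x < 23, ∀ y < 23, β x = β y → x = y)
    (hsq : ∀ x ∈ L, x ^ 2 = 1) (hcomm : ∀ x ∈ L, ∀ y ∈ L, x * y = y * x)
    (hlen : L.length = 11)
    (hinjL : ∀ u < 2 ^ L.length, ∀ v < 2 ^ L.length, nf2 L u = nf2 L v → u = v)
    (hfix : ∀ a ∈ L, ∀ x < 23, pt φ a (β x) = β x)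
    (hstab : ∀ g : G, (∀ x < 23, pt φ g (β x) = β x) → g ∈ Subgroup.closure {x | x ∈ L})
    (hs : ∃ g, Moves φ β (fun k => nf2 L (cx k)) g (wordPerm sw))
    (hd : ∃ g, Moves φ β (fun k => nf2 L (cx k)) g (wordPerm dw))
    (hu : ∃ g, Moves φ β (fun k => nf2 L (cx k)) g (wordPerm uw))
    (hsynd : ∀ m ∈ genMasks, synd cx (W m) = 0)
    (hgen : ∀ a ∈ L, ∃ x : ZMod 23, nf2 L (cx x.val) = a)
    (i0 j0 : G) (σi σj : Equiv.Perm GolayPt)
    (hi : Moves φ β (fun k => nf2 L (cx k)) i0 σi) (hj : Moves φ β (fun k => nf2 L (cx k)) j0 σj)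
    (hQ1 : σi * σi * (σj * σj)⁻¹ = 1) (hQ2 : σi * σj * σi⁻¹ * σj = 1)
    (hq8 : ∀ u1 < 2 ^ 11, ∀ u2 < 2 ^ 11,
      (i0 * nf2 L u1) * (i0 * nf2 L u1) = (j0 * nf2 L u2) * (j0 * nf2 L u2) →
      (i0 * nf2 L u1) * (j0 * nf2 L u2) * (i0 * nf2 L u1)⁻¹ * (j0 * nf2 L u2) ≠ 1) :
    ∃ (E : Type) (_ : Group E) (_ : Finite E) (N : Subgroup E) (_ : N.Normal)
      (φ : E ⧸ N ≃* ↥Cfsg.Spor.M23) (θ : (Cfsg.GolayPt → ZMod 2) →+ Additive ↥N),
      Function.Surjective θ ∧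
      (∀ w : Cfsg.GolayPt → ZMod 2, θ w = 0 ↔ (w ∈ Cfsg.golayCode ∨ w + Pi.single none 1 ∈ Cfsg.golayCode)) ∧
      (∀ (g : E) (w : Cfsg.GolayPt → ZMod 2),
        ((θ (w ∘ ⇑(((φ (QuotientGroup.mk g) : ↥Cfsg.Spor.M23) : Equiv.Perm Cfsg.GolayPt)⁻¹))).toMul : E)
          = g * ((θ w).toMul : E) * g⁻¹) ∧
      ∀ H : Subgroup E, H ⊓ N = ⊥ → H ⊔ N ≠ ⊤ := by
  set E0 : Subgroup G := Subgroup.closure {x | x ∈ L} with hE0
  set tt : ℕ → G := fun k => nf2 L (cx k) with htt_def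
  have hpc : PcOK2 L := Cfsg.Agent.Lib.H17.SylEA.pcOK2_comm L hsq hcomm
  have hcard : Nat.card ↥E0 = 2 ^ 11 := by
    rw [← hlen]
    exact Cfsg.Agent.Lib.H17.SylEA.card_closure L hpc hinjL
  -- E0 is abelian of exponent two
  have hcommE : ∀ x ∈ E0, ∀ y ∈ E0, x * y = y * x := by
    intro x hx y hy
    obtain ⟨u, _, rfl⟩ := mem_nf2 L hpc x hx
    obtain ⟨v, _, rfl⟩ := mem_nf2 L hpc y hy
    rw [nf2_mul_xor L hsq hcomm, nf2_mul_xor L hsq hcomm, Nat.xor_comm]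
  have hsqE : ∀ x ∈ E0, x ^ 2 = 1 := by
    intro x hx
    obtain ⟨u, _, rfl⟩ := mem_nf2 L hpc x hx
    rw [pow_two, nf2_mul_xor L hsq hcomm, Nat.xor_self, nf2_zero]
  have htt : ∀ x : ZMod 23, tt x.val ∈ E0 := fun x => nf2_mem L _
  have hmoves : ∀ a ∈ E0, Moves φ β tt a 1 :=
    moves_one_of_closure hβ _ hcommE htt hfix
  have hsurj : Function.Surjective (rho (φ := φ) (tt := tt) hβ hinj) :=
    rho_surjective hβ hinj hs hd hu
  have hnorm := ker0_normal hβ hinj E0 hmoves hstab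
  have hle : E0 ≤ ext φ β tt hβ := le_ext hβ E0 hmoves
  -- the map from the words
  let ι : ↥E0 ≃* ↥(ker0 (φ := φ) (tt := tt) hβ E0) := (Subgroup.subgroupOfEquivOfLe hle).symm
  have hι : ∀ a : ↥E0, (((ι a : ↥(ker0 (φ := φ) (tt := tt) hβ E0)) : ↥(ext φ β tt hβ)) : G) = a :=
    fun a => rfl
  let θ : (GolayPt → ZMod 2) →+ Additive ↥(ker0 (φ := φ) (tt := tt) hβ E0) :=
    (MulEquiv.toAdditive ι).toAddMonoidHom.comp (Theta E0 tt hcommE hsqE htt)
  have hθ : ∀ w, ((((θ w).toMul : ↥(ker0 (φ := φ) (tt := tt) hβ E0)) : ↥(ext φ β tt hβ)) : G) =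
      (theta0 E0 tt hcommE htt w : ↥E0) := fun w => rfl
  refine ⟨↥(ext φ β tt hβ), inferInstance, inferInstance, ker0 hβ E0, hnorm,
    quotEquiv hβ hinj E0 hmoves hstab hsurj, θ, ?_, ?_, ?_, ?_⟩
  · -- onto
    intro a
    obtain ⟨w, hw⟩ := Theta_surjective E0 tt hcommE hsqE htt ⟨{x | x ∈ L}, rfl, hgen⟩
      (Additive.ofMul (ι.symm (Additive.toMul a)))
    refine ⟨w, ?_⟩
    change (MulEquiv.toAdditive ι) (Theta E0 tt hcommE hsqE htt w) = a
    rw [hw]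
    change Additive.ofMul (ι (ι.symm (Additive.toMul a))) = a
    rw [MulEquiv.apply_symm_apply]
    rfl
  · -- the kernel
    intro w
    rw [← theta0_eq_one_iff L cx hsq hcomm hcommE hsqE htt hsynd hcard hgen w]
    constructor
    · intro h
      have h1 := hθ w
      rw [h] at h1
      apply Subtype.ext
      rw [← h1]
      rfl
    · intro h
      change (MulEquiv.toAdditive ι) (Theta E0 tt hcommE hsqE htt w) = 0
      rw [(Theta_eq_zero_iff E0 tt hcommE hsqE htt w).mpr h, map_zero]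
  · -- conjugation
    intro g w
    rw [quotEquiv_mk, rho_apply]
    apply Subtype.ext
    have hg := sig_spec hβ g
    have hconjE : ∀ a ∈ E0, (g : G) * a * (g : G)⁻¹ ∈ E0 := by
      intro a ha
      apply hstab
      apply fix_of_moves_one (tt := tt)
      have := (hg.mul hβ (hmoves a ha)).mul hβ (hg.inv hβ)
      rwa [mul_one, mul_inv_cancel] at this
    have := theta0_conj hcommE htt (g : G) hconjE (sig hβ g) hg.1 (fun x => (hg.2 x).2) w
    rw [hθ, this]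
    rfl
  · -- no complement
    intro H hHN hHN'
    have hmem : ∀ e : ↥(ext φ β tt hβ), ∃ h ∈ H, ∃ u < 2 ^ 11, (h : G) = e * nf2 L u := by
      intro e
      have he : e ∈ (↑(H ⊔ ker0 (φ := φ) (tt := tt) hβ E0) : Set ↥(ext φ β tt hβ)) := by
        rw [hHN']
        exact Set.mem_univ _
      rw [Subgroup.mul_normal] at he
      obtain ⟨h, hh, m, hm, rfl⟩ := he
      have hm' : ((m⁻¹ : ↥(ext φ β tt hβ)) : G) ∈ E0 := by
        have : m⁻¹ ∈ ker0 (φ := φ) (tt := tt) hβ E0 := Subgroup.inv_mem _ hm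
        exact (mem_ker0 hβ E0 _).mp this
      obtain ⟨u, hu, hu'⟩ := mem_nf2 L hpc _ hm'
      rw [hlen] at hu
      refine ⟨h, hh, u, hu, ?_⟩
      rw [← hu']
      change (h : G) = (h : G) * (m : G) * (m : G)⁻¹
      rw [mul_inv_cancel_right]
    have hone : ∀ x ∈ H, Moves φ β tt ((x : ↥(ext φ β tt hβ)) : G) 1 → x = 1 := by
      intro x hx hmv
      have h1 : (x : G) ∈ E0 := hstab _ (fix_of_moves_one hmv)
      have h2 : x ∈ H ⊓ ker0 (φ := φ) (tt := tt) hβ E0 :=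
        Subgroup.mem_inf.mpr ⟨hx, (mem_ker0 hβ E0 _).mpr h1⟩
      rw [hHN] at h2
      exact Subgroup.mem_bot.mp h2
    obtain ⟨I, hIH, u1, hu1, hI⟩ := hmem ⟨i0, σi, hi⟩
    obtain ⟨J, hJH, u2, hu2, hJ⟩ := hmem ⟨j0, σj, hj⟩
    change (I : G) = i0 * nf2 L u1 at hI
    change (J : G) = j0 * nf2 L u2 at hJ
    have hIm : Moves φ β tt (I : G) σi := by
      rw [hI]
      have := hi.mul hβ (hmoves _ (nf2_mem L u1))
      rwa [mul_one] at this
    have hJm : Moves φ β tt (J : G) σj := by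
      rw [hJ]
      have := hj.mul hβ (hmoves _ (nf2_mem L u2))
      rwa [mul_one] at this
    have h1 : I * I * (J * J)⁻¹ = 1 := by
      apply hone _ (H.mul_mem (H.mul_mem hIH hIH) (H.inv_mem (H.mul_mem hJH hJH)))
      have := ((hIm.mul hβ hIm).mul hβ ((hJm.mul hβ hJm).inv hβ))
      rw [hQ1] at this
      exact this
    have h2 : I * J * I⁻¹ * J = 1 := by
      apply hone _ (H.mul_mem (H.mul_mem (H.mul_mem hIH hJH) (H.inv_mem hIH)) hJH)
      have := (((hIm.mul hβ hJm).mul hβ (hIm.inv hβ)).mul hβ hJm)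
      rw [hQ2] at this
      exact this
    have h1' : (I : G) * (I : G) = (J : G) * (J : G) := by
      have := congrArg (fun x : ↥(ext φ β tt hβ) => (x : G)) (mul_inv_eq_one.mp h1)
      exact this
    have h2' : (I : G) * (J : G) * (I : G)⁻¹ * (J : G) = 1 := by
      have := congrArg (fun x : ↥(ext φ β tt hβ) => (x : G)) h2
      exact this
    rw [hI, hJ] at h1' h2'
    exact hq8 u1 hu1 u2 hu2 h1' h2'

end

/-! ## Permutations of the 24 points given by tables -/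

/-- the permutation of the 24 points with a given table -/
def tabPerm (t ti : List ℕ) (h1 : ∀ k < 24, t.getD k 0 < 24 ∧ ti.getD (t.getD k 0) 0 = k)
    (h2 : ∀ k < 24, ti.getD k 0 < 24 ∧ t.getD (ti.getD k 0) 0 = k) : Equiv.Perm GolayPt where
  toFun p := gPt (t.getD (gIdx p) 0)
  invFun p := gPt (ti.getD (gIdx p) 0)
  left_inv p := by
    obtain ⟨h, h'⟩ := h1 (gIdx p) (gIdx_lt p)
    change gPt (ti.getD (gIdx (gPt (t.getD (gIdx p) 0))) 0) = p
    rw [gIdx_gPt h, h', gPt_gIdx]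
  right_inv p := by
    obtain ⟨h, h'⟩ := h2 (gIdx p) (gIdx_lt p)
    change gPt (t.getD (gIdx (gPt (ti.getD (gIdx p) 0))) 0) = p
    rw [gIdx_gPt h, h', gPt_gIdx]

theorem gIdx_tabPerm (t ti : List ℕ) (h1 : ∀ k < 24, t.getD k 0 < 24 ∧ ti.getD (t.getD k 0) 0 = k)
    (h2 : ∀ k < 24, ti.getD k 0 < 24 ∧ t.getD (ti.getD k 0) 0 = k) (p : GolayPt) :
    gIdx (tabPerm t ti h1 h2 p) = t.getD (gIdx p) 0 :=
  gIdx_gPt (h1 _ (gIdx_lt p)).1

theorem gIdx_tabPerm_symm (t ti : List ℕ) (h1 : ∀ k < 24, t.getD k 0 < 24 ∧ ti.getD (t.getD k 0) 0 = k)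
    (h2 : ∀ k < 24, ti.getD k 0 < 24 ∧ t.getD (ti.getD k 0) 0 = k) (p : GolayPt) :
    gIdx ((tabPerm t ti h1 h2).symm p) = ti.getD (gIdx p) 0 :=
  gIdx_gPt (h2 _ (gIdx_lt p)).1

theorem tabPerm_mem_M23 (t ti : List ℕ) (h1 : ∀ k < 24, t.getD k 0 < 24 ∧ ti.getD (t.getD k 0) 0 = k)
    (h2 : ∀ k < 24, ti.getD k 0 < 24 ∧ t.getD (ti.getD k 0) 0 = k)
    (hcheck : basisMasks.all (fun b => inC (pullMask ti b)) = true) (h23 : t.getD 23 0 = 23) :
    tabPerm t ti h1 h2 ∈ Cfsg.Spor.M23 := by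
  rw [mem_M23]
  refine ⟨mem_M24_of_table _ ti (gIdx_tabPerm_symm t ti h1 h2) hcheck, ?_⟩
  apply gIdx_injective
  rw [gIdx_tabPerm, gIdx_none, h23]

/-- the labels move as the table says -/
theorem moves_of_table (g : G) (t ti : List ℕ)
    (h1 : ∀ k < 24, t.getD k 0 < 24 ∧ ti.getD (t.getD k 0) 0 = k)
    (h2 : ∀ k < 24, ti.getD k 0 < 24 ∧ t.getD (ti.getD k 0) 0 = k)
    (hcheck : basisMasks.all (fun b => inC (pullMask ti b)) = true) (h23 : t.getD 23 0 = 23)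
    (h : ∀ x < 23, pt φ g (β x) = β (t.getD x 0) ∧ g * tt x * g⁻¹ = tt (t.getD x 0)) :
    Moves φ β tt g (tabPerm t ti h1 h2) := by
  refine ⟨tabPerm_mem_M23 t ti h1 h2 hcheck h23, fun x => ?_⟩
  have h1' : gIdx (tabPerm t ti h1 h2 (some x)) = t.getD x.val 0 := by
    rw [gIdx_tabPerm]
    rfl
  rw [h1']
  exact h _ (ZMod.val_lt x)

/-- two products of permutations given by tables agree -/
theorem tabPerm_mul_eq (t ti u ui t' ti' u' ui' : List ℕ)
    (h1 : ∀ k < 24, t.getD k 0 < 24 ∧ ti.getD (t.getD k 0) 0 = k)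
    (h2 : ∀ k < 24, ti.getD k 0 < 24 ∧ t.getD (ti.getD k 0) 0 = k)
    (k1 : ∀ k < 24, u.getD k 0 < 24 ∧ ui.getD (u.getD k 0) 0 = k)
    (k2 : ∀ k < 24, ui.getD k 0 < 24 ∧ u.getD (ui.getD k 0) 0 = k)
    (h1' : ∀ k < 24, t'.getD k 0 < 24 ∧ ti'.getD (t'.getD k 0) 0 = k)
    (h2' : ∀ k < 24, ti'.getD k 0 < 24 ∧ t'.getD (ti'.getD k 0) 0 = k)
    (k1' : ∀ k < 24, u'.getD k 0 < 24 ∧ ui'.getD (u'.getD k 0) 0 = k)
    (k2' : ∀ k < 24, ui'.getD k 0 < 24 ∧ u'.getD (ui'.getD k 0) 0 = k)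
    (h : ∀ k < 24, t.getD (u.getD k 0) 0 = t'.getD (u'.getD k 0) 0) :
    tabPerm t ti h1 h2 * tabPerm u ui k1 k2 = tabPerm t' ti' h1' h2' * tabPerm u' ui' k1' k2' := by
  apply Equiv.ext
  intro p
  apply gIdx_injective
  rw [Equiv.Perm.mul_apply, Equiv.Perm.mul_apply, gIdx_tabPerm, gIdx_tabPerm, gIdx_tabPerm, gIdx_tabPerm]
  exact h _ (gIdx_lt p)

/-- the quaternion relations, in the form needed, from simpler ones -/
theorem quat_rel {K : Type*} [Group K] (a b : K) (h1 : a * a = b * b) (h2 : b * a * b = a) :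
    a * a * (b * b)⁻¹ = 1 ∧ a * b * a⁻¹ * b = 1 := by
  constructor
  · rw [h1, mul_inv_cancel]
  · have : a⁻¹ = b⁻¹ * a⁻¹ * b⁻¹ := by
      conv_lhs => rw [← h2]
      group
    rw [this]
    group

/-- a product chosen by a single digit is a generator -/
theorem nf2_two_pow (L : List G) (i : ℕ) (hi : i < L.length) : nf2 L (2 ^ i) = L.getD i 1 := by
  induction L generalizing i with
  | nil => simp at hi
  | cons s L ih =>
    rw [nf2_cons]
    cases i with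
    | zero =>
      have h1 : (2 : ℕ) ^ 0 % 2 = 1 := by norm_num
      have h2 : (2 : ℕ) ^ 0 / 2 = 0 := by norm_num
      rw [h1, h2, nf2_zero, pow_one, mul_one]
      rfl
    | succ i =>
      have h1 : (2 : ℕ) ^ (i + 1) % 2 = 0 := by
        rw [pow_succ]
        omega
      have h2 : (2 : ℕ) ^ (i + 1) / 2 = 2 ^ i := by
        rw [pow_succ]
        omega
      rw [h1, h2, pow_zero, one_mul, ih i (by simpa using hi)]
      rfl

end Cfsg.Agent.Lib.H17.ExtCore
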