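import Cfsg.Agent.Lib.H17.Masks

set_option autoImplicit false

/-! # Maximality of point stabilisers from the sizes of suborbits

For a subgroup `A` of a group acting on a finite set, the stabiliser in `A` of a point `q` is a
maximal subgroup of `A` as soon as no union of orbits of (a subgroup of) the stabiliser on the
orbit of `q`, containing `q`, has a size dividing the size of the orbit, other than `{q}` and the
whole orbit. -/

namespace Cfsg.Agent.Lib.H17.ExtPrim

open MulAction Cfsg.Agent.Lib.H17.CosetCert Cfsg.Agent.Lib.H17.Masks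

section coatom

variable {G : Type*} [Group G]

/-- being a maximal subgroup of `H`, said with subgroups of the ambient group -/
theorem isCoatom_subgroupOf_iff {L H : Subgroup G} (hLH : L ≤ H) :
    IsCoatom (L.subgroupOf H) ↔
      L ≠ H ∧ ∀ M : Subgroup G, L ≤ M → M ≤ H → M = L ∨ M = H := by
  constructor
  · intro hc
    have hne : L ≠ H := by
      intro h
      apply hc.1
      rw [Subgroup.subgroupOf_eq_top, h]
    refine ⟨hne, fun M hLM hMH => ?_⟩
    have hle : L.subgroupOf H ≤ M.subgroupOf H := fun x hx =>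
      Subgroup.mem_subgroupOf.mpr (hLM (Subgroup.mem_subgroupOf.mp hx))
    rcases eq_or_lt_of_le hle with h | h
    · left
      apply le_antisymm _ hLM
      intro x hx
      have : (⟨x, hMH hx⟩ : H) ∈ M.subgroupOf H := Subgroup.mem_subgroupOf.mpr hx
      rw [← h] at this
      exact Subgroup.mem_subgroupOf.mp this
    · right
      have := hc.2 _ h
      rw [Subgroup.subgroupOf_eq_top] at this
      exact le_antisymm hMH this
  · rintro ⟨hne, hM⟩
    constructor
    · intro h
      rw [Subgroup.subgroupOf_eq_top] at h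
      exact hne (le_antisymm hLH h)
    · intro b hb
      have h1 : L ≤ b.map H.subtype := by
        intro x hx
        have : (⟨x, hLH hx⟩ : H) ∈ L.subgroupOf H := Subgroup.mem_subgroupOf.mpr hx
        exact ⟨⟨x, hLH hx⟩, hb.le this, rfl⟩
      have h2 : b.map H.subtype ≤ H := by
        rintro _ ⟨y, -, rfl⟩
        exact y.2
      have hb' : b = (b.map H.subtype).subgroupOf H := by
        ext y
        rw [Subgroup.mem_subgroupOf]
        constructor
        · intro hy
          exact ⟨y, hy, rfl⟩
        · rintro ⟨y', hy', he⟩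
          have : y' = y := Subtype.ext he
          rwa [← this]
      rcases hM _ h1 h2 with h | h
      · exfalso
        rw [h] at hb'
        exact (ne_of_gt hb) hb'
      · rw [hb', h]
        exact Subgroup.subgroupOf_self H

variable {X : Type*} [MulAction G X]

/-- the index of the stabiliser of a point in a subgroup is the size of the orbit of the point
under the subgroup -/
theorem relIndex_stabilizer (M : Subgroup G) (q : X) :
    (stabilizer G q).relIndex M = {x : X | ∃ g ∈ M, g • q = x}.ncard := by
  have h1 : (stabilizer G q).subgroupOf M = stabilizer M q := by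
    ext g
    rw [Subgroup.mem_subgroupOf, mem_stabilizer_iff, mem_stabilizer_iff]
    rfl
  have h2 : orbit M q = {x : X | ∃ g ∈ M, g • q = x} := by
    ext x
    constructor
    · rintro ⟨g, rfl⟩
      exact ⟨g.1, g.2, rfl⟩
    · rintro ⟨g, hg, rfl⟩
      exact ⟨⟨g, hg⟩, rfl⟩
  rw [Subgroup.relIndex, h1, index_stabilizer, h2]

/-- **Maximality of a point stabiliser.** The subgroups between the stabiliser of `q` in `A` and
`A` are these two, when the subsets of the orbit that contain `q`, are invariant under a subgroup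
`S` of the stabiliser and have a size dividing the size of the orbit are `{q}` and the orbit. -/
theorem between_stabilizer [Finite X] (A : Subgroup G) (q : X) (S : Subgroup G)
    (hS : S ≤ A ⊓ stabilizer G q)
    (hinv : ∀ B : Set X, q ∈ B → B ⊆ {x : X | ∃ g ∈ A, g • q = x} →
      (∀ s ∈ S, ∀ x ∈ B, s • x ∈ B) → B.ncard ∣ {x : X | ∃ g ∈ A, g • q = x}.ncard →
      B = {q} ∨ B = {x : X | ∃ g ∈ A, g • q = x})
    (M : Subgroup G) (h1 : A ⊓ stabilizer G q ≤ M) (h2 : M ≤ A) :
    M = A ⊓ stabilizer G q ∨ M = A := by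
  set B : Set X := {x : X | ∃ g ∈ M, g • q = x} with hB
  set O : Set X := {x : X | ∃ g ∈ A, g • q = x} with hO
  have hqB : q ∈ B := ⟨1, M.one_mem, one_smul _ _⟩
  have hBO : B ⊆ O := by
    rintro x ⟨g, hg, rfl⟩
    exact ⟨g, h2 hg, rfl⟩
  have hSB : ∀ s ∈ S, ∀ x ∈ B, s • x ∈ B := by
    rintro s hs x ⟨g, hg, rfl⟩
    exact ⟨s * g, M.mul_mem (h1 (hS hs)) hg, mul_smul _ _ _⟩
  -- the indices
  have e1 : (A ⊓ stabilizer G q).relIndex M = B.ncard := by
    rw [← relIndex_stabilizer M q]
    unfold Subgroup.relIndex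
    congr 1
    ext g
    rw [Subgroup.mem_subgroupOf, Subgroup.mem_subgroupOf, Subgroup.mem_inf]
    exact ⟨fun h => h.2, fun h => ⟨h2 g.2, h⟩⟩
  have e2 : (A ⊓ stabilizer G q).relIndex A = O.ncard := by
    rw [← relIndex_stabilizer A q]
    unfold Subgroup.relIndex
    congr 1
    ext g
    rw [Subgroup.mem_subgroupOf, Subgroup.mem_subgroupOf, Subgroup.mem_inf]
    exact ⟨fun h => h.2, fun h => ⟨g.2, h⟩⟩
  have e3 := Subgroup.relIndex_mul_relIndex (A ⊓ stabilizer G q) M A h1 h2
  rw [e1, e2] at e3
  have hdvd : B.ncard ∣ O.ncard := ⟨_, e3.symm⟩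
  have hOpos : 0 < O.ncard := by
    rw [Set.ncard_pos (Set.toFinite _)]
    exact ⟨q, hBO hqB⟩
  rcases hinv B hqB hBO hSB hdvd with h | h
  · left
    apply le_antisymm _ h1
    intro g hg
    refine Subgroup.mem_inf.mpr ⟨h2 hg, ?_⟩
    have : g • q ∈ B := ⟨g, hg, rfl⟩
    rw [h] at this
    exact mem_stabilizer_iff.mpr this
  · right
    apply le_antisymm h2
    rw [h] at e3
    have h4 : M.relIndex A = 1 := by
      have : O.ncard * M.relIndex A = O.ncard * 1 := by rw [e3, mul_one]
      exact Nat.eq_of_mul_eq_mul_left hOpos this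
    exact Subgroup.relIndex_eq_one.mp h4

end coatom

section masks

variable {G : Type*} [Group G] {n : ℕ} [MulAction G (Fin n)]

/-- **Invariant subsets from masks.** The subsets of `O` that contain `q` and are invariant under
`S` are unions of the masked sets, on each of which `S` is transitive; arithmetic then leaves
`{q}` and `O`. -/
theorem invariant_of_masks (S : Subgroup G) (q : Fin n) (O : Set (Fin n)) {r : ℕ}
    (masks : Fin r → ℕ) (sz : Fin r → ℕ) (N : ℕ)
    (hcount : ∀ j, countBits (masks j) n 0 = sz j)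
    (hcover : ∀ x ∈ O, x ≠ q → ∃ j, tb (masks j) x = true)
    (hdisj : ∀ i j, i ≠ j → Nat.land (masks i) (masks j) = 0)
    (hq : ∀ j, tb (masks j) q = false)
    (htrans : ∀ j, ∀ x y : Fin n, tb (masks j) x = true → tb (masks j) y = true →
      ∃ s ∈ S, s • x = y)
    (hN : O.ncard = N)
    (harith : ∀ J : Finset (Fin r), (1 + ∑ j ∈ J, sz j) ∣ N → J = ∅ ∨ J = Finset.univ)
    (B : Set (Fin n)) (hqB : q ∈ B) (hBO : B ⊆ O) (hSB : ∀ s ∈ S, ∀ x ∈ B, s • x ∈ B)
    (hdvd : B.ncard ∣ O.ncard) : B = {q} ∨ B = O := by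
  classical
  let Om : Fin r → Finset (Fin n) := fun j => Finset.univ.filter fun i : Fin n => tb (masks j) i = true
  let J : Finset (Fin r) := Finset.univ.filter fun j => ∃ x ∈ Om j, x ∈ B
  have hJ : ∀ j ∈ J, ∀ y ∈ Om j, y ∈ B := by
    intro j hj y hy
    obtain ⟨x, hx, hxB⟩ := (Finset.mem_filter.mp hj).2
    obtain ⟨s, hs, rfl⟩ := htrans j x y (Finset.mem_filter.mp hx).2 (Finset.mem_filter.mp hy).2
    exact hSB s hs x hxB
  have hBeq : B = ↑(insert q (J.biUnion Om)) := by
    ext x
    simp only [Finset.coe_insert, Finset.coe_biUnion, Set.mem_insert_iff, Set.mem_iUnion,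
      Finset.mem_coe, exists_prop]
    constructor
    · intro hx
      by_cases hxq : x = q
      · exact Or.inl hxq
      · obtain ⟨j, hj⟩ := hcover x (hBO hx) hxq
        have hxj : x ∈ Om j := Finset.mem_filter.mpr ⟨Finset.mem_univ _, hj⟩
        exact Or.inr ⟨j, Finset.mem_filter.mpr ⟨Finset.mem_univ _, x, hxj, hx⟩, hxj⟩
    · rintro (rfl | ⟨j, hj, hxj⟩)
      · exact hqB
      · exact hJ j hj x hxj
  have hcard : B.ncard = 1 + ∑ j ∈ J, sz j := by
    rw [hBeq, Set.ncard_coe_finset, Finset.card_insert_of_notMem, Finset.card_biUnion]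
    · rw [Nat.add_comm]
      congr 1
      apply Finset.sum_congr rfl
      intro j _
      rw [card_filter_mask, hcount]
    · intro i _ j _ hij
      rw [Function.onFun, Finset.disjoint_left]
      intro x hxi hxj
      exact disjoint_of_land _ _ (hdisj i j hij) x (Finset.mem_filter.mp hxi).2
        (Finset.mem_filter.mp hxj).2
    · simp only [Finset.mem_biUnion, not_exists, not_and]
      intro j _ hmem
      have := (Finset.mem_filter.mp hmem).2
      rw [hq j] at this
      exact absurd this (by simp)
  rw [hcard, hN] at hdvd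
  rcases harith J hdvd with h | h
  · left
    rw [hBeq, h]
    simp
  · right
    apply Set.Subset.antisymm hBO
    intro x hx
    by_cases hxq : x = q
    · rw [hxq]; exact hqB
    · obtain ⟨j, hj⟩ := hcover x hx hxq
      exact hJ j (by rw [h]; exact Finset.mem_univ _) x
        (Finset.mem_filter.mpr ⟨Finset.mem_univ _, hj⟩)

end masks

end Cfsg.Agent.Lib.H17.ExtPrim
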