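import Cfsg.Agent.Lib.H17.ExtPrim

set_option autoImplicit false

/-! # Transport of maximality statements along an embedding

A group `Γ` is embedded in `G` with image `K`; the preimage `H` of a subgroup `J ≤ K` is maximal
in `Γ`, and the intersections of `H` with its conjugates are maximal in `H`, when the
corresponding statements hold for `J` in `K`. -/

namespace Cfsg.Agent.Lib.H17.ExtPrim

variable {Γ G : Type*} [Group Γ] [Group G]

theorem map_conj_comap (θ : Γ →* G) (J : Subgroup G) (x : Γ) :
    (J.comap θ).map (MulAut.conj x).toMonoidHom =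
      (J.map (MulAut.conj (θ x)).toMonoidHom).comap θ := by
  ext g
  constructor
  · rintro ⟨h, hh, rfl⟩
    refine ⟨θ h, hh, ?_⟩
    simp [MulAut.conj_apply]
  · rintro ⟨j, hj, he⟩
    refine ⟨x⁻¹ * g * x, ?_, ?_⟩
    · change θ (x⁻¹ * g * x) ∈ J
      have : θ (x⁻¹ * g * x) = j := by
        simp only [MulEquiv.coe_toMonoidHom, MulAut.conj_apply] at he
        rw [map_mul, map_mul, map_inv, ← he]
        group
      rw [this]
      exact hj
    · simp only [MulEquiv.coe_toMonoidHom, MulAut.conj_apply]
      group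

/-- transport of the maximality statements -/
theorem transport (θ : Γ →* G) (hθ : Function.Injective θ) (K J : Subgroup G)
    (hK : θ.range = K) (hJK : J ≤ K) (h1 : J ≠ K)
    (h2 : ∀ M : Subgroup G, J ≤ M → M ≤ K → M = J ∨ M = K)
    (h3 : ∀ y ∈ K, y ∉ J → (J ⊓ J.map (MulAut.conj y).toMonoidHom) ≠ J ∧
      ∀ M : Subgroup G, J ⊓ J.map (MulAut.conj y).toMonoidHom ≤ M → M ≤ J →
        M = J ⊓ J.map (MulAut.conj y).toMonoidHom ∨ M = J) :
    IsCoatom (J.comap θ) ∧
      (∀ x : Γ, x ∉ J.comap θ → IsCoatom (((J.comap θ) ⊓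
        (J.comap θ).map (MulAut.conj x).toMonoidHom).subgroupOf (J.comap θ))) ∧
      Nonempty ((J.comap θ : Subgroup Γ) ≃* J) := by
  have hmc : ∀ X : Subgroup G, X ≤ K → (X.comap θ).map θ = X := fun X hX =>
    Subgroup.map_comap_eq_self (by rw [hK]; exact hX)
  have hcm : ∀ M : Subgroup Γ, (M.map θ).comap θ = M := fun M =>
    Subgroup.comap_map_eq_self_of_injective hθ M
  have hmapK : ∀ M : Subgroup Γ, M.map θ ≤ K := by
    intro M
    rw [← hK]
    rintro _ ⟨g, -, rfl⟩
    exact ⟨g, rfl⟩
  have hKtop : K.comap θ = ⊤ := by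
    rw [← hK]
    ext g
    simp
  refine ⟨?_, ?_, ?_⟩
  · constructor
    · intro h
      apply h1
      have := hmc J hJK
      rw [h, ← MonoidHom.range_eq_map, hK] at this
      exact this.symm
    · intro M hM
      have hle : J ≤ M.map θ := by
        rw [← hmc J hJK]
        exact Subgroup.map_mono hM.le
      rcases h2 _ hle (hmapK M) with h | h
      · exfalso
        have := hcm M
        rw [h] at this
        exact (ne_of_gt hM) this.symm
      · have := hcm M
        rw [h, hKtop] at this
        exact this.symm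
  · intro x hx
    have hy : θ x ∈ K := by rw [← hK]; exact ⟨x, rfl⟩
    have hyJ : θ x ∉ J := hx
    obtain ⟨h4, h5⟩ := h3 (θ x) hy hyJ
    set L : Subgroup G := J ⊓ J.map (MulAut.conj (θ x)).toMonoidHom with hL
    have hLJ : L ≤ J := inf_le_left
    have hLK : L ≤ K := hLJ.trans hJK
    have heq : (J.comap θ) ⊓ (J.comap θ).map (MulAut.conj x).toMonoidHom = L.comap θ := by
      rw [map_conj_comap, ← Subgroup.comap_inf]
    rw [heq]
    rw [isCoatom_subgroupOf_iff (Subgroup.comap_mono hLJ)]
    constructor
    · intro h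
      apply h4
      have := hmc L hLK
      rw [h, hmc J hJK] at this
      exact this.symm
    · intro M hM1 hM2
      have hle1 : L ≤ M.map θ := by
        rw [← hmc L hLK]
        exact Subgroup.map_mono hM1
      have hle2 : M.map θ ≤ J := by
        rw [← hmc J hJK]
        exact Subgroup.map_mono hM2
      rcases h5 _ hle1 hle2 with h | h
      · left
        rw [← hcm M, h]
      · right
        rw [← hcm M, h]
  · have e1 : (J.comap θ : Subgroup Γ) ≃* ((J.comap θ).map θ : Subgroup G) :=
      Subgroup.equivMapOfInjective _ θ hθ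
    exact ⟨e1.trans (MulEquiv.subgroupCongr (hmc J hJK))⟩

end Cfsg.Agent.Lib.H17.ExtPrim
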