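import Mathlib

set_option autoImplicit false

/-! # Tools for the Iwasawa criterion

* `T x`: the centre of the stabiliser of a point, as a subgroup of the whole group; these
  subgroups form an Iwasawa structure as soon as they generate the group.
* `isPreprimitive_of_suborbits`: a transitive action is primitive if no union of suborbits,
  together with the base point, has a size dividing the degree.
* `commutator_eq_top_of_odd_relation`: a group generated by conjugate involutions with a relation
  of odd length is perfect. -/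

namespace Cfsg.Agent.Lib.H17.Iwa

open MulAction
open scoped Pointwise

section iwasawa

variable {G X : Type*} [Group G] [MulAction G X]

/-- the centre of the stabiliser of a point, as a subgroup of the whole group -/
def T (x : X) : Subgroup G where
  carrier := {g | g • x = x ∧ ∀ q : G, q • x = x → g * q = q * g}
  one_mem' := ⟨one_smul _ _, fun q _ => by simp⟩
  mul_mem' := by
    rintro a b ⟨ha1, ha2⟩ ⟨hb1, hb2⟩
    refine ⟨by rw [mul_smul, hb1, ha1], fun q hq => ?_⟩
    rw [mul_assoc, hb2 q hq, ← mul_assoc, ha2 q hq, mul_assoc]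
  inv_mem' := by
    rintro a ⟨ha1, ha2⟩
    refine ⟨by rw [inv_smul_eq_iff, ha1], fun q hq => ?_⟩
    have h := ha2 q hq
    calc a⁻¹ * q = a⁻¹ * (q * a) * a⁻¹ := by group
      _ = a⁻¹ * (a * q) * a⁻¹ := by rw [h]
      _ = q * a⁻¹ := by group

theorem mem_T (x : X) (g : G) :
    g ∈ T x ↔ g • x = x ∧ ∀ q : G, q • x = x → g * q = q * g := Iff.rfl

theorem T_smul (g : G) (x : X) : T (g • x) = MulAut.conj g • (T x : Subgroup G) := by
  ext y
  rw [Subgroup.mem_pointwise_smul_iff_inv_smul_mem, MulAut.smul_def, ← map_inv,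
    MulAut.conj_apply, inv_inv, mem_T, mem_T]
  constructor
  · rintro ⟨h1, h2⟩
    refine ⟨?_, fun q hq => ?_⟩
    · rw [mul_smul, mul_smul, h1, inv_smul_smul]
    · have hq' : (g * q * g⁻¹) • g • x = g • x := by
        rw [mul_smul, mul_smul, inv_smul_smul, hq]
      have := h2 _ hq'
      calc g⁻¹ * y * g * q = g⁻¹ * (y * (g * q * g⁻¹)) * g := by group
        _ = g⁻¹ * ((g * q * g⁻¹) * y) * g := by rw [this]
        _ = q * (g⁻¹ * y * g) := by group
  · rintro ⟨h1, h2⟩
    refine ⟨?_, fun q hq => ?_⟩
    · have : (g⁻¹ * y * g) • x = x := h1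
      rw [mul_smul, mul_smul, inv_smul_eq_iff] at this
      exact this
    · have hq' : (g⁻¹ * q * g) • x = x := by
        rw [mul_smul, mul_smul, hq, inv_smul_smul]
      have := h2 _ hq'
      calc y * q = g * ((g⁻¹ * y * g) * (g⁻¹ * q * g)) * g⁻¹ := by group
        _ = g * ((g⁻¹ * q * g) * (g⁻¹ * y * g)) * g⁻¹ := by rw [this]
        _ = q * y := by group

/-- the centres of the point stabilisers form an Iwasawa structure if they generate -/
def iwasawa (h : iSup (T (G := G) (X := X)) = ⊤) : IwasawaStructure G X where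
  T := T
  is_comm := fun x => ⟨⟨fun a b => Subtype.ext (a.2.2 b.1 b.2.1)⟩⟩
  is_conj := T_smul
  is_generator := h

/-- if the conjugates of an element of `T z` generate, the subgroups `T x` generate -/
theorem iSup_T_eq_top (S : Set G) (hS : Subgroup.closure S = ⊤) (z : X) (a : G) (ha : a ∈ T z)
    (hconj : ∀ s ∈ S, ∃ g : G, g * a * g⁻¹ = s) : iSup (T (G := G) (X := X)) = ⊤ := by
  rw [eq_top_iff, ← hS, Subgroup.closure_le]
  intro s hs
  obtain ⟨g, rfl⟩ := hconj s hs
  have h1 : g * a * g⁻¹ ∈ T (g • z) := by
    rw [T_smul, Subgroup.mem_pointwise_smul_iff_inv_smul_mem, MulAut.smul_def, ← map_inv,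
      MulAut.conj_apply, inv_inv]
    have : g⁻¹ * (g * a * g⁻¹) * g = a := by group
    rw [this]
    exact ha
  exact (le_iSup (T (G := G) (X := X)) (g • z)) h1

end iwasawa

section normal

variable {G X : Type*} [Group G] [MulAction G X]

/-- the conjugate of `A` attached to a point -/
noncomputable def TN [IsPretransitive G X] (z : X) (A : Subgroup G) (x : X) : Subgroup G :=
  MulAut.conj (Classical.choose (exists_smul_eq G z x)) • A

theorem TN_smul [IsPretransitive G X] (z : X) (A : Subgroup G)
    (hnorm : ∀ k : G, k • z = z → MulAut.conj k • A = A) (g : G) (x : X) :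
    TN z A (g • x) = MulAut.conj g • TN z A x := by
  unfold TN
  have h1 := Classical.choose_spec (exists_smul_eq G z (g • x))
  have h2 := Classical.choose_spec (exists_smul_eq G z x)
  set p := Classical.choose (exists_smul_eq G z (g • x)) with hp
  set q := Classical.choose (exists_smul_eq G z x) with hq
  have hk : (p⁻¹ * g * q) • z = z := by
    rw [mul_smul, mul_smul, h2, ← h1, inv_smul_smul]
  have hA := hnorm _ hk
  have : MulAut.conj p • A = MulAut.conj p • (MulAut.conj (p⁻¹ * g * q) • A) := by rw [hA]
  rw [this, smul_smul, smul_smul, ← map_mul, ← map_mul]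
  congr 2
  group

theorem TN_base [IsPretransitive G X] (z : X) (A : Subgroup G)
    (hnorm : ∀ k : G, k • z = z → MulAut.conj k • A = A) : TN z A z = A :=
  hnorm _ (Classical.choose_spec (exists_smul_eq G z z))

theorem TN_comm [IsPretransitive G X] (z : X) (A : Subgroup G) (hcomm : IsMulCommutative A)
    (x : X) : IsMulCommutative (TN z A x) := by
  refine ⟨⟨fun a b => ?_⟩⟩
  apply Subtype.ext
  obtain ⟨a, ha⟩ := a
  obtain ⟨b, hb⟩ := b
  unfold TN at ha hb
  rw [Subgroup.mem_pointwise_smul_iff_inv_smul_mem, MulAut.smul_def, ← map_inv,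
    MulAut.conj_apply, inv_inv] at ha hb
  set g := Classical.choose (exists_smul_eq G z x) with hg
  have h1 := hcomm.is_comm.comm ⟨_, ha⟩ ⟨_, hb⟩
  have h2 : (g⁻¹ * a * g) * (g⁻¹ * b * g) = (g⁻¹ * b * g) * (g⁻¹ * a * g) :=
    congrArg Subtype.val h1
  change a * b = b * a
  calc a * b = g * ((g⁻¹ * a * g) * (g⁻¹ * b * g)) * g⁻¹ := by group
    _ = g * ((g⁻¹ * b * g) * (g⁻¹ * a * g)) * g⁻¹ := by rw [h2]
    _ = b * a := by group

/-- an Iwasawa structure from a commutative subgroup normalised by a point stabiliser, whose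
conjugates generate the group -/
noncomputable def iwasawaOfNormal [IsPretransitive G X] (z : X) (A : Subgroup G)
    (hcomm : IsMulCommutative A)
    (hnorm : ∀ k : G, k • z = z → MulAut.conj k • A = A)
    (hgen : Subgroup.normalClosure (A : Set G) = ⊤) : IwasawaStructure G X where
  T := TN z A
  is_comm := TN_comm z A hcomm
  is_conj := TN_smul z A hnorm
  is_generator := by
    rw [eq_top_iff, ← hgen, Subgroup.normalClosure, Subgroup.closure_le]
    intro y hy
    obtain ⟨a, ha, hconj⟩ := Group.mem_conjugatesOfSet_iff.mp hy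
    obtain ⟨c, rfl⟩ := isConj_iff.mp hconj
    have h1 : c * a * c⁻¹ ∈ TN z A (c • z) := by
      rw [TN_smul z A hnorm, TN_base z A hnorm, Subgroup.mem_pointwise_smul_iff_inv_smul_mem,
        MulAut.smul_def, ← map_inv, MulAut.conj_apply, inv_inv]
      have : c⁻¹ * (c * a * c⁻¹) * c = a := by group
      rw [this]
      exact ha
    exact (le_iSup (TN z A) (c • z)) h1

end normal

section primitive

variable {G X : Type*} [Group G] [MulAction G X] [Fintype X] [DecidableEq X]

/-- **Primitivity from the suborbits.** -/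
theorem isPreprimitive_of_suborbits [IsPretransitive G X] (a : X) {r : ℕ} (O : Fin r → Finset X)
    (sz : Fin r → ℕ) (hsz : ∀ j, (O j).card = sz j)
    (hcover : ∀ x, x ≠ a → ∃ j, x ∈ O j)
    (hdisj : ∀ i j, i ≠ j → Disjoint (O i) (O j)) (ha : ∀ j, a ∉ O j)
    (htrans : ∀ j, ∀ x ∈ O j, ∀ y ∈ O j, ∃ g : G, g • a = a ∧ g • x = y)
    (hdvd : ∀ J : Finset (Fin r), J.Nonempty → J ≠ Finset.univ →
      ¬ (1 + ∑ j ∈ J, sz j) ∣ Fintype.card X) :
    IsPreprimitive G X := by
  classical
  apply IsPreprimitive.of_isTrivialBlock_base a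
  intro B haB hB
  -- the block is invariant under the stabiliser
  have hinv : ∀ g : G, g • a = a → ∀ x ∈ B, g • x ∈ B := by
    intro g hg x hx
    have h1 : g ∈ stabilizer G B := hB.stabilizer_le haB (mem_stabilizer_iff.mpr hg)
    have h2 : g • B = B := mem_stabilizer_iff.mp h1
    rw [← h2]
    exact Set.smul_mem_smul_set hx
  let J : Finset (Fin r) := Finset.univ.filter fun j => ∃ x ∈ O j, x ∈ B
  have hJ : ∀ j ∈ J, ∀ y ∈ O j, y ∈ B := by
    intro j hj y hy
    obtain ⟨x, hx, hxB⟩ := (Finset.mem_filter.mp hj).2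
    obtain ⟨g, hg, rfl⟩ := htrans j x hx y hy
    exact hinv g hg x hxB
  have hBeq : B = ↑(insert a (J.biUnion O)) := by
    ext x
    simp only [Finset.coe_insert, Finset.coe_biUnion, Set.mem_insert_iff, Set.mem_iUnion,
      Finset.mem_coe, exists_prop]
    constructor
    · intro hx
      by_cases hxa : x = a
      · exact Or.inl hxa
      · obtain ⟨j, hj⟩ := hcover x hxa
        exact Or.inr ⟨j, Finset.mem_filter.mpr ⟨Finset.mem_univ _, x, hj, hx⟩, hj⟩
    · rintro (rfl | ⟨j, hj, hxj⟩)
      · exact haB
      · exact hJ j hj x hxj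
  have hcard : B.ncard = 1 + ∑ j ∈ J, sz j := by
    rw [hBeq, Set.ncard_coe_finset, Finset.card_insert_of_notMem, Finset.card_biUnion]
    · rw [Nat.add_comm]
      congr 1
      exact Finset.sum_congr rfl (fun j _ => hsz j)
    · intro i _ j _ hij
      exact hdisj i j hij
    · simp only [Finset.mem_biUnion, not_exists, not_and]
      intro j _
      exact ha j
  by_cases hJ0 : J = ∅
  · left
    rw [hBeq, hJ0]
    simp
  · by_cases hJ1 : J = Finset.univ
    · right
      rw [Set.eq_univ_iff_forall]
      intro x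
      by_cases hxa : x = a
      · rw [hxa]; exact haB
      · obtain ⟨j, hj⟩ := hcover x hxa
        exact hJ j (by rw [hJ1]; exact Finset.mem_univ _) x hj
    · exfalso
      have h1 := hB.ncard_dvd_card ⟨a, haB⟩
      rw [hcard, Nat.card_eq_fintype_card] at h1
      exact hdvd J (Finset.nonempty_iff_ne_empty.mpr hJ0) hJ1 h1

end primitive

section perfect

variable {G : Type*} [Group G]

/-- two involutions whose product has order dividing three are conjugate -/
theorem isConj_of_braid {x y : G} (hx : x * x = 1) (hy : y * y = 1) (h : (x * y) ^ 3 = 1) :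
    ∃ g : G, g * x * g⁻¹ = y := by
  refine ⟨x * y, ?_⟩
  have hxi : x⁻¹ = x := inv_eq_of_mul_eq_one_left hx
  have hyi : y⁻¹ = y := inv_eq_of_mul_eq_one_left hy
  have h3 : x * y * (x * y) * (x * y) = 1 := by
    rw [← h, pow_succ, pow_succ, pow_one]
  rw [mul_inv_rev, hxi, hyi]
  -- x y x y x = y
  calc x * y * x * (y * x) = (x * y * (x * y) * (x * y)) * y := by
        rw [show x * y * (x * y) * (x * y) * y = x * y * x * (y * x) * (y * y) by group, hy, mul_one]
    _ = y := by rw [h3, one_mul]

/-- a group generated by conjugates of an involution, with a relation of odd length among the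
generators, is perfect -/
theorem commutator_eq_top_of_odd_relation (S : Set G) (hS : Subgroup.closure S = ⊤) (a : G)
    (hconj : ∀ s ∈ S, ∃ g : G, g * a * g⁻¹ = s) (ha : a * a = 1)
    (w : List G) (hw : ∀ s ∈ w, s ∈ S) (hodd : Odd w.length) (hprod : w.prod = 1) :
    commutator G = ⊤ := by
  have hπ : ∀ s ∈ S, Abelianization.of s = Abelianization.of a := by
    intro s hs
    obtain ⟨g, rfl⟩ := hconj s hs
    rw [map_mul, map_mul, map_inv, mul_comm (Abelianization.of g), mul_assoc,
      mul_inv_cancel, mul_one]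
  have h1 : (Abelianization.of a) ^ w.length = 1 := by
    have : (w.map Abelianization.of).prod = (Abelianization.of a) ^ w.length := by
      rw [List.prod_eq_pow_card _ (Abelianization.of a), List.length_map]
      intro x hx
      obtain ⟨s, hs, rfl⟩ := List.mem_map.mp hx
      exact hπ s (hw s hs)
    rw [← this, ← map_list_prod, hprod, map_one]
  have h2 : (Abelianization.of a) ^ 2 = 1 := by
    rw [pow_two, ← map_mul, ha, map_one]
  have h3 : Abelianization.of a = 1 := by
    obtain ⟨k, hk⟩ := hodd
    rw [hk, pow_succ, pow_mul, h2, one_pow, one_mul] at h1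
    exact h1
  have h4 : ∀ s ∈ S, s ∈ commutator G := by
    intro s hs
    rw [← Abelianization.ker_of, MonoidHom.mem_ker, hπ s hs, h3]
  rw [eq_top_iff, ← hS, Subgroup.closure_le]
  exact h4

end perfect

end Cfsg.Agent.Lib.H17.Iwa
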