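import Cfsg.Agent.Lib.H17.CosetPerm
import Cfsg.Agent.Lib.H17.Iwa

set_option autoImplicit false

/-! # Primitivity from orbit masks -/

namespace Cfsg.Agent.Lib.H17.Masks

open Cfsg.Agent.Lib.H17.CosetCert Cfsg.Agent.Lib.H17.Iwa MulAction

theorem tb_lor (a b i : ℕ) : tb (Nat.lor a b) i = (tb a i || tb b i) := by
  rw [tb_eq_testBit, tb_eq_testBit, tb_eq_testBit]
  exact Nat.testBit_lor a b i

theorem tb_land (a b i : ℕ) : tb (Nat.land a b) i = (tb a i && tb b i) := by
  rw [tb_eq_testBit, tb_eq_testBit, tb_eq_testBit]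
  exact Nat.testBit_land a b i

theorem tb_zero (i : ℕ) : tb 0 i = false := by
  rw [tb_eq_testBit]
  exact Nat.zero_testBit i

theorem tb_one (i : ℕ) : tb 1 i = decide (i = 0) := by
  rw [tb_eq_testBit]
  cases i with
  | zero => simp
  | succ i => simp [Nat.testBit_succ]

/-- if all `n` bits are counted, all are set -/
theorem all_of_count (m n : ℕ) (h : countBits m n 0 = n) : ∀ i < n, tb m i = true := by
  rw [countBits_eq, zero_add] at h
  have h2 : (Finset.range n).filter (fun i => tb m i = true) = Finset.range n := by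
    apply Finset.eq_of_subset_of_card_le (Finset.filter_subset _ _)
    rw [h, Finset.card_range]
  intro i hi
  have : i ∈ (Finset.range n).filter (fun i => tb m i = true) := by
    rw [h2]; exact Finset.mem_range.mpr hi
  exact (Finset.mem_filter.mp this).2

theorem disjoint_of_land (a b : ℕ) (h : Nat.land a b = 0) (i : ℕ) (ha : tb a i = true)
    (hb : tb b i = true) : False := by
  have := tb_land a b i
  rw [h, tb_zero, ha, hb] at this
  exact absurd this (by simp)

theorem card_filter_mask (m n : ℕ) :
    (Finset.univ.filter fun i : Fin n => tb m i = true).card = countBits m n 0 := by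
  rw [← ncard_mask, ← Set.ncard_coe_finset]
  congr 1
  ext i
  simp

/-- **Primitivity from the orbit masks of the point stabiliser.** -/
theorem prim_of_masks {G : Type*} [Group G] {n : ℕ} [MulAction G (Fin n)]
    [IsPretransitive G (Fin n)] (z : Fin n) {r : ℕ} (masks : Fin r → ℕ) (sz : Fin r → ℕ)
    (hcount : ∀ j, countBits (masks j) n 0 = sz j)
    (hcover : ∀ i : Fin n, i ≠ z → ∃ j, tb (masks j) i = true)
    (hdisj : ∀ i j, i ≠ j → Nat.land (masks i) (masks j) = 0)
    (hz : ∀ j, tb (masks j) z = false)
    (htrans : ∀ j, ∀ x y : Fin n, tb (masks j) x = true → tb (masks j) y = true →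
      ∃ g : G, g • z = z ∧ g • x = y)
    (hdvd : ∀ J : Finset (Fin r), J.Nonempty → J ≠ Finset.univ →
      ¬ (1 + ∑ j ∈ J, sz j) ∣ n) : IsPreprimitive G (Fin n) := by
  apply isPreprimitive_of_suborbits z
    (fun j => Finset.univ.filter fun i : Fin n => tb (masks j) i = true) sz
  · intro j
    rw [card_filter_mask, hcount]
  · intro x hx
    obtain ⟨j, hj⟩ := hcover x hx
    exact ⟨j, Finset.mem_filter.mpr ⟨Finset.mem_univ _, hj⟩⟩
  · intro i j hij
    rw [Finset.disjoint_left]
    intro x hxi hxj
    exact disjoint_of_land _ _ (hdisj i j hij) x (Finset.mem_filter.mp hxi).2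
      (Finset.mem_filter.mp hxj).2
  · intro j hj
    have := (Finset.mem_filter.mp hj).2
    rw [hz j] at this
    exact absurd this (by simp)
  · intro j x hx y hy
    exact htrans j x y (Finset.mem_filter.mp hx).2 (Finset.mem_filter.mp hy).2
  · intro J h1 h2
    rw [Fintype.card_fin]
    exact hdvd J h1 h2

end Cfsg.Agent.Lib.H17.Masks
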