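import Cfsg.Agent.Lib.H17.Sift

set_option autoImplicit false

/-! # Computing with elements of a group through functions giving their action on points

For a group acting faithfully on `Fin n`: words in generators whose action is given by packed
tables, equality of elements by their action on a base, words in arbitrary elements, and the
conjugacy test: an element conjugating `x` to `y` maps an orbit of `x` to an orbit of `y`. -/

namespace Cfsg.Agent.Lib.H17.PermActs

open Cfsg.Agent.Lib.H17.CosetCert Cfsg.Agent.Lib.H17.Sgs Cfsg.Agent.Lib.H17.Sift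

/-! ## Loops the kernel evaluates without deep recursion -/

/-- `f i` holds for all `i < n` -/
noncomputable def allLt (f : ℕ → Bool) (n : ℕ) : Bool :=
  Nat.rec (motive := fun _ => Bool) true (fun i ih => cond (f i) ih false) n

theorem allLt_sound (f : ℕ → Bool) (n : ℕ) (h : allLt f n = true) : ∀ i < n, f i = true := by
  induction n with
  | zero => intro i hi; omega
  | succ n ih =>
    have h' : cond (f n) (allLt f n) false = true := h
    cases hb : f n with
    | false => rw [hb] at h'; exact absurd h' (by simp)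
    | true =>
      rw [hb] at h'
      intro i hi
      rcases Nat.lt_succ_iff_lt_or_eq.mp hi with hlt | rfl
      · exact ih h' i hlt
      · exact hb

/-- apply the function `k` times -/
noncomputable def iterA (A : ℕ → ℕ) (k p : ℕ) : ℕ :=
  Nat.rec (motive := fun _ => ℕ) p (fun _ ih => A ih) k

theorem iterA_zero (A : ℕ → ℕ) (p : ℕ) : iterA A 0 p = p := rfl

theorem iterA_succ (A : ℕ → ℕ) (k p : ℕ) : iterA A (k + 1) p = A (iterA A k p) := rfl

theorem iterA_succ' (A : ℕ → ℕ) (k p : ℕ) : iterA A (k + 1) p = iterA A k (A p) := by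
  induction k with
  | zero => rfl
  | succ k ih => rw [iterA_succ, ih, iterA_succ]

/-- the points `p, A p, A (A p), …`, `k` of them -/
noncomputable def orbl (A : ℕ → ℕ) : ℕ → ℕ → List ℕ :=
  Nat.rec (motive := fun _ => ℕ → List ℕ) (fun _ => [])
    (fun _ ih p => p :: CosetCert.force (A p) ih)

theorem orbl_zero (A : ℕ → ℕ) (p : ℕ) : orbl A 0 p = [] := rfl

theorem orbl_succ (A : ℕ → ℕ) (k p : ℕ) : orbl A (k + 1) p = p :: orbl A k (A p) := by
  change p :: CosetCert.force (A p) (orbl A k) = _
  rw [force_eq]

section acts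

variable {G : Type*} [Group G] {n : ℕ} (φ : G →* Equiv.Perm (Fin n))

/-- the element acts on the points by the function -/
def Acts (x : G) (A : ℕ → ℕ) : Prop := ∀ p : Fin n, ((φ x p : Fin n) : ℕ) = A p

variable {φ}

theorem Acts.pt {x : G} {A : ℕ → ℕ} (hx : Acts φ x A) (b : ℕ) (hb : b < n) : pt φ x b = A b := by
  rw [pt_of_lt φ x b hb]
  exact hx ⟨b, hb⟩

theorem Acts.lt {x : G} {A : ℕ → ℕ} (hx : Acts φ x A) (b : ℕ) (hb : b < n) : A b < n := by
  rw [← hx ⟨b, hb⟩]
  exact (φ x ⟨b, hb⟩).2

theorem Acts.one : Acts φ (1 : G) (fun p => p) := by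
  intro p
  rw [map_one]
  rfl

theorem Acts.mul {x y : G} {A B : ℕ → ℕ} (hx : Acts φ x A) (hy : Acts φ y B) :
    Acts φ (x * y) (fun p => A (B p)) := by
  intro p
  rw [map_mul, Equiv.Perm.mul_apply, hx, hy]

theorem Acts.congr {x : G} {A B : ℕ → ℕ} (hx : Acts φ x A) (h : ∀ p : Fin n, A p = B p) :
    Acts φ x B := by
  intro p
  rw [hx, h]

theorem Acts.pow {x : G} {A : ℕ → ℕ} (hx : Acts φ x A) (k : ℕ) : Acts φ (x ^ k) (iterA A k) := by
  induction k with
  | zero =>
    intro p
    rw [pow_zero, map_one]
    rfl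
  | succ k ih =>
    intro p
    rw [pow_succ', map_mul, Equiv.Perm.mul_apply, hx, ih, iterA_succ]

/-- an element which fixes the base is trivial -/
def IsBase (φ : G →* Equiv.Perm (Fin n)) (base : List ℕ) : Prop :=
  ∀ g : G, (∀ c ∈ base, pt φ g c = c) → g = 1

theorem eq_of_acts {base : List ℕ} (hbase : IsBase φ base) (hlt : ∀ c ∈ base, c < n) {x y : G}
    {A B : ℕ → ℕ} (hx : Acts φ x A) (hy : Acts φ y B) (h : ∀ b ∈ base, A b = B b) : x = y := by
  have h1 : x⁻¹ * y = 1 := by
    apply hbase
    intro c hc
    have hcn := hlt c hc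
    rw [pt_mul φ x⁻¹ y c hcn, hy.pt c hcn, ← h c hc, ← hx.pt c hcn, ← pt_mul φ x⁻¹ x c hcn,
      inv_mul_cancel, pt_one]
  rw [← mul_one x, ← h1, mul_inv_cancel_left]

theorem ne_of_acts {x y : G} {A B : ℕ → ℕ} (hx : Acts φ x A) (hy : Acts φ y B) (b : ℕ)
    (hb : b < n) (h : A b ≠ B b) : x ≠ y := by
  rintro rfl
  apply h
  rw [← hx ⟨b, hb⟩, ← hy ⟨b, hb⟩]

/-! ## Words in generators with tables -/

variable (wb Wm : ℕ)

/-- the element of a word in the generators -/
def eW (gens : ℕ → G) (L : List ℕ) : G := (L.map gens).prod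

theorem eW_nil (gens : ℕ → G) : eW gens [] = 1 := rfl

theorem eW_cons (gens : ℕ → G) (x : ℕ) (L : List ℕ) : eW gens (x :: L) = gens x * eW gens L := by
  unfold eW
  rw [List.map_cons, List.prod_cons]

theorem acts_eW (gens : ℕ → G) (tabf : ℕ → ℕ)
    (h : ∀ x, Acts φ (gens x) (lk wb Wm (tabf x))) (L : List ℕ) :
    Acts φ (eW gens L) (applyT wb Wm (L.reverse.map tabf)) := by
  induction L with
  | nil =>
    intro p
    rw [eW_nil, map_one]
    rfl
  | cons x L ih =>
    rw [eW_cons]
    refine ((h x).mul ih).congr fun p => ?_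
    rw [List.reverse_cons, List.map_append, applyT_append, List.map_cons, List.map_nil, applyT_cons,
      applyT_nil]

theorem acts_eW_chk (gens : ℕ → G) (tabf : ℕ → ℕ)
    (h : ∀ x, Acts φ (gens x) (lk wb Wm (tabf x))) (L : List ℕ) (T : ℕ)
    (hT : allLt (fun p => Nat.beq (applyT wb Wm (L.reverse.map tabf) p) (lk wb Wm T p)) n = true) :
    Acts φ (eW gens L) (lk wb Wm T) :=
  (acts_eW wb Wm gens tabf h L).congr fun p => Nat.eq_of_beq_eq_true (allLt_sound _ _ hT p p.2)

/-! ## Words in arbitrary elements -/

/-- the value of a word in the elements of a list -/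
def evalW (vals : List G) (w : List ℕ) : G := (w.map fun i => vals.getD i 1).prod

theorem evalW_nil (vals : List G) : evalW vals [] = 1 := rfl

theorem evalW_cons (vals : List G) (i : ℕ) (w : List ℕ) :
    evalW vals (i :: w) = vals.getD i 1 * evalW vals w := by
  unfold evalW
  rw [List.map_cons, List.prod_cons]

theorem map_evalW {H : Type*} [Group H] (f : G →* H) (vals : List G) (w : List ℕ) :
    f (evalW vals w) = evalW (vals.map f) w := by
  induction w with
  | nil => simp [evalW]
  | cons i w ih =>
    rw [evalW_cons, evalW_cons, map_mul, ih]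
    congr 1
    rw [List.getD_eq_getElem?_getD, List.getD_eq_getElem?_getD, List.getElem?_map]
    cases vals[i]? with
    | none => simp
    | some v => simp

/-- the action of a word, from the actions of the letters -/
noncomputable def evalA (As : List (ℕ → ℕ)) : List ℕ → ℕ → ℕ :=
  List.rec (motive := fun _ => ℕ → ℕ) (fun p => p) (fun i _ ih p => As.getD i (fun q => q) (ih p))

theorem evalA_nil (As : List (ℕ → ℕ)) (p : ℕ) : evalA As [] p = p := rfl

theorem evalA_cons (As : List (ℕ → ℕ)) (i : ℕ) (w : List ℕ) (p : ℕ) :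
    evalA As (i :: w) p = As.getD i (fun q => q) (evalA As w p) := rfl

theorem acts_evalW (vals : List G) (As : List (ℕ → ℕ))
    (h : List.Forall₂ (fun x A => Acts φ x A) vals As) (w : List ℕ) :
    Acts φ (evalW vals w) (evalA As w) := by
  have hget : ∀ i, Acts φ (vals.getD i 1) (As.getD i (fun q => q)) := by
    intro i
    induction h generalizing i with
    | nil => simpa using Acts.one
    | cons hx _ ih =>
      cases i with
      | zero => simpa using hx
      | succ i => simpa using ih i
  induction w with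
  | nil => exact Acts.one
  | cons i w ih =>
    rw [evalW_cons]
    exact ((hget i).mul ih).congr fun p => rfl

end acts

end Cfsg.Agent.Lib.H17.PermActs
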