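import Cfsg.Agent.Lib.H17.Masks

set_option autoImplicit false

/-! # Primitivity from the suborbits, with explicit refutation of the candidate blocks whose size
divides the degree -/

namespace Cfsg.Agent.Lib.H17.IwaPrim

open MulAction Cfsg.Agent.Lib.H17.CosetCert Cfsg.Agent.Lib.H17.Iwa Cfsg.Agent.Lib.H17.Masks
open scoped Pointwise

section primitive

variable {G X : Type*} [Group G] [MulAction G X] [Fintype X] [DecidableEq X]

/-- **Primitivity from the suborbits.** A union of suborbits, together with the base point, whose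
size divides the degree is excluded by an element `g` and a point `y` of the union with `g • a` in
the union and `g • y` outside it. -/
theorem isPreprimitive_of_suborbits' [IsPretransitive G X] (a : X) {r : ℕ} (O : Fin r → Finset X)
    (sz : Fin r → ℕ) (hsz : ∀ j, (O j).card = sz j)
    (hcover : ∀ x, x ≠ a → ∃ j, x ∈ O j)
    (hdisj : ∀ i j, i ≠ j → Disjoint (O i) (O j)) (ha : ∀ j, a ∉ O j)
    (htrans : ∀ j, ∀ x ∈ O j, ∀ y ∈ O j, ∃ g : G, g • a = a ∧ g • x = y)
    (hdvd : ∀ J : Finset (Fin r), J.Nonempty → J ≠ Finset.univ →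
      (1 + ∑ j ∈ J, sz j) ∣ Fintype.card X →
      ∃ (g : G) (y : X), (∃ j ∈ J, g • a ∈ O j) ∧ (∃ j ∈ J, y ∈ O j) ∧ g • y ≠ a ∧
        ∀ j ∈ J, g • y ∉ O j) :
    IsPreprimitive G X := by
  classical
  apply IsPreprimitive.of_isTrivialBlock_base a
  intro B haB hB
  have hinv : ∀ g : G, g • a = a → ∀ x ∈ B, g • x ∈ B := by
    intro g hg x hx
    have h1 : g ∈ stabilizer G B := hB.stabilizer_le haB (mem_stabilizer_iff.mpr hg)
    have h2 : g • B = B := mem_stabilizer_iff.mp h1
    rw [← h2]
    exact Set.smul_mem_smul_set hx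
  let J : Finset (Fin r) := Finset.univ.filter fun j => ∃ x ∈ O j, x ∈ B
  have hJ : ∀ j ∈ J, ∀ y ∈ O j, y ∈ B := by
    intro j hj y hy
    obtain ⟨x, hx, hxB⟩ := (Finset.mem_filter.mp hj).2
    obtain ⟨g, hg, rfl⟩ := htrans j x hx y hy
    exact hinv g hg x hxB
  have hBeq : B = ↑(insert a (J.biUnion O)) := by
    ext x
    simp only [Finset.coe_insert, Finset.coe_biUnion, Set.mem_insert_iff, Set.mem_iUnion,
      Finset.mem_coe, exists_prop]
    constructor
    · intro hx
      by_cases hxa : x = a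
      · exact Or.inl hxa
      · obtain ⟨j, hj⟩ := hcover x hxa
        exact Or.inr ⟨j, Finset.mem_filter.mpr ⟨Finset.mem_univ _, x, hj, hx⟩, hj⟩
    · rintro (rfl | ⟨j, hj, hxj⟩)
      · exact haB
      · exact hJ j hj x hxj
  have hcard : B.ncard = 1 + ∑ j ∈ J, sz j := by
    rw [hBeq, Set.ncard_coe_finset, Finset.card_insert_of_notMem, Finset.card_biUnion]
    · rw [Nat.add_comm]
      congr 1
      exact Finset.sum_congr rfl (fun j _ => hsz j)
    · intro i _ j _ hij
      exact hdisj i j hij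
    · simp only [Finset.mem_biUnion, not_exists, not_and]
      intro j _
      exact ha j
  by_cases hJ0 : J = ∅
  · left
    rw [hBeq, hJ0]
    simp
  · by_cases hJ1 : J = Finset.univ
    · right
      rw [Set.eq_univ_iff_forall]
      intro x
      by_cases hxa : x = a
      · rw [hxa]; exact haB
      · obtain ⟨j, hj⟩ := hcover x hxa
        exact hJ j (by rw [hJ1]; exact Finset.mem_univ _) x hj
    · exfalso
      have h1 := hB.ncard_dvd_card ⟨a, haB⟩
      rw [hcard, Nat.card_eq_fintype_card] at h1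
      obtain ⟨g, y, ⟨j1, hj1, hga⟩, ⟨j2, hj2, hy⟩, hne, hout⟩ :=
        hdvd J (Finset.nonempty_iff_ne_empty.mpr hJ0) hJ1 h1
      have hgaB : g • a ∈ B := hJ j1 hj1 _ hga
      have hyB : y ∈ B := hJ j2 hj2 _ hy
      have hgB : g • B = B := hB.smul_eq_of_mem haB hgaB
      have hgy : g • y ∈ B := by
        rw [← hgB]
        exact Set.smul_mem_smul_set hyB
      rw [hBeq] at hgy
      simp only [Finset.coe_insert, Finset.coe_biUnion, Set.mem_insert_iff, Set.mem_iUnion,
        Finset.mem_coe, exists_prop] at hgy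
      rcases hgy with h | ⟨j, hj, hmem⟩
      · exact hne h
      · exact hout j hj hmem

end primitive

/-- **Primitivity from the orbit masks of the point stabiliser**, with refutations. -/
theorem prim_of_masks' {G : Type*} [Group G] {n : ℕ} [MulAction G (Fin n)]
    [IsPretransitive G (Fin n)] (z : Fin n) {r : ℕ} (masks : Fin r → ℕ) (sz : Fin r → ℕ)
    (hcount : ∀ j, countBits (masks j) n 0 = sz j)
    (hcover : ∀ i : Fin n, i ≠ z → ∃ j, tb (masks j) i = true)
    (hdisj : ∀ i j, i ≠ j → Nat.land (masks i) (masks j) = 0)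
    (hz : ∀ j, tb (masks j) z = false)
    (htrans : ∀ j, ∀ x y : Fin n, tb (masks j) x = true → tb (masks j) y = true →
      ∃ g : G, g • z = z ∧ g • x = y)
    (hdvd : ∀ J : Finset (Fin r), J.Nonempty → J ≠ Finset.univ →
      (1 + ∑ j ∈ J, sz j) ∣ n →
      ∃ (g : G) (y : Fin n), (∃ j ∈ J, tb (masks j) ((g • z : Fin n) : ℕ) = true) ∧
        (∃ j ∈ J, tb (masks j) y = true) ∧ g • y ≠ z ∧ ∀ j ∈ J, tb (masks j) ((g • y : Fin n) : ℕ) = false) :
    IsPreprimitive G (Fin n) := by
  apply isPreprimitive_of_suborbits' z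
    (fun j => Finset.univ.filter fun i : Fin n => tb (masks j) i = true) sz
  · intro j
    rw [card_filter_mask, hcount]
  · intro x hx
    obtain ⟨j, hj⟩ := hcover x hx
    exact ⟨j, Finset.mem_filter.mpr ⟨Finset.mem_univ _, hj⟩⟩
  · intro i j hij
    rw [Finset.disjoint_left]
    intro x hxi hxj
    exact disjoint_of_land _ _ (hdisj i j hij) x (Finset.mem_filter.mp hxi).2
      (Finset.mem_filter.mp hxj).2
  · intro j hj
    have := (Finset.mem_filter.mp hj).2
    rw [hz j] at this
    exact absurd this (by simp)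
  · intro j x hx y hy
    exact htrans j x y (Finset.mem_filter.mp hx).2 (Finset.mem_filter.mp hy).2
  · intro J h1 h2 h3
    rw [Fintype.card_fin] at h3
    obtain ⟨g, y, ⟨j1, hj1, h4⟩, ⟨j2, hj2, h5⟩, h6, h7⟩ := hdvd J h1 h2 h3
    refine ⟨g, y, ⟨j1, hj1, Finset.mem_filter.mpr ⟨Finset.mem_univ _, h4⟩⟩,
      ⟨j2, hj2, Finset.mem_filter.mpr ⟨Finset.mem_univ _, h5⟩⟩, h6, fun j hj hmem => ?_⟩
    have := (Finset.mem_filter.mp hmem).2
    rw [h7 j hj] at this
    exact absurd this (by simp)

end Cfsg.Agent.Lib.H17.IwaPrim
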