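import Cfsg.Agent.Lib.H17.CosetCert

set_option autoImplicit false

/-! # Bounding the order of a group by a chain of certified coset enumerations

`K γ k` is the subgroup generated by the first `k` letters.  A certified enumeration of the
sub-presentation on the first `k` letters over the first `k'` letters bounds the relative index
of `K γ k'` in `K γ k`; the bounds multiply along a chain. -/

namespace Cfsg.Agent.Lib.H17.SubChain

open Cfsg.Agent.Lib.H17.CosetCert

/-- what a certified enumeration proves: every transitive action of a group generated by `k`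
involutions, in which the relator words act trivially and the subgroup generator words fix the
base point, has at most `n` points -/
def Bound (words : WT) (k n : ℕ) : Prop :=
  ∀ (G' : Type) [Group G'] (Q' : Type) [MulAction G' Q'] [MulAction.IsPretransitive G' Q']
    (γ' : ℕ → G'), (∀ x, γ' x * γ' x = 1) → ∀ q0 : Q', WordsOK γ' q0 words →
    Subgroup.closure {g : G' | ∃ x < k, g = γ' x} = ⊤ → Finite Q' ∧ Nat.card Q' ≤ n

variable {G : Type} [Group G]

/-- the subgroup generated by the first `k` letters -/
def K (γ : ℕ → G) (k : ℕ) : Subgroup G := Subgroup.closure {g : G | ∃ x < k, g = γ x}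

theorem K_mono (γ : ℕ → G) {k' k : ℕ} (h : k' ≤ k) : K γ k' ≤ K γ k := by
  apply Subgroup.closure_mono
  rintro _ ⟨x, hx, rfl⟩
  exact ⟨x, lt_of_lt_of_le hx h, rfl⟩

theorem K_zero (γ : ℕ → G) : K γ 0 = ⊥ := by
  unfold K
  have : {g : G | ∃ x < 0, g = γ x} = ∅ := by
    ext g
    simp
  rw [this, Subgroup.closure_empty]

theorem mem_K (γ : ℕ → G) {k x : ℕ} (h : x < k) : γ x ∈ K γ k :=
  Subgroup.subset_closure ⟨x, h, rfl⟩

/-- one level of the chain -/
theorem level (γ : ℕ → G) (hinv : ∀ x, γ x * γ x = 1) (words : WT) (k k' n : ℕ)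
    (hB : Bound words k n)
    (hw : ∀ v ∈ words.toList, (∀ x ∈ v.1, x < k) ∧ (v.2 = true → (v.1.map γ).prod = 1) ∧
      (v.2 = false → (v.1.map γ).prod ∈ K γ k')) :
    (K γ k').relIndex (K γ k) ≠ 0 ∧ (K γ k').relIndex (K γ k) ≤ n := by
  classical
  let γ' : ℕ → K γ k := fun x => if h : x < k then ⟨γ x, mem_K γ h⟩ else 1
  have hγ' : ∀ x, γ' x * γ' x = 1 := by
    intro x
    by_cases h : x < k
    · simp only [γ', dif_pos h]
      apply Subtype.ext
      simpa using hinv x
    · simp only [γ', dif_neg h, mul_one]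
  have hcoe : ∀ v : List ℕ, (∀ x ∈ v, x < k) → (((v.map γ').prod : K γ k) : G) = (v.map γ).prod := by
    intro v
    induction v with
    | nil => intro _; simp
    | cons x v ih =>
      intro hv
      have hx : x < k := hv x List.mem_cons_self
      rw [List.map_cons, List.prod_cons, List.map_cons, List.prod_cons, Subgroup.coe_mul,
        ih (fun y hy => hv y (List.mem_cons_of_mem _ hy))]
      simp only [γ', dif_pos hx]
  have hOK : WordsOK γ' (((1 : K γ k) : K γ k ⧸ (K γ k').subgroupOf (K γ k))) words := by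
    intro v hv
    obtain ⟨h1, h2, h3⟩ := hw v hv
    constructor
    · intro hr q
      apply act_eq_of_prod_eq_one γ' hγ'
      apply Subtype.ext
      rw [hcoe _ h1]
      exact h2 hr
    · intro hr
      rw [act_eq_smul, prod_reverse_of_invol γ' hγ']
      have hmem : (v.1.map γ').prod ∈ (K γ k').subgroupOf (K γ k) := by
        rw [Subgroup.mem_subgroupOf, hcoe _ h1]
        exact h3 hr
      rw [MulAction.Quotient.smul_mk, smul_eq_mul, mul_one]
      apply Quotient.sound'
      rw [QuotientGroup.leftRel_apply]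
      simpa using hmem
  have hgen : Subgroup.closure {g : K γ k | ∃ x < k, g = γ' x} = ⊤ := by
    rw [eq_top_iff]
    rintro ⟨g, hg⟩ -
    have key : ∀ g : G, ∀ hg : g ∈ K γ k,
        (⟨g, hg⟩ : K γ k) ∈ Subgroup.closure {g : K γ k | ∃ x < k, g = γ' x} := by
      intro g hg
      induction hg using Subgroup.closure_induction with
      | mem y hy =>
        obtain ⟨x, hx, rfl⟩ := hy
        apply Subgroup.subset_closure
        refine ⟨x, hx, ?_⟩
        simp only [γ', dif_pos hx]
      | one => exact one_mem _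
      | mul a b ha hb iha ihb => exact mul_mem iha ihb
      | inv a ha iha => exact inv_mem iha
    exact key g hg
  obtain ⟨hfin, hcard⟩ := hB (K γ k) (K γ k ⧸ (K γ k').subgroupOf (K γ k)) γ' hγ' _ hOK hgen
  have hidx : (K γ k').relIndex (K γ k) =
      Nat.card (K γ k ⧸ (K γ k').subgroupOf (K γ k)) := rfl
  rw [hidx]
  exact ⟨(Nat.card_pos).ne', hcard⟩

/-- the bounds multiply -/
theorem card_step (γ : ℕ → G) {k' k m n : ℕ} (hk : k' ≤ k)
    (h1 : 0 < Nat.card (K γ k') ∧ Nat.card (K γ k') ≤ m)
    (h2 : (K γ k').relIndex (K γ k) ≠ 0 ∧ (K γ k').relIndex (K γ k) ≤ n) :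
    0 < Nat.card (K γ k) ∧ Nat.card (K γ k) ≤ n * m := by
  have h := Subgroup.relIndex_mul_relIndex ⊥ (K γ k') (K γ k) bot_le (K_mono γ hk)
  rw [Subgroup.relIndex_bot_left, Subgroup.relIndex_bot_left] at h
  rw [← h]
  constructor
  · exact Nat.mul_pos h1.1 (Nat.pos_of_ne_zero h2.1)
  · rw [Nat.mul_comm]
    exact Nat.mul_le_mul h2.2 h1.2

theorem card_zero (γ : ℕ → G) : 0 < Nat.card (K γ 0) ∧ Nat.card (K γ 0) ≤ 1 := by
  rw [K_zero]
  simp

/-- exact relative index at a level where it is known -/
theorem card_step_eq (γ : ℕ → G) {k' k m n : ℕ} (hk : k' ≤ k)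
    (h1 : 0 < Nat.card (K γ k') ∧ Nat.card (K γ k') ≤ m)
    (h2 : (K γ k').relIndex (K γ k) = n) (hn : n ≠ 0) :
    0 < Nat.card (K γ k) ∧ Nat.card (K γ k) ≤ n * m :=
  card_step γ hk h1 ⟨by rw [h2]; exact hn, le_of_eq h2⟩

/-- **Collapse.** If the presentation enlarged by words lying in a normal subgroup `N` defines the
trivial group (certified enumeration over the trivial subgroup with one coset), then `N = ⊤`. -/
theorem normal_eq_top (γ : ℕ → G) (hinv : ∀ x, γ x * γ x = 1) (k : ℕ)
    (hgen : Subgroup.closure {g : G | ∃ x < k, g = γ x} = ⊤) (N : Subgroup G) [N.Normal]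
    (words : WT) (hB : Bound words k 1)
    (hw : ∀ v ∈ words.toList, v.2 = true ∧ (v.1.map γ).prod ∈ N) : N = ⊤ := by
  have hOK : WordsOK γ (((1 : G) : G ⧸ N)) words := by
    intro v hv
    obtain ⟨h1, h2⟩ := hw v hv
    constructor
    · intro _ q
      rw [act_eq_smul, prod_reverse_of_invol γ hinv]
      induction q using QuotientGroup.induction_on with
      | H g =>
        rw [MulAction.Quotient.smul_mk, smul_eq_mul]
        apply Quotient.sound'
        rw [QuotientGroup.leftRel_apply]
        have h3 : g⁻¹ * (v.1.map γ).prod * g ∈ N := by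
          have := Subgroup.Normal.conj_mem (inferInstance : N.Normal) _ h2 g⁻¹
          simpa using this
        have : (((v.1.map γ).prod)⁻¹ * g)⁻¹ * g = g⁻¹ * (v.1.map γ).prod * g := by group
        rw [this]
        exact h3
    · intro hf
      rw [h1] at hf
      exact absurd hf (by simp)
  obtain ⟨hfin, hcard⟩ := hB G (G ⧸ N) γ hinv _ hOK hgen
  have hidx : N.index = 1 := by
    have : N.index = Nat.card (G ⧸ N) := rfl
    have hpos : 0 < Nat.card (G ⧸ N) := Nat.card_pos
    omega
  exact Subgroup.index_eq_one.mp hidx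

end Cfsg.Agent.Lib.H17.SubChain
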