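import Mathlib

set_option autoImplicit false

/-! # Outer automorphisms of a group with a self-centralising Sylow subgroup of prime order

Let `s` generate a Sylow `p`-subgroup of order `p` which is its own centraliser, let `d` normalise it,
and let `t` commute with `d`, the three generating the group. Up to inner automorphisms an
automorphism maps `s` to one of a few powers of `s`, fixes `d`, and maps `t` into the centraliser
of `d`; relations that hold for `s`, `d`, `t` decide which of these possibilities occur. -/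

namespace Cfsg.Agent.Lib.H17.OutRigid

variable {G : Type*} [Group G]

/-- two elements of prime order `p`, where `p ^ 2` does not divide the order of the group: one is
conjugate to a power of the other -/
theorem conj_mem_zpowers [Finite G] {p : ℕ} (hp : p.Prime) (hcard : ¬ p ^ 2 ∣ Nat.card G)
    {x s : G} (hx : orderOf x = p) (hs : orderOf s = p) :
    ∃ g : G, g * x * g⁻¹ ∈ Subgroup.zpowers s := by
  haveI : Fact p.Prime := ⟨hp⟩
  have hPx : IsPGroup p (Subgroup.zpowers x) :=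
    IsPGroup.of_card (n := 1) (by rw [Nat.card_zpowers, hx, pow_one])
  have hPs : IsPGroup p (Subgroup.zpowers s) :=
    IsPGroup.of_card (n := 1) (by rw [Nat.card_zpowers, hs, pow_one])
  obtain ⟨Qx, hQx⟩ := hPx.exists_le_sylow
  obtain ⟨Qs, hQs⟩ := hPs.exists_le_sylow
  have hdvd : p ∣ Nat.card G := by rw [← hx]; exact orderOf_dvd_natCard x
  have hfac : (Nat.card G).factorization p = 1 := by
    have hpos : Nat.card G ≠ 0 := Nat.card_pos.ne'
    apply le_antisymm
    · by_contra hcon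
      push Not at hcon
      exact hcard ((hp.pow_dvd_iff_le_factorization hpos).2 hcon)
    · exact (hp.dvd_iff_one_le_factorization hpos).1 hdvd
  have hcardQ : ∀ Q : Sylow p G, Nat.card Q = p := by
    intro Q
    rw [Sylow.card_eq_multiplicity, hfac, pow_one]
  have hx' : Subgroup.zpowers x = Qx :=
    Subgroup.eq_of_le_of_card_ge hQx (by rw [hcardQ, Nat.card_zpowers, hx])
  have hs' : Subgroup.zpowers s = Qs :=
    Subgroup.eq_of_le_of_card_ge hQs (by rw [hcardQ, Nat.card_zpowers, hs])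
  obtain ⟨g, hg⟩ := MulAction.exists_smul_eq G Qx Qs
  refine ⟨g, ?_⟩
  rw [hs', ← hg, Sylow.coe_subgroup_smul, Subgroup.mem_smul_pointwise_iff_exists]
  refine ⟨x, ?_, ?_⟩
  · rw [← hx']
    exact Subgroup.mem_zpowers x
  · rw [MulAut.smul_def, MulAut.conj_apply]

/-- an element of the group generated by `s` is a power with a natural exponent -/
theorem exists_pow_of_mem_zpowers [Finite G] (s x : G) (hx : x ∈ Subgroup.zpowers s) :
    ∃ i : ℕ, x = s ^ i := by
  have h := (mem_powers_iff_mem_zpowers (x := s) (y := x)).mpr hx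
  obtain ⟨i, hi⟩ := (Submonoid.mem_powers_iff _ _).mp h
  exact ⟨i, hi.symm⟩

theorem conj_pow_pow {s d : G} {a : ℕ} (hds : d * s * d⁻¹ = s ^ a) (m i : ℕ) :
    d ^ m * s ^ i * (d ^ m)⁻¹ = s ^ (i * a ^ m) := by
  induction m generalizing i with
  | zero => simp
  | succ m ih =>
    have h1 : d ^ (m + 1) * s ^ i * (d ^ (m + 1))⁻¹ = d * (d ^ m * s ^ i * (d ^ m)⁻¹) * d⁻¹ := by
      rw [pow_succ']
      group
    rw [h1, ih, ← conj_pow, hds, ← pow_mul]
    congr 1
    ring

theorem pow_eq_of_mod {s : G} {p : ℕ} (hs : orderOf s = p) {x y : ℕ} (h : x % p = y % p) :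
    s ^ x = s ^ y := by
  rw [pow_eq_pow_iff_modEq, hs]
  exact h

/-- after an inner automorphism, an automorphism maps `s` to one of the listed powers and fixes
`d` -/
theorem pin_sd [Finite G] {p a c : ℕ} (hp : p.Prime) (hcard : ¬ p ^ 2 ∣ Nat.card G)
    (s d : G) (hs : orderOf s = p) (hds : d * s * d⁻¹ = s ^ a)
    (hC : ∀ x : G, x * s = s * x → x ∈ Subgroup.zpowers s)
    (hc : (c * a) % p = (c + 1) % p)
    (J : List ℕ) (hJ : ∀ i, 0 < i → i < p → ∃ j ∈ J, ∃ l, (i * a ^ l) % p = j % p)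
    (α : MulAut G) :
    ∃ k : G, ∃ j ∈ J, k * α s * k⁻¹ = s ^ j ∧ k * α d * k⁻¹ = d := by
  have hsp : s ^ p = 1 := by rw [← hs]; exact pow_orderOf_eq_one s
  have hαs : orderOf (α s) = p := by rw [MulEquiv.orderOf_eq α s, hs]
  obtain ⟨g, hg⟩ := conj_mem_zpowers hp hcard hαs hs
  obtain ⟨i0, hi0⟩ := exists_pow_of_mem_zpowers s _ hg
  -- reduce the exponent
  have hi1 : g * α s * g⁻¹ = s ^ (i0 % p) := by
    rw [hi0]
    exact pow_eq_of_mod hs (Nat.mod_mod _ _).symm
  have hne : g * α s * g⁻¹ ≠ 1 := by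
    intro h
    have h2 : α s = 1 := by
      have : α s = g⁻¹ * (g * α s * g⁻¹) * g := by group
      rw [this, h]
      group
    rw [h2, orderOf_one] at hαs
    exact hp.one_lt.ne hαs
  have hi0pos : 0 < i0 % p := by
    rcases Nat.eq_zero_or_pos (i0 % p) with h | h
    · rw [h, pow_zero] at hi1
      exact absurd hi1 hne
    · exact h
  obtain ⟨j, hjJ, l, hl⟩ := hJ (i0 % p) hi0pos (Nat.mod_lt _ hp.pos)
  -- first adjustment
  obtain ⟨k1, hk1⟩ : ∃ k1 : G, k1 = d ^ l * g := ⟨_, rfl⟩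
  have hk1s : k1 * α s * k1⁻¹ = s ^ j := by
    have e1 : k1 * α s * k1⁻¹ = d ^ l * (g * α s * g⁻¹) * (d ^ l)⁻¹ := by
      rw [hk1]
      group
    rw [e1, hi1, conj_pow_pow hds]
    exact pow_eq_of_mod hs hl
  -- the image of `d`
  obtain ⟨e, he⟩ : ∃ e : G, e = k1 * α d * k1⁻¹ := ⟨_, rfl⟩
  have hαds : α d * α s * (α d)⁻¹ = (α s) ^ a := by
    rw [← map_inv, ← map_mul, ← map_mul, hds, map_pow]
  have hej : e * s ^ j * e⁻¹ = (s ^ j) ^ a := by
    rw [← hk1s, he]
    have e2 : k1 * α d * k1⁻¹ * (k1 * α s * k1⁻¹) * (k1 * α d * k1⁻¹)⁻¹ =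
        k1 * (α d * α s * (α d)⁻¹) * k1⁻¹ := by group
    rw [e2, hαds, conj_pow]
  -- `s ^ j` generates
  have hjne : s ^ j ≠ 1 := by
    rw [← hk1s]
    intro h
    have h2 : α s = 1 := by
      have : α s = k1⁻¹ * (k1 * α s * k1⁻¹) * k1 := by group
      rw [this, h]
      group
    rw [h2, orderOf_one] at hαs
    exact hp.one_lt.ne hαs
  have hjcop : Nat.Coprime j p := by
    rw [Nat.coprime_comm, Nat.Prime.coprime_iff_not_dvd hp]
    intro hdvd
    obtain ⟨q, rfl⟩ := hdvd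
    apply hjne
    rw [pow_mul, hsp, one_pow]
  obtain ⟨j', hj'⟩ : ∃ j' : ℕ, (j * j') % p = 1 % p := by
    obtain ⟨m, -, hm⟩ := Nat.exists_mul_mod_eq_one_of_coprime hjcop hp.one_lt
    exact ⟨m, by rw [hm, Nat.mod_eq_of_lt hp.one_lt]⟩
  have hsj : (s ^ j) ^ j' = s := by
    rw [← pow_mul]
    have := pow_eq_of_mod hs (x := j * j') (y := 1) hj'
    rw [this, pow_one]
  have hes : e * s * e⁻¹ = s ^ a := by
    calc e * s * e⁻¹ = e * (s ^ j) ^ j' * e⁻¹ := by rw [hsj]
      _ = (e * s ^ j * e⁻¹) ^ j' := by rw [conj_pow]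
      _ = ((s ^ j) ^ a) ^ j' := by rw [hej]
      _ = ((s ^ j) ^ j') ^ a := pow_right_comm _ _ _
      _ = s ^ a := by rw [hsj]
  have hcomm : (d⁻¹ * e) * s = s * (d⁻¹ * e) := by
    have h1 : e * s = s ^ a * e := by rw [← hes]; group
    have h2 : d⁻¹ * s ^ a = s * d⁻¹ := by rw [← hds]; group
    calc d⁻¹ * e * s = d⁻¹ * (e * s) := by group
      _ = d⁻¹ * (s ^ a * e) := by rw [h1]
      _ = (d⁻¹ * s ^ a) * e := by group
      _ = s * d⁻¹ * e := by rw [h2]
      _ = s * (d⁻¹ * e) := by group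
  obtain ⟨z, hz⟩ := exists_pow_of_mem_zpowers s _ (hC _ hcomm)
  have hez : e = d * s ^ z := by rw [← hz]; group
  have hdz : ∀ y : ℕ, d * s ^ y = s ^ (y * a) * d := by
    intro y
    have := conj_pow_pow hds 1 y
    rw [pow_one, pow_one] at this
    rw [← this]
    group
  -- second adjustment
  refine ⟨s ^ (c * z * a) * k1, j, hjJ, ?_, ?_⟩
  · have e1 : s ^ (c * z * a) * k1 * α s * (s ^ (c * z * a) * k1)⁻¹ =
        s ^ (c * z * a) * (k1 * α s * k1⁻¹) * (s ^ (c * z * a))⁻¹ := by group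
    rw [e1, hk1s, ← pow_add, mul_inv_eq_iff_eq_mul, ← pow_add, add_comm]
  · have e1 : s ^ (c * z * a) * k1 * α d * (s ^ (c * z * a) * k1)⁻¹ =
        s ^ (c * z * a) * (k1 * α d * k1⁻¹) * (s ^ (c * z * a))⁻¹ := by group
    rw [e1, ← he, hez, mul_inv_eq_iff_eq_mul, hdz, hdz, ← mul_assoc, ← pow_add]
    congr 1
    apply pow_eq_of_mod hs
    -- c z a + z a ≡ c z a a
    have h1 : (c * z * a * a) = (c * a) * (z * a) := by ring
    have h2 : c * z * a + z * a = (c + 1) * (z * a) := by ring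
    rw [h1, h2, Nat.mul_mod, ← hc, ← Nat.mul_mod]

/-- the normal form of an automorphism up to inner automorphisms -/
theorem pin_aut [Finite G] {p a c : ℕ} (hp : p.Prime) (hcard : ¬ p ^ 2 ∣ Nat.card G)
    (s d : G) (hs : orderOf s = p) (hds : d * s * d⁻¹ = s ^ a)
    (hC : ∀ x : G, x * s = s * x → x ∈ Subgroup.zpowers s)
    (hc : (c * a) % p = (c + 1) % p)
    (J : List ℕ) (hJ : ∀ i, 0 < i → i < p → ∃ j ∈ J, ∃ l, (i * a ^ l) % p = j % p)
    (α : MulAut G) :
    ∃ k : G, ∃ j ∈ J, (MulAut.conj k * α) s = s ^ j ∧ (MulAut.conj k * α) d = d := by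
  obtain ⟨k, j, hj, h1, h2⟩ := pin_sd hp hcard s d hs hds hC hc J hJ α
  refine ⟨k, j, hj, ?_, ?_⟩
  · rw [MulAut.mul_apply, MulAut.conj_apply]
    exact h1
  · rw [MulAut.mul_apply, MulAut.conj_apply]
    exact h2

/-- every automorphism is inner -/
theorem card_out_eq_one [Finite G] {p a c : ℕ} (hp : p.Prime) (hcard : ¬ p ^ 2 ∣ Nat.card G)
    (s d t : G) (hs : orderOf s = p) (hds : d * s * d⁻¹ = s ^ a)
    (hC : ∀ x : G, x * s = s * x → x ∈ Subgroup.zpowers s)
    (hc : (c * a) % p = (c + 1) % p)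
    (J : List ℕ) (hJ : ∀ i, 0 < i → i < p → ∃ j ∈ J, ∃ l, (i * a ^ l) % p = j % p)
    (hgen : ∀ ψ : MulAut G, ψ s = s → ψ d = d → ψ t = t → ψ = 1)
    (hex : ∀ j ∈ J, ∀ α : MulAut G, α s = s ^ j → α d = d → α s = s ∧ α t = t) :
    Nat.card (MulAut G ⧸ (MulAut.conj : G →* MulAut G).range) = 1 := by
  rw [← Subgroup.index_eq_card, Subgroup.index_eq_one, eq_top_iff]
  intro α _
  obtain ⟨k, j, hj, h1, h2⟩ := pin_aut hp hcard s d hs hds hC hc J hJ α
  obtain ⟨e1, e2⟩ := hex j hj _ h1 h2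
  have hone := hgen _ e1 h2 e2
  have hα : α = (MulAut.conj k)⁻¹ := eq_inv_of_mul_eq_one_right hone
  rw [hα]
  exact Subgroup.inv_mem _ ⟨k, rfl⟩

/-- the inner automorphisms have index two -/
theorem card_out_eq_two [Finite G] {p a c : ℕ} (hp : p.Prime) (hcard : ¬ p ^ 2 ∣ Nat.card G)
    (s d t : G) (hs : orderOf s = p) (hds : d * s * d⁻¹ = s ^ a)
    (hC : ∀ x : G, x * s = s * x → x ∈ Subgroup.zpowers s)
    (hc : (c * a) % p = (c + 1) % p)
    (J : List ℕ) (hJ : ∀ i, 0 < i → i < p → ∃ j ∈ J, ∃ l, (i * a ^ l) % p = j % p)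
    (hgen : ∀ ψ : MulAut G, ψ s = s → ψ d = d → ψ t = t → ψ = 1)
    (θ : MulAut G) (hθd : θ d = d) (hθn : θ ∉ (MulAut.conj : G →* MulAut G).range)
    (hex : ∀ j ∈ J, ∀ α : MulAut G, α s = s ^ j → α d = d →
      (α s = s ∧ α t = t) ∨ (α s = θ s ∧ α t = θ t)) :
    Nat.card (MulAut G ⧸ (MulAut.conj : G →* MulAut G).range) = 2 := by
  rw [← Subgroup.index_eq_card, Subgroup.index_eq_two_iff]
  have hθn' : θ⁻¹ ∉ (MulAut.conj : G →* MulAut G).range := by
    intro h
    exact hθn (by simpa using Subgroup.inv_mem _ h)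
  refine ⟨θ⁻¹, ?_⟩
  intro α
  obtain ⟨k, j, hj, h1, h2⟩ := pin_aut hp hcard s d hs hds hC hc J hJ α
  have hk : MulAut.conj k ∈ (MulAut.conj : G →* MulAut G).range := ⟨k, rfl⟩
  rcases hex j hj _ h1 h2 with ⟨e1, e2⟩ | ⟨e1, e2⟩
  · -- inner
    have hone := hgen _ e1 h2 e2
    have hα : α = (MulAut.conj k)⁻¹ := eq_inv_of_mul_eq_one_right hone
    have hαm : α ∈ (MulAut.conj : G →* MulAut G).range := by
      rw [hα]
      exact Subgroup.inv_mem _ hk
    right
    refine ⟨hαm, ?_⟩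
    intro h
    apply hθn'
    have := Subgroup.mul_mem _ (Subgroup.inv_mem _ hαm) h
    rwa [inv_mul_cancel_left] at this
  · -- inner times `θ`
    have hone : θ⁻¹ * (MulAut.conj k * α) = 1 := by
      apply hgen
      · rw [MulAut.mul_apply, e1, MulAut.inv_apply_self]
      · rw [MulAut.mul_apply, h2]
        conv_lhs => rw [← hθd]
        exact MulAut.inv_apply_self _ _ _
      · rw [MulAut.mul_apply, e2, MulAut.inv_apply_self]
    have hα : α = (MulAut.conj k)⁻¹ * θ := by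
      have : MulAut.conj k * α = θ := by
        have := congrArg (fun z => θ * z) hone
        simp only [mul_inv_cancel_left, mul_one] at this
        exact this
      rw [← this, inv_mul_cancel_left]
    left
    refine ⟨?_, ?_⟩
    · rw [hα, mul_assoc, mul_inv_cancel, mul_one]
      exact Subgroup.inv_mem _ hk
    · intro h
      apply hθn
      rw [hα] at h
      have := Subgroup.mul_mem _ hk h
      rwa [mul_inv_cancel_left] at this

/-- an automorphism fixing a generating set is trivial -/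
theorem aut_eq_one_of_closure (T : Set G) (hT : Subgroup.closure T = ⊤) (ψ : MulAut G)
    (h : ∀ x ∈ T, ψ x = x) : ψ = 1 := by
  ext y
  rw [MulAut.one_apply]
  have hy : y ∈ Subgroup.closure T := by rw [hT]; trivial
  induction hy using Subgroup.closure_induction with
  | mem x hx => exact h x hx
  | one => exact map_one ψ
  | mul a b _ _ iha ihb => rw [map_mul, iha, ihb]
  | inv a _ iha => rw [map_inv, iha]

end Cfsg.Agent.Lib.H17.OutRigid
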