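import Cfsg.Agent.Lib.H17.ConjTest
import Cfsg.Agent.Lib.H17.OutRigid

set_option autoImplicit false

/-! # Tools for computing the outer automorphism group of a permutation group with a chain

Centralisers from the conjugacy test, relations excluding candidate images of generators, and
checks over lists which the kernel evaluates. -/

namespace Cfsg.Agent.Lib.H17.OutTools

open Cfsg.Agent.Lib.H17.CosetCert Cfsg.Agent.Lib.H17.Sgs Cfsg.Agent.Lib.H17.SgsCent
  Cfsg.Agent.Lib.H17.Sift Cfsg.Agent.Lib.H17.PermActs Cfsg.Agent.Lib.H17.ConjTest

/-- membership in a list of numbers -/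
noncomputable def memL (l : List ℕ) (x : ℕ) : Bool :=
  List.rec (motive := fun _ => Bool) false (fun y _ ih => cond (Nat.beq x y) true ih) l

theorem memL_sound (l : List ℕ) (x : ℕ) (h : memL l x = true) : x ∈ l := by
  induction l with
  | nil => exact absurd h (by simp [memL])
  | cons y l ih =>
    have h' : cond (Nat.beq x y) true (memL l x) = true := h
    cases hb : Nat.beq x y with
    | true => rw [Nat.eq_of_beq_eq_true hb]; exact List.mem_cons_self
    | false =>
      rw [hb] at h'
      exact List.mem_cons_of_mem _ (ih h')

/-- a check of the entries of a list, each with a witness from a second list -/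
noncomputable def chkAll {α β : Type} (f : α → β → Bool) : List α → List β → Bool :=
  List.rec (motive := fun _ => List β → Bool) (fun _ => true)
    (fun w _ ih es => List.casesOn es false fun e es' => cond (f w e) (ih es') false)

theorem chkAll_sound {α β : Type} (f : α → β → Bool) (ws : List α) :
    ∀ es : List β, chkAll f ws es = true → ∀ w ∈ ws, ∃ e, f w e = true := by
  induction ws with
  | nil =>
    intro es _ w hw
    exact absurd hw (by simp)
  | cons w0 ws ih =>
    intro es h w hw
    cases es with
    | nil => exact absurd h (by simp [chkAll])
    | cons e es' =>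
      have h' : cond (f w0 e) (chkAll f ws es') false = true := h
      cases hb : f w0 e with
      | false => rw [hb] at h'; exact absurd h' (by simp)
      | true =>
        rw [hb] at h'
        rcases List.mem_cons.mp hw with rfl | hw
        · exact ⟨e, hb⟩
        · exact ih es' h' w hw

section

variable {G : Type*} [Group G] {n : ℕ} {φ : G →* Equiv.Perm (Fin n)}

theorem isBase_mono {bs bs' : List ℕ} (h : ∀ c ∈ bs, c ∈ bs') (hb : IsBase φ bs) :
    IsBase φ bs' := fun g hg => hb g fun c hc => hg c (h c hc)

/-- the image of a word under an isomorphism -/
theorem map_evalW_equiv {H : Type*} [Group H] (f : G ≃* H) (vals : List G) (w : List ℕ) :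
    f (evalW vals w) = evalW (vals.map f) w := by
  have := map_evalW f.toMonoidHom vals w
  simpa using this

/-- a word in elements commuting with `d` commutes with `d` -/
theorem comm_evalW (vals : List G) (d : G) (h : ∀ v ∈ vals, v * d = d * v) (w : List ℕ) :
    evalW vals w * d = d * evalW vals w := by
  have hget : ∀ i, vals.getD i 1 * d = d * vals.getD i 1 := by
    intro i
    rw [List.getD_eq_getElem?_getD]
    cases hv : vals[i]? with
    | none => simp
    | some v =>
      simp only [Option.getD_some]
      exact h v (List.mem_of_getElem? hv)
  induction w with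
  | nil => simp [evalW]
  | cons i w ih =>
    rw [evalW_cons, mul_assoc, ih, ← mul_assoc, hget i, mul_assoc]

/-- a relation which fails for the candidate images -/
theorem relator_absurd {vals : List G} {As : List (ℕ → ℕ)}
    (h : List.Forall₂ (fun x A => Acts φ x A) vals As) (u : List ℕ) (m p : ℕ) (hp : p < n)
    (hrel : evalW vals u ^ m = 1)
    (hne : Nat.beq (iterA (evalA As u) m p) p = false) : False := by
  have h1 : Acts φ (evalW vals u ^ m) (iterA (evalA As u) m) := (acts_evalW vals As h u).pow m
  have h2 := h1 ⟨p, hp⟩
  rw [hrel, map_one] at h2
  have h3 : iterA (evalA As u) m p = p := h2.symm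
  rw [h3, Nat.beq_refl] at hne
  exact absurd hne (by simp)

end

end Cfsg.Agent.Lib.H17.OutTools
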