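import Cfsg.Agent.Lib.H17.OutChunks
import Cfsg.Agent.Lib.H17.CosetPerm3

set_option autoImplicit false

/-! # The sift and the table checks with an arbitrary lookup function

The functions of `Sift` and `PermActs` with the lookup in the packed tables replaced by a function
`L`; when `L` agrees with the lookup, the results agree. This is used with the two-level lookup,
for which the kernel keeps far fewer big numbers. -/

namespace Cfsg.Agent.Lib.H17.SiftG

open Cfsg.Agent.Lib.H17.CosetCert Cfsg.Agent.Lib.H17.Sgs Cfsg.Agent.Lib.H17.Sift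
  Cfsg.Agent.Lib.H17.PermActs

section defs

variable (L : ℕ → ℕ → ℕ)

/-- the first word sending `i` to a masked point of rank `< ri` -/
noncomputable def findDownG (mask hr : ℕ) (hw : List (List ℕ)) : ℕ → ℕ → Option (List ℕ) :=
  List.rec (motive := fun _ => ℕ → ℕ → Option (List ℕ)) (fun _ _ => none)
    (fun ts _ ih i ri =>
      force (applyTG L ts i) fun j =>
        cond (tb mask j) (cond (Nat.ble ri (L hr j)) (ih i ri) (some ts)) (ih i ri)) hw

/-- move `x` down to the base point `b`, moving the points of `rest` along -/
noncomputable def walkG (mask hr b : ℕ) (hw : List (List ℕ)) : ℕ → ℕ → List ℕ → Option (List ℕ) :=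
  Nat.rec (motive := fun _ => ℕ → List ℕ → Option (List ℕ))
    (fun x rest => cond (Nat.beq x b) (some rest) none)
    (fun _ ih x rest => cond (Nat.beq x b) (some rest)
      (match findDownG L mask hr hw x (L hr x) with
        | none => none
        | some ts => force (applyTG L ts x) fun x' => ih x' (rest.map (applyTG L ts))))

/-- the sift with the lookup `L` -/
noncomputable def siftG : List Lvl → List ℕ → ℕ
  | [], _ => 1
  | _ :: _, [] => 1
  | M :: Ls, x :: rest =>
    force x fun x' => cond (tb M.mask x')
      (match walkG L M.mask M.hr M.b M.hw (Nat.succ (L M.hr x')) x' rest with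
        | none => 2
        | some rest' => siftG Ls rest')
      0

end defs

variable (wb Wm : ℕ)

theorem applyTG_lk : applyTG (lk wb Wm) = applyT wb Wm := by
  funext ts i
  exact applyTG_eq (lk wb Wm) wb Wm (fun _ _ => rfl) ts i

theorem findDownG_lk (mask hr : ℕ) (hw : List (List ℕ)) (i ri : ℕ) :
    findDownG (lk wb Wm) mask hr hw i ri = findDown wb Wm mask hr hw i ri := by
  induction hw with
  | nil => rfl
  | cons ts hw ih =>
    change (force (applyTG (lk wb Wm) ts i) fun j =>
        cond (tb mask j) (cond (Nat.ble ri (lk wb Wm hr j)) (findDownG (lk wb Wm) mask hr hw i ri)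
          (some ts)) (findDownG (lk wb Wm) mask hr hw i ri)) =
      (force (applyT wb Wm ts i) fun j =>
        cond (tb mask j) (cond (Nat.ble ri (lk wb Wm hr j)) (findDown wb Wm mask hr hw i ri)
          (some ts)) (findDown wb Wm mask hr hw i ri))
    rw [ih, applyTG_lk]

theorem walkG_lk (mask hr b : ℕ) (hw : List (List ℕ)) (fuel : ℕ) : ∀ (x : ℕ) (rest : List ℕ),
    walkG (lk wb Wm) mask hr b hw fuel x rest = walk wb Wm mask hr b hw fuel x rest := by
  induction fuel with
  | zero => intro x rest; rfl
  | succ fuel ih =>
    intro x rest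
    change cond (Nat.beq x b) (some rest)
      (match findDownG (lk wb Wm) mask hr hw x (lk wb Wm hr x) with
        | none => none
        | some ts => force (applyTG (lk wb Wm) ts x) fun x' =>
            walkG (lk wb Wm) mask hr b hw fuel x' (rest.map (applyTG (lk wb Wm) ts))) =
      cond (Nat.beq x b) (some rest)
      (match findDown wb Wm mask hr hw x (lk wb Wm hr x) with
        | none => none
        | some ts => force (applyT wb Wm ts x) fun x' =>
            walk wb Wm mask hr b hw fuel x' (rest.map (applyT wb Wm ts)))
    rw [findDownG_lk, applyTG_lk]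
    cases findDown wb Wm mask hr hw x (lk wb Wm hr x) with
    | none => rfl
    | some ts =>
      simp only [force_eq]
      rw [ih]

theorem siftG_lk (Ls : List Lvl) : ∀ tgt : List ℕ,
    siftG (lk wb Wm) Ls tgt = sift wb Wm Ls tgt := by
  induction Ls with
  | nil => intro tgt; rfl
  | cons M Ls ih =>
    intro tgt
    cases tgt with
    | nil => rfl
    | cons x rest =>
      rw [sift_cons]
      change (force x fun x' => cond (tb M.mask x')
        (match walkG (lk wb Wm) M.mask M.hr M.b M.hw (Nat.succ (lk wb Wm M.hr x')) x' rest with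
          | none => 2
          | some rest' => siftG (lk wb Wm) Ls rest')
        0) = _
      rw [force_eq, walkG_lk]
      cases walk wb Wm M.mask M.hr M.b M.hw (Nat.succ (lk wb Wm M.hr x)) x rest with
      | none => rfl
      | some rest' =>
        simp only
        rw [ih]

/-- a lookup function which agrees with the lookup in the packed tables -/
theorem eq_lk (L : ℕ → ℕ → ℕ) (hL : ∀ t i, L t i = lk wb Wm t i) : L = lk wb Wm :=
  funext fun t => funext fun i => hL t i

theorem siftG_eq (L : ℕ → ℕ → ℕ) (hL : ∀ t i, L t i = lk wb Wm t i) (Ls : List Lvl)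
    (tgt : List ℕ) : siftG L Ls tgt = sift wb Wm Ls tgt := by
  rw [eq_lk wb Wm L hL]
  exact siftG_lk wb Wm Ls tgt

section acts

variable {G : Type*} [Group G] {n : ℕ} {φ : G →* Equiv.Perm (Fin n)}

/-- the table of a word, checked with the lookup `L` -/
theorem acts_eW_chkG (L : ℕ → ℕ → ℕ) (hL : ∀ t i, L t i = lk wb Wm t i) (gens : ℕ → G)
    (tabf : ℕ → ℕ) (h : ∀ x, Acts φ (gens x) (lk wb Wm (tabf x))) (W : List ℕ) (T : ℕ)
    (hT : allLt (fun p => Nat.beq (applyTG L (W.reverse.map tabf) p) (L T p)) n = true) :
    Acts φ (eW gens W) (lk wb Wm T) := by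
  apply acts_eW_chk wb Wm gens tabf h W T
  rw [eq_lk wb Wm L hL, applyTG_lk] at hT
  exact hT

end acts

end Cfsg.Agent.Lib.H17.SiftG
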