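import Mathlib

set_option autoImplicit false

/-! # Groups generated by a polycyclic sequence with factors of order two

If each generator conjugates the later ones into the subgroup they generate, and its square lies
in that subgroup, then every element of the group is a product of the generators, in order, each
taken at most once.  The choice of factors is coded by the binary digits of a number. -/

namespace Cfsg.Agent.Lib.H17.Pc2

variable {G : Type*} [Group G]

/-- the product of the generators chosen by the binary digits of `e`, in order -/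
def nf2 : List G → ℕ → G
  | [], _ => 1
  | s :: L, e => s ^ (e % 2) * nf2 L (e / 2)

theorem nf2_nil (e : ℕ) : nf2 ([] : List G) e = 1 := rfl

theorem nf2_cons (s : G) (L : List G) (e : ℕ) : nf2 (s :: L) e = s ^ (e % 2) * nf2 L (e / 2) := rfl

theorem nf2_zero (L : List G) : nf2 L 0 = 1 := by
  induction L with
  | nil => rfl
  | cons s L ih => rw [nf2_cons, Nat.zero_mod, Nat.zero_div, ih, pow_zero, one_mul]

/-- the polycyclic relations -/
def PcOK2 : List G → Prop
  | [] => True
  | s :: L => (∀ t ∈ L, s * t * s⁻¹ ∈ Subgroup.closure {x | x ∈ L}) ∧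
      s ^ 2 ∈ Subgroup.closure {x | x ∈ L} ∧ PcOK2 L

theorem conj_mem (N : Subgroup G) (s : G) (T : Set G) (hN : N = Subgroup.closure T)
    (hconj : ∀ t ∈ T, s * t * s⁻¹ ∈ N) : ∀ n ∈ N, s * n * s⁻¹ ∈ N := by
  intro n hn
  rw [hN] at hn
  induction hn using Subgroup.closure_induction with
  | mem t ht => exact hconj t ht
  | one => simp
  | mul a b _ _ iha ihb =>
    have : s * (a * b) * s⁻¹ = (s * a * s⁻¹) * (s * b * s⁻¹) := by group
    rw [this]
    exact N.mul_mem iha ihb
  | inv a _ iha =>
    have : s * a⁻¹ * s⁻¹ = (s * a * s⁻¹)⁻¹ := by group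
    rw [this]
    exact N.inv_mem iha

/-- the inverse also normalises, when the square lies in the subgroup -/
theorem conj_inv_mem (N : Subgroup G) (s : G) (h : ∀ n ∈ N, s * n * s⁻¹ ∈ N) (hpow : s ^ 2 ∈ N) :
    ∀ n ∈ N, s⁻¹ * n * s ∈ N := by
  intro n hn
  have h1 : s * ((s ^ 2)⁻¹ * n * s ^ 2) * s⁻¹ ∈ N :=
    h _ (N.mul_mem (N.mul_mem (N.inv_mem hpow) hn) hpow)
  have : s * ((s ^ 2)⁻¹ * n * s ^ 2) * s⁻¹ = s⁻¹ * n * s := by
    rw [pow_two]
    group
  rwa [this] at h1

/-- the normal form with the power on the left -/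
theorem pc_step (N : Subgroup G) (s : G) (T : Set G) (hN : N = Subgroup.closure T)
    (hconj : ∀ t ∈ T, s * t * s⁻¹ ∈ N) (hpow : s ^ 2 ∈ N) :
    ∀ m ∈ Subgroup.closure (insert s T), ∃ a < 2, ∃ n ∈ N, m = s ^ a * n := by
  have h1 := conj_mem N s T hN hconj
  have h1' := conj_inv_mem N s h1 hpow
  intro m hm
  induction hm using Subgroup.closure_induction with
  | mem x hx =>
    rcases hx with rfl | hx
    · exact ⟨1, by norm_num, 1, N.one_mem, by simp⟩
    · exact ⟨0, by norm_num, x, by rw [hN]; exact Subgroup.subset_closure hx, by simp⟩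
  | one => exact ⟨0, by norm_num, 1, N.one_mem, by simp⟩
  | mul x y _ _ ihx ihy =>
    obtain ⟨a, ha, n, hn, rfl⟩ := ihx
    obtain ⟨b, hb, n', hn', rfl⟩ := ihy
    interval_cases a <;> interval_cases b
    · exact ⟨0, by norm_num, n * n', N.mul_mem hn hn', by simp⟩
    · refine ⟨1, by norm_num, (s⁻¹ * n * s) * n', N.mul_mem (h1' n hn) hn', ?_⟩
      simp only [pow_zero, pow_one, one_mul]
      group
    · exact ⟨1, by norm_num, n * n', N.mul_mem hn hn', by simp [mul_assoc]⟩
    · refine ⟨0, by norm_num, s ^ 2 * (s⁻¹ * n * s) * n', N.mul_mem (N.mul_mem hpow (h1' n hn)) hn', ?_⟩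
      simp only [pow_zero, pow_one, one_mul, pow_two]
      group
  | inv x _ ihx =>
    obtain ⟨a, ha, n, hn, rfl⟩ := ihx
    interval_cases a
    · exact ⟨0, by norm_num, n⁻¹, N.inv_mem hn, by simp⟩
    · refine ⟨1, by norm_num, (s ^ 2)⁻¹ * (s * n⁻¹ * s⁻¹), N.mul_mem (N.inv_mem hpow) (h1 _ (N.inv_mem hn)), ?_⟩
      simp only [pow_one, pow_two]
      group

theorem nf2_mem (L : List G) (e : ℕ) : nf2 L e ∈ Subgroup.closure {x | x ∈ L} := by
  induction L generalizing e with
  | nil => exact Subgroup.one_mem _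
  | cons s L ih =>
    rw [nf2_cons]
    have hle : Subgroup.closure {x | x ∈ L} ≤ Subgroup.closure {x | x ∈ s :: L} :=
      Subgroup.closure_mono (fun x hx => List.mem_cons_of_mem _ hx)
    have hs : s ∈ ({x | x ∈ s :: L} : Set G) := by
      change s ∈ s :: L
      exact List.mem_cons_self ..
    exact Subgroup.mul_mem _ (Subgroup.pow_mem _ (Subgroup.subset_closure hs) _) (hle (ih _))

/-- every element is a product of the generators, in order, each taken at most once -/
theorem mem_nf2 (L : List G) (h : PcOK2 L) : ∀ u ∈ Subgroup.closure {x | x ∈ L},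
    ∃ e < 2 ^ L.length, u = nf2 L e := by
  induction L with
  | nil =>
    intro u hu
    have : ({x | x ∈ ([] : List G)} : Set G) = ∅ := by
      ext x
      simp
    rw [this, Subgroup.closure_empty, Subgroup.mem_bot] at hu
    exact ⟨0, by simp, by rw [hu]; rfl⟩
  | cons s L ih =>
    obtain ⟨hc, hp, hL⟩ := h
    intro u hu
    have hset : ({x | x ∈ s :: L} : Set G) = insert s {x | x ∈ L} := by
      ext x
      simp
    rw [hset] at hu
    obtain ⟨a, ha, n, hn, rfl⟩ := pc_step (Subgroup.closure {x | x ∈ L}) s {x | x ∈ L} rfl hc hp u hu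
    obtain ⟨e, he, rfl⟩ := ih hL n hn
    refine ⟨a + 2 * e, ?_, ?_⟩
    · rw [List.length_cons, pow_succ]
      omega
    · rw [nf2_cons]
      have h1 : (a + 2 * e) % 2 = a := by omega
      have h2 : (a + 2 * e) / 2 = e := by omega
      rw [h1, h2]

/-- the later generators also satisfy the relations -/
theorem PcOK2.drop {L : List G} (h : PcOK2 L) (k : ℕ) : PcOK2 (L.drop k) := by
  induction k generalizing L with
  | zero => simpa using h
  | succ k ih =>
    cases L with
    | nil => simpa using h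
    | cons s L => exact ih h.2.2

/-- splitting the normal form -/
theorem nf2_append (L1 L2 : List G) (e1 e2 : ℕ) (h1 : e1 < 2 ^ L1.length) :
    nf2 (L1 ++ L2) (e1 + 2 ^ L1.length * e2) = nf2 L1 e1 * nf2 L2 e2 := by
  induction L1 generalizing e1 with
  | nil =>
    have : e1 = 0 := by simpa using h1
    subst this
    simp [nf2]
  | cons s L ih =>
    rw [List.length_cons, pow_succ] at h1
    have h5 : 2 ^ (s :: L).length * e2 = 2 * (2 ^ L.length * e2) := by
      rw [List.length_cons, pow_succ]
      ring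
    have h3 : (e1 + 2 * (2 ^ L.length * e2)) % 2 = e1 % 2 := by omega
    have h4 : (e1 + 2 * (2 ^ L.length * e2)) / 2 = e1 / 2 + 2 ^ L.length * e2 := by omega
    rw [List.cons_append, nf2_cons, nf2_cons, h5, h3, h4, ih (e1 / 2) (by omega), mul_assoc]

/-- the relations, from equations between words -/
theorem pcOK2_of_rel (L : List G)
    (hc : ∀ i j, i < j → j < L.length → ∃ e, L.getD i 1 * L.getD j 1 = nf2 (L.drop (i + 1)) e * L.getD i 1)
    (hs : ∀ i, i < L.length → ∃ e, L.getD i 1 ^ 2 = nf2 (L.drop (i + 1)) e) : PcOK2 L := by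
  induction L with
  | nil => trivial
  | cons s L ih =>
    refine ⟨?_, ?_, ?_⟩
    · intro t ht
      obtain ⟨j, hj, rfl⟩ := List.getElem_of_mem ht
      obtain ⟨e, he⟩ := hc 0 (j + 1) (by omega) (by simpa using hj)
      have he' : s * L[j] = nf2 L e * s := by
        simpa [List.getD_eq_getElem?_getD, hj] using he
      have : s * L[j] * s⁻¹ = nf2 L e := by rw [he']; group
      rw [this]
      exact nf2_mem L e
    · obtain ⟨e, he⟩ := hs 0 (by simp)
      have he' : s ^ 2 = nf2 L e := by simpa using he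
      rw [he']
      exact nf2_mem L e
    · apply ih
      · intro i j hij hj
        obtain ⟨e, he⟩ := hc (i + 1) (j + 1) (by omega) (by simpa using hj)
        exact ⟨e, by simpa using he⟩
      · intro i hi
        obtain ⟨e, he⟩ := hs (i + 1) (by simpa using hi)
        exact ⟨e, by simpa using he⟩

/-! ## Commuting involutions -/

/-- the sum of the binary digits modulo two, digit by digit -/
def x2 : ℕ → ℕ → ℕ → ℕ
  | 0, _, _ => 0
  | n + 1, u, v => (u % 2 + v % 2) % 2 + 2 * x2 n (u / 2) (v / 2)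

theorem x2_lt (n u v : ℕ) : x2 n u v < 2 ^ n := by
  induction n generalizing u v with
  | zero => simp [x2]
  | succ n ih =>
    have := ih (u / 2) (v / 2)
    rw [x2, pow_succ]
    omega

theorem x2_self (n v : ℕ) : x2 n v v = 0 := by
  induction n generalizing v with
  | zero => rfl
  | succ n ih =>
    rw [x2, ih]
    omega

theorem eq_of_x2_eq_zero (n u v : ℕ) (hu : u < 2 ^ n) (hv : v < 2 ^ n) (h : x2 n u v = 0) : u = v := by
  induction n generalizing u v with
  | zero =>
    simp at hu hv
    omega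
  | succ n ih =>
    rw [pow_succ] at hu hv
    rw [x2] at h
    have h1 : x2 n (u / 2) (v / 2) = 0 := by omega
    have := ih (u / 2) (v / 2) (by omega) (by omega) h1
    omega

theorem nf2_comm_of_comm (L : List G) (s : G) (h : ∀ t ∈ L, s * t = t * s) (e : ℕ) :
    s * nf2 L e = nf2 L e * s := by
  induction L generalizing e with
  | nil => simp [nf2]
  | cons t L ih =>
    rw [nf2_cons]
    have h1 : s * t ^ (e % 2) = t ^ (e % 2) * s :=
      (Commute.pow_right (h t (List.mem_cons_self ..)) _).eq
    rw [← mul_assoc, h1, mul_assoc, ih (fun r hr => h r (List.mem_cons_of_mem _ hr)), mul_assoc]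

theorem nf2_mul (L : List G) (hsq : ∀ x ∈ L, x ^ 2 = 1) (hcomm : ∀ x ∈ L, ∀ y ∈ L, x * y = y * x)
    (u v : ℕ) : nf2 L u * nf2 L v = nf2 L (x2 L.length u v) := by
  induction L generalizing u v with
  | nil => simp [nf2]
  | cons s L ih =>
    rw [nf2_cons, nf2_cons, nf2_cons, List.length_cons, x2]
    have hs : ∀ t ∈ L, s * t = t * s := fun t ht =>
      hcomm s (List.mem_cons_self ..) t (List.mem_cons_of_mem _ ht)
    have h1 : ((u % 2 + v % 2) % 2 + 2 * x2 L.length (u / 2) (v / 2)) % 2 = (u % 2 + v % 2) % 2 := by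
      omega
    have h2 : ((u % 2 + v % 2) % 2 + 2 * x2 L.length (u / 2) (v / 2)) / 2 =
        x2 L.length (u / 2) (v / 2) := by omega
    rw [h1, h2, ← ih (fun x hx => hsq x (List.mem_cons_of_mem _ hx))
      (fun x hx y hy => hcomm x (List.mem_cons_of_mem _ hx) y (List.mem_cons_of_mem _ hy))]
    have hc : nf2 L (u / 2) * s ^ (v % 2) = s ^ (v % 2) * nf2 L (u / 2) :=
      ((Commute.pow_left (nf2_comm_of_comm L s hs (u / 2)) (v % 2)).eq).symm
    have hp : s ^ (u % 2) * s ^ (v % 2) = s ^ ((u % 2 + v % 2) % 2) := by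
      have h2' := hsq s (List.mem_cons_self ..)
      have hu : u % 2 < 2 := Nat.mod_lt _ (by norm_num)
      have hv : v % 2 < 2 := Nat.mod_lt _ (by norm_num)
      generalize u % 2 = a at hu ⊢
      generalize v % 2 = b at hv ⊢
      interval_cases a <;> interval_cases b <;> simp [← pow_two, h2']
    calc s ^ (u % 2) * nf2 L (u / 2) * (s ^ (v % 2) * nf2 L (v / 2))
        = s ^ (u % 2) * (nf2 L (u / 2) * s ^ (v % 2)) * nf2 L (v / 2) := by group
      _ = s ^ (u % 2) * s ^ (v % 2) * (nf2 L (u / 2) * nf2 L (v / 2)) := by rw [hc]; group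
      _ = _ := by rw [hp]

/-- the normal forms are different if no normal form but the first is trivial -/
theorem nf2_inj_of_ne_one (L : List G) (hsq : ∀ x ∈ L, x ^ 2 = 1)
    (hcomm : ∀ x ∈ L, ∀ y ∈ L, x * y = y * x)
    (h : ∀ w < 2 ^ L.length, w ≠ 0 → nf2 L w ≠ 1) :
    ∀ u < 2 ^ L.length, ∀ v < 2 ^ L.length, nf2 L u = nf2 L v → u = v := by
  intro u hu v hv huv
  apply eq_of_x2_eq_zero L.length u v hu hv
  by_contra hne
  apply h _ (x2_lt _ _ _) hne
  rw [← nf2_mul L hsq hcomm, huv, nf2_mul L hsq hcomm, x2_self, nf2_zero]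

end Cfsg.Agent.Lib.H17.Pc2
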