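import Cfsg.Agent.Lib.H17.PermActs
import Cfsg.Agent.Lib.H17.Pc2

set_option autoImplicit false

/-! # Elements of a permutation group acting on a listed invariant set of points

The points of an invariant set are numbered; an element is followed through a small table on the
numbers.  Products chosen by binary digits (normal forms of a polycyclic sequence with factors of
order two) are followed through the tables of the generators, and certificates are checked that
an element cannot lie in a normal elementary abelian subgroup. -/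

namespace Cfsg.Agent.Lib.H17.LocalActs

open Cfsg.Agent.Lib.H17.CosetCert Cfsg.Agent.Lib.H17.Sgs Cfsg.Agent.Lib.H17.Sift
  Cfsg.Agent.Lib.H17.PermActs Cfsg.Agent.Lib.H17.Pc2

variable {G : Type*} [Group G] {n : ℕ} (φ : G →* Equiv.Perm (Fin n)) (P : ℕ → ℕ) (N : ℕ)

/-- `x` maps the listed point number `k` to the listed point number `a k` -/
def LActs (x : G) (a : ℕ → ℕ) : Prop := ∀ k < N, a k < N ∧ pt φ x (P k) = P (a k)

variable {φ P N}

theorem LActs.one : LActs φ P N (1 : G) (fun k => k) := by
  intro k hk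
  exact ⟨hk, pt_one φ _⟩

theorem LActs.mul (hP : ∀ k < N, P k < n) {x y : G} {a b : ℕ → ℕ} (hx : LActs φ P N x a)
    (hy : LActs φ P N y b) : LActs φ P N (x * y) (fun k => a (b k)) := by
  intro k hk
  obtain ⟨h1, h2⟩ := hy k hk
  obtain ⟨h3, h4⟩ := hx (b k) h1
  exact ⟨h3, by rw [pt_mul φ x y (P k) (hP k hk), h2, h4]⟩

theorem LActs.inv (hP : ∀ k < N, P k < n) {x : G} {a a' : ℕ → ℕ} (hx : LActs φ P N x a)
    (h : ∀ k < N, a' k < N ∧ a (a' k) = k) : LActs φ P N x⁻¹ a' := by
  intro k hk
  obtain ⟨h1, h2⟩ := h k hk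
  refine ⟨h1, ?_⟩
  obtain ⟨_, h4⟩ := hx (a' k) h1
  rw [h2] at h4
  rw [← h4, ← pt_mul φ x⁻¹ x _ (hP _ h1), inv_mul_cancel, pt_one]

theorem LActs.of_acts {x : G} {A a : ℕ → ℕ} (hx : Acts φ x A) (hP : ∀ k < N, P k < n)
    (h : ∀ k < N, a k < N ∧ A (P k) = P (a k)) : LActs φ P N x a := by
  intro k hk
  obtain ⟨h1, h2⟩ := h k hk
  exact ⟨h1, by rw [hx.pt _ (hP k hk), h2]⟩

theorem LActs.pow_bit (hP : ∀ k < N, P k < n) {x : G} {a : ℕ → ℕ} (hx : LActs φ P N x a) (b : ℕ)
    (hb : b < 2) : LActs φ P N (x ^ b) (fun k => cond (Nat.beq b 1) (a k) k) := by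
  interval_cases b
  · have h0 : Nat.beq 0 1 = false := rfl
    simp only [h0, cond_false, pow_zero]
    exact LActs.one
  · have h1 : Nat.beq 1 1 = true := rfl
    simp only [h1, cond_true, pow_one]
    exact hx

theorem LActs.ne_one (hinj : ∀ i < N, ∀ j < N, P i = P j → i = j) {x : G} {a : ℕ → ℕ}
    (hx : LActs φ P N x a) (k : ℕ) (hk : k < N) (h : a k ≠ k) : x ≠ 1 := by
  rintro rfl
  obtain ⟨h1, h2⟩ := hx k hk
  rw [pt_one] at h2
  exact h (hinj _ h1 _ hk h2.symm)

theorem LActs.ne (hinj : ∀ i < N, ∀ j < N, P i = P j → i = j) {x y : G}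
    {a b : ℕ → ℕ} (hx : LActs φ P N x a) (hy : LActs φ P N y b) (k : ℕ) (hk : k < N)
    (h : a k ≠ b k) : x ≠ y := by
  rintro rfl
  obtain ⟨h1, h2⟩ := hx k hk
  obtain ⟨h3, h4⟩ := hy k hk
  rw [h2] at h4
  exact h (hinj _ h1 _ h3 h4)

/-! ## Normal forms -/

/-- apply the functions chosen by the binary digits of `e`; the first function is applied last -/
noncomputable def applyBits (As : List (ℕ → ℕ)) : ℕ → ℕ → ℕ :=
  List.rec (motive := fun _ => ℕ → ℕ → ℕ) (fun _ p => p)
    (fun a _ ih e p => cond (Nat.beq (e % 2) 1) (force (ih (e / 2) p) a) (ih (e / 2) p)) As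

theorem applyBits_nil (e p : ℕ) : applyBits [] e p = p := rfl

theorem applyBits_cons (a : ℕ → ℕ) (As : List (ℕ → ℕ)) (e p : ℕ) :
    applyBits (a :: As) e p =
      cond (Nat.beq (e % 2) 1) (a (applyBits As (e / 2) p)) (applyBits As (e / 2) p) := by
  change cond (Nat.beq (e % 2) 1) (force (applyBits As (e / 2) p) a) (applyBits As (e / 2) p) = _
  rw [force_eq]

/-- apply the functions chosen by the binary digits of `e`; the first function is applied first -/
noncomputable def applyBitsR (As : List (ℕ → ℕ)) : ℕ → ℕ → ℕ :=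
  List.rec (motive := fun _ => ℕ → ℕ → ℕ) (fun _ p => p)
    (fun a _ ih e p => force (cond (Nat.beq (e % 2) 1) (a p) p) (ih (e / 2))) As

theorem applyBitsR_nil (e p : ℕ) : applyBitsR [] e p = p := rfl

theorem applyBitsR_cons (a : ℕ → ℕ) (As : List (ℕ → ℕ)) (e p : ℕ) :
    applyBitsR (a :: As) e p = applyBitsR As (e / 2) (cond (Nat.beq (e % 2) 1) (a p) p) := by
  change force (cond (Nat.beq (e % 2) 1) (a p) p) (applyBitsR As (e / 2)) = _
  rw [force_eq]

theorem lacts_nf2 (hP : ∀ k < N, P k < n) (L : List G) (As : List (ℕ → ℕ))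
    (h : List.Forall₂ (fun x a => LActs φ P N x a) L As) (e : ℕ) :
    LActs φ P N (nf2 L e) (applyBits As e) := by
  induction h generalizing e with
  | nil => exact LActs.one
  | cons hx _ ih =>
    rw [nf2_cons]
    intro k hk
    have h1 := ((LActs.pow_bit hP hx (e % 2) (Nat.mod_lt _ (by norm_num))).mul hP (ih (e / 2))) k hk
    rw [applyBits_cons]
    cases hb : Nat.beq (e % 2) 1 <;> simpa [hb] using h1

theorem lacts_nf2_inv (hP : ∀ k < N, P k < n) (L : List G) (AIs : List (ℕ → ℕ))
    (h : List.Forall₂ (fun x a => LActs φ P N x⁻¹ a) L AIs) (e : ℕ) :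
    LActs φ P N (nf2 L e)⁻¹ (applyBitsR AIs e) := by
  induction h generalizing e with
  | nil =>
    rw [nf2_nil, inv_one]
    exact LActs.one
  | @cons s ai L AIs hx _ ih =>
    rw [nf2_cons, mul_inv_rev]
    intro k hk
    have hs : LActs φ P N (s ^ (e % 2))⁻¹ (fun k => cond (Nat.beq (e % 2) 1) (ai k) k) := by
      have : e % 2 < 2 := Nat.mod_lt _ (by norm_num)
      generalize e % 2 = b at this ⊢
      interval_cases b
      · have h0 : Nat.beq 0 1 = false := rfl
        simp only [h0, cond_false, pow_zero, inv_one]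
        exact LActs.one
      · have h1 : Nat.beq 1 1 = true := rfl
        simp only [h1, cond_true, pow_one]
        exact hx
    have h1 := ((ih (e / 2)).mul hP hs) k hk
    rw [applyBitsR_cons]
    exact h1

/-! ## Certificates -/

/-- the square of the normal form of `e` moves the point number `k` -/
noncomputable def sqW (As : List (ℕ → ℕ)) (e k : ℕ) : Bool :=
  cond (Nat.beq (applyBits As e (applyBits As e k)) k) false true

/-- `x t x t⁻¹`, for the normal forms `x` of `e` and `t` of `f`, on the point numbers -/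
noncomputable def cjF (As AIs : List (ℕ → ℕ)) (e f k : ℕ) : ℕ :=
  applyBits As e (applyBits As f (applyBits As e (applyBitsR AIs f k)))

/-- the square of `x t x t⁻¹` moves the point number `k` -/
noncomputable def cjW (As AIs : List (ℕ → ℕ)) (e : ℕ) (fk : ℕ × ℕ) : Bool :=
  cond (Nat.beq (cjF As AIs e fk.1 (cjF As AIs e fk.1 fk.2)) fk.2) false true

/-- one of the certificates holds for the normal form of `e` -/
noncomputable def chkEl (As AIs : List (ℕ → ℕ)) (sq : List ℕ) (cj : List (ℕ × ℕ)) (e : ℕ) : Bool :=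
  (sq.any fun k => cond (Nat.blt k N) (sqW As e k) false) ||
    (cj.any fun fk => cond (Nat.blt fk.2 N) (cjW As AIs e fk) false)

/-- an element with a certificate does not lie in a normal elementary abelian subgroup -/
theorem not_mem_of_chkEl (hP : ∀ k < N, P k < n) (hinj : ∀ i < N, ∀ j < N, P i = P j → i = j)
    (L : List G) (As AIs : List (ℕ → ℕ))
    (hL : List.Forall₂ (fun x a => LActs φ P N x a) L As)
    (hLI : List.Forall₂ (fun x a => LActs φ P N x⁻¹ a) L AIs)
    (A T0 : Subgroup G) (hT0 : ∀ f, nf2 L f ∈ T0)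
    (hnorm : ∀ t ∈ T0, ∀ x ∈ A, t * x * t⁻¹ ∈ A) (hcomm : ∀ x ∈ A, ∀ y ∈ A, x * y = y * x)
    (hsq : ∀ x ∈ A, x ^ 2 = 1) (sq : List ℕ) (cj : List (ℕ × ℕ)) (e : ℕ)
    (h : chkEl (N := N) As AIs sq cj e = true) : nf2 L e ∉ A := by
  intro hA
  have hx := lacts_nf2 hP L As hL e
  unfold chkEl at h
  rcases Bool.or_eq_true _ _ |>.mp h with h | h
  · obtain ⟨k, _, hk⟩ := List.any_eq_true.mp h
    cases hkN : Nat.blt k N with
    | false => rw [hkN] at hk; exact absurd hk (by simp)
    | true =>
      rw [hkN] at hk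
      have hk' : k < N := by simpa [Nat.blt_eq] using hkN
      simp only [cond_true] at hk
      unfold sqW at hk
      cases hb : Nat.beq (applyBits As e (applyBits As e k)) k with
      | true => rw [hb] at hk; exact absurd hk (by simp)
      | false =>
        have hne : applyBits As e (applyBits As e k) ≠ k := by
          intro h2
          rw [h2] at hb
          simp at hb
        have := LActs.ne_one hinj (hx.mul hP hx) k hk' hne
        apply this
        rw [← pow_two]
        exact hsq _ hA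
  · obtain ⟨fk, _, hk⟩ := List.any_eq_true.mp h
    cases hkN : Nat.blt fk.2 N with
    | false => rw [hkN] at hk; exact absurd hk (by simp)
    | true =>
      rw [hkN] at hk
      have hk' : fk.2 < N := by simpa [Nat.blt_eq] using hkN
      simp only [cond_true] at hk
      unfold cjW at hk
      cases hb : Nat.beq (cjF As AIs e fk.1 (cjF As AIs e fk.1 fk.2)) fk.2 with
      | true => rw [hb] at hk; exact absurd hk (by simp)
      | false =>
        have hne : cjF As AIs e fk.1 (cjF As AIs e fk.1 fk.2) ≠ fk.2 := by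
          intro h2
          rw [h2] at hb
          simp at hb
        have ht := lacts_nf2 hP L As hL fk.1
        have hti := lacts_nf2_inv hP L AIs hLI fk.1
        have hc : LActs φ P N (nf2 L e * (nf2 L fk.1 * (nf2 L e * (nf2 L fk.1)⁻¹)))
            (cjF As AIs e fk.1) := hx.mul hP (ht.mul hP (hx.mul hP hti))
        have := LActs.ne_one hinj (hc.mul hP hc) fk.2 hk' hne
        apply this
        set x := nf2 L e
        set t := nf2 L fk.1
        have hy : t * x * t⁻¹ ∈ A := hnorm t (hT0 _) x hA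
        have hxy := hcomm x hA _ hy
        have hx2 : x * x = 1 := by rw [← pow_two]; exact hsq x hA
        have hy2 : (t * x * t⁻¹) * (t * x * t⁻¹) = 1 := by rw [← pow_two]; exact hsq _ hy
        calc x * (t * (x * t⁻¹)) * (x * (t * (x * t⁻¹)))
            = (x * (t * x * t⁻¹)) * (x * (t * x * t⁻¹)) := by group
          _ = (x * x) * ((t * x * t⁻¹) * (t * x * t⁻¹)) := by
              rw [mul_assoc x (t * x * t⁻¹), ← mul_assoc (t * x * t⁻¹) x, ← hxy]
              group
          _ = 1 := by rw [hx2, hy2, one_mul]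

/-! ## Uniqueness of the table, splitting, points fixed -/

theorem LActs.unique (hinj : ∀ i < N, ∀ j < N, P i = P j → i = j) {x : G} {a b : ℕ → ℕ}
    (hx : LActs φ P N x a) (hy : LActs φ P N x b) : ∀ k < N, a k = b k := by
  intro k hk
  obtain ⟨h1, h2⟩ := hx k hk
  obtain ⟨h3, h4⟩ := hy k hk
  rw [h2] at h4
  exact hinj _ h1 _ h3 h4

theorem inj_of_increasing (P : ℕ → ℕ) (N : ℕ) (h : ∀ k, k + 1 < N → P k < P (k + 1)) :
    ∀ i < N, ∀ j < N, P i = P j → i = j := by
  have mono : ∀ i j, i < j → j < N → P i < P j := by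
    intro i j hij hj
    induction j with
    | zero => omega
    | succ j ih =>
      rcases Nat.lt_succ_iff_lt_or_eq.mp hij with h1 | rfl
      · exact lt_trans (ih h1 (by omega)) (h j hj)
      · exact h i hj
  intro i hi j hj hij
  by_contra hne
  rcases Nat.lt_or_gt_of_ne hne with h1 | h1
  · exact absurd hij (Nat.ne_of_lt (mono i j h1 hj))
  · exact absurd hij.symm (Nat.ne_of_lt (mono j i h1 hi))

theorem applyBits_append (As1 As2 : List (ℕ → ℕ)) (e1 u k : ℕ) (h1 : e1 < 2 ^ As1.length) :
    applyBits (As1 ++ As2) (e1 + 2 ^ As1.length * u) k = applyBits As1 e1 (applyBits As2 u k) := by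
  induction As1 generalizing e1 with
  | nil =>
    have : e1 = 0 := by simpa using h1
    subst this
    simp [applyBits_nil]
  | cons a As ih =>
    rw [List.length_cons, pow_succ] at h1
    have h5 : 2 ^ (a :: As).length * u = 2 * (2 ^ As.length * u) := by
      rw [List.length_cons, pow_succ]
      ring
    have h3 : (e1 + 2 * (2 ^ As.length * u)) % 2 = e1 % 2 := by omega
    have h4 : (e1 + 2 * (2 ^ As.length * u)) / 2 = e1 / 2 + 2 ^ As.length * u := by omega
    rw [List.cons_append, applyBits_cons, applyBits_cons, h5, h3, h4, ih (e1 / 2) (by omega)]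

theorem applyBits_fix (As : List (ℕ → ℕ)) (k : ℕ) (h : ∀ a ∈ As, a k = k) (u : ℕ) :
    applyBits As u k = k := by
  induction As generalizing u with
  | nil => rfl
  | cons a As ih =>
    rw [applyBits_cons, ih (fun b hb => h b (List.mem_cons_of_mem _ hb))]
    cases Nat.beq (u % 2) 1
    · rfl
    · exact h a (List.mem_cons_self ..)

/-! ## Checked tables -/

theorem LActs.of_acts_chk {x : G} {A a : ℕ → ℕ} (hx : Acts φ x A) (hP : ∀ k < N, P k < n)
    (h : allLt (fun k => Nat.blt (a k) N && Nat.beq (A (P k)) (P (a k))) N = true) :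
    LActs φ P N x a := by
  apply LActs.of_acts hx hP
  intro k hk
  have := allLt_sound _ _ h k hk
  rw [Bool.and_eq_true] at this
  exact ⟨by simpa [Nat.blt_eq] using this.1, Nat.eq_of_beq_eq_true this.2⟩

theorem LActs.inv_chk (hP : ∀ k < N, P k < n) {x : G} {a a' : ℕ → ℕ} (hx : LActs φ P N x a)
    (h : allLt (fun k => Nat.blt (a' k) N && Nat.beq (a (a' k)) k) N = true) :
    LActs φ P N x⁻¹ a' := by
  apply LActs.inv hP hx
  intro k hk
  have := allLt_sound _ _ h k hk
  rw [Bool.and_eq_true] at this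
  exact ⟨by simpa [Nat.blt_eq] using this.1, Nat.eq_of_beq_eq_true this.2⟩

theorem lt_of_chk (P : ℕ → ℕ) (N n : ℕ) (h : allLt (fun k => Nat.blt (P k) n) N = true) :
    ∀ k < N, P k < n := by
  intro k hk
  have := allLt_sound _ _ h k hk
  simpa [Nat.blt_eq] using this

theorem inj_of_chk (P : ℕ → ℕ) (N : ℕ) (h : allLt (fun k => Nat.blt (P k) (P (k + 1))) N = true) :
    ∀ i < N + 1, ∀ j < N + 1, P i = P j → i = j := by
  apply inj_of_increasing
  intro k hk
  have := allLt_sound _ _ h k (by omega)
  simpa [Nat.blt_eq] using this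

end Cfsg.Agent.Lib.H17.LocalActs
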