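import Mathlib
import Cfsg.Prelude.Def_Transfer

set_option autoImplicit false

/-! # From one Sylow 2-subgroup to all of them

A statement on the normal elementary abelian subgroups of one subgroup of the order of a Sylow
2-subgroup holds for every Sylow 2-subgroup, by conjugacy. -/

namespace Cfsg.Agent.Lib.H17.SylTransport

variable {G : Type*} [Group G]

theorem normal_subgroupOf_iff (A T : Subgroup G) (hAT : A ≤ T) :
    (A.subgroupOf T).Normal ↔ ∀ t ∈ T, ∀ x ∈ A, t * x * t⁻¹ ∈ A := by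
  constructor
  · intro h t ht x hx
    have := h.conj_mem ⟨x, hAT hx⟩ (by simpa [Subgroup.mem_subgroupOf] using hx) ⟨t, ht⟩
    simpa [Subgroup.mem_subgroupOf] using this
  · intro h
    refine ⟨fun x hx t => ?_⟩
    have hx' : (x : G) ∈ A := by simpa [Subgroup.mem_subgroupOf] using hx
    have := h t t.2 x hx'
    simpa [Subgroup.mem_subgroupOf] using this

theorem elemAb_iff (A : Subgroup G) :
    Cfsg.IsElementaryAbelian 2 A ↔ (∀ x ∈ A, ∀ y ∈ A, x * y = y * x) ∧ ∀ x ∈ A, x ^ 2 = 1 := by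
  unfold Cfsg.IsElementaryAbelian
  constructor
  · rintro ⟨h1, h2⟩
    refine ⟨fun x hx y hy => ?_, h2⟩
    exact congrArg Subtype.val (h1.is_comm.comm ⟨x, hx⟩ ⟨y, hy⟩)
  · rintro ⟨h1, h2⟩
    exact ⟨⟨⟨fun a b => Subtype.ext (h1 a a.2 b b.2)⟩⟩, h2⟩

/-- the conjugate subgroup -/
def cj (g : G) (A : Subgroup G) : Subgroup G := A.map (MulAut.conj g).toMonoidHom

theorem mem_cj (g : G) (A : Subgroup G) (x : G) : x ∈ cj g A ↔ g⁻¹ * x * g ∈ A := by
  unfold cj
  constructor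
  · rintro ⟨y, hy, rfl⟩
    simpa [MulAut.conj_apply, mul_assoc] using hy
  · intro h
    exact ⟨g⁻¹ * x * g, h, by simp [MulAut.conj_apply, mul_assoc]⟩

theorem cj_cj (g : G) (A : Subgroup G) : cj g (cj g⁻¹ A) = A := by
  ext x
  rw [mem_cj, mem_cj]
  have : g⁻¹⁻¹ * (g⁻¹ * x * g) * g⁻¹ = x := by group
  rw [this]

theorem cj_cj' (g : G) (A : Subgroup G) : cj g⁻¹ (cj g A) = A := by
  have := cj_cj g⁻¹ A
  rwa [inv_inv] at this

theorem card_cj (g : G) (A : Subgroup G) : Nat.card (cj g A) = Nat.card A := by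
  unfold cj
  exact Nat.card_congr (A.equivMapOfInjective _ (MulAut.conj g).injective).symm.toEquiv

theorem transport [Finite G] (T0 E0 : Subgroup G) (k : ℕ)
    (hcard : Nat.card T0 = 2 ^ (Nat.card G).factorization 2)
    (hE0 : E0 ≤ T0) (hE0n : ∀ t ∈ T0, ∀ x ∈ E0, t * x * t⁻¹ ∈ E0)
    (hE0c : ∀ x ∈ E0, ∀ y ∈ E0, x * y = y * x) (hE0s : ∀ x ∈ E0, x ^ 2 = 1)
    (hE0card : Nat.card E0 = 2 ^ k)
    (hA : ∀ A : Subgroup G, A ≤ T0 → (∀ t ∈ T0, ∀ x ∈ A, t * x * t⁻¹ ∈ A) →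
      (∀ x ∈ A, ∀ y ∈ A, x * y = y * x) → (∀ x ∈ A, x ^ 2 = 1) →
      Nat.card A ≤ 2 ^ k ∧ (Nat.card A = 2 ^ k → A = E0))
    (T : Sylow 2 G) :
    (∀ A : Subgroup G, A ≤ T → (A.subgroupOf T).Normal → Cfsg.IsElementaryAbelian 2 A →
        Nat.card A ≤ 2 ^ k) ∧
    ∃! A : Subgroup G, A ≤ T ∧ (A.subgroupOf T).Normal ∧ Cfsg.IsElementaryAbelian 2 A ∧
        Nat.card A = 2 ^ k := by
  obtain ⟨g, hg⟩ := MulAction.exists_smul_eq G (Sylow.ofCard T0 hcard) T
  have hT : ∀ x, x ∈ (T : Subgroup G) ↔ g⁻¹ * x * g ∈ T0 := by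
    intro x
    rw [← hg, Sylow.coe_subgroup_smul, Sylow.coe_ofCard]
    change x ∈ cj g T0 ↔ _
    exact mem_cj g T0 x
  -- moving a subgroup of T into T0
  have key : ∀ A : Subgroup G, A ≤ T → (A.subgroupOf T).Normal → Cfsg.IsElementaryAbelian 2 A →
      Nat.card A ≤ 2 ^ k ∧ (Nat.card A = 2 ^ k → cj g⁻¹ A = E0) := by
    intro A hAT hAn hAe
    rw [normal_subgroupOf_iff A T hAT] at hAn
    rw [elemAb_iff] at hAe
    have h1 : cj g⁻¹ A ≤ T0 := by
      intro x hx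
      rw [mem_cj, inv_inv] at hx
      have := (hT _).mp (hAT hx)
      have e : g⁻¹ * (g * x * g⁻¹) * g = x := by group
      rwa [e] at this
    have h2 : ∀ t ∈ T0, ∀ x ∈ cj g⁻¹ A, t * x * t⁻¹ ∈ cj g⁻¹ A := by
      intro t ht x hx
      rw [mem_cj, inv_inv] at hx ⊢
      have htT : g * t * g⁻¹ ∈ (T : Subgroup G) := by
        rw [hT]
        have e : g⁻¹ * (g * t * g⁻¹) * g = t := by group
        rwa [e]
      have := hAn _ htT _ hx
      have e : g * t * g⁻¹ * (g * x * g⁻¹) * (g * t * g⁻¹)⁻¹ = g * (t * x * t⁻¹) * g⁻¹ := by group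
      rwa [e] at this
    have h3 : ∀ x ∈ cj g⁻¹ A, ∀ y ∈ cj g⁻¹ A, x * y = y * x := by
      intro x hx y hy
      rw [mem_cj, inv_inv] at hx hy
      have := hAe.1 _ hx _ hy
      have e1 : g * x * g⁻¹ * (g * y * g⁻¹) = g * (x * y) * g⁻¹ := by group
      have e2 : g * y * g⁻¹ * (g * x * g⁻¹) = g * (y * x) * g⁻¹ := by group
      rw [e1, e2] at this
      exact mul_left_cancel (mul_right_cancel this)
    have h4 : ∀ x ∈ cj g⁻¹ A, x ^ 2 = 1 := by
      intro x hx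
      rw [mem_cj, inv_inv] at hx
      have := hAe.2 _ hx
      have e1 : (g * x * g⁻¹) ^ 2 = g * x ^ 2 * g⁻¹ := by
        rw [pow_two, pow_two]
        group
      rw [e1] at this
      have : x ^ 2 = g⁻¹ * 1 * g := by rw [← this]; group
      simpa using this
    have := hA _ h1 h2 h3 h4
    rw [card_cj] at this
    exact this
  refine ⟨fun A h1 h2 h3 => (key A h1 h2 h3).1, ?_⟩
  refine ⟨cj g E0, ⟨?_, ?_, ?_, ?_⟩, ?_⟩
  · intro x hx
    rw [hT]
    exact hE0 ((mem_cj g E0 x).mp hx)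
  · rw [normal_subgroupOf_iff]
    · intro t ht x hx
      rw [mem_cj] at hx ⊢
      have := hE0n _ ((hT t).mp ht) _ hx
      have e : g⁻¹ * t * g * (g⁻¹ * x * g) * (g⁻¹ * t * g)⁻¹ = g⁻¹ * (t * x * t⁻¹) * g := by group
      rwa [e] at this
    · intro x hx
      rw [hT]
      exact hE0 ((mem_cj g E0 x).mp hx)
  · rw [elemAb_iff]
    constructor
    · intro x hx y hy
      rw [mem_cj] at hx hy
      have := hE0c _ hx _ hy
      have e1 : g⁻¹ * x * g * (g⁻¹ * y * g) = g⁻¹ * (x * y) * g := by group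
      have e2 : g⁻¹ * y * g * (g⁻¹ * x * g) = g⁻¹ * (y * x) * g := by group
      rw [e1, e2] at this
      exact mul_left_cancel (mul_right_cancel this)
    · intro x hx
      rw [mem_cj] at hx
      have := hE0s _ hx
      have e1 : (g⁻¹ * x * g) ^ 2 = g⁻¹ * x ^ 2 * g := by
        rw [pow_two, pow_two]
        group
      rw [e1] at this
      have : x ^ 2 = g * 1 * g⁻¹ := by rw [← this]; group
      simpa using this
  · rw [card_cj, hE0card]
  · rintro A ⟨h1, h2, h3, h4⟩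
    have := (key A h1 h2 h3).2 h4
    rw [← this, cj_cj]

end Cfsg.Agent.Lib.H17.SylTransport
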