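import Mathlib
import Cfsg.Agent.Lib.H19.IrredCyclic

set_option autoImplicit false

/-!
If `τ` is an irreducible endomorphism of prime order `q` of a finite `ZMod p`-module and an
invertible `η` conjugates `τ` to `τ ^ a`, then `a` is a power of `p` modulo `q`
(the normalizer of a Singer-type cycle acts through the Frobenius).
-/

namespace Cfsg.Agent.Lib.H17

open Polynomial

/-- In a finite field of characteristic `p`, the roots of the minimal polynomial of `x` over
`ZMod p` are the Frobenius conjugates `x ^ (p ^ i)`. -/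
theorem finiteField_root_of_minpoly {p : ℕ} [Fact p.Prime] {L : Type*} [Field L] [Finite L]
    [Algebra (ZMod p) L] (x y : L) (h : aeval y (minpoly (ZMod p) x) = 0) :
    ∃ i : ℕ, y = x ^ (p ^ i) := by
  have hx : IsIntegral (ZMod p) x := Algebra.IsIntegral.isIntegral x
  have hconj : IsConjRoot (ZMod p) x y := isConjRoot_of_aeval_eq_zero hx h
  obtain ⟨σ, hσ⟩ := hconj.symm.exists_algEquiv
  obtain ⟨n, hn⟩ := (FiniteField.bijective_frobeniusAlgEquivOfAlgebraic_pow (ZMod p) L).2 σ
  refine ⟨n, ?_⟩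
  rw [← hσ, ← hn]
  simp only
  rw [AlgEquiv.coe_pow, FiniteField.coe_frobeniusAlgEquivOfAlgebraic_iterate, ZMod.card]

/-- `τ` irreducible of prime order `q` on a finite `ZMod p`-module, `η` invertible with
`η τ = τ ^ a η`: then `a ≡ p ^ i (mod q)` for some `i`. -/
theorem exists_pow_modEq_of_conj {p q : ℕ} [hp : Fact p.Prime] [hq : Fact q.Prime] {V : Type*}
    [AddCommGroup V] [Module (ZMod p) V] [Finite V] [Nontrivial V]
    (τ η η' : Module.End (ZMod p) V) (hτq : τ ^ q = 1) (hτ1 : τ ≠ 1)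
    (hirr : ∀ W : Submodule (ZMod p) V, (∀ w ∈ W, τ w ∈ W) → W = ⊥ ∨ W = ⊤)
    (a : ℕ) (hη : η * τ = τ ^ a * η) (hηη' : η * η' = 1) :
    ∃ i : ℕ, a ≡ p ^ i [MOD q] := by
  have hfd : FiniteDimensional (ZMod p) V := Module.Finite.of_finite
  have hint : IsIntegral (ZMod p) τ := Algebra.IsIntegral.isIntegral τ
  have hirrf : Irreducible (minpoly (ZMod p) τ) :=
    Cfsg.Agent.Lib.H19.minpoly_irreducible_of_irreducible τ hirr
  have hmonic : (minpoly (ZMod p) τ).Monic := minpoly.monic hint
  have hf0 : minpoly (ZMod p) τ ≠ 0 := minpoly.ne_zero hint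
  -- conjugation relation for polynomials
  have hpow : ∀ n : ℕ, η * τ ^ n = (τ ^ a) ^ n * η := by
    intro n
    induction n with
    | zero => simp
    | succ n ih => rw [pow_succ, ← mul_assoc, ih, mul_assoc, hη, ← mul_assoc, ← pow_succ]
  have hconj : ∀ P : (ZMod p)[X], η * aeval τ P = aeval (τ ^ a) P * η := by
    intro P
    induction P using Polynomial.induction_on' with
    | add P Q hP hQ => rw [map_add, map_add, mul_add, add_mul, hP, hQ]
    | monomial n c =>
      rw [aeval_monomial, aeval_monomial, ← mul_assoc, ← Algebra.commutes, mul_assoc, hpow,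
        mul_assoc]
  have h0 : aeval (τ ^ a) (minpoly (ZMod p) τ) = 0 := by
    have h1 := hconj (minpoly (ZMod p) τ)
    rw [minpoly.aeval, mul_zero] at h1
    have h2 : aeval (τ ^ a) (minpoly (ZMod p) τ) * η * η' = 0 := by rw [← h1, zero_mul]
    rwa [mul_assoc, hηη', mul_one] at h2
  have hdvd : minpoly (ZMod p) τ ∣ (minpoly (ZMod p) τ).comp (X ^ a) := by
    apply minpoly.dvd
    rw [aeval_comp, map_pow, aeval_X]
    exact h0
  have hdvdq : minpoly (ZMod p) τ ∣ X ^ q - 1 := by
    apply minpoly.dvd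
    rw [map_sub, map_pow, aeval_X, map_one, hτq, sub_self]
  -- the field `L`
  haveI : Fact (Irreducible (minpoly (ZMod p) τ)) := ⟨hirrf⟩
  set f := minpoly (ZMod p) τ with hf
  let x : AdjoinRoot f := AdjoinRoot.root f
  haveI : Module.Finite (ZMod p) (AdjoinRoot f) := (AdjoinRoot.powerBasis hf0).finite
  haveI : Finite (AdjoinRoot f) := Module.finite_of_finite (ZMod p)
  have hmin : minpoly (ZMod p) x = f := by
    rw [AdjoinRoot.minpoly_root hf0, hmonic.leadingCoeff, inv_one, map_one, mul_one]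
  have hxa : aeval (x ^ a) f = 0 := by
    have h1 : aeval x (f.comp (X ^ a)) = 0 := by
      rw [AdjoinRoot.aeval_eq, AdjoinRoot.mk_eq_zero]
      exact hdvd
    rwa [aeval_comp, map_pow, aeval_X] at h1
  obtain ⟨i, hi⟩ := finiteField_root_of_minpoly (p := p) x (x ^ a) (by rw [hmin]; exact hxa)
  have hxq : x ^ q = 1 := by
    have h1 : aeval x (X ^ q - 1 : (ZMod p)[X]) = 0 := by
      rw [AdjoinRoot.aeval_eq, AdjoinRoot.mk_eq_zero]
      exact hdvdq
    rw [map_sub, map_pow, aeval_X, map_one] at h1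
    exact sub_eq_zero.mp h1
  have hx1 : x ≠ 1 := by
    intro hx
    apply hτ1
    have h1 : aeval x (X - 1 : (ZMod p)[X]) = 0 := by
      rw [map_sub, aeval_X, map_one, sub_eq_zero]
      exact hx
    rw [AdjoinRoot.aeval_eq, AdjoinRoot.mk_eq_zero] at h1
    obtain ⟨c, hc⟩ := h1
    have h2 : aeval τ (X - 1 : (ZMod p)[X]) = 0 := by
      rw [hc, map_mul, minpoly.aeval, zero_mul]
    rw [map_sub, aeval_X, map_one] at h2
    exact sub_eq_zero.mp h2
  have hord : orderOf x = q := orderOf_eq_prime hxq hx1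
  refine ⟨i, ?_⟩
  have hunit : IsUnit x := IsUnit.of_pow_eq_one hxq hq.out.ne_zero
  obtain ⟨u, hu⟩ := hunit
  have hordu : orderOf u = q := by rw [← orderOf_units, hu, hord]
  have hui : u ^ a = u ^ (p ^ i) := by
    apply Units.ext
    rw [Units.val_pow_eq_pow_val, Units.val_pow_eq_pow_val, hu]
    exact hi
  rw [← hordu]
  exact pow_eq_pow_iff_modEq.mp hui

end Cfsg.Agent.Lib.H17
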