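import Cfsg.Agent.Lib.H17.G2Vec
import Cfsg.Agent.Lib.H17.CosetPerm

set_option autoImplicit false
set_option maxRecDepth 100000

/-! # Products of `14 × 14` matrices over the field with four elements with vectors, computed on
the numbers of the vectors -/

namespace Cfsg.Agent.Lib.H17.G2Pack

open Matrix Cfsg.Agent.Lib.H17.CosetCert Cfsg.Agent.Lib.H17.G2Vec

theorem unc_mod (n : ℕ) : unc (n % 4) = unc n := by
  unfold unc
  rw [Nat.mod_mod]

theorem unc_xor_small : ∀ x < 4, ∀ y < 4, unc (x ^^^ y) = unc x + unc y := by decide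

theorem unc_xor (a b : ℕ) : unc (a ^^^ b) = unc a + unc b := by
  rw [← unc_mod (a ^^^ b), ← unc_mod a, ← unc_mod b]
  have h : (a ^^^ b) % 2 ^ 2 = a % 2 ^ 2 ^^^ b % 2 ^ 2 := Nat.xor_mod_two_pow
  have h4 : (2 : ℕ) ^ 2 = 4 := by norm_num
  rw [h4] at h
  rw [h]
  exact unc_xor_small _ (Nat.mod_lt _ (by norm_num)) _ (Nat.mod_lt _ (by norm_num))

theorem unc_xor_div (a b : ℕ) (k : ℕ) :
    unc ((a ^^^ b) / 2 ^ k) = unc (a / 2 ^ k) + unc (b / 2 ^ k) := by
  rw [Nat.xor_div_two_pow, unc_xor]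

theorem decV_xor (a b : ℕ) : decV (a ^^^ b) = decV a + decV b := by
  have h0 := unc_xor a b
  have h1 := unc_xor_div a b 2
  have h2 := unc_xor_div a b 4
  have h3 := unc_xor_div a b 6
  have h4 := unc_xor_div a b 8
  have h5 := unc_xor_div a b 10
  have h6 := unc_xor_div a b 12
  have h7 := unc_xor_div a b 14
  have h8 := unc_xor_div a b 16
  have h9 := unc_xor_div a b 18
  have h10 := unc_xor_div a b 20
  have h11 := unc_xor_div a b 22
  have h12 := unc_xor_div a b 24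
  have h13 := unc_xor_div a b 26
  norm_num at h1 h2 h3 h4 h5 h6 h7 h8 h9 h10 h11 h12 h13
  funext i
  rcases i with i | i
  · fin_cases i
    · exact h0
    · exact h1
  · fin_cases i
    · exact h2
    · exact h3
    · exact h4
    · exact h5
    · exact h6
    · exact h7
    · exact h8
    · exact h9
    · exact h10
    · exact h11
    · exact h12
    · exact h13

/-- the index of a coordinate -/
def jx : Fin 14 → J
  | ⟨0, _⟩ => .inl 0
  | ⟨1, _⟩ => .inl 1
  | ⟨k + 2, h⟩ => .inr ⟨k, by omega⟩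

/-- the entry of a packed table of the multiples of the columns of a matrix -/
def sl (C j d : ℕ) : ℕ := lk 28 268435456 C (4 * j + d)

/-- the product of a matrix with a vector, on the numbers -/
def pmv (C c : ℕ) : ℕ :=
  sl C 0 (c % 4) ^^^ sl C 1 (c / 4 % 4) ^^^ sl C 2 (c / 16 % 4) ^^^ sl C 3 (c / 64 % 4) ^^^
    sl C 4 (c / 256 % 4) ^^^ sl C 5 (c / 1024 % 4) ^^^ sl C 6 (c / 4096 % 4) ^^^
    sl C 7 (c / 16384 % 4) ^^^ sl C 8 (c / 65536 % 4) ^^^ sl C 9 (c / 262144 % 4) ^^^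
    sl C 10 (c / 1048576 % 4) ^^^ sl C 11 (c / 4194304 % 4) ^^^ sl C 12 (c / 16777216 % 4) ^^^
    sl C 13 (c / 67108864 % 4)

/-- the packed table is the table of the multiples of the columns of the matrix -/
def IsPacked (M : J → J → F4) (C : ℕ) : Prop :=
  ∀ j : Fin 14, ∀ d : Fin 4, decV (sl C j d) = fun i => unc d * M i (jx j)

instance (M : J → J → F4) (C : ℕ) : Decidable (IsPacked M C) := by
  unfold IsPacked
  infer_instance

theorem pmv_spec (M : J → J → F4) (C : ℕ) (hC : IsPacked M C) (c : ℕ) :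
    decV (pmv C c) = mv M (decV c) := by
  have hm : ∀ n : ℕ, n % 4 < 4 := fun n => Nat.mod_lt _ (by norm_num)
  have e0 := hC 0 ⟨c % 4, hm _⟩
  have e1 := hC 1 ⟨c / 4 % 4, hm _⟩
  have e2 := hC 2 ⟨c / 16 % 4, hm _⟩
  have e3 := hC 3 ⟨c / 64 % 4, hm _⟩
  have e4 := hC 4 ⟨c / 256 % 4, hm _⟩
  have e5 := hC 5 ⟨c / 1024 % 4, hm _⟩
  have e6 := hC 6 ⟨c / 4096 % 4, hm _⟩
  have e7 := hC 7 ⟨c / 16384 % 4, hm _⟩
  have e8 := hC 8 ⟨c / 65536 % 4, hm _⟩
  have e9 := hC 9 ⟨c / 262144 % 4, hm _⟩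
  have e10 := hC 10 ⟨c / 1048576 % 4, hm _⟩
  have e11 := hC 11 ⟨c / 4194304 % 4, hm _⟩
  have e12 := hC 12 ⟨c / 16777216 % 4, hm _⟩
  have e13 := hC 13 ⟨c / 67108864 % 4, hm _⟩
  simp only [unc_mod] at e0 e1 e2 e3 e4 e5 e6 e7 e8 e9 e10 e11 e12 e13
  unfold pmv
  rw [decV_xor, decV_xor, decV_xor, decV_xor, decV_xor, decV_xor, decV_xor, decV_xor, decV_xor,
    decV_xor, decV_xor, decV_xor, decV_xor]
  change decV (sl C (0 : Fin 14) (c % 4)) + decV (sl C (1 : Fin 14) (c / 4 % 4)) +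
    decV (sl C (2 : Fin 14) (c / 16 % 4)) + decV (sl C (3 : Fin 14) (c / 64 % 4)) +
    decV (sl C (4 : Fin 14) (c / 256 % 4)) + decV (sl C (5 : Fin 14) (c / 1024 % 4)) +
    decV (sl C (6 : Fin 14) (c / 4096 % 4)) + decV (sl C (7 : Fin 14) (c / 16384 % 4)) +
    decV (sl C (8 : Fin 14) (c / 65536 % 4)) + decV (sl C (9 : Fin 14) (c / 262144 % 4)) +
    decV (sl C (10 : Fin 14) (c / 1048576 % 4)) + decV (sl C (11 : Fin 14) (c / 4194304 % 4)) +
    decV (sl C (12 : Fin 14) (c / 16777216 % 4)) + decV (sl C (13 : Fin 14) (c / 67108864 % 4)) = _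
  rw [e0, e1, e2, e3, e4, e5, e6, e7, e8, e9, e10, e11, e12, e13]
  funext i
  simp only [Pi.add_apply, mv]
  change unc c * M i (.inl 0) + unc (c / 4) * M i (.inl 1) + unc (c / 16) * M i (.inr 0) +
    unc (c / 64) * M i (.inr 1) + unc (c / 256) * M i (.inr 2) + unc (c / 1024) * M i (.inr 3) +
    unc (c / 4096) * M i (.inr 4) + unc (c / 16384) * M i (.inr 5) +
    unc (c / 65536) * M i (.inr 6) + unc (c / 262144) * M i (.inr 7) +
    unc (c / 1048576) * M i (.inr 8) + unc (c / 4194304) * M i (.inr 9) +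
    unc (c / 16777216) * M i (.inr 10) + unc (c / 67108864) * M i (.inr 11) =
    M i (.inl 0) * unc c + M i (.inl 1) * unc (c / 4) + M i (.inr 0) * unc (c / 16) +
    M i (.inr 1) * unc (c / 64) + M i (.inr 2) * unc (c / 256) + M i (.inr 3) * unc (c / 1024) +
    M i (.inr 4) * unc (c / 4096) + M i (.inr 5) * unc (c / 16384) +
    M i (.inr 6) * unc (c / 65536) + M i (.inr 7) * unc (c / 262144) +
    M i (.inr 8) * unc (c / 1048576) + M i (.inr 9) * unc (c / 4194304) +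
    M i (.inr 10) * unc (c / 16777216) + M i (.inr 11) * unc (c / 67108864)
  ring

end Cfsg.Agent.Lib.H17.G2Pack
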