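import Cfsg.Agent.Lib.H17.Sgs
import Cfsg.Agent.Lib.H17.Masks

set_option autoImplicit false

/-! # Orbits of the stabilisers of a chain, and upper bounds for subgroups

With the notation of `Sgs`: the masked points of a level are reached from the base point by the
stabiliser of the earlier base points; if the orders match, the masked points are the whole orbit.
For a subgroup `H`, the order of `H ⊓ stabL bs` is at most the order of `H ⊓ stabL (b :: bs)` times
the size of any set containing the images of `b` under `H ⊓ stabL bs`. -/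

namespace Cfsg.Agent.Lib.H17.SgsCent

open Cfsg.Agent.Lib.H17.CosetCert Cfsg.Agent.Lib.H17.Sgs

variable (wb Wm : ℕ) {G : Type*} [Group G] {n : ℕ} (φ : G →* Equiv.Perm (Fin n))

/-- every masked point is reached from the base point by the stabiliser -/
theorem reach (tabs : List ℕ)
    (hgood : ∀ t ∈ tabs, Good wb Wm n t) (htabs : ∀ t ∈ tabs, ∃ g : G, φ g = σ wb Wm n t)
    (bs : List ℕ) (b : ℕ) (hb : b < n) (mask hr : ℕ) (hw : List (List ℕ))
    (hletters : ∀ ts ∈ hw, ∀ t ∈ ts, t ∈ tabs)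
    (hfix : ∀ ts ∈ hw, ∀ c ∈ bs, applyT wb Wm ts c = c)
    (hconn : checkOrbConn wb Wm mask hr b hw n = true) :
    ∀ i : Fin n, tb mask i = true → ∃ g ∈ stabL φ bs, φ g ⟨b, hb⟩ = i := by
  classical
  have hcn := checkOrbConn_sound wb Wm mask hr b hw n hconn
  have hgoodw : ∀ ts ∈ hw, ∀ t ∈ ts, Good wb Wm n t :=
    fun ts hts t ht => hgood t (hletters ts hts t ht)
  have hinvapp : ∀ ts ∈ hw, ∀ i : Fin n,
      ((((ts.map (σ wb Wm n)).prod)⁻¹ i : Fin n) : ℕ) = applyT wb Wm ts i := by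
    intro ts hts i
    rw [← prod_reverse_of_invol_list _ (by
      intro g hg'
      obtain ⟨t, -, rfl⟩ := List.mem_map.mp hg'
      exact σ_mul_self wb Wm n t)]
    exact prod_reverse_apply wb Wm n ts (hgoodw ts hts) i
  have hwords : ∀ ts ∈ hw, ∃ s ∈ stabL φ bs, φ s = (ts.map (σ wb Wm n)).prod := by
    intro ts hts
    obtain ⟨s, hs⟩ := exists_of_word wb Wm φ tabs htabs ts (hletters ts hts)
    refine ⟨s, ?_, hs⟩
    intro c hc hcn'
    have h1 : ((((ts.map (σ wb Wm n)).prod)⁻¹ ⟨c, hcn'⟩ : Fin n) : ℕ) = c := by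
      rw [hinvapp ts hts ⟨c, hcn'⟩]
      exact hfix ts hts c hc
    have h2 : ((ts.map (σ wb Wm n)).prod)⁻¹ ⟨c, hcn'⟩ = ⟨c, hcn'⟩ := Fin.ext h1
    rw [hs]
    exact (Equiv.Perm.inv_eq_iff_eq).mp h2 |>.symm
  have key : ∀ r : ℕ, ∀ i : Fin n, tb mask i = true → lk wb Wm hr i = r →
      ∃ g ∈ stabL φ bs, φ g ⟨b, hb⟩ = i := by
    intro r
    induction r using Nat.strong_induction_on with
    | _ r ih =>
      intro i hi hir
      by_cases hip : (i : ℕ) = b
      · exact ⟨1, one_mem _, by rw [map_one]; exact (Fin.ext hip).symm⟩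
      · obtain ⟨ts, hts, hj1, hj2⟩ := hcn i i.2 hi hip
        obtain ⟨s, hs, hφs⟩ := hwords ts hts
        have hj : (((φ s)⁻¹ i : Fin n) : ℕ) = applyT wb Wm ts i := by
          rw [hφs]; exact hinvapp ts hts i
        obtain ⟨h', hh', hh'p⟩ := ih _ (by rw [← hir]; exact hj2) ((φ s)⁻¹ i)
          (by rw [hj]; exact hj1) (by rw [hj])
        refine ⟨s * h', mul_mem hs hh', ?_⟩
        rw [map_mul, Equiv.Perm.mul_apply, hh'p]
        simp
  intro i hi
  exact key _ i hi rfl

/-- a set of points reached from the base point by the stabiliser is counted by the index -/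
theorem card_mul_le_of_reach [Finite G] (bs : List ℕ) (b : ℕ) (hb : b < n) (O : Set (Fin n))
    (h : ∀ i ∈ O, ∃ g ∈ stabL φ bs, φ g ⟨b, hb⟩ = i) :
    O.ncard * Nat.card (stabL φ (b :: bs)) ≤ Nat.card (stabL φ bs) := by
  classical
  have hsel : ∀ i : O, ∃ g : stabL φ bs, φ (g : G) ⟨b, hb⟩ = i.1 := by
    intro i
    obtain ⟨g, hg, hgi⟩ := h i.1 i.2
    exact ⟨⟨g, hg⟩, hgi⟩
  choose gsel hgsel using hsel
  let f : O × stabL φ (b :: bs) → stabL φ bs :=
    fun p => gsel p.1 * ⟨(p.2 : G), stabL_cons_le φ b bs p.2.2⟩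
  have hf : Function.Injective f := by
    rintro ⟨i, x⟩ ⟨i', x'⟩ heq
    have heq' : (gsel i : G) * (x : G) = (gsel i' : G) * (x' : G) := by
      have := congrArg (fun y : stabL φ bs => (y : G)) heq
      simpa [f] using this
    have hi : i = i' := by
      apply Subtype.ext
      have h1 : φ ((gsel i : G) * (x : G)) ⟨b, hb⟩ = i.1 := by
        rw [map_mul, Equiv.Perm.mul_apply, stabL_cons_fix φ b bs hb x x.2, hgsel]
      have h2 : φ ((gsel i' : G) * (x' : G)) ⟨b, hb⟩ = i'.1 := by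
        rw [map_mul, Equiv.Perm.mul_apply, stabL_cons_fix φ b bs hb x' x'.2, hgsel]
      rw [← h1, ← h2, heq']
    subst hi
    have : (x : G) = (x' : G) := mul_left_cancel heq'
    exact Prod.ext rfl (Subtype.ext this)
  have hcard := Nat.card_le_card_of_injective f hf
  rw [Nat.card_prod, Nat.card_coe_set_eq] at hcard
  exact hcard

/-- if the orders match, the orbit of the base point under the stabiliser is the masked set -/
theorem orbit_subset_mask [Finite G] (bs : List ℕ) (b : ℕ) (hb : b < n) (mask m : ℕ)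
    (hreach : ∀ i : Fin n, tb mask i = true → ∃ g ∈ stabL φ bs, φ g ⟨b, hb⟩ = i)
    (hcount : countBits mask n 0 = m)
    (hcard : Nat.card (stabL φ bs) ≤ m * Nat.card (stabL φ (b :: bs))) :
    ∀ g ∈ stabL φ bs, tb mask (φ g ⟨b, hb⟩ : Fin n) = true := by
  intro g0 hg0
  by_contra hj
  let M : Set (Fin n) := {i : Fin n | tb mask i = true}
  have hM : M.ncard = m := by rw [← hcount]; exact ncard_mask mask n
  have hjM : φ g0 ⟨b, hb⟩ ∉ M := hj
  have hO : (insert (φ g0 ⟨b, hb⟩) M).ncard = m + 1 := by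
    rw [Set.ncard_insert_of_notMem hjM (Set.toFinite M), hM]
  have h1 := card_mul_le_of_reach φ bs b hb (insert (φ g0 ⟨b, hb⟩) M) (by
    intro i hi
    rcases hi with rfl | hi
    · exact ⟨g0, hg0, rfl⟩
    · exact hreach i hi)
  rw [hO] at h1
  have h2 : 1 ≤ Nat.card (stabL φ (b :: bs)) := one_le_card φ _
  have h3 : (m + 1) * Nat.card (stabL φ (b :: bs)) =
      m * Nat.card (stabL φ (b :: bs)) + Nat.card (stabL φ (b :: bs)) := by ring
  omega

/-- orbit–stabiliser bound inside a subgroup -/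
theorem card_inf_le [Finite G] (H : Subgroup G) (bs : List ℕ) (b : ℕ) (hb : b < n)
    (A : Set (Fin n)) (h : ∀ g ∈ H ⊓ stabL φ bs, φ g ⟨b, hb⟩ ∈ A) :
    Nat.card ↥(H ⊓ stabL φ bs) ≤ A.ncard * Nat.card ↥(H ⊓ stabL φ (b :: bs)) := by
  classical
  let K : Subgroup G := H ⊓ stabL φ bs
  let K' : Subgroup G := H ⊓ stabL φ (b :: bs)
  -- representatives
  let r : A → K := fun a =>
    if ha : ∃ g : K, φ (g : G) ⟨b, hb⟩ = a.1 then ha.choose else 1
  have hr : ∀ g : K, φ ((r ⟨φ (g : G) ⟨b, hb⟩, h g g.2⟩ : K) : G) ⟨b, hb⟩ = φ (g : G) ⟨b, hb⟩ := by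
    intro g
    have ha : ∃ g' : K, φ (g' : G) ⟨b, hb⟩ = φ (g : G) ⟨b, hb⟩ := ⟨g, rfl⟩
    change φ ((if ha : ∃ g' : K, φ (g' : G) ⟨b, hb⟩ = φ (g : G) ⟨b, hb⟩ then ha.choose else 1 : K) : G)
      ⟨b, hb⟩ = _
    rw [dif_pos ha]
    exact ha.choose_spec
  have hmem : ∀ g : K, ((r ⟨φ (g : G) ⟨b, hb⟩, h g g.2⟩ : K) : G)⁻¹ * (g : G) ∈ K' := by
    intro g
    have hrg := hr g
    generalize (r ⟨φ (g : G) ⟨b, hb⟩, h g g.2⟩ : K) = x at hrg ⊢
    have hxK := Subgroup.mem_inf.mp x.2
    have hgK := Subgroup.mem_inf.mp g.2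
    refine Subgroup.mem_inf.mpr ⟨H.mul_mem (H.inv_mem hxK.1) hgK.1, ?_⟩
    intro c hc hcn
    rcases List.mem_cons.mp hc with rfl | hc'
    · rw [map_mul, map_inv, Equiv.Perm.mul_apply, ← hrg]
      simp
    · rw [map_mul, map_inv, Equiv.Perm.mul_apply, hgK.2 c hc' hcn]
      exact (Equiv.Perm.inv_eq_iff_eq).mpr (hxK.2 c hc' hcn).symm
  let f : K → A × K' := fun g =>
    (⟨φ (g : G) ⟨b, hb⟩, h g g.2⟩, ⟨_, hmem g⟩)
  have hf : Function.Injective f := by
    intro g1 g2 heq
    have h1 : (⟨φ (g1 : G) ⟨b, hb⟩, h g1 g1.2⟩ : A) = ⟨φ (g2 : G) ⟨b, hb⟩, h g2 g2.2⟩ :=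
      congrArg Prod.fst heq
    have h2 : ((r ⟨φ (g1 : G) ⟨b, hb⟩, h g1 g1.2⟩ : K) : G)⁻¹ * (g1 : G) =
        ((r ⟨φ (g2 : G) ⟨b, hb⟩, h g2 g2.2⟩ : K) : G)⁻¹ * (g2 : G) :=
      congrArg (fun p : A × K' => ((p.2 : K') : G)) heq
    rw [h1] at h2
    exact Subtype.ext (mul_left_cancel h2)
  have hcard := Nat.card_le_card_of_injective f hf
  rw [Nat.card_prod, Nat.card_coe_set_eq] at hcard
  exact hcard

/-- an element commuting with `z` maps fixed points of `z` to fixed points of `z` -/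
theorem fix_of_comm (g z : G) (hgz : g * z = z * g) (i : Fin n) (hi : φ z i = i) :
    φ z (φ g i) = φ g i := by
  have h := congrArg (fun x => φ x i) hgz
  simp only [map_mul, Equiv.Perm.mul_apply, hi] at h
  exact h.symm

/-! ## Two more table checks -/

/-- every fixed point `< n` of the table lies in the mask -/
noncomputable def checkFix (t fm : ℕ) (n : ℕ) : Bool :=
  Nat.rec (motive := fun _ => Bool) true
    (fun i ih => cond (Nat.beq (lk wb Wm t i) i) (cond (tb fm i) ih false) ih) n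

theorem checkFix_sound (t fm : ℕ) (n : ℕ) (h : checkFix wb Wm t fm n = true) :
    ∀ i < n, lk wb Wm t i = i → tb fm i = true := by
  induction n with
  | zero => intro i hi; omega
  | succ n ih =>
    have h' : cond (Nat.beq (lk wb Wm t n) n) (cond (tb fm n) (checkFix wb Wm t fm n) false)
        (checkFix wb Wm t fm n) = true := h
    intro i hi hfix
    rcases Nat.lt_succ_iff_lt_or_eq.mp hi with hlt | rfl
    · apply ih _ i hlt hfix
      cases hb : Nat.beq (lk wb Wm t n) n with
      | false => rw [hb] at h'; exact h'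
      | true =>
        rw [hb] at h'
        cases hm : tb fm n with
        | false => rw [hm] at h'; exact absurd h' (by simp)
        | true => rw [hm] at h'; exact h'
    · have hb : Nat.beq (lk wb Wm t i) i = true := by rw [hfix]; exact Nat.beq_refl i
      rw [hb] at h'
      cases hm : tb fm i with
      | false => rw [hm] at h'; exact absurd h' (by simp)
      | true => rfl

/-- the word (read first letter first) acts as the table -/
noncomputable def checkTab (ts : List ℕ) (t : ℕ) (n : ℕ) : Bool :=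
  Nat.rec (motive := fun _ => Bool) true
    (fun i ih => cond (Nat.beq (applyT wb Wm ts i) (lk wb Wm t i)) ih false) n

theorem checkTab_sound (ts : List ℕ) (t : ℕ) (n : ℕ) (h : checkTab wb Wm ts t n = true) :
    ∀ i < n, applyT wb Wm ts i = lk wb Wm t i := by
  induction n with
  | zero => intro i hi; omega
  | succ n ih =>
    have h' : cond (Nat.beq (applyT wb Wm ts n) (lk wb Wm t n)) (checkTab wb Wm ts t n) false =
        true := h
    cases hb : Nat.beq (applyT wb Wm ts n) (lk wb Wm t n) with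
    | false => rw [hb] at h'; exact absurd h' (by simp)
    | true =>
      rw [hb] at h'
      intro i hi
      rcases Nat.lt_succ_iff_lt_or_eq.mp hi with hlt | rfl
      · exact ih h' i hlt
      · exact Nat.eq_of_beq_eq_true hb

/-- a product of letters is the permutation of a table -/
theorem prod_eq_σ (ts : List ℕ) (t : ℕ) (hg : ∀ t' ∈ ts, Good wb Wm n t') (ht : Good wb Wm n t)
    (h : checkTab wb Wm ts.reverse t n = true) : (ts.map (σ wb Wm n)).prod = σ wb Wm n t := by
  ext i
  rw [prod_apply wb Wm n ts hg i, σ_apply wb Wm n t ht i]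
  exact checkTab_sound wb Wm ts.reverse t n h i i.2

end Cfsg.Agent.Lib.H17.SgsCent
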