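import Cfsg.Agent.Lib.H17.F4
import Cfsg.Agent.Lib.H17.SgsCent
import Cfsg.Prelude.Def_ChevG2

set_option autoImplicit false
set_option maxRecDepth 100000

/-! # The Chevalley group `G₂(4)` as a group of `14 × 14` matrices over the field with four elements -/

namespace Cfsg.Agent.Lib.H17.G2Vec

open Matrix Cfsg.Agent.Lib.H17.CosetCert

/-- the index set of the coordinates -/
abbrev J : Type := Fin 2 ⊕ Fin 12

theorem J_eq : Cfsg.Lie.chevG2.Idx = J := rfl

/-- the vectors -/
abbrev V14 : Type := J → F4

/-- the general linear group -/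
abbrev GL14 : Type := GL J F4

/-- the matrices of the root elements -/
def xm (r : Fin 12) (t : F4) : Matrix J J F4 := Cfsg.Lie.chevG2.xMat F4 r t

/-- the Chevalley group -/
def X : Subgroup GL14 := Subgroup.closure {g | ∃ (r : Fin 12) (t : F4), (g : Matrix J J F4) = xm r t}

theorem X_eq : X = Cfsg.Lie.chevG2.group F4 := rfl

/-- the element of the field of a number -/
def unc (n : ℕ) : F4 :=
  if n % 4 = 0 then .z else if n % 4 = 1 then .o else if n % 4 = 2 then .w else .w2

/-- the number of an element of the field -/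
def cde : F4 → ℕ
  | .z => 0
  | .o => 1
  | .w => 2
  | .w2 => 3

/-- the vector of a number -/
def decV (c : ℕ) : V14 :=
  Sum.elim ![unc c, unc (c / 4)]
    ![unc (c / 16), unc (c / 64), unc (c / 256), unc (c / 1024), unc (c / 4096), unc (c / 16384),
      unc (c / 65536), unc (c / 262144), unc (c / 1048576), unc (c / 4194304), unc (c / 16777216),
      unc (c / 67108864)]

/-- the number of a vector -/
def encV (v : V14) : ℕ :=
  cde (v (.inl 0)) + 4 * cde (v (.inl 1)) + 16 * cde (v (.inr 0)) + 64 * cde (v (.inr 1)) +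
    256 * cde (v (.inr 2)) + 1024 * cde (v (.inr 3)) + 4096 * cde (v (.inr 4)) +
    16384 * cde (v (.inr 5)) + 65536 * cde (v (.inr 6)) + 262144 * cde (v (.inr 7)) +
    1048576 * cde (v (.inr 8)) + 4194304 * cde (v (.inr 9)) + 16777216 * cde (v (.inr 10)) +
    67108864 * cde (v (.inr 11))

/-- the product of a matrix given by its entries with a vector, written out -/
def mv (M : J → J → F4) (v : V14) : V14 := fun i =>
  M i (.inl 0) * v (.inl 0) + M i (.inl 1) * v (.inl 1) + M i (.inr 0) * v (.inr 0) +
    M i (.inr 1) * v (.inr 1) + M i (.inr 2) * v (.inr 2) + M i (.inr 3) * v (.inr 3) +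
    M i (.inr 4) * v (.inr 4) + M i (.inr 5) * v (.inr 5) + M i (.inr 6) * v (.inr 6) +
    M i (.inr 7) * v (.inr 7) + M i (.inr 8) * v (.inr 8) + M i (.inr 9) * v (.inr 9) +
    M i (.inr 10) * v (.inr 10) + M i (.inr 11) * v (.inr 11)

theorem mv_eq (M : J → J → F4) (v : V14) : (Matrix.of M) *ᵥ v = mv M v := by
  funext i
  simp only [mulVec, dotProduct, Fintype.sum_sum_type, Fin.sum_univ_two, Matrix.of_apply, mv]
  rw [Fin.sum_univ_succ, Fin.sum_univ_succ, Fin.sum_univ_succ, Fin.sum_univ_succ, Fin.sum_univ_succ,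
    Fin.sum_univ_succ, Fin.sum_univ_succ, Fin.sum_univ_succ, Fin.sum_univ_succ, Fin.sum_univ_succ,
    Fin.sum_univ_succ, Fin.sum_univ_succ, Fin.sum_univ_zero]
  simp only [add_zero, add_assoc]
  rfl

/-! ## The root elements -/

theorem xm_sq : ∀ r : Fin 12, ∀ t : F4, xm r t * xm r t = 1 := by
  decide +kernel

/-- the root elements -/
def xg (r : Fin 12) (t : F4) : GL14 := ⟨xm r t, xm r t, xm_sq r t, xm_sq r t⟩

theorem xg_val (r : Fin 12) (t : F4) : ((xg r t : GL14) : Matrix J J F4) = xm r t := rfl

theorem xg_mem (r : Fin 12) (t : F4) : xg r t ∈ X :=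
  Subgroup.subset_closure ⟨r, t, rfl⟩

theorem xg_mul_self (r : Fin 12) (t : F4) : xg r t * xg r t = 1 :=
  Units.ext (xm_sq r t)

theorem sq_eq_one : ∀ d : F4, d * d = 1 → d = 1 := by decide

/-- the elements of the Chevalley group have determinant one -/
theorem det_X (g : GL14) (hg : g ∈ X) : (g : Matrix J J F4).det = 1 := by
  unfold X at hg
  induction hg using Subgroup.closure_induction with
  | mem s hs =>
    obtain ⟨r, t, h⟩ := hs
    apply sq_eq_one
    rw [← det_mul, h, xm_sq, det_one]
  | one => exact det_one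
  | mul a b _ _ iha ihb => rw [Units.val_mul, det_mul, iha, ihb, mul_one]
  | inv a _ iha =>
    have h := congrArg Matrix.det (congrArg Units.val (inv_mul_cancel a))
    rw [Units.val_mul, det_mul, iha, mul_one, Units.val_one, det_one] at h
    exact h

end Cfsg.Agent.Lib.H17.G2Vec
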