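import Cfsg.Agent.Lib.H17.GSift

set_option autoImplicit false

/-! # Certifying a chain of stabilisers for `GSift`, and the conjugacy test

The checks are made on ranges of points, so that they can be split into several declarations. -/

namespace Cfsg.Agent.Lib.H17.GSift

open Cfsg.Agent.Lib.H17.CosetCert Cfsg.Agent.Lib.H17.Sgs Cfsg.Agent.Lib.H17.Sift
  Cfsg.Agent.Lib.H17.PermActs Cfsg.Agent.Lib.H6.PermTab Cfsg.Agent.Lib.H17.SgsCent
  Cfsg.Agent.Lib.H17.ConjTest

section conn

variable (T : ℕ → ℕ → ℕ)

/-- every point `i` with `lo ≤ i < hi` of nonzero rank other than `b` is moved by a word to a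
point of smaller nonzero rank -/
def ConnOn (R : ℕ → ℕ) (b : ℕ) (hw : List (List ℕ)) (lo hi : ℕ) : Prop :=
  ∀ i, lo ≤ i → i < hi → R i ≠ 0 → i ≠ b →
    ∃ w ∈ hw, R (applyW T w i) ≠ 0 ∧ R (applyW T w i) < R i

/-- the check of `ConnOn` at the points `lo, …, lo + cnt - 1` -/
noncomputable def checkConn (R : ℕ → ℕ) (b : ℕ) (hw : List (List ℕ)) (lo cnt : ℕ) : Bool :=
  Nat.rec (motive := fun _ => Bool) true
    (fun k ih => force (Nat.add lo k) fun i => force (R i) fun ri =>
      cond (Nat.beq ri 0) ih (cond (Nat.beq i b) ih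
        (match findDown T R hw i ri with
          | none => false
          | some _ => ih))) cnt

theorem checkConn_succ (R : ℕ → ℕ) (b : ℕ) (hw : List (List ℕ)) (lo cnt : ℕ) :
    checkConn T R b hw lo (cnt + 1) =
      cond (Nat.beq (R (lo + cnt)) 0) (checkConn T R b hw lo cnt)
        (cond (Nat.beq (lo + cnt) b) (checkConn T R b hw lo cnt)
          (match findDown T R hw (lo + cnt) (R (lo + cnt)) with
            | none => false
            | some _ => checkConn T R b hw lo cnt)) := by
  change (force (Nat.add lo cnt) fun i => force (R i) fun ri =>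
      cond (Nat.beq ri 0) (checkConn T R b hw lo cnt) (cond (Nat.beq i b) (checkConn T R b hw lo cnt)
        (match findDown T R hw i ri with
          | none => false
          | some _ => checkConn T R b hw lo cnt))) = _
  rw [force_eq, force_eq]
  rfl

theorem checkConn_sound (R : ℕ → ℕ) (b : ℕ) (hw : List (List ℕ)) (lo cnt : ℕ)
    (h : checkConn T R b hw lo cnt = true) : ConnOn T R b hw lo (lo + cnt) := by
  induction cnt with
  | zero => intro i h1 h2; omega
  | succ cnt ih =>
    rw [checkConn_succ] at h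
    have hrest : checkConn T R b hw lo cnt = true := by
      cases h0 : Nat.beq (R (lo + cnt)) 0 with
      | true => rw [h0] at h; exact h
      | false =>
        rw [h0] at h
        simp only [cond_false] at h
        cases hb : Nat.beq (lo + cnt) b with
        | true => rw [hb] at h; exact h
        | false =>
          rw [hb] at h
          simp only [cond_false] at h
          cases hf : findDown T R hw (lo + cnt) (R (lo + cnt)) with
          | none => rw [hf] at h; exact absurd h (by simp)
          | some w => rw [hf] at h; exact h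
    intro i h1 h2 hR hib
    rcases Nat.lt_succ_iff_lt_or_eq.mp (show i < (lo + cnt) + 1 by omega) with hlt | rfl
    · exact ih hrest i h1 hlt hR hib
    · have h0 : Nat.beq (R (lo + cnt)) 0 = false := by
        cases hb : Nat.beq (R (lo + cnt)) 0 with
        | false => rfl
        | true => exact absurd (Nat.eq_of_beq_eq_true hb) hR
      have hb : Nat.beq (lo + cnt) b = false := by
        cases hb : Nat.beq (lo + cnt) b with
        | false => rfl
        | true => exact absurd (Nat.eq_of_beq_eq_true hb) hib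
      rw [h0, hb] at h
      simp only [cond_false] at h
      cases hf : findDown T R hw (lo + cnt) (R (lo + cnt)) with
      | none => rw [hf] at h; exact absurd h (by simp)
      | some w =>
        obtain ⟨hw1, hw2, hw3⟩ := findDown_spec T R hw _ _ w hf
        exact ⟨w, hw1, hw2, hw3⟩

theorem ConnOn.append {R : ℕ → ℕ} {b : ℕ} {hw : List (List ℕ)} {a m c : ℕ}
    (h1 : ConnOn T R b hw a m) (h2 : ConnOn T R b hw m c) : ConnOn T R b hw a c := by
  intro i hi1 hi2 hR hib
  by_cases h : i < m
  · exact h1 i hi1 h hR hib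
  · exact h2 i (by omega) hi2 hR hib

end conn

section count

/-- the number of points `i` with `a ≤ i < b` of nonzero rank -/
def cntSet (R : ℕ → ℕ) (a b : ℕ) : ℕ := ((Finset.Ico a b).filter fun i => R i ≠ 0).card

/-- the number of points of nonzero rank among `lo, …, lo + cnt - 1`, added to `acc` -/
noncomputable def countNZ (R : ℕ → ℕ) (lo cnt : ℕ) : ℕ → ℕ :=
  Nat.rec (motive := fun _ => ℕ → ℕ) (fun acc => acc)
    (fun k ih acc => cond (Nat.beq (R (Nat.add lo k)) 0) (ih acc) (force (Nat.succ acc) ih)) cnt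

theorem countNZ_eq (R : ℕ → ℕ) (lo cnt acc : ℕ) :
    countNZ R lo cnt acc = acc + cntSet R lo (lo + cnt) := by
  induction cnt generalizing acc with
  | zero => simp [countNZ, cntSet]
  | succ cnt ih =>
    have h' : countNZ R lo (cnt + 1) acc =
        cond (Nat.beq (R (lo + cnt)) 0) (countNZ R lo cnt acc)
          (force (Nat.succ acc) (countNZ R lo cnt)) := rfl
    have hI : Finset.Ico lo (lo + (cnt + 1)) = insert (lo + cnt) (Finset.Ico lo (lo + cnt)) := by
      ext x
      simp only [Finset.mem_Ico, Finset.mem_insert]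
      omega
    have hS : cntSet R lo (lo + (cnt + 1)) =
        cntSet R lo (lo + cnt) + (if R (lo + cnt) ≠ 0 then 1 else 0) := by
      unfold cntSet
      rw [hI, Finset.filter_insert]
      by_cases h0 : R (lo + cnt) ≠ 0
      · rw [if_pos h0, if_pos h0, Finset.card_insert_of_notMem (by simp)]
      · rw [if_neg h0, if_neg h0, add_zero]
    rw [h', hS]
    cases hb : Nat.beq (R (lo + cnt)) 0 with
    | true =>
      have h0 : R (lo + cnt) = 0 := Nat.eq_of_beq_eq_true hb
      rw [cond_true, ih, h0]
      simp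
    | false =>
      have h0 : R (lo + cnt) ≠ 0 := by
        intro h0
        rw [h0] at hb
        exact absurd hb (by decide)
      rw [cond_false, force_eq, ih, if_pos h0]
      omega

theorem cntSet_of_count (R : ℕ → ℕ) (lo cnt m : ℕ) (h : countNZ R lo cnt 0 = m) :
    cntSet R lo (lo + cnt) = m := by
  rw [countNZ_eq, zero_add] at h
  exact h

theorem cntSet_append (R : ℕ → ℕ) (a m c k1 k2 : ℕ) (h1 : a ≤ m) (h2 : m ≤ c)
    (e1 : cntSet R a m = k1) (e2 : cntSet R m c = k2) : cntSet R a c = k1 + k2 := by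
  unfold cntSet at *
  rw [← e1, ← e2, ← Finset.card_union_of_disjoint, ← Finset.filter_union,
    Finset.Ico_union_Ico_eq_Ico h1 h2]
  apply Finset.disjoint_filter_filter
  exact Finset.Ico_disjoint_Ico_consecutive a m c

theorem ncard_rank (R : ℕ → ℕ) (n : ℕ) :
    Set.ncard {i : Fin n | R i ≠ 0} = cntSet R 0 n := by
  unfold cntSet
  rw [← Set.ncard_coe_finset]
  have : (((Finset.Ico 0 n).filter fun i => R i ≠ 0 : Finset ℕ) : Set ℕ) =
      (fun i : Fin n => (i : ℕ)) '' {i : Fin n | R i ≠ 0} := by
    ext x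
    simp only [Finset.coe_filter, Finset.mem_Ico, Nat.zero_le, true_and, Set.mem_ofPred_eq,
      Set.mem_image]
    constructor
    · rintro ⟨h1, h2⟩
      exact ⟨⟨x, h1⟩, h2, rfl⟩
    · rintro ⟨i, hi, rfl⟩
      exact ⟨i.2, hi⟩
  rw [this, Set.ncard_image_of_injective _ Fin.val_injective]

end count

section level

variable {T : ℕ → ℕ → ℕ} {G : Type*} [Group G] {n : ℕ} {φ : G →* Equiv.Perm (Fin n)}
  {gens : ℕ → G} {ng : ℕ}

/-- every point of nonzero rank is reached from the base point by the stabiliser -/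
theorem reach (hT : LettersOK T φ gens ng) (bs : List ℕ) (b : ℕ) (hb : b < n) (R : ℕ → ℕ)
    (hw : List (List ℕ)) (hletters : ∀ w ∈ hw, ∀ x ∈ w, x < ng)
    (hfix : ∀ w ∈ hw, ∀ c ∈ bs, applyW T w c = c) (hconn : ConnOn T R b hw 0 n) :
    ∀ i : Fin n, R i ≠ 0 → ∃ g ∈ stabL φ bs, φ g ⟨b, hb⟩ = i := by
  have key : ∀ r : ℕ, ∀ i : Fin n, R i ≠ 0 → R i = r → ∃ g ∈ stabL φ bs, φ g ⟨b, hb⟩ = i := by
    intro r
    induction r using Nat.strong_induction_on with
    | _ r ih =>
      intro i hi hir
      by_cases hip : (i : ℕ) = b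
      · exact ⟨1, one_mem _, by rw [map_one]; exact (Fin.ext hip).symm⟩
      · obtain ⟨w, hw1, hj1, hj2⟩ := hconn i (Nat.zero_le _) i.2 hi hip
        obtain ⟨u, hu, huy⟩ := word_elt hT bs w (hletters w hw1) (hfix w hw1)
        have hj : ((φ u i : Fin n) : ℕ) = applyW T w i := by
          rw [← huy i i.2, pt_of_lt φ u i i.2]
        obtain ⟨g', hg', hg'p⟩ := ih _ (by rw [← hir]; exact hj2) (φ u i)
          (by rw [hj]; exact hj1) (by rw [hj])
        refine ⟨u⁻¹ * g', mul_mem (inv_mem hu) hg', ?_⟩
        rw [map_mul, Equiv.Perm.mul_apply, hg'p, map_inv]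
        simp
  intro i hi
  exact key _ i hi rfl

/-- the inequality of one level -/
theorem level_le [Finite G] (bs : List ℕ) (b : ℕ) (hb : b < n) (R : ℕ → ℕ) (m : ℕ)
    (hreach : ∀ i : Fin n, R i ≠ 0 → ∃ g ∈ stabL φ bs, φ g ⟨b, hb⟩ = i)
    (hcount : cntSet R 0 n = m) :
    m * Nat.card (stabL φ (b :: bs)) ≤ Nat.card (stabL φ bs) := by
  have h := card_mul_le_of_reach φ bs b hb {i : Fin n | R i ≠ 0} hreach
  rwa [ncard_rank, hcount] at h

/-- if the orders match, the ranks do not vanish on the orbit of the base point -/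
theorem orbit_subset [Finite G] (bs : List ℕ) (b : ℕ) (hb : b < n) (R : ℕ → ℕ) (m : ℕ)
    (hreach : ∀ i : Fin n, R i ≠ 0 → ∃ g ∈ stabL φ bs, φ g ⟨b, hb⟩ = i)
    (hcount : cntSet R 0 n = m)
    (hcard : Nat.card (stabL φ bs) ≤ m * Nat.card (stabL φ (b :: bs))) :
    ∀ g ∈ stabL φ bs, R (pt φ g b) ≠ 0 := by
  intro g0 hg0
  rw [pt_of_lt φ g0 b hb]
  by_contra hj
  let M : Set (Fin n) := {i : Fin n | R i ≠ 0}
  have hM : M.ncard = m := by rw [← hcount]; exact ncard_rank R n
  have hjM : φ g0 ⟨b, hb⟩ ∉ M := fun h => h hj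
  have hO : (insert (φ g0 ⟨b, hb⟩) M).ncard = m + 1 := by
    rw [Set.ncard_insert_of_notMem hjM (Set.toFinite M), hM]
  have h1 := card_mul_le_of_reach φ bs b hb (insert (φ g0 ⟨b, hb⟩) M) (by
    intro i hi
    rcases hi with rfl | hi
    · exact ⟨g0, hg0, rfl⟩
    · exact hreach i hi)
  rw [hO] at h1
  have h2 : 1 ≤ Nat.card (stabL φ (b :: bs)) := one_le_card φ _
  have h3 : (m + 1) * Nat.card (stabL φ (b :: bs)) =
      m * Nat.card (stabL φ (b :: bs)) + Nat.card (stabL φ (b :: bs)) := by ring
  omega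

end level

section conj

variable {T : ℕ → ℕ → ℕ} {G : Type*} [Group G] {n : ℕ} {φ : G →* Equiv.Perm (Fin n)}
  {gens : ℕ → G} {ng : ℕ}

/-- an element conjugating `x` to `y` maps an orbit of `x` to an orbit of `y` -/
theorem maps_of_conj {g x y : G} {X Y : ℕ → ℕ} (hx : Acts φ x X) (hy : Acts φ y Y)
    (h : g * x = y * g) : ∀ (Ls : List GLvl) (δ : ℕ), δ < n →
      Ls.map GLvl.b = orbl X Ls.length δ → Maps φ g Ls (orbl Y Ls.length (pt φ g δ)) := by
  intro Ls
  induction Ls with
  | nil =>
    intro δ _ _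
    trivial
  | cons L Ls ih =>
    intro δ hδ hL
    rw [List.length_cons, orbl_succ, List.map_cons, List.cons.injEq] at hL
    rw [List.length_cons, orbl_succ]
    refine ⟨by rw [hL.1], ?_⟩
    have := ih (X δ) (hx.lt δ hδ) hL.2
    rwa [pt_conj hx hy h δ hδ] at this

/-- the image of `δ` under an element conjugating `x` to `y` is one of the points where the sift
does not fail -/
theorem conj_cases (hT : LettersOK T φ gens ng) (Ls : List GLvl)
    (hchain : ChainOK T φ ng [] Ls) {x y : G}
    {X Y : ℕ → ℕ} (hx : Acts φ x X) (hy : Acts φ y Y) (δ : ℕ) (hδ : δ < n)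
    (hL : Ls.map GLvl.b = orbl X Ls.length δ) (good : ℕ → Bool)
    (hchk : ∀ δ' < n, cond (good δ') true
      (Nat.beq (sift T Ls (orbl Y Ls.length δ')) 0) = true)
    (g : G) (hg : g * x = y * g) : good (pt φ g δ) = true := by
  have h1 := hchk (pt φ g δ) (pt_lt φ g δ hδ)
  cases hgd : good (pt φ g δ) with
  | true => rfl
  | false =>
    exfalso
    rw [hgd] at h1
    have h2 : sift T Ls (orbl Y Ls.length (pt φ g δ)) = 0 := Nat.eq_of_beq_eq_true h1
    apply sift_sound hT Ls [] hchain _ h2
    refine ⟨g, ?_, maps_of_conj hx hy hg Ls δ hδ hL⟩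
    rw [stabL_nil]
    trivial

/-- every point is moved by a power of `Y` to a representative: the points which are not
representatives are moved by `Y` to a point of smaller rank -/
theorem exists_rep {y : G} {Y : ℕ → ℕ} (hy : Acts φ y Y) (isRep : ℕ → Bool) (rk : ℕ → ℕ)
    (hrk : ∀ p < n, isRep p = true ∨ rk (Y p) < rk p) :
    ∀ p < n, ∃ i : ℕ, isRep (iterA Y i p) = true := by
  have key : ∀ r : ℕ, ∀ p < n, rk p = r → ∃ i : ℕ, isRep (iterA Y i p) = true := by
    intro r
    induction r using Nat.strong_induction_on with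
    | _ r ih =>
      intro p hp hpr
      rcases hrk p hp with h | h
      · exact ⟨0, h⟩
      · obtain ⟨i, hi⟩ := ih _ (by rw [← hpr]; exact h) (Y p) (hy.lt p hp) rfl
        exact ⟨i + 1, by rw [iterA_succ']; exact hi⟩
  intro p hp
  exact key _ p hp rfl

/-- the conjugacy test with one sift for each cycle of `y`: for an element `g` conjugating `x`
to `y`, some `y ^ i * g` maps `δ` to a representative where the sift does not fail -/
theorem conj_cases_rep (hT : LettersOK T φ gens ng) (Ls : List GLvl)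
    (hchain : ChainOK T φ ng [] Ls) {x y : G}
    {X Y : ℕ → ℕ} (hx : Acts φ x X) (hy : Acts φ y Y) (δ : ℕ) (hδ : δ < n)
    (hL : Ls.map GLvl.b = orbl X Ls.length δ) (isRep : ℕ → Bool) (rk : ℕ → ℕ)
    (hrk : ∀ p < n, isRep p = true ∨ rk (Y p) < rk p) (good : ℕ → Bool)
    (hchk : ∀ δ' < n, cond (isRep δ') (cond (good δ') true
      (Nat.beq (sift T Ls (orbl Y Ls.length δ')) 0)) true = true)
    (g : G) (hg : g * x = y * g) :
    ∃ i : ℕ, good (pt φ (y ^ i * g) δ) = true ∧ isRep (pt φ (y ^ i * g) δ) = true := by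
  obtain ⟨i, hi⟩ := exists_rep hy isRep rk hrk (pt φ g δ) (pt_lt φ g δ hδ)
  have hpt : pt φ (y ^ i * g) δ = iterA Y i (pt φ g δ) := by
    rw [pt_mul φ (y ^ i) g δ hδ, (hy.pow i).pt _ (pt_lt φ g δ hδ)]
  have hg' : (y ^ i * g) * x = y * (y ^ i * g) := by
    rw [mul_assoc, hg, ← mul_assoc, ← mul_assoc, ← pow_succ, ← pow_succ']
  refine ⟨i, ?_, by rw [hpt]; exact hi⟩
  have h := conj_cases hT Ls hchain hx hy δ hδ hL (fun δ' => cond (isRep δ') (good δ') true)
    (by
      intro δ' hδ'
      have := hchk δ' hδ'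
      cases hr : isRep δ' with
      | true =>
        rw [hr] at this
        simp only [cond_true] at this ⊢
        exact this
      | false => rfl) (y ^ i * g) hg'
  have hi' : isRep (pt φ (y ^ i * g) δ) = true := by rw [hpt]; exact hi
  simp only [hi', cond_true] at h
  exact h

/-- the table of an element `d` with `d * s = s ^ a * d`, from its values at representatives of
the cycles of `s` -/
theorem acts_of_equivariant {s d : G} {S D A : ℕ → ℕ} (a : ℕ) (hs : Acts φ s S)
    (hd : Acts φ d D) (hds : d * s = s ^ a * d)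
    (isRep : ℕ → Bool) (rk : ℕ → ℕ)
    (hrk : ∀ p < n, isRep p = true ∨ rk (S p) < rk p)
    (hA : ∀ p < n, A (S p) = iterA S a (A p))
    (hAlt : ∀ p < n, A p < n)
    (hrep : ∀ p < n, isRep p = true → D p = A p) : Acts φ d A := by
  have hSinj : ∀ p < n, ∀ q < n, S p = S q → p = q := by
    intro p hp q hq h
    have h1 : φ s ⟨p, hp⟩ = φ s ⟨q, hq⟩ := Fin.ext (by rw [hs ⟨p, hp⟩, hs ⟨q, hq⟩]; exact h)
    exact congrArg Fin.val ((φ s).injective h1)
  -- `D` satisfies the same equation
  have hD : ∀ p < n, D (S p) = iterA S a (D p) := by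
    intro p hp
    have h1 := ((hd.mul hs) ⟨p, hp⟩)
    have h2 := (((hs.pow a).mul hd) ⟨p, hp⟩)
    rw [hds] at h1
    rw [h1] at h2
    exact h2
  have key : ∀ r : ℕ, ∀ p < n, rk p = r → D p = A p := by
    intro r
    induction r using Nat.strong_induction_on with
    | _ r ih =>
      intro p hp hpr
      rcases hrk p hp with h | h
      · exact hrep p hp h
      · have h1 := ih _ (by rw [← hpr]; exact h) (S p) (hs.lt p hp) rfl
        rw [hD p hp, hA p hp] at h1
        -- iterA S a is injective on points below n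
        have hinj : ∀ k : ℕ, ∀ u < n, ∀ v < n, iterA S k u = iterA S k v → u = v := by
          intro k
          induction k with
          | zero => intro u _ v _ h; exact h
          | succ k ihk =>
            intro u hu v hv h
            rw [iterA_succ', iterA_succ'] at h
            exact hSinj u hu v hv (ihk _ (hs.lt u hu) _ (hs.lt v hv) h)
        exact hinj a _ (hd.lt p hp) _ (hAlt p hp) h1
  intro p
  rw [hd p]
  exact key _ p p.2 rfl

end conj

end Cfsg.Agent.Lib.H17.GSift
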