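import Mathlib
import Cfsg.Agent.Lib.H17.GHDefs
import Cfsg.Agent.Lib.H17.GHN3
import Cfsg.Agent.Lib.H15.GHN2
import Cfsg.Agent.Lib.H20.GHG1
import Cfsg.Agent.Lib.H29.GHN5

/-!
# S4402 piece N4 (helper17): `normalizer_data`

`N_S(P)` acts on the 8-element set `Om` by conjugation with kernel `Z(S) = {1, z}`; so `|N_S(P) / Z(S)|`
divides 128, `P < N_S(P)` gives `|N_S(P)| = 256` and the quotient is a Sylow 2-subgroup of `S_8`.
-/

set_option autoImplicit false
set_option linter.style.haveILetI false

namespace Cfsg.Agent.Lib.H17.GH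

open Subgroup

section N4core

variable {S : Type*} [Group S] {P : Subgroup S}

/-- The conjugation permutation of `Om` by an element of `N_S(P)`. -/
noncomputable def omPerm (D : Data P)
    (hOm : ∀ g ∈ normalizer (P : Set S), ∀ x ∈ D.Om, g * x * g⁻¹ ∈ D.Om)
    (g : ↥(normalizer (P : Set S))) : Equiv.Perm ↥D.Om where
  toFun x := ⟨(g : S) * (x : S) * (g : S)⁻¹, hOm g g.2 x x.2⟩
  invFun x := ⟨(g : S)⁻¹ * (x : S) * (g : S), by
    have h := hOm ((g : S)⁻¹) (inv_mem g.2) x x.2
    simpa using h⟩
  left_inv x := by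
    apply Subtype.ext
    simp [mul_assoc]
  right_inv x := by
    apply Subtype.ext
    simp [mul_assoc]

/-- The conjugation action of `N_S(P)` on `Om` as a homomorphism. -/
noncomputable def omHom (D : Data P)
    (hOm : ∀ g ∈ normalizer (P : Set S), ∀ x ∈ D.Om, g * x * g⁻¹ ∈ D.Om) :
    ↥(normalizer (P : Set S)) →* Equiv.Perm ↥D.Om :=
  MonoidHom.mk' (omPerm D hOm) (by
    intro a b
    apply Equiv.ext
    intro x
    apply Subtype.ext
    simp [omPerm, mul_assoc])

theorem omHom_apply (D : Data P)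
    (hOm : ∀ g ∈ normalizer (P : Set S), ∀ x ∈ D.Om, g * x * g⁻¹ ∈ D.Om)
    (g : ↥(normalizer (P : Set S))) (x : ↥D.Om) :
    ((omHom D hOm g x : ↥D.Om) : S) = (g : S) * (x : S) * (g : S)⁻¹ := rfl

theorem omHom_ker_iff (D : Data P)
    (hOm : ∀ g ∈ normalizer (P : Set S), ∀ x ∈ D.Om, g * x * g⁻¹ ∈ D.Om)
    (g : ↥(normalizer (P : Set S))) :
    g ∈ (omHom D hOm).ker ↔ ∀ x ∈ D.Om, (g : S) * x = x * (g : S) := by
  rw [MonoidHom.mem_ker]
  constructor
  · intro h x hx
    have h1 : ((omHom D hOm g ⟨x, hx⟩ : ↥D.Om) : S) = x := by rw [h]; rfl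
    rw [omHom_apply] at h1
    calc (g : S) * x = (g : S) * x * (g : S)⁻¹ * (g : S) := by group
      _ = x * (g : S) := by rw [h1]
  · intro h
    apply Equiv.ext
    intro x
    apply Subtype.ext
    rw [omHom_apply]
    rw [h x x.2]
    simp

end N4core

theorem normalizer_data {S : Type*} [Group S] [Finite S] (h2 : IsPGroup 2 S)
    (hr : Cfsg.SectionalPRankLE 2 4 S) {P : Subgroup S} (hPlt : P ≠ ⊤) (D : Data P) :
    P.relIndex (normalizer (P : Set S)) = 2 ∧ Nat.card ↥(normalizer (P : Set S)) = 256 ∧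
      ∃ (_ : ((Subgroup.center S).subgroupOf (normalizer (P : Set S))).Normal)
        (T' : Sylow 2 (Equiv.Perm (Fin 8))),
        Nonempty (↥(normalizer (P : Set S)) ⧸ (Subgroup.center S).subgroupOf (normalizer (P : Set S)) ≃*
          ↥(T' : Subgroup (Equiv.Perm (Fin 8)))) := by
  classical
  haveI : Fact (Nat.Prime 2) := ⟨Nat.prime_two⟩
  have hOm : ∀ g ∈ normalizer (P : Set S), ∀ x ∈ D.Om, g * x * g⁻¹ ∈ D.Om :=
    fun g hg => (Cfsg.Agent.Lib.H15.GH.conj_Om D g hg).1
  obtain ⟨-, hZcard, hZiff⟩ := Cfsg.Agent.Lib.H29.GH.center_eq h2 hr D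
  -- the kernel of the action is the centre
  have hker : (Subgroup.center S).subgroupOf (normalizer (P : Set S)) = (omHom D hOm).ker := by
    ext g
    rw [Subgroup.mem_subgroupOf, omHom_ker_iff, hZiff]
    constructor
    · rintro (h | h) x hx
      · rw [h]; simp
      · rw [h]; exact D.z_comm (D.Om_sub hx)
    · intro h
      exact eq_one_or_eq_z_of_centralizes h2 hr D (g : S) g.2 h
  haveI hN : ((Subgroup.center S).subgroupOf (normalizer (P : Set S))).Normal := inferInstance
  -- the injective hom of the quotient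
  let f : ↥(normalizer (P : Set S)) ⧸ (Subgroup.center S).subgroupOf (normalizer (P : Set S)) →*
      Equiv.Perm ↥D.Om :=
    (QuotientGroup.kerLift (omHom D hOm)).comp (QuotientGroup.quotientMulEquivOfEq hker).toMonoidHom
  have hf : Function.Injective f := by
    intro a b hab
    have h1 : QuotientGroup.quotientMulEquivOfEq hker a = QuotientGroup.quotientMulEquivOfEq hker b :=
      QuotientGroup.kerLift_injective (omHom D hOm) hab
    exact (QuotientGroup.quotientMulEquivOfEq hker).injective h1
  -- `Om` has 8 elements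
  haveI hfin : Finite ↥D.Om :=
    (Set.finite_of_ncard_ne_zero (by rw [D.Om_card]; norm_num)).to_subtype
  letI : Fintype ↥D.Om := Fintype.ofFinite _
  have hΩ : Fintype.card ↥D.Om = 8 := by
    rw [← Nat.card_eq_fintype_card, Nat.card_coe_set_eq, D.Om_card]
  -- the quotient is a 2-group of order dividing 128
  have hQp : IsPGroup 2
      (↥(normalizer (P : Set S)) ⧸ (Subgroup.center S).subgroupOf (normalizer (P : Set S))) :=
    (h2.to_subgroup _).to_quotient _
  have hdvd : Nat.card
      (↥(normalizer (P : Set S)) ⧸ (Subgroup.center S).subgroupOf (normalizer (P : Set S))) ∣ 128 :=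
    Cfsg.Agent.Lib.H20.GH.card_dvd_of_injective_perm8 hQp hΩ f hf
  -- cardinalities
  have hcN : Nat.card ↥((Subgroup.center S).subgroupOf (normalizer (P : Set S))) = 2 := by
    rw [Nat.card_congr (Subgroup.subgroupOfEquivOfLe
      (Subgroup.center_le_normalizer (P : Set S))).toEquiv, hZcard]
  have hcT : Nat.card ↥(normalizer (P : Set S)) =
      Nat.card (↥(normalizer (P : Set S)) ⧸ (Subgroup.center S).subgroupOf (normalizer (P : Set S))) * 2 := by
    rw [← hcN]
    exact Subgroup.card_eq_card_quotient_mul_card_subgroup _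
  have hcP : Nat.card ↥(P.subgroupOf (normalizer (P : Set S))) = 128 := by
    rw [Nat.card_congr (Subgroup.subgroupOfEquivOfLe (Subgroup.le_normalizer (H := P))).toEquiv,
      D.card_P]
  have hidx : 128 * P.relIndex (normalizer (P : Set S)) = Nat.card ↥(normalizer (P : Set S)) := by
    rw [← hcP]
    exact Subgroup.card_mul_index (P.subgroupOf (normalizer (P : Set S)))
  -- `P < N_S(P)`
  haveI : Group.IsNilpotent S := h2.isNilpotent
  have hlt : P < normalizer (P : Set S) :=
    Group.normalizerCondition_of_isNilpotent P (lt_top_iff_ne_top.mpr hPlt)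
  have hne : P.relIndex (normalizer (P : Set S)) ≠ 1 := by
    intro h1
    rw [Subgroup.relIndex_eq_one] at h1
    exact (not_le_of_gt hlt) h1
  -- arithmetic
  obtain ⟨k, hk⟩ := hdvd
  set q := Nat.card
      (↥(normalizer (P : Set S)) ⧸ (Subgroup.center S).subgroupOf (normalizer (P : Set S))) with hq
  set r := P.relIndex (normalizer (P : Set S)) with hrr
  have hr2 : r = 2 ∧ q = 128 := by
    have h3 : 128 * r = q * 2 := by rw [hidx, hcT]
    have hkpos : 0 < k := by
      rcases Nat.eq_zero_or_pos k with h | h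
      · rw [h] at hk; omega
      · exact h
    have hqpos : 0 < q := by
      rcases Nat.eq_zero_or_pos q with h | h
      · rw [h] at hk; omega
      · exact h
    have hqle : q ≤ 128 := by nlinarith
    have hrle : r ≤ 2 := by omega
    have hrpos : 0 < r := by omega
    constructor <;> omega
  refine ⟨hr2.1, ?_, hN, ?_⟩
  · rw [hcT, hr2.2]
  · exact Cfsg.Agent.Lib.H20.GH.exists_sylow_equiv_of_injective hΩ f hf hr2.2

end Cfsg.Agent.Lib.H17.GH
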