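import Mathlib
import Cfsg.Agent.Lib.H17.GHDefs
import Cfsg.Agent.Lib.H17.GHN4
import Cfsg.Agent.Lib.H15.GHN6a
import Cfsg.Agent.Lib.H10.GHG0
import Cfsg.Agent.Lib.H10.GHN6b
import Cfsg.Agent.Lib.H29.GHN5

/-!
# S4402 piece N6 (helper17): `not_norm_both` (N4 + G0 + N5 + N6a + N6b)
-/

set_option autoImplicit false

namespace Cfsg.Agent.Lib.H17.GH

open Subgroup Cfsg.Agent.Lib.H14.A8Sylow

theorem not_norm_both {S : Type*} [Group S] [Finite S] (h2 : IsPGroup 2 S)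
    (hr : Cfsg.SectionalPRankLE 2 4 S) {P : Subgroup S} (hPlt : P ≠ ⊤) (D : Data P) (u : S)
    (hu : u ∈ normalizer (P : Set S)) (huP : u ∉ P) (h1 : ∀ a ∈ D.A1, u * a * u⁻¹ ∈ D.A1)
    (h2' : ∀ a ∈ D.A2, u * a * u⁻¹ ∈ D.A2) : False := by
  obtain ⟨hidx, -, hn, T', ⟨Φ0⟩⟩ := normalizer_data h2 hr hPlt D
  obtain ⟨e⟩ := Cfsg.Agent.Lib.H10.GH.sylow_equiv_tree T'
  obtain ⟨-, -, hZiff⟩ := Cfsg.Agent.Lib.H29.GH.center_eq h2 hr D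
  have hcomm := Cfsg.Agent.Lib.H15.GH.comm_mem_As_of_norm_both D hidx u hu huP h1 h2'
  exact @Cfsg.Agent.Lib.H10.GH.false_of_comm_mem_As _ _ _ D (Subgroup.center S) hZiff hn (Φ0.trans e) hcomm

end Cfsg.Agent.Lib.H17.GH
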