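import Mathlib
import Cfsg.Agent.Lib.H17.GHDefs
import Cfsg.Agent.Lib.H17.GHN6
import Cfsg.Agent.Lib.H20.GHN1
import Cfsg.Agent.Lib.H15.GHN2

/-!
# S4402 piece N7 (helper17): `normalizer_eq` — `N_S(V) = P` for a `P`-normal `E16` of `P`.
-/

set_option autoImplicit false
set_option linter.style.haveILetI false

namespace Cfsg.Agent.Lib.H17.GH

open Subgroup

theorem normalizer_eq {S : Type*} [Group S] [Finite S] (h2 : IsPGroup 2 S)
    (hr : Cfsg.SectionalPRankLE 2 4 S) {P : Subgroup S} (hPlt : P ≠ ⊤) (D : Data P) (V : Subgroup S)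
    (hVP : V ≤ P) (hVn : ∀ g ∈ P, ∀ v ∈ V, g * v * g⁻¹ ∈ V) (hV2 : ∀ v ∈ V, v * v = 1)
    (hVc : Nat.card V = 16) : normalizer (V : Set S) = P := by
  classical
  haveI : Fact (Nat.Prime 2) := ⟨Nat.prime_two⟩
  -- `P ≤ N_S(V)`
  have hPle : P ≤ normalizer (V : Set S) := by
    intro g hg
    rw [mem_normalizer_iff]
    intro h
    constructor
    · intro hh
      exact hVn g hg h hh
    · intro hh
      have := hVn g⁻¹ (inv_mem hg) _ hh
      have e : g⁻¹ * (g * h * g⁻¹) * g⁻¹⁻¹ = h := by group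
      rwa [e] at this
  by_contra hne
  have hlt : P < normalizer (V : Set S) := lt_of_le_of_ne hPle (Ne.symm hne)
  -- the normalizer condition inside `M := N_S(V)`
  haveI : Group.IsNilpotent ↥(normalizer (V : Set S)) := (h2.to_subgroup _).isNilpotent
  have hlt' : P.subgroupOf (normalizer (V : Set S)) < ⊤ := by
    rw [lt_top_iff_ne_top, Ne, Subgroup.subgroupOf_eq_top]
    exact not_le_of_gt hlt
  have hnc := Group.normalizerCondition_of_isNilpotent (P.subgroupOf (normalizer (V : Set S))) hlt'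
  rw [← Subgroup.subgroupOf_normalizer_eq hPle] at hnc
  obtain ⟨u', hu'1, hu'2⟩ := SetLike.exists_of_lt hnc
  have hu : (u' : S) ∈ normalizer (P : Set S) := Subgroup.mem_subgroupOf.mp hu'1
  have huP : (u' : S) ∉ P := fun h => hu'2 (Subgroup.mem_subgroupOf.mpr h)
  have huV : (u' : S) ∈ normalizer (V : Set S) := u'.2
  -- conjugation by `u` and by `u⁻¹` preserves `V`
  have hV1 : ∀ v ∈ V, (u' : S) * v * (u' : S)⁻¹ ∈ V := fun v hv =>
    (mem_normalizer_iff.mp huV v).mp hv
  have hV1' : ∀ v ∈ V, (u' : S)⁻¹ * v * (u' : S) ∈ V := fun v hv =>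
    (mem_normalizer_iff''.mp huV v).mp hv
  have hfin1 : Nat.card ↥D.A1 = 16 := D.A1_card
  have hfin2 : Nat.card ↥D.A2 = 16 := D.A2_card
  rcases Cfsg.Agent.Lib.H15.GH.conj_A D (u' : S) hu with ⟨k1, k2⟩ | ⟨k1, k2⟩
  · exact not_norm_both h2 hr hPlt D (u' : S) hu huP k1 k2
  · -- swap: impossible as `u` normalizes `V ∈ {A1, A2}`
    apply D.A1_ne_A2
    rcases Cfsg.Agent.Lib.H20.GH.eq_A1_or_eq_A2 D V hVP hVn hV2 hVc with hV | hV
    · -- `A1 ≤ A2`
      have hle : D.A1 ≤ D.A2 := by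
        intro a ha
        have h1 : (u' : S)⁻¹ * a * (u' : S) ∈ D.A1 := by
          rw [← hV]; exact hV1' a (by rw [hV]; exact ha)
        have h3 := k1 _ h1
        have e : (u' : S) * ((u' : S)⁻¹ * a * (u' : S)) * (u' : S)⁻¹ = a := by group
        rwa [e] at h3
      exact Subgroup.eq_of_le_of_card_ge hle (by rw [hfin1, hfin2])
    · have hle : D.A2 ≤ D.A1 := by
        intro a ha
        have h1 : (u' : S)⁻¹ * a * (u' : S) ∈ D.A2 := by
          rw [← hV]; exact hV1' a (by rw [hV]; exact ha)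
        have h3 := k2 _ h1
        have e : (u' : S) * ((u' : S)⁻¹ * a * (u' : S)) * (u' : S)⁻¹ = a := by group
        rwa [e] at h3
      exact (Subgroup.eq_of_le_of_card_ge hle (by rw [hfin1, hfin2])).symm

end Cfsg.Agent.Lib.H17.GH
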