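import Cfsg.Agent.Lib.H17.PermActs

set_option autoImplicit false

/-! # Splitting a check over an initial segment of the natural numbers into pieces -/

namespace Cfsg.Agent.Lib.H17.OutChunks

open Cfsg.Agent.Lib.H17.PermActs

theorem allLt_complete (f : ℕ → Bool) (n : ℕ) (h : ∀ i < n, f i = true) : allLt f n = true := by
  induction n with
  | zero => rfl
  | succ n ih =>
    change cond (f n) (allLt f n) false = true
    rw [h n (Nat.lt_succ_self n), cond_true]
    exact ih fun i hi => h i (Nat.lt_succ_of_lt hi)

/-- a check up to `a` and a check of the next `b` numbers give a check up to `a + b` -/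
theorem allLt_append (f : ℕ → Bool) (a b c : ℕ) (hc : a + b = c) (h1 : allLt f a = true)
    (h2 : allLt (fun i => f (Nat.add a i)) b = true) : allLt f c = true := by
  apply allLt_complete
  intro i hi
  by_cases hia : i < a
  · exact allLt_sound f a h1 i hia
  · have h3 := allLt_sound _ b h2 (i - a) (by omega)
    have h4 : Nat.add a (i - a) = i := by
      change a + (i - a) = i
      omega
    rw [h4] at h3
    exact h3

end Cfsg.Agent.Lib.H17.OutChunks
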