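import Cfsg.Agent.Lib.H17.OutTools
import Cfsg.Agent.Lib.H17.OutChunks
import Cfsg.Agent.Lib.H6.PermTab

set_option autoImplicit false

/-! # Sifting through a chain of stabilisers, with letters given by arbitrary functions

The letters `x < ng` are elements `gens x` of a group acting on `Fin n`, with `T x` giving the action
of the letter `x` on the points.  A level of a chain has a base point, a rank function which
vanishes exactly outside the orbit of the base point under the stabiliser of the earlier base
points, and words in the letters which fix the earlier base points and move every point of the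
orbit other than the base point to a point of the orbit of smaller rank. -/

namespace Cfsg.Agent.Lib.H17.GSift

open Cfsg.Agent.Lib.H17.CosetCert Cfsg.Agent.Lib.H17.Sgs Cfsg.Agent.Lib.H17.Sift
  Cfsg.Agent.Lib.H17.PermActs Cfsg.Agent.Lib.H6.PermTab

/-- a level of a chain: base point, ranks (zero outside the orbit), words -/
structure GLvl where
  /-- the base point -/
  b : ℕ
  /-- the ranks -/
  R : ℕ → ℕ
  /-- the words -/
  hw : List (List ℕ)

section defs

variable (T : ℕ → ℕ → ℕ)

/-- the first word sending `i` to a point of nonzero rank `< ri` -/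
noncomputable def findDown (R : ℕ → ℕ) (hw : List (List ℕ)) : ℕ → ℕ → Option (List ℕ) :=
  List.rec (motive := fun _ => ℕ → ℕ → Option (List ℕ)) (fun _ _ => none)
    (fun w _ ih i ri =>
      force (R (applyW T w i)) fun rj =>
        cond (Nat.beq rj 0) (ih i ri) (cond (Nat.blt rj ri) (some w) (ih i ri))) hw

theorem findDown_cons (R : ℕ → ℕ) (w : List ℕ) (hw : List (List ℕ)) (i ri : ℕ) :
    findDown T R (w :: hw) i ri =
      cond (Nat.beq (R (applyW T w i)) 0) (findDown T R hw i ri)
        (cond (Nat.blt (R (applyW T w i)) ri) (some w) (findDown T R hw i ri)) := by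
  change (force (R (applyW T w i)) fun rj =>
        cond (Nat.beq rj 0) (findDown T R hw i ri)
          (cond (Nat.blt rj ri) (some w) (findDown T R hw i ri))) = _
  rw [force_eq]

theorem findDown_spec (R : ℕ → ℕ) (hw : List (List ℕ)) (i ri : ℕ) (w : List ℕ)
    (h : findDown T R hw i ri = some w) :
    w ∈ hw ∧ R (applyW T w i) ≠ 0 ∧ R (applyW T w i) < ri := by
  induction hw with
  | nil => exact absurd h (by simp [findDown])
  | cons w0 hw ih =>
    rw [findDown_cons] at h
    cases hb : Nat.beq (R (applyW T w0 i)) 0 with
    | true =>
      rw [hb] at h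
      obtain ⟨h1, h2⟩ := ih h
      exact ⟨List.mem_cons_of_mem _ h1, h2⟩
    | false =>
      rw [hb] at h
      simp only [cond_false] at h
      cases hr : Nat.blt (R (applyW T w0 i)) ri with
      | false =>
        rw [hr] at h
        obtain ⟨h1, h2⟩ := ih h
        exact ⟨List.mem_cons_of_mem _ h1, h2⟩
      | true =>
        rw [hr] at h
        simp only [cond_true, Option.some.injEq] at h
        subst h
        refine ⟨List.mem_cons_self, ?_, ?_⟩
        · intro h0
          rw [h0] at hb
          exact absurd hb (by decide)
        · simpa [Nat.blt_eq] using hr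

/-- move `x` down to the base point `b`, moving the points of `rest` along -/
noncomputable def walk (R : ℕ → ℕ) (b : ℕ) (hw : List (List ℕ)) :
    ℕ → ℕ → List ℕ → Option (List ℕ) :=
  Nat.rec (motive := fun _ => ℕ → List ℕ → Option (List ℕ))
    (fun x rest => cond (Nat.beq x b) (some rest) none)
    (fun _ ih x rest => cond (Nat.beq x b) (some rest)
      (match findDown T R hw x (R x) with
        | none => none
        | some w => force (applyW T w x) fun x' => ih x' (rest.map (applyW T w))))

theorem walk_zero (R : ℕ → ℕ) (b : ℕ) (hw : List (List ℕ)) (x : ℕ) (rest : List ℕ) :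
    walk T R b hw 0 x rest = cond (Nat.beq x b) (some rest) none := rfl

theorem walk_succ (R : ℕ → ℕ) (b : ℕ) (hw : List (List ℕ)) (fuel x : ℕ) (rest : List ℕ) :
    walk T R b hw (fuel + 1) x rest = cond (Nat.beq x b) (some rest)
      (match findDown T R hw x (R x) with
        | none => none
        | some w => walk T R b hw fuel (applyW T w x) (rest.map (applyW T w))) := by
  change cond (Nat.beq x b) (some rest)
      (match findDown T R hw x (R x) with
        | none => none
        | some w => force (applyW T w x) fun x' =>
            walk T R b hw fuel x' (rest.map (applyW T w))) = _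
  cases findDown T R hw x (R x) with
  | none => rfl
  | some w => simp only [force_eq]

/-- `0`: some point is not in the orbit; `1`: all points are moved to the base; `2`: no word
found -/
noncomputable def sift : List GLvl → List ℕ → ℕ
  | [], _ => 1
  | _ :: _, [] => 1
  | L :: Ls, x :: rest =>
    force x fun x' => force (L.R x') fun r => cond (Nat.beq r 0) 0
      (match walk T L.R L.b L.hw r x' rest with
        | none => 2
        | some rest' => sift Ls rest')

theorem sift_cons (L : GLvl) (Ls : List GLvl) (x : ℕ) (rest : List ℕ) :
    sift T (L :: Ls) (x :: rest) = cond (Nat.beq (L.R x) 0) 0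
      (match walk T L.R L.b L.hw (L.R x) x rest with
        | none => 2
        | some rest' => sift T Ls rest') := by
  change (force x fun x' => force (L.R x') fun r => cond (Nat.beq r 0) 0
      (match walk T L.R L.b L.hw r x' rest with
        | none => 2
        | some rest' => sift T Ls rest')) = _
  rw [force_eq, force_eq]

end defs

section sound

variable (T : ℕ → ℕ → ℕ) {G : Type*} [Group G] {n : ℕ} (φ : G →* Equiv.Perm (Fin n))
  (gens : ℕ → G) (ng : ℕ)

/-- the letters act on the points by the functions `T x` -/
def LettersOK : Prop := ∀ x < ng, Acts φ (gens x) (T x)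

/-- the element of a word: the first letter acts first -/
def wordElt : List ℕ → G
  | [] => 1
  | x :: w => wordElt w * gens x

theorem wordElt_nil : wordElt gens [] = 1 := rfl

theorem wordElt_cons (x : ℕ) (w : List ℕ) : wordElt gens (x :: w) = wordElt gens w * gens x := rfl

variable {T φ gens ng}

theorem acts_wordElt (hT : LettersOK T φ gens ng) (w : List ℕ) (hl : ∀ x ∈ w, x < ng) :
    Acts φ (wordElt gens w) (applyW T w) := by
  induction w with
  | nil => exact Acts.one
  | cons x w ih =>
    rw [wordElt_cons]
    refine ((ih fun y hy => hl y (List.mem_cons_of_mem _ hy)).mul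
      (hT x (hl x List.mem_cons_self))).congr fun p => ?_
    rw [applyW_cons]

/-- the table of a word, checked at all points -/
theorem acts_wordElt_chk (hT : LettersOK T φ gens ng) (w : List ℕ) (hl : ∀ x ∈ w, x < ng)
    (A : ℕ → ℕ) (h : ∀ p < n, applyW T w p = A p) : Acts φ (wordElt gens w) A :=
  (acts_wordElt hT w hl).congr fun p => h p p.2

variable (T φ ng)

/-- a level whose words lie in the stabiliser of the earlier base points and whose ranks do not
vanish on the orbit of the base point under this stabiliser -/
structure LvlOK (bs : List ℕ) (L : GLvl) : Prop where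
  hb : L.b < n
  hletters : ∀ w ∈ L.hw, ∀ x ∈ w, x < ng
  hfix : ∀ w ∈ L.hw, ∀ c ∈ bs, applyW T w c = c
  horb : ∀ g ∈ stabL φ bs, L.R (pt φ g L.b) ≠ 0

/-- a chain of such levels -/
def ChainOK : List ℕ → List GLvl → Prop
  | _, [] => True
  | bs, L :: Ls => LvlOK T φ ng bs L ∧ ChainOK (L.b :: bs) Ls

/-- the element maps the base points to the points of the list -/
def Maps (g : G) : List GLvl → List ℕ → Prop
  | [], [] => True
  | [], _ :: _ => False
  | _ :: _, [] => False
  | L :: Ls, x :: rest => pt φ g L.b = x ∧ Maps g Ls rest

theorem maps_lt (g : G) (Ms : List GLvl) : ∀ (bs : List ℕ), ChainOK T φ ng bs Ms →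
    ∀ r : List ℕ, Maps φ g Ms r → ∀ y ∈ r, y < n := by
  induction Ms with
  | nil =>
    intro bs _ r hr
    cases r with
    | nil => simp
    | cons y r => exact absurd hr (by simp [Maps])
  | cons M Ms ih =>
    intro bs hc r hr
    cases r with
    | nil => simp
    | cons y r =>
      obtain ⟨hM, hc'⟩ := hc
      obtain ⟨hy, hr'⟩ := hr
      intro z hz
      rcases List.mem_cons.mp hz with rfl | hz
      · rw [← hy]
        exact pt_lt φ g M.b hM.hb
      · exact ih _ hc' r hr' z hz

theorem maps_mul (g v : G) (Ms : List GLvl) : ∀ (bs : List ℕ), ChainOK T φ ng bs Ms →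
    ∀ r : List ℕ, Maps φ g Ms r → Maps φ (v * g) Ms (r.map (pt φ v)) := by
  induction Ms with
  | nil =>
    intro bs _ r hr
    cases r with
    | nil => trivial
    | cons y r => exact absurd hr (by simp [Maps])
  | cons M Ms ih =>
    intro bs hc r hr
    cases r with
    | nil => exact absurd hr (by simp [Maps])
    | cons y r =>
      obtain ⟨hM, hc'⟩ := hc
      obtain ⟨hy, hr'⟩ := hr
      refine ⟨?_, ih _ hc' r hr'⟩
      rw [pt_mul φ v g M.b hM.hb, hy]

variable {T φ ng}

/-- the element of a word of a level -/
theorem word_elt (hT : LettersOK T φ gens ng) (bs : List ℕ) (w : List ℕ)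
    (hl : ∀ x ∈ w, x < ng) (hfix : ∀ c ∈ bs, applyW T w c = c) :
    ∃ v ∈ stabL φ bs, ∀ y, y < n → pt φ v y = applyW T w y := by
  have ha := acts_wordElt hT w hl
  refine ⟨wordElt gens w, ?_, fun y hy => ha.pt y hy⟩
  rw [mem_stabL_iff_pt]
  intro c hc hcn
  rw [ha.pt c hcn]
  exact hfix c hc

theorem walk_sound (hT : LettersOK T φ gens ng) (bs : List ℕ) (L : GLvl)
    (hL : LvlOK T φ ng bs L) (fuel : ℕ) :
    ∀ (x : ℕ) (rest rest' : List ℕ), x < n → (∀ y ∈ rest, y < n) →
      walk T L.R L.b L.hw fuel x rest = some rest' →
      ∃ v ∈ stabL φ bs, pt φ v x = L.b ∧ rest' = rest.map (pt φ v) := by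
  induction fuel with
  | zero =>
    intro x rest rest' _ _ h
    rw [walk_zero] at h
    cases hxb : Nat.beq x L.b with
    | false => rw [hxb] at h; exact absurd h (by simp)
    | true =>
      rw [hxb] at h
      simp only [cond_true, Option.some.injEq] at h
      refine ⟨1, one_mem _, ?_, ?_⟩
      · rw [pt_one]
        exact Nat.eq_of_beq_eq_true hxb
      · rw [← h]
        have e1 : pt φ (1 : G) = id := funext (pt_one φ)
        rw [e1, List.map_id]
  | succ fuel ih =>
    intro x rest rest' hx hrest h
    rw [walk_succ] at h
    cases hxb : Nat.beq x L.b with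
    | true =>
      rw [hxb] at h
      simp only [cond_true, Option.some.injEq] at h
      refine ⟨1, one_mem _, ?_, ?_⟩
      · rw [pt_one]
        exact Nat.eq_of_beq_eq_true hxb
      · rw [← h]
        have e1 : pt φ (1 : G) = id := funext (pt_one φ)
        rw [e1, List.map_id]
    | false =>
      rw [hxb] at h
      simp only [cond_false] at h
      cases hf : findDown T L.R L.hw x (L.R x) with
      | none => rw [hf] at h; exact absurd h (by simp)
      | some w =>
        rw [hf] at h
        simp only at h
        have hts := (findDown_spec T _ _ _ _ _ hf).1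
        obtain ⟨u, hu, huy⟩ := word_elt hT bs w (hL.hletters w hts) (hL.hfix w hts)
        have hx' : applyW T w x < n := by
          rw [← huy x hx]
          exact pt_lt φ u x hx
        have hmap : rest.map (applyW T w) = rest.map (pt φ u) := by
          apply List.map_congr_left
          intro y hy
          exact (huy y (hrest y hy)).symm
        have hrest' : ∀ y ∈ rest.map (applyW T w), y < n := by
          rw [hmap]
          intro y hy
          obtain ⟨z, hz, rfl⟩ := List.mem_map.mp hy
          exact pt_lt φ u z (hrest z hz)
        obtain ⟨v, hv, hvx, hvr⟩ := ih _ _ _ hx' hrest' h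
        refine ⟨v * u, mul_mem hv hu, ?_, ?_⟩
        · rw [pt_mul φ v u x hx, huy x hx]
          exact hvx
        · rw [hvr, hmap, List.map_map]
          apply List.map_congr_left
          intro y hy
          exact (pt_mul φ v u y (hrest y hy)).symm

/-- if the sift fails at a point which is not in the orbit, no element of the stabiliser maps the
base points to the points of the list -/
theorem sift_sound (hT : LettersOK T φ gens ng) (Ls : List GLvl) : ∀ (bs : List ℕ),
    ChainOK T φ ng bs Ls →
    ∀ target : List ℕ, sift T Ls target = 0 → ¬ ∃ g ∈ stabL φ bs, Maps φ g Ls target := by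
  induction Ls with
  | nil =>
    intro bs _ target h
    exact absurd h (by simp [sift])
  | cons L Ls ih =>
    intro bs hc target h
    cases target with
    | nil => exact absurd h (by simp [sift])
    | cons x rest =>
      rintro ⟨g, hg, hgx, hgr⟩
      obtain ⟨hL, hc'⟩ := hc
      rw [sift_cons] at h
      have hmask : Nat.beq (L.R x) 0 = false := by
        have := hL.horb g hg
        rw [hgx] at this
        cases hb : Nat.beq (L.R x) 0 with
        | false => rfl
        | true => exact absurd (Nat.eq_of_beq_eq_true hb) this
      rw [hmask] at h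
      simp only [cond_false] at h
      have hx : x < n := by
        rw [← hgx]
        exact pt_lt φ g L.b hL.hb
      cases hwk : walk T L.R L.b L.hw (L.R x) x rest with
      | none => rw [hwk] at h; exact absurd h (by simp)
      | some rest' =>
        rw [hwk] at h
        simp only at h
        have hrest := maps_lt T φ ng g Ls _ hc' rest hgr
        obtain ⟨v, hv, hvx, hvr⟩ := walk_sound hT bs L hL _ x rest rest' hx hrest hwk
        apply ih _ hc' rest' h
        refine ⟨v * g, ?_, ?_⟩
        · rw [mem_stabL_iff_pt]
          intro c hc hcn
          rcases List.mem_cons.mp hc with rfl | hc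
          · rw [pt_mul φ v g _ hcn, hgx]
            exact hvx
          · have h1 := (mem_stabL_iff_pt φ bs g).mp hg c hc hcn
            have h2 := (mem_stabL_iff_pt φ bs v).mp hv c hc hcn
            rw [pt_mul φ v g c hcn, h1, h2]
        · rw [hvr]
          exact maps_mul T φ ng g v Ls _ hc' rest hgr

end sound

end Cfsg.Agent.Lib.H17.GSift
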