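import Mathlib

/-!
# S3313, piece AZCOUNT: counting the non-commuting pairs
-/

set_option autoImplicit false

namespace Cfsg.Agent.Lib.H17.HJ

/-- `|I × J| - ∑_{v ∈ J} #{u ∈ I | u v = v u} = a b - b c` -/
theorem count_noncomm {G : Type*} [Group G] [Finite G] (I J : Set G) (a b c : ℕ)
    (hI : Nat.card ↥I = a) (hJ : Nat.card ↥J = b)
    (hc : ∀ v ∈ J, Nat.card {u : G // u ∈ I ∧ u * v = v * u} = c) :
    Nat.card {p : G × G // p.1 ∈ I ∧ p.2 ∈ J ∧ ¬ (p.1 * p.2 = p.2 * p.1)} = a * b - b * c := by
  classical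
  haveI : Fintype G := Fintype.ofFinite G
  set If : Finset G := Finset.univ.filter (fun u => u ∈ I) with hIf
  set Jf : Finset G := Finset.univ.filter (fun v => v ∈ J) with hJf
  have hIa : If.card = a := by
    rw [← hI, Nat.card_eq_fintype_card, Fintype.card_subtype]
  have hJb : Jf.card = b := by
    rw [← hJ, Nat.card_eq_fintype_card, Fintype.card_subtype]
  have hcv : ∀ v ∈ Jf, (If.filter (fun u => u * v = v * u)).card = c := by
    intro v hv
    have hvJ : v ∈ J := (Finset.mem_filter.mp hv).2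
    rw [← hc v hvJ, Nat.card_eq_fintype_card, Fintype.card_subtype, hIf, Finset.filter_filter]
  have hcomm : ((If ×ˢ Jf).filter (fun p : G × G => p.1 * p.2 = p.2 * p.1)).card = b * c := by
    rw [Finset.card_filter, Finset.sum_product_right]
    have : ∀ v ∈ Jf, (∑ u ∈ If, if u * v = v * u then 1 else 0) = c := by
      intro v hv
      rw [← Finset.card_filter]
      exact hcv v hv
    rw [Finset.sum_congr rfl this, Finset.sum_const, hJb, smul_eq_mul]
  have hsplit := Finset.card_filter_add_card_filter_not (s := If ×ˢ Jf)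
    (fun p : G × G => p.1 * p.2 = p.2 * p.1)
  rw [hcomm, Finset.card_product, hIa, hJb] at hsplit
  have htarget : Nat.card {p : G × G // p.1 ∈ I ∧ p.2 ∈ J ∧ ¬ (p.1 * p.2 = p.2 * p.1)} =
      ((If ×ˢ Jf).filter (fun p : G × G => ¬ (p.1 * p.2 = p.2 * p.1))).card := by
    rw [Nat.card_eq_fintype_card, Fintype.card_subtype]
    congr 1
    ext p
    simp only [Finset.mem_filter, Finset.mem_univ, true_and, Finset.mem_product, hIf, hJf]
    tauto
  rw [htarget]
  omega

end Cfsg.Agent.Lib.H17.HJ
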