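import Mathlib
import Cfsg.Agent.Lib.H17.HJDefs

/-!
# S3313, piece CRIT: `z ∈ ⟨u v⟩ ↔ u, v do not commute`
-/

set_option autoImplicit false

namespace Cfsg.Agent.Lib.H17.HJ

open Cfsg

theorem mul_self_of_orderOf_two {G : Type*} [Group G] {x : G} (h : orderOf x = 2) :
    x * x = 1 ∧ x ≠ 1 := by
  refine ⟨?_, ?_⟩
  · have := pow_orderOf_eq_one x
    rwa [h, pow_two] at this
  · intro h1
    rw [h1, orderOf_one] at h
    exact absurd h (by norm_num)

theorem zpow_of_mul_self {G : Type*} [Group G] {g : G} (h : g * g = 1) (k : ℤ) :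
    g ^ k = 1 ∨ g ^ k = g := by
  have h2 : g ^ (2 : ℤ) = 1 := by
    rw [zpow_ofNat, pow_two, h]
  have hk : k = 2 * (k / 2) + k % 2 := (Int.mul_ediv_add_emod k 2).symm
  rcases Int.emod_two_eq_zero_or_one k with h0 | h1
  · left
    rw [hk, h0, add_zero, zpow_mul, h2, one_zpow]
  · right
    rw [hk, h1, zpow_add, zpow_mul, h2, one_zpow, one_mul, zpow_one]

theorem z_mem_zpowers_iff {G : Type*} [Group G] {z : G} {Q : Subgroup G} (hQ : QData z Q)
    (hcomm4 : ∀ u w : G, u ∈ Q → w ∈ Q → u * u = 1 → w * w = 1 → u ≠ 1 → u ≠ z → u * w = w * u →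
      w = 1 ∨ w = z ∨ w = u ∨ w = u * z)
    (u v : G) (hu : u ∈ Q) (hu2 : orderOf u = 2) (huz : u ≠ z) (hvz : v * z = z * v)
    (hv2 : orderOf v = 2) (hvQ : v ∉ Q) (hvn : v * u * v⁻¹ ∈ Q) :
    z ∈ Subgroup.zpowers (u * v) ↔ ¬ (u * v = v * u) := by
  obtain ⟨huu, hu1⟩ := mul_self_of_orderOf_two hu2
  obtain ⟨hvv, hv1⟩ := mul_self_of_orderOf_two hv2
  have hvinv : v⁻¹ = v := inv_eq_of_mul_eq_one_left hvv
  have huinv : u⁻¹ = u := inv_eq_of_mul_eq_one_left huu
  constructor
  · intro hz hc
    have hsq : (u * v) * (u * v) = 1 := by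
      calc (u * v) * (u * v) = u * (v * u) * v := by group
        _ = u * (u * v) * v := by rw [hc]
        _ = (u * u) * (v * v) := by group
        _ = 1 := by rw [huu, hvv, one_mul]
    obtain ⟨k, hk⟩ := Subgroup.mem_zpowers_iff.mp hz
    rcases zpow_of_mul_self hsq k with h1 | h1
    · rw [h1] at hk
      exact hQ.z_ne hk.symm
    · rw [h1] at hk
      -- `v = u * z ∈ Q`
      apply hvQ
      have : v = u * z := by
        rw [← hk, ← mul_assoc, huu, one_mul]
      rw [this]
      exact Q.mul_mem hu hQ.z_mem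
  · intro hc
    set w := v * u * v⁻¹ with hw
    have hww : w * w = 1 := by
      rw [hw]
      calc v * u * v⁻¹ * (v * u * v⁻¹) = v * (u * u) * v⁻¹ := by group
        _ = 1 := by rw [huu]; group
    have hw1 : w ≠ 1 := by
      intro h1
      apply hu1
      have : u = v⁻¹ * w * v := by rw [hw]; group
      rw [this, h1]; group
    have hwz : w ≠ z := by
      intro h1
      apply huz
      have : u = v⁻¹ * w * v := by rw [hw]; group
      rw [this, h1, hvinv, mul_assoc, ← hvz, ← mul_assoc, hvv, one_mul]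
    have hwu : w ≠ u := by
      intro h1
      apply hc
      have : v * u = w * v := by rw [hw]; group
      rw [this, h1]
    have hxQ : u * w ∈ Q := Q.mul_mem hu hvn
    have hx : u * w = (u * v) * (u * v) := by
      rw [hw, hvinv]; group
    rcases hQ.sq (u * w) hxQ with h1 | h1
    · -- `u w = w u`
      have hcomm : u * w = w * u := by
        have h2 : (u * w)⁻¹ = u * w := inv_eq_of_mul_eq_one_left h1
        have hwinv : w⁻¹ = w := inv_eq_of_mul_eq_one_left hww
        rw [mul_inv_rev, hwinv, huinv] at h2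
        exact h2.symm
      rcases hcomm4 u w hu hvn huu hww hu1 huz hcomm with h2 | h2 | h2 | h2
      · exact absurd h2 hw1
      · exact absurd h2 hwz
      · exact absurd h2 hwu
      · have hz : z = (u * v) * (u * v) := by
          rw [← hx, h2, ← mul_assoc, huu, one_mul]
        rw [hz]
        exact (Subgroup.zpowers (u * v)).mul_mem (Subgroup.mem_zpowers _) (Subgroup.mem_zpowers _)
    · have hz : z = ((u * v) * (u * v)) * ((u * v) * (u * v)) := by
        rw [← hx, h1]
      rw [hz]
      have hm := Subgroup.mem_zpowers (u * v)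
      exact (Subgroup.zpowers (u * v)).mul_mem ((Subgroup.zpowers (u * v)).mul_mem hm hm)
        ((Subgroup.zpowers (u * v)).mul_mem hm hm)

end Cfsg.Agent.Lib.H17.HJ
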