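import Mathlib
import Cfsg.Agent.Lib.H17.HJDefs
import Cfsg.Agent.Lib.H17.HJAZCOUNT
import Cfsg.Agent.Lib.H27.HJAZEQ
import Cfsg.Agent.Lib.H27.HJIOTA
import Cfsg.Agent.Lib.H29.HJA5
import Cfsg.Agent.Lib.H23.HJATa
import Cfsg.Agent.Lib.H23.HJCENTVa
import Cfsg.Agent.Lib.H14.HJCARDS
import Cfsg.Agent.Lib.H14.HJNOUT
import Cfsg.Agent.S0213

/-!
# S3313: assembly (helper17; pieces by helper6, 11, 14, 23, 24, 26, 27, 29)

Thompson's order formula `|G| = |C(t)| a(z) + |C(z)| a(t) = 240 * 960 + 1920 * 195 = 604800`.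
-/

set_option autoImplicit false

namespace Cfsg.Agent.Lib.H17.HJ

open Cfsg

variable {G : Type*} [Group G] [Finite G] {z t : G} {K V B : Subgroup G}

/-- `a(z) = 960` -/
theorem card_az (h : Setting z t K V B) :
    Nat.card {p : G × G // IsConj z p.1 ∧ IsConj t p.2 ∧ z ∈ Subgroup.zpowers (p.1 * p.2)} =
      960 := by
  have h1 : Nat.card {p : G × G // IsConj z p.1 ∧ IsConj t p.2 ∧ z ∈ Subgroup.zpowers (p.1 * p.2)} =
      Nat.card {p : G × G // p.1 ∈ {u : G | u ∈ Qz z ∧ orderOf u = 2 ∧ u ≠ z} ∧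
        p.2 ∈ {v : G | v ∈ Subgroup.centralizer ({z} : Set G) ∧ orderOf v = 2 ∧ v ∉ Qz z} ∧
        ¬ (p.1 * p.2 = p.2 * p.1)} :=
    Nat.card_congr (Equiv.subtypeEquivRight fun p => Cfsg.Agent.Lib.H27.HJ.az_iff h p)
  rw [h1]
  have h2 := count_noncomm {u : G | u ∈ Qz z ∧ orderOf u = 2 ∧ u ≠ z}
    {v : G | v ∈ Subgroup.centralizer ({z} : Set G) ∧ orderOf v = 2 ∧ v ∉ Qz z} 10 120 2
    (Cfsg.Agent.Lib.H27.HJ.card_invol_Qz h) (Cfsg.Agent.Lib.H14.HJ.card_out h) (by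
      intro v hv
      have h3 := Cfsg.Agent.Lib.H23.HJ.st_card_comm_invol_of h Cfsg.Agent.Lib.H29.HJ.a5_count_comm
        v hv.1 hv.2.1 hv.2.2
      refine (Nat.card_congr (Equiv.subtypeEquivRight fun u => ?_)).trans h3
      constructor
      · rintro ⟨⟨a, b, c⟩, d⟩; exact ⟨a, b, c, d⟩
      · rintro ⟨a, b, c, d⟩; exact ⟨⟨a, b, c⟩, d⟩)
  rw [h2]

theorem card_eq (h : Setting z t K V B) : Nat.card G = 604800 := by
  have hall : ∀ x : G, orderOf x = 2 → IsConj z x ∨ IsConj t x := by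
    intro x hx
    rcases h.hcl x hx with h1 | h1
    · exact Or.inl h1.symm
    · exact Or.inr h1.symm
  have hT := Cfsg.Agent.S0213.result z t h.hz h.ht h.hzt hall
  rw [hT, Cfsg.Agent.Lib.H14.HJ.card_Ct h, Cfsg.Agent.Lib.H14.HJ.card_Cz h, card_az h,
    Cfsg.Agent.Lib.H23.HJ.st_card_at_of h Cfsg.Agent.Lib.H29.HJ.a5_count_pairs]

end Cfsg.Agent.Lib.H17.HJ
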