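import Mathlib
import Cfsg.Agent.Lib.H21.OrbitCount

/-!
# Half-transitive automorphism groups (Isaacs–Passman, Theorem I)

`H` acts on the finite group `N` by automorphisms, faithfully, all point stabilizers of
non-identity elements have the same order `m > 1`.  Then `N` is abelian of prime exponent and
has no proper non-trivial `H`-invariant subgroup.
-/

set_option autoImplicit false
set_option linter.unusedSectionVars false
set_option linter.unnecessarySimpa false
set_option linter.deprecated false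

namespace Cfsg.Agent.Lib.H17.HalfTransitive

open MulAction

/-- hypotheses of the half-transitive theorem -/
structure HT (H N : Type*) [Group H] [Group N] [MulDistribMulAction H N] (m : ℕ) : Prop where
  stab : ∀ u : N, u ≠ 1 → Nat.card (stabilizer H u) = m
  one_lt : 1 < m
  faithful : ∀ g : H, (∀ u : N, g • u = u) → g = 1

variable {H N : Type*} [Group H] [Group N] [Finite H] [Finite N] [MulDistribMulAction H N]
variable {m : ℕ}

theorem HT.stab_eq_of_le (h : HT H N m) {u v : N} (hu : u ≠ 1) (hv : v ≠ 1)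
    (hle : stabilizer H u ≤ stabilizer H v) : stabilizer H u = stabilizer H v :=
  Subgroup.eq_of_le_of_card_ge hle (by rw [h.stab u hu, h.stab v hv])

theorem HT.index_stab (h : HT H N m) {u : N} (hu : u ≠ 1) :
    (stabilizer H u).index = Nat.card H / m := by
  have h1 := (stabilizer H u).index_mul_card
  rw [h.stab u hu] at h1
  rw [← h1, Nat.mul_div_cancel _ (by have := h.one_lt; omega)]

/-- the setwise stabilizer, in a form convenient here -/
def setStab (H : Type*) [Group H] [MulAction H N] (X : Set N) : Subgroup H where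
  carrier := {g | ∀ y, g • y ∈ X ↔ y ∈ X}
  one_mem' := by intro y; simp
  mul_mem' := by
    intro a b ha hb y
    rw [mul_smul, ha, hb]
  inv_mem' := by
    intro a ha y
    rw [← ha (a⁻¹ • y), smul_inv_smul]

omit [Finite H] [Finite N] in
theorem mem_setStab_of_subgroup {X : Set N} (L : Subgroup H)
    (hL : ∀ g ∈ L, ∀ y ∈ X, g • y ∈ X) : L ≤ setStab H X := by
  intro g hg y
  constructor
  · intro hy
    have := hL g⁻¹ (L.inv_mem hg) _ hy
    rwa [inv_smul_smul] at this
  · exact hL g hg y

/-- **Key counting lemma.** -/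
theorem HT.key (h : HT H N m) (X : Set N) (hX1 : (1 : N) ∉ X) (H₁ : Subgroup H)
    (hinv : ∀ g ∈ H₁, ∀ y ∈ X, g • y ∈ X) (hstab : ∀ y ∈ X, stabilizer H y ≤ H₁)
    (hcop : (X.ncard).Coprime (Nat.card H / m)) : ∀ g ∈ H₁, ∀ y ∈ X, g • y = y := by
  intro g hg y hy
  have hm : 0 < m := by have := h.one_lt; omega
  have hne : ∀ y ∈ X, y ≠ 1 := fun y hy h1 => hX1 (h1 ▸ hy)
  -- the relative index is constant
  have hrel : ∀ y ∈ X, (stabilizer H y).relIndex H₁ = Nat.card H₁ / m := by
    intro y hy
    have h1 := ((stabilizer H y).subgroupOf H₁).index_mul_card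
    rw [Nat.card_congr (Subgroup.subgroupOfEquivOfLe (hstab y hy)).toEquiv, h.stab y (hne y hy)] at h1
    rw [Subgroup.relIndex, ← h1, Nat.mul_div_cancel _ hm]
  have hstabsub : ∀ y : N, stabilizer ↥H₁ y = (stabilizer H y).subgroupOf H₁ := by
    intro y
    ext g
    simp [Subgroup.mem_subgroupOf, mem_stabilizer_iff, Subgroup.smul_def]
  have hdvd1 : (Nat.card H₁ / m) ∣ X.ncard := by
    apply Cfsg.Agent.Lib.H21.dvd_ncard_of_forall_dvd_index_stabilizer (G := ↥H₁) _ X
      (Set.toFinite X)
    · intro g y hy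
      exact hinv g.1 g.2 y hy
    · intro y hy
      rw [hstabsub, ← Subgroup.relIndex, hrel y hy]
  have hdvd2 : (Nat.card H₁ / m) ∣ Nat.card H / m := by
    rw [← hrel y hy, ← h.index_stab (hne y hy), ← Subgroup.relIndex_mul_index (hstab y hy)]
    exact dvd_mul_right _ _
  have hone : Nat.card H₁ / m = 1 := Nat.eq_one_of_dvd_coprimes hcop hdvd1 hdvd2
  have : H₁ ≤ stabilizer H y := by
    rw [← Subgroup.relIndex_eq_one, hrel y hy, hone]
  exact this hg

/-- `Nat.card H / m` divides the size of every `H`-invariant set of non-identity elements -/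
theorem HT.dvd_ncard (h : HT H N m) (X : Set N) (hX1 : (1 : N) ∉ X)
    (hinv : ∀ g : H, ∀ y ∈ X, g • y ∈ X) : (Nat.card H / m) ∣ X.ncard := by
  apply Cfsg.Agent.Lib.H21.dvd_ncard_of_forall_dvd_index_stabilizer (G := H) _ X (Set.toFinite X) hinv
  intro y hy
  rw [h.index_stab (fun h1 => hX1 (h1 ▸ hy))]

/-- `Nat.card H / m` is coprime to the order of every `H`-invariant subgroup -/
theorem HT.coprime_card (h : HT H N m) (K : Subgroup N) (hK : ∀ g : H, ∀ k ∈ K, g • k ∈ K) :
    (Nat.card K).Coprime (Nat.card H / m) := by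
  have h1 := h.dvd_ncard ((K : Set N) \ {1}) (by simp) (by
    intro g y hy
    refine ⟨hK g y hy.1, ?_⟩
    intro h1
    apply hy.2
    have h2 : g • y = 1 := h1
    have : y = g⁻¹ • (1 : N) := by rw [← h2, inv_smul_smul]
    rw [this, smul_one]
    rfl)
  have h2 : ((K : Set N) \ {1}).ncard + 1 = Nat.card K := by
    rw [Set.ncard_diff (by simpa using K.one_mem) (Set.finite_singleton 1), Set.ncard_singleton]
    have : (K : Set N).ncard = Nat.card K := rfl
    rw [this]
    have := Nat.card_pos (α := K)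
    omega
  rw [← h2]
  obtain ⟨c, hc⟩ := h1
  rw [hc]
  have : (Nat.card H / m * c + 1).Coprime (Nat.card H / m) := by
    rw [Nat.coprime_mul_left_add_left]
    exact Nat.coprime_one_left _
  exact this

/-- the subgroup of points fixed by `L` -/
def fixSub (L : Subgroup H) : Subgroup N where
  carrier := {u | ∀ g ∈ L, g • u = u}
  mul_mem' := by
    intro a b ha hb g hg
    rw [smul_mul', ha g hg, hb g hg]
  one_mem' := by
    intro g _
    exact smul_one g
  inv_mem' := by
    intro a ha g hg
    rw [smul_inv', ha g hg]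

omit [Finite H] [Finite N] in
theorem mem_fixSub {L : Subgroup H} {u : N} : u ∈ fixSub L ↔ ∀ g ∈ L, g • u = u := Iff.rfl

omit [Finite H] [Finite N] in
theorem mem_fixSub_stab (u : N) : u ∈ fixSub (stabilizer H u) := fun _ hg => hg

/-- fixed point subgroups are normal -/
theorem HT.fixSub_normal (h : HT H N m) (L : Subgroup H) : (fixSub L : Subgroup N).Normal := by
  constructor
  intro x hx a
  by_cases hx1 : x = 1
  · subst hx1; simpa using (fixSub L).one_mem
  -- the conjugacy class of x
  set X : Set N := {y | ∃ b : N, y = b * x * b⁻¹} with hX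
  have hX1 : (1 : N) ∉ X := by
    rintro ⟨b, hb⟩
    apply hx1
    have : x = b⁻¹ * 1 * b := by rw [hb]; group
    simpa using this
  have hXcard : X.ncard ∣ Nat.card N := by
    have hXo : X = orbit (ConjAct N) x := by
      ext y
      constructor
      · rintro ⟨b, rfl⟩
        exact ⟨ConjAct.toConjAct b, by simp [ConjAct.smul_def]⟩
      · rintro ⟨c, rfl⟩
        exact ⟨ConjAct.ofConjAct c, by simp [ConjAct.smul_def]⟩
    rw [hXo, ← index_stabilizer]
    have := (stabilizer (ConjAct N) x).index_dvd_card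
    rwa [Nat.card_congr (ConjAct.toConjAct (G := N)).toEquiv.symm] at this
  have hstabX : ∀ y ∈ X, ∀ g ∈ stabilizer H y, ∀ y' ∈ X, g • y' ∈ X := by
    rintro y ⟨b, rfl⟩ g hg y' ⟨b', rfl⟩
    rw [mem_stabilizer_iff, smul_mul', smul_mul', smul_inv'] at hg
    -- g • x = (g•b)⁻¹ * (b x b⁻¹) * (g • b)
    have hgx : g • x = (g • b)⁻¹ * (b * x * b⁻¹) * (g • b) := by rw [← hg]; group
    refine ⟨(g • b') * (g • b)⁻¹ * b, ?_⟩
    rw [smul_mul', smul_mul', smul_inv', hgx]
    group
  have hcop : (X.ncard).Coprime (Nat.card H / m) := by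
    have := h.coprime_card ⊤ (fun _ _ _ => Subgroup.mem_top _)
    rw [Subgroup.card_top] at this
    exact Nat.Coprime.coprime_dvd_left hXcard this
  have hkey := h.key X hX1 (setStab H X) (fun g hg y hy => (hg y).mpr hy)
    (fun y hy => mem_setStab_of_subgroup _ (hstabX y hy)) hcop
  intro g hg
  have hxX : x ∈ X := ⟨1, by simp⟩
  have hgs : g ∈ setStab H X :=
    mem_setStab_of_subgroup _ (hstabX x hxX) ((mem_stabilizer_iff).mpr (hx g hg))
  exact hkey g hgs _ ⟨a, rfl⟩

/-- the component of the partition containing `u` -/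
def comp (H : Type*) [Group H] [MulDistribMulAction H N] (u : N) : Subgroup N :=
  fixSub (stabilizer H u)

theorem HT.comp_eq (h : HT H N m) {u y : N} (hu : u ≠ 1) (hy : y ≠ 1) (hyu : y ∈ comp H u) :
    comp H y = comp H u := by
  have hle : stabilizer H u ≤ stabilizer H y := fun g hg => hyu g hg
  unfold comp
  rw [h.stab_eq_of_le hu hy hle]

theorem HT.comp_ne_top (h : HT H N m) {u : N} (hu : u ≠ 1) : comp H u ≠ ⊤ := by
  intro htop
  have hbot : stabilizer H u = ⊥ := by
    rw [eq_bot_iff]
    intro g hg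
    rw [Subgroup.mem_bot]
    apply h.faithful
    intro v
    have : v ∈ comp H u := htop ▸ Subgroup.mem_top v
    exact this g hg
  have := h.stab u hu
  rw [hbot, Subgroup.card_bot] at this
  have := h.one_lt
  omega

theorem HT.commute_of_comp_ne (h : HT H N m) {u v : N} (hu : u ≠ 1) (hv : v ≠ 1)
    (hne : comp H u ≠ comp H v) {a b : N} (ha : a ∈ comp H u) (hb : b ∈ comp H v) :
    a * b = b * a := by
  haveI := h.fixSub_normal (stabilizer H u)
  haveI := h.fixSub_normal (stabilizer H v)
  have hdisj : Disjoint (comp H u) (comp H v) := by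
    rw [Subgroup.disjoint_def]
    intro w hwu hwv
    by_contra hw
    exact hne ((h.comp_eq hu hw hwu).symm.trans (h.comp_eq hv hw hwv))
  exact (Subgroup.commute_of_normal_of_disjoint _ _ (h.fixSub_normal _) (h.fixSub_normal _) hdisj
    a b ha hb).eq

theorem HT.comm (h : HT H N m) (a b : N) : a * b = b * a := by
  by_cases ha : a = 1
  · subst ha; simp
  by_cases hb : b = 1
  · subst hb; simp
  by_cases hne : comp H a = comp H b
  · -- same component
    have hbA : b ∈ comp H a := hne ▸ mem_fixSub_stab b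
    obtain ⟨c, hc⟩ : ∃ c : N, c ∉ comp H a := by
      by_contra hcon
      push Not at hcon
      exact h.comp_ne_top ha (eq_top_iff.mpr fun x _ => hcon x)
    have hc1 : c ≠ 1 := fun h1 => hc (h1 ▸ (comp H a).one_mem)
    have hcne : comp H c ≠ comp H a := fun he => hc (he ▸ mem_fixSub_stab c)
    have hw : a * c ∉ comp H a := by
      intro hmem
      apply hc
      have := (comp H a).mul_mem ((comp H a).inv_mem (mem_fixSub_stab a)) hmem
      simpa using this
    have hw1 : a * c ≠ 1 := fun h1 => hw (h1 ▸ (comp H a).one_mem)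
    have hwne : comp H (a * c) ≠ comp H a := fun he => hw (he ▸ mem_fixSub_stab (a * c))
    have e1 : (a * c) * b = b * (a * c) :=
      h.commute_of_comp_ne hw1 ha hwne (mem_fixSub_stab _) hbA
    have e2 : c * b = b * c := h.commute_of_comp_ne hc1 ha hcne (mem_fixSub_stab _) hbA
    have : a * b * c = b * a * c := by
      calc a * b * c = a * (b * c) := by group
        _ = a * (c * b) := by rw [e2]
        _ = (a * c) * b := by group
        _ = b * (a * c) := e1
        _ = b * a * c := by group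
    exact mul_right_cancel this
  · exact h.commute_of_comp_ne ha hb hne (mem_fixSub_stab a) (mem_fixSub_stab b)

omit [Finite H] [Finite N] in
theorem stab_le_stab_pow (u : N) (k : ℕ) : stabilizer H u ≤ stabilizer H (u ^ k) := by
  intro g hg
  rw [mem_stabilizer_iff] at hg ⊢
  rw [smul_pow', hg]

/-- if all non-identity elements have the same stabilizer we get a contradiction -/
theorem HT.not_all_eq (h : HT H N m) (L : Subgroup H)
    (hall : ∀ u : N, u ≠ 1 → stabilizer H u = L) : Nat.card N = 1 := by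
  by_contra hN
  have hnt : Nontrivial N := by
    by_contra hcon
    rw [not_nontrivial_iff_subsingleton] at hcon
    exact hN Nat.card_unique
  obtain ⟨u, hu⟩ := exists_ne (1 : N)
  have hL : L = ⊥ := by
    rw [eq_bot_iff]
    intro g hg
    rw [Subgroup.mem_bot]
    apply h.faithful
    intro v
    by_cases hv : v = 1
    · subst hv; exact smul_one g
    · have : g ∈ stabilizer H v := (hall v hv) ▸ hg
      exact this
  have := h.stab u hu
  rw [hall u hu, hL, Subgroup.card_bot] at this
  have := h.one_lt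
  omega

/-- `N` has prime exponent (for any prime `p` such that `N` has an element of order `p`) -/
theorem HT.pow_eq_one (h : HT H N m) {p : ℕ} {x₀ : N} (hx₀ : x₀ ≠ 1) (hx₀p : x₀ ^ p = 1) :
    ∀ y : N, y ^ p = 1 := by
  by_contra hcon
  push Not at hcon
  obtain ⟨y, hy⟩ := hcon
  -- general claim
  have claim : ∀ x z : N, x ≠ 1 → x ^ p = 1 → z ^ p ≠ 1 → stabilizer H z = stabilizer H x := by
    intro x z hx hxp hzp
    have hz1 : z ≠ 1 := by rintro rfl; simp at hzp
    have hxz : (x * z) ^ p = z ^ p := by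
      rw [(show Commute x z from h.comm x z).mul_pow, hxp, one_mul]
    have hxz1 : x * z ≠ 1 := by
      intro h1
      rw [h1, one_pow] at hxz
      exact hzp hxz.symm
    have e1 : stabilizer H (x * z) = stabilizer H (z ^ p) := by
      apply h.stab_eq_of_le hxz1 hzp
      rw [← hxz]
      exact stab_le_stab_pow _ _
    have e2 : stabilizer H z = stabilizer H (z ^ p) :=
      h.stab_eq_of_le hz1 hzp (stab_le_stab_pow _ _)
    apply h.stab_eq_of_le hz1 hx
    intro g hg
    have hg2 : g ∈ stabilizer H (x * z) := by rw [e1, ← e2]; exact hg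
    rw [mem_stabilizer_iff] at hg hg2 ⊢
    rw [smul_mul', hg] at hg2
    exact mul_right_cancel hg2
  have hall : ∀ u : N, u ≠ 1 → stabilizer H u = stabilizer H x₀ := by
    intro u hu
    by_cases hup : u ^ p = 1
    · rw [← claim u y hu hup hy, claim x₀ y hx₀ hx₀p hy]
    · exact claim x₀ u hx₀ hx₀p hup
  have := h.not_all_eq _ hall
  have hnt : Nontrivial N := ⟨⟨x₀, 1, hx₀⟩⟩
  have := Finite.one_lt_card (α := N)
  omega

/-- existence of the prime -/
theorem HT.exists_prime (h : HT H N m) [Nontrivial N] :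
    ∃ p : ℕ, p.Prime ∧ ∀ y : N, y ^ p = 1 := by
  have hcard : Nat.card N ≠ 1 := by
    have := Finite.one_lt_card (α := N)
    omega
  obtain ⟨p, hp, hpd⟩ := Nat.exists_prime_and_dvd hcard
  haveI : Fact p.Prime := ⟨hp⟩
  obtain ⟨x₀, hx₀⟩ := exists_prime_orderOf_dvd_card' p hpd
  refine ⟨p, hp, h.pow_eq_one (x₀ := x₀) ?_ ?_⟩
  · intro h1
    rw [h1, orderOf_one] at hx₀
    exact hp.one_lt.ne hx₀
  · rw [← hx₀]; exact pow_orderOf_eq_one x₀

/-- **Irreducibility**: no proper non-trivial `H`-invariant subgroup -/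
theorem HT.irreducible (h : HT H N m) (K : Subgroup N) (hK : ∀ g : H, ∀ k ∈ K, g • k ∈ K) :
    K = ⊥ ∨ K = ⊤ := by
  by_contra hcon
  push Not at hcon
  obtain ⟨hKbot, hKtop⟩ := hcon
  obtain ⟨k₀, hk₀K, hk₀⟩ : ∃ k ∈ K, k ≠ 1 := by
    rcases K.bot_or_exists_ne_one with hb | hb
    · exact absurd hb hKbot
    · exact hb
  obtain ⟨c₀, hc₀⟩ : ∃ c : N, c ∉ K := by
    by_contra hcon
    push Not at hcon
    exact hKtop (eq_top_iff.mpr fun x _ => hcon x)
  have hcopK := h.coprime_card K hK
  -- for c ∉ K and k ∈ K \ 1: stabilizers agree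
  have claim : ∀ c : N, c ∉ K → ∀ k ∈ K, k ≠ 1 → stabilizer H c = stabilizer H k := by
    intro c hc k hkK hk1
    have hc1 : c ≠ 1 := fun h1 => hc (h1 ▸ K.one_mem)
    set X : Set N := (fun k : N => c * k) '' (K : Set N) with hX
    have hX1 : (1 : N) ∉ X := by
      rintro ⟨k', hk', hk'1⟩
      apply hc
      have : c = k'⁻¹ := eq_inv_of_mul_eq_one_left hk'1
      rw [this]
      exact K.inv_mem hk'
    have hXcard : X.ncard = Nat.card K := by
      rw [hX, Set.ncard_image_of_injective _ (mul_right_injective c)]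
      rfl
    have hstabX : ∀ y ∈ X, ∀ g ∈ stabilizer H y, ∀ y' ∈ X, g • y' ∈ X := by
      rintro y ⟨k₁, hk₁, rfl⟩ g hg y' ⟨k₂, hk₂, rfl⟩
      rw [mem_stabilizer_iff, smul_mul'] at hg
      have hg' : g • c * g • k₁ = c * k₁ := hg
      -- g • c = c k₁ (g • k₁)⁻¹
      have hgc : g • c = c * k₁ * (g • k₁)⁻¹ := by rw [← hg']; group
      refine ⟨k₁ * (g • k₁)⁻¹ * (g • k₂), ?_, ?_⟩
      · exact K.mul_mem (K.mul_mem hk₁ (K.inv_mem (hK g _ hk₁))) (hK g _ hk₂)
      · change c * (k₁ * (g • k₁)⁻¹ * (g • k₂)) = g • (c * k₂)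
        rw [smul_mul', hgc]
        group
    have hkey := h.key X hX1 (setStab H X) (fun g hg y hy => (hg y).mpr hy)
      (fun y hy => mem_setStab_of_subgroup _ (hstabX y hy)) (by rw [hXcard]; exact hcopK)
    have hcX : c ∈ X := ⟨1, K.one_mem, by simp⟩
    apply h.stab_eq_of_le hc1 hk1
    intro g hg
    have hgs : g ∈ setStab H X := mem_setStab_of_subgroup _ (hstabX c hcX) hg
    have h1 := hkey g hgs (c * k) ⟨k, hkK, rfl⟩
    have h2 := hkey g hgs c hcX
    rw [mem_stabilizer_iff]
    rw [smul_mul', h2] at h1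
    exact mul_left_cancel h1
  have hall : ∀ u : N, u ≠ 1 → stabilizer H u = stabilizer H k₀ := by
    intro u hu
    by_cases huK : u ∈ K
    · rw [← claim c₀ hc₀ u huK hu, claim c₀ hc₀ k₀ hk₀K hk₀]
    · exact claim u huK k₀ hk₀K hk₀
  have := h.not_all_eq _ hall
  have hnt : Nontrivial N := ⟨⟨k₀, 1, hk₀⟩⟩
  have := Finite.one_lt_card (α := N)
  omega

end Cfsg.Agent.Lib.H17.HalfTransitive
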