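import Mathlib
import Cfsg.Agent.Lib.H21.Hall4Defs

set_option autoImplicit false

namespace Cfsg.Agent.Lib.H17.Hall4

open Equiv Cfsg.Agent.Lib.H21.Hall4

variable {α : Type*} [Fintype α] [DecidableEq α] {G : Subgroup (Perm α)}

theorem nfix_conj (g a : Perm α) : nfix (g * a * g⁻¹) = nfix a := by
  unfold nfix
  refine Finset.card_bij' (fun x _ => g⁻¹ x) (fun x _ => g x) ?_ ?_ ?_ ?_
  · intro x hx
    rw [Finset.mem_filter] at hx ⊢
    refine ⟨Finset.mem_univ _, ?_⟩
    have h := hx.2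
    simp only [Perm.mul_apply] at h
    rw [Perm.eq_inv_iff_eq]; exact h
  · intro x hx
    rw [Finset.mem_filter] at hx ⊢
    refine ⟨Finset.mem_univ _, ?_⟩
    have h := hx.2
    simp only [Perm.mul_apply, Perm.coe_inv, symm_apply_apply]
    rw [h]
  · intro x _; simp
  · intro x _; simp

theorem card_reg_conj (g a b : Perm α) : (reg (g * a * g⁻¹) (g * b * g⁻¹)).card = (reg a b).card := by
  refine Finset.card_bij' (fun x _ => g⁻¹ x) (fun x _ => g x) ?_ ?_ ?_ ?_
  · intro x hx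
    rw [mem_reg] at hx ⊢
    obtain ⟨h1, h2, h3⟩ := hx
    refine ⟨fun h => h1 ?_, fun h => h2 ?_, fun h => h3 ?_⟩
    · simp only [Perm.mul_apply]; rw [h]; simp
    · simp only [Perm.mul_apply]; rw [h]; simp
    · simp only [Perm.mul_apply] at h ⊢
      simp only [Perm.coe_inv, symm_apply_apply] at h ⊢
      rw [h]; simp
  · intro x hx
    rw [mem_reg] at hx ⊢
    obtain ⟨h1, h2, h3⟩ := hx
    refine ⟨fun h => h1 ?_, fun h => h2 ?_, fun h => h3 ?_⟩
    · simp only [Perm.mul_apply, Perm.coe_inv, symm_apply_apply] at h; exact g.injective h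
    · simp only [Perm.mul_apply, Perm.coe_inv, symm_apply_apply] at h; exact g.injective h
    · simp only [Perm.mul_apply, Perm.coe_inv, symm_apply_apply] at h ⊢; exact g.injective h
  · intro x _; simp
  · intro x _; simp

omit [Fintype α] [DecidableEq α] in
private theorem card_cent_conj_set {g : Perm α} (hg : g ∈ G) (S : Set (Perm α)) :
    Nat.card (G ⊓ Subgroup.centralizer ((fun a => g * a * g⁻¹) '' S) : Subgroup (Perm α)) =
      Nat.card (G ⊓ Subgroup.centralizer S : Subgroup (Perm α)) := by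
  refine Nat.card_congr ?_
  refine
    { toFun := fun x => ⟨g⁻¹ * x.1 * g, ?_⟩
      invFun := fun x => ⟨g * x.1 * g⁻¹, ?_⟩
      left_inv := fun x => by apply Subtype.ext; simp [mul_assoc]
      right_inv := fun x => by apply Subtype.ext; simp [mul_assoc] }
  · obtain ⟨h1, h2⟩ := Subgroup.mem_inf.mp x.2
    refine Subgroup.mem_inf.mpr ⟨G.mul_mem (G.mul_mem (G.inv_mem hg) h1) hg, ?_⟩
    rw [Subgroup.mem_centralizer_iff] at h2 ⊢
    intro a ha
    have := h2 (g * a * g⁻¹) ⟨a, ha, rfl⟩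
    calc a * (g⁻¹ * x.1 * g) = g⁻¹ * ((g * a * g⁻¹) * x.1) * g := by group
      _ = g⁻¹ * (x.1 * (g * a * g⁻¹)) * g := by rw [this]
      _ = g⁻¹ * x.1 * g * a := by group
  · obtain ⟨h1, h2⟩ := Subgroup.mem_inf.mp x.2
    refine Subgroup.mem_inf.mpr ⟨G.mul_mem (G.mul_mem hg h1) (G.inv_mem hg), ?_⟩
    rw [Subgroup.mem_centralizer_iff] at h2 ⊢
    rintro _ ⟨a, ha, rfl⟩
    have := h2 a ha
    calc g * a * g⁻¹ * (g * x.1 * g⁻¹) = g * (a * x.1) * g⁻¹ := by group
      _ = g * (x.1 * a) * g⁻¹ := by rw [this]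
      _ = g * x.1 * g⁻¹ * (g * a * g⁻¹) := by group

theorem card_cent_conj1 {g : Perm α} (hg : g ∈ G) (a : Perm α) :
    Nat.card (G ⊓ Subgroup.centralizer ({g * a * g⁻¹} : Set (Perm α)) : Subgroup (Perm α)) =
      Nat.card (G ⊓ Subgroup.centralizer ({a} : Set (Perm α)) : Subgroup (Perm α)) := by
  have := card_cent_conj_set hg ({a} : Set (Perm α))
  rwa [Set.image_singleton] at this

theorem card_cent_conj2 {g : Perm α} (hg : g ∈ G) (a b : Perm α) :
    Nat.card (G ⊓ Subgroup.centralizer ({g * a * g⁻¹, g * b * g⁻¹} : Set (Perm α)) :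
        Subgroup (Perm α)) =
      Nat.card (G ⊓ Subgroup.centralizer ({a, b} : Set (Perm α)) : Subgroup (Perm α)) := by
  have := card_cent_conj_set hg ({a, b} : Set (Perm α))
  rwa [Set.image_pair] at this

end Cfsg.Agent.Lib.H17.Hall4
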