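import Mathlib
import Cfsg.Agent.Lib.H21.Hall4Defs

set_option autoImplicit false

namespace Cfsg.Agent.Lib.H17.Hall4

open Equiv Cfsg.Agent.Lib.H21.Hall4

variable {α : Type*} [Fintype α] [DecidableEq α] {G : Subgroup (Perm α)}

/-- Partition of `α` by the stabilizer in `{1,u,v,uv}`. -/
theorem orbit_count (u v : Perm α) (hu : u * u = 1) (hv : v * v = 1) (huv : u * v = v * u) :
    Fintype.card α + 2 * (Finset.univ.filter (fun x => u x = x ∧ v x = x)).card =
      nfix u + nfix v + nfix (u * v) + (reg u v).card := by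
  unfold nfix reg
  rw [← Finset.card_univ, Finset.card_eq_sum_ones]
  simp only [Finset.card_filter]
  rw [Finset.mul_sum, ← Finset.sum_add_distrib, ← Finset.sum_add_distrib, ← Finset.sum_add_distrib,
    ← Finset.sum_add_distrib]
  refine Finset.sum_congr rfl (fun x _ => ?_)
  simp only [Perm.mul_apply]
  by_cases h1 : u x = x <;> by_cases h2 : v x = x
  · have h3 : u (v x) = x := by rw [h2, h1]
    simp [h1, h2]
  · have h3 : u (v x) ≠ x := by
      intro h
      exact h2 (u.injective (h.trans h1.symm))
    simp [h1, h2, h3]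
  · have h3 : u (v x) ≠ x := by
      rw [h2]; exact h1
    simp [h1, h2]
  · by_cases h3 : u (v x) = x
    · simp [h1, h2, h3]
    · simp [h1, h2, h3]

theorem nfix_split (u v : Perm α) :
    nfix u = (Finset.univ.filter (fun x => u x = x ∧ v x = x)).card +
      (Finset.univ.filter (fun x => u x = x ∧ v x ≠ x)).card := by
  unfold nfix
  simp only [Finset.card_filter]
  rw [← Finset.sum_add_distrib]
  refine Finset.sum_congr rfl (fun x _ => ?_)
  by_cases h1 : u x = x <;> by_cases h2 : v x = x <;> simp [h1, h2]

/-- `v` acts without fixed points on `Fix u ∖ Fix v`. -/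
theorem even_fix_diff (u v : Perm α) (hv : v * v = 1) (huv : u * v = v * u) :
    Even (Finset.univ.filter (fun x => u x = x ∧ v x ≠ x)).card := by
  have hvv : ∀ y, v (v y) = y := fun y => by
    rw [← Perm.mul_apply, hv, Perm.one_apply]
  have hc : ∀ y, u (v y) = v (u y) := fun y => by
    rw [← Perm.mul_apply, huv, Perm.mul_apply]
  rw [← ZMod.natCast_eq_zero_iff_even, Finset.card_eq_sum_ones, Nat.cast_sum]
  refine Finset.sum_involution (fun x _ => v x) ?_ ?_ ?_ ?_
  · intro a _; simp only [Nat.cast_one]; decide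
  · intro a ha _
    exact (Finset.mem_filter.mp ha).2.2
  · intro a ha
    obtain ⟨h1, h2⟩ := (Finset.mem_filter.mp ha).2
    refine Finset.mem_filter.mpr ⟨Finset.mem_univ _, ?_, ?_⟩
    · rw [hc, h1]
    · rw [hvv]; exact fun h => h2 h.symm
  · intro a _; exact hvv a

/-- `{1,u,v,uv}` acts freely on the regular points. -/
theorem four_dvd_reg (u v : Perm α) (hu : u * u = 1) (hv : v * v = 1) (huv : u * v = v * u) :
    4 ∣ (reg u v).card := by
  have huu : ∀ y, u (u y) = y := fun y => by
    rw [← Perm.mul_apply, hu, Perm.one_apply]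
  have hvv : ∀ y, v (v y) = y := fun y => by
    rw [← Perm.mul_apply, hv, Perm.one_apply]
  have hc : ∀ y, u (v y) = v (u y) := fun y => by
    rw [← Perm.mul_apply, huv, Perm.mul_apply]
  set O : α → Finset α := fun x => {x, u x, v x, u (v x)} with hO
  have hmem : ∀ x, x ∈ reg u v ↔ u x ≠ x ∧ v x ≠ x ∧ u (v x) ≠ x := fun x => by
    rw [mem_reg, Perm.mul_apply]
  -- the orbit of a regular point consists of regular points with the same orbit
  have key : ∀ x ∈ reg u v, ∀ y ∈ O x, y ∈ reg u v ∧ O y = O x := by
    intro x hx y hy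
    obtain ⟨h1, h2, h3⟩ := (hmem x).mp hx
    simp only [hO, Finset.mem_insert, Finset.mem_singleton] at hy
    rcases hy with rfl | rfl | rfl | rfl
    · exact ⟨hx, rfl⟩
    · refine ⟨(hmem _).mpr ⟨?_, ?_, ?_⟩, ?_⟩
      · rw [huu]; exact fun h => h1 h.symm
      · rw [← hc]; exact fun h => h2 (u.injective h)
      · rw [← hc, huu]; exact fun h => h3 (by rw [h, huu])
      · simp only [hO, huu, ← hc]
        ext z; simp only [Finset.mem_insert, Finset.mem_singleton]; tauto
    · refine ⟨(hmem _).mpr ⟨?_, ?_, ?_⟩, ?_⟩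
      · rw [hc]; exact fun h => h1 (v.injective h)
      · rw [hvv]; exact fun h => h2 h.symm
      · rw [hvv]; exact fun h => h3 (by rw [← h, huu])
      · simp only [hO, hvv]
        ext z; simp only [Finset.mem_insert, Finset.mem_singleton]; tauto
    · refine ⟨(hmem _).mpr ⟨?_, ?_, ?_⟩, ?_⟩
      · rw [huu]; exact fun h => h1 (v.injective (by rw [← hc]; exact h.symm))
      · rw [← hc, hvv]; exact fun h => h2 (u.injective h).symm
      · exact fun h => h3 (v.injective (u.injective h))
      · simp only [hO, huu, ← hc, hvv]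
        ext z; simp only [Finset.mem_insert, Finset.mem_singleton]; tauto
  have hcard : ∀ x ∈ reg u v, (O x).card = 4 := by
    intro x hx
    obtain ⟨h1, h2, h3⟩ := (hmem x).mp hx
    have e1 : x ≠ u x := fun h => h1 h.symm
    have e2 : x ≠ v x := fun h => h2 h.symm
    have e3 : x ≠ u (v x) := fun h => h3 h.symm
    have e4 : u x ≠ v x := fun h => h3 (by rw [← h, huu])
    have e5 : u x ≠ u (v x) := fun h => e2 (u.injective h)
    have e6 : v x ≠ u (v x) := fun h => by
      rw [hc] at h; exact e1 (v.injective h)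
    simp only [hO]
    rw [Finset.card_insert_of_notMem, Finset.card_insert_of_notMem, Finset.card_insert_of_notMem,
      Finset.card_singleton]
    · simp only [Finset.mem_singleton]; exact e6
    · simp only [Finset.mem_insert, Finset.mem_singleton]; tauto
    · simp only [Finset.mem_insert, Finset.mem_singleton]; tauto
  have hself : ∀ x, x ∈ O x := fun x => by simp [hO]
  rw [Finset.card_eq_sum_card_fiberwise (f := O) (t := (reg u v).image O)
    (fun x hx => Finset.mem_image_of_mem O hx)]
  rw [Finset.sum_const_nat (m := 4)]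
  · exact Dvd.intro_left _ rfl
  · intro o ho
    obtain ⟨x, hx, rfl⟩ := Finset.mem_image.mp ho
    rw [← hcard x hx]
    congr 1
    ext y
    rw [Finset.mem_filter]
    constructor
    · rintro ⟨_, h⟩
      rw [← h]; exact hself y
    · intro hy
      exact key x hx y hy

end Cfsg.Agent.Lib.H17.Hall4
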