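import Cfsg.Agent.Lib.H17.HeCEmb

set_option autoImplicit false
set_option maxRecDepth 100000

/-! # The centraliser of the involution `e` of the presented Held group (generated)

The order of the centraliser is bounded by following the chain of stabilisers of the action on 2058
points through fixed points of `e`; hence the centraliser is the image of the presented group of
order 21504. -/

namespace Cfsg.Agent.Lib.H17.HeCBound

open Cfsg.Spor Cfsg.Agent.Lib.H17.CosetCert Cfsg.Agent.Lib.H17.CoxGlue Cfsg.Agent.Lib.H17.Sgs Cfsg.Agent.Lib.H17.SgsCent Cfsg.Agent.Lib.H17.HeSp44 Cfsg.Agent.Lib.H17.Masks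

/-- the presented Held group -/
abbrev He' : Type := Cfsg.Agent.Lib.H17.HeOrd.G

theorem finite_He : Finite He' := Cfsg.Agent.Lib.H17.HeOrd.finite_G

attribute [local instance] finite_He

theorem card_P : Nat.card P = 4030387200 := by
  have h1 := card_ge
  have hs : Function.Surjective φ.rangeRestrict := MonoidHom.rangeRestrict_surjective _
  have h3 : Nat.card P ≤ Nat.card He' := Nat.card_le_card_of_surjective _ hs
  rw [Cfsg.Agent.Lib.H17.HeOrd.card_eq] at h3
  omega

theorem φ_injective : Function.Injective φ := by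
  have hs : Function.Surjective φ.rangeRestrict := MonoidHom.rangeRestrict_surjective _
  have hb := hs.bijective_of_nat_card_le (by rw [card_P, Cfsg.Agent.Lib.H17.HeOrd.card_eq])
  intro x y hxy
  apply hb.1
  exact Subtype.ext hxy

/-! ## The orders of the stabilisers -/

theorem cards : Nat.card (stabL P.subtype ([0] : List ℕ)) = 1958400 ∧
    Nat.card (stabL P.subtype ([1, 0] : List ℕ)) = 1440 ∧
    Nat.card (stabL P.subtype ([743, 1, 0] : List ℕ)) = 240 ∧
    Nat.card (stabL P.subtype ([1617, 743, 1, 0] : List ℕ)) = 40 ∧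
    Nat.card (stabL P.subtype ([2, 1617, 743, 1, 0] : List ℕ)) = 4 := by
  have h1 := slevel1
  have h2 := slevel2
  have h3 := slevel3
  have h4 := slevel4
  have h5 := slevel5
  have h6 := slevel6
  have h7 : 1 ≤ Nat.card (stabL P.subtype ([6, 2, 1617, 743, 1, 0] : List ℕ)) := one_le_card P.subtype _
  rw [card_stabL_nil, card_P] at h1
  omega

theorem orb1 : ∀ g ∈ stabL P.subtype ([] : List ℕ), tb smask1 (P.subtype g ⟨0, by decide⟩ : Fin 2058) = true := by
  apply orbit_subset_mask P.subtype ([] : List ℕ) 0 (by decide) smask1 2058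
    (reach 12 4096 P.subtype tabs good_tabs tabs_rep ([] : List ℕ) 0 (by decide) smask1 srank1 sw1 sletters1 sfix1 sconn1) scount1
  have hc := cards
  rw [card_stabL_nil, card_P]
  omega

theorem orb2 : ∀ g ∈ stabL P.subtype ([0] : List ℕ), tb smask2 (P.subtype g ⟨1, by decide⟩ : Fin 2058) = true := by
  apply orbit_subset_mask P.subtype ([0] : List ℕ) 1 (by decide) smask2 1360
    (reach 12 4096 P.subtype tabs good_tabs tabs_rep ([0] : List ℕ) 1 (by decide) smask2 srank2 sw2 sletters2 sfix2 sconn2) scount2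
  have hc := cards
  omega

theorem orb3 : ∀ g ∈ stabL P.subtype ([1, 0] : List ℕ), tb smask3 (P.subtype g ⟨743, by decide⟩ : Fin 2058) = true := by
  apply orbit_subset_mask P.subtype ([1, 0] : List ℕ) 743 (by decide) smask3 6
    (reach 12 4096 P.subtype tabs good_tabs tabs_rep ([1, 0] : List ℕ) 743 (by decide) smask3 srank3 sw3 sletters3 sfix3 sconn3) scount3
  have hc := cards
  omega

theorem orb4 : ∀ g ∈ stabL P.subtype ([743, 1, 0] : List ℕ), tb smask4 (P.subtype g ⟨1617, by decide⟩ : Fin 2058) = true := by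
  apply orbit_subset_mask P.subtype ([743, 1, 0] : List ℕ) 1617 (by decide) smask4 6
    (reach 12 4096 P.subtype tabs good_tabs tabs_rep ([743, 1, 0] : List ℕ) 1617 (by decide) smask4 srank4 sw4 sletters4 sfix4 sconn4) scount4
  have hc := cards
  omega

theorem orb5 : ∀ g ∈ stabL P.subtype ([1617, 743, 1, 0] : List ℕ), tb smask5 (P.subtype g ⟨2, by decide⟩ : Fin 2058) = true := by
  apply orbit_subset_mask P.subtype ([1617, 743, 1, 0] : List ℕ) 2 (by decide) smask5 10
    (reach 12 4096 P.subtype tabs good_tabs tabs_rep ([1617, 743, 1, 0] : List ℕ) 2 (by decide) smask5 srank5 sw5 sletters5 sfix5 sconn5) scount5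
  have hc := cards
  omega

/-! ## The centraliser -/

/-- the image of `e` -/
noncomputable def zP : P := ⟨φ (PresentedGroup.of .e), ⟨_, rfl⟩⟩

theorem zP_val : P.subtype zP = σ 12 4096 2058 tab4 := φ_of _

/-- the centraliser of the image of `e` -/
noncomputable def Hc : Subgroup P := Subgroup.centralizer {zP}

/-- the fixed points of `e` -/
def fmask : ℕ := 0x70000000000000000000000060000000000000000000000000000000000000000000000000000000000000000000000000006100000000000000000000000000000000c003000000000000000000000000000000000000000000000000000000000000000000000000000000000000000000000000000000001c00300000000000000000000000000000000000000000000000000000000000000000000008040000000000000000000000000000000000000800400010100000000000000010082080004000000000824400800000210100000038007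

theorem fix_chk : checkFix 12 4096 tab4 fmask 2058 = true := by
  decide +kernel

theorem good4 : Good 12 4096 2058 tab4 := good_tabs _ (by decide)

theorem fix_mask (i : Fin 2058) (h : P.subtype zP i = i) : tb fmask i = true := by
  apply checkFix_sound 12 4096 tab4 fmask 2058 fix_chk i i.2
  rw [zP_val] at h
  have := congrArg (fun j : Fin 2058 => (j : ℕ)) h
  simp only [σ_apply 12 4096 2058 tab4 good4] at this
  exact this

theorem base_fix : ∀ b ∈ ([0, 1, 743, 1617, 2] : List ℕ), lk 12 4096 tab4 b = b := by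
  decide +kernel

theorem zP_fix (b : ℕ) (hb : b < 2058) (hm : b ∈ ([0, 1, 743, 1617, 2] : List ℕ)) :
    P.subtype zP ⟨b, hb⟩ = ⟨b, hb⟩ := by
  rw [zP_val]
  apply Fin.ext
  rw [σ_apply 12 4096 2058 tab4 good4]
  exact base_fix b hm

theorem comm_of_mem (g : P) (hg : g ∈ Hc) : g * zP = zP * g :=
  (Subgroup.mem_centralizer_iff.mp hg zP rfl).symm

theorem img_fix (g : P) (hg : g ∈ Hc) (b : ℕ) (hb : b < 2058) (hm : b ∈ ([0, 1, 743, 1617, 2] : List ℕ)) :
    tb fmask (P.subtype g ⟨b, hb⟩ : Fin 2058) = true :=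
  fix_mask _ (fix_of_comm P.subtype g zP (comm_of_mem g hg) ⟨b, hb⟩ (zP_fix b hb hm))

theorem cnt1 : countBits (Nat.land smask1 fmask) 2058 0 = 42 := by
  decide +kernel

theorem bound1 : Nat.card ↥(Hc ⊓ stabL P.subtype ([] : List ℕ)) ≤
    42 * Nat.card ↥(Hc ⊓ stabL P.subtype ([0] : List ℕ)) := by
  have h := card_inf_le P.subtype Hc ([] : List ℕ) 0 (by decide)
    {j : Fin 2058 | tb (Nat.land smask1 fmask) j = true} (by
      intro g hg
      have hg' := Subgroup.mem_inf.mp hg
      change tb (Nat.land smask1 fmask) _ = true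
      rw [tb_land, orb1 g hg'.2, img_fix g hg'.1 0 (by decide) (by decide)]
      rfl)
  rw [ncard_mask, cnt1] at h
  exact h

theorem cnt2 : countBits (Nat.land smask2 fmask) 2058 0 = 16 := by
  decide +kernel

theorem bound2 : Nat.card ↥(Hc ⊓ stabL P.subtype ([0] : List ℕ)) ≤
    16 * Nat.card ↥(Hc ⊓ stabL P.subtype ([1, 0] : List ℕ)) := by
  have h := card_inf_le P.subtype Hc ([0] : List ℕ) 1 (by decide)
    {j : Fin 2058 | tb (Nat.land smask2 fmask) j = true} (by
      intro g hg
      have hg' := Subgroup.mem_inf.mp hg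
      change tb (Nat.land smask2 fmask) _ = true
      rw [tb_land, orb2 g hg'.2, img_fix g hg'.1 1 (by decide) (by decide)]
      rfl)
  rw [ncard_mask, cnt2] at h
  exact h

theorem cnt3 : countBits (Nat.land smask3 fmask) 2058 0 = 2 := by
  decide +kernel

theorem bound3 : Nat.card ↥(Hc ⊓ stabL P.subtype ([1, 0] : List ℕ)) ≤
    2 * Nat.card ↥(Hc ⊓ stabL P.subtype ([743, 1, 0] : List ℕ)) := by
  have h := card_inf_le P.subtype Hc ([1, 0] : List ℕ) 743 (by decide)
    {j : Fin 2058 | tb (Nat.land smask3 fmask) j = true} (by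
      intro g hg
      have hg' := Subgroup.mem_inf.mp hg
      change tb (Nat.land smask3 fmask) _ = true
      rw [tb_land, orb3 g hg'.2, img_fix g hg'.1 743 (by decide) (by decide)]
      rfl)
  rw [ncard_mask, cnt3] at h
  exact h

theorem cnt4 : countBits (Nat.land smask4 fmask) 2058 0 = 2 := by
  decide +kernel

theorem bound4 : Nat.card ↥(Hc ⊓ stabL P.subtype ([743, 1, 0] : List ℕ)) ≤
    2 * Nat.card ↥(Hc ⊓ stabL P.subtype ([1617, 743, 1, 0] : List ℕ)) := by
  have h := card_inf_le P.subtype Hc ([743, 1, 0] : List ℕ) 1617 (by decide)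
    {j : Fin 2058 | tb (Nat.land smask4 fmask) j = true} (by
      intro g hg
      have hg' := Subgroup.mem_inf.mp hg
      change tb (Nat.land smask4 fmask) _ = true
      rw [tb_land, orb4 g hg'.2, img_fix g hg'.1 1617 (by decide) (by decide)]
      rfl)
  rw [ncard_mask, cnt4] at h
  exact h

theorem cnt5 : countBits (Nat.land smask5 fmask) 2058 0 = 2 := by
  decide +kernel

theorem bound5 : Nat.card ↥(Hc ⊓ stabL P.subtype ([1617, 743, 1, 0] : List ℕ)) ≤
    2 * Nat.card ↥(Hc ⊓ stabL P.subtype ([2, 1617, 743, 1, 0] : List ℕ)) := by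
  have h := card_inf_le P.subtype Hc ([1617, 743, 1, 0] : List ℕ) 2 (by decide)
    {j : Fin 2058 | tb (Nat.land smask5 fmask) j = true} (by
      intro g hg
      have hg' := Subgroup.mem_inf.mp hg
      change tb (Nat.land smask5 fmask) _ = true
      rw [tb_land, orb5 g hg'.2, img_fix g hg'.1 2 (by decide) (by decide)]
      rfl)
  rw [ncard_mask, cnt5] at h
  exact h

theorem card_Hc : Nat.card Hc ≤ 21504 := by
  have h0 : Nat.card Hc = Nat.card ↥(Hc ⊓ stabL P.subtype ([] : List ℕ)) := by
    rw [stabL_nil, inf_top_eq]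
  have h6 : Nat.card ↥(Hc ⊓ stabL P.subtype ([2, 1617, 743, 1, 0] : List ℕ)) ≤
      Nat.card (stabL P.subtype ([2, 1617, 743, 1, 0] : List ℕ)) := Subgroup.card_le_of_le inf_le_right
  have hc := cards
  have b1 := bound1
  have b2 := bound2
  have b3 := bound3
  have b4 := bound4
  have b5 := bound5
  omega

/-! ## The centraliser in the presented group -/

/-- the centraliser of `e` -/
noncomputable def Cz : Subgroup He' := Subgroup.centralizer {(PresentedGroup.of .e : He')}

theorem card_Cz : Nat.card Cz ≤ 21504 := by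
  have h1 : Cz.map φ.rangeRestrict ≤ Hc := by
    rintro _ ⟨g, hg, rfl⟩
    rw [Hc, Subgroup.mem_centralizer_iff]
    rintro _ rfl
    have := Subgroup.mem_centralizer_iff.mp hg _ rfl
    apply Subtype.ext
    change φ (PresentedGroup.of .e) * φ g = φ g * φ (PresentedGroup.of .e)
    rw [← map_mul, ← map_mul, this]
  have h2 : Function.Injective φ.rangeRestrict := by
    intro x y hxy
    exact φ_injective (congrArg Subtype.val hxy)
  have h3 := Subgroup.card_le_of_le h1
  rw [Subgroup.card_map_of_injective h2] at h3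
  exact le_trans h3 card_Hc

open Cfsg.Agent.Lib.H17.HeCEmb in
theorem comm_check : ∀ x < 4, ∀ c ∈ Cfsg.Agent.Lib.H17.HeN22.sbase,
    applyT 14 16384 (Cfsg.Agent.Lib.H17.HeOrd.tw (([4] ++ m x) ++ (m x ++ [4]).reverse)) c = c := by
  decide +kernel

open Cfsg.Agent.Lib.H17.HeCEmb in
theorem range_le : f.range ≤ Cz := by
  have h1 : f.range = Subgroup.map f ⊤ := MonoidHom.range_eq_map f
  rw [h1, ← Cfsg.Agent.Lib.H17.HeCGlue.closure_gens, MonoidHom.map_closure, Subgroup.closure_le]
  rintro _ ⟨_, ⟨x, hx, rfl⟩, rfl⟩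
  change f (PresentedGroup.of (Cfsg.Agent.Lib.H17.HeCGlue.gen x)) ∈ Cz
  rw [f_of, Cz, Subgroup.mem_centralizer_iff]
  rintro _ rfl
  unfold fg
  rw [idx_gen x hx]
  have h2 : (PresentedGroup.of .e : He') = Cfsg.Agent.Lib.H17.HeOrd.e [4] := (Cfsg.Agent.Lib.H17.HeOrd.e_singleton 4).symm
  rw [h2, ← Cfsg.Agent.Lib.H17.HeOrd.e_append, ← Cfsg.Agent.Lib.H17.HeOrd.e_append]
  exact Cfsg.Agent.Lib.H17.HeOrd.e_eq_e _ _ (comm_check x hx)

open Cfsg.Agent.Lib.H17.HeCEmb in
theorem range_eq : f.range = Cz := by
  apply Subgroup.eq_of_le_of_card_ge range_le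
  have h1 : Nat.card f.range = Nat.card X := by
    rw [← Nat.card_congr (MonoidHom.ofInjective f_injective).toEquiv]
  rw [h1, card_X]
  exact card_Cz

open Cfsg.Agent.Lib.H17.HeCEmb in
/-- the centraliser of `e` is the presented group of order 21504 -/
noncomputable def equivCz : Cz ≃* X :=
  (MulEquiv.subgroupCongr range_eq.symm).trans (MonoidHom.ofInjective f_injective).symm

end Cfsg.Agent.Lib.H17.HeCBound
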