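import Cfsg.Prelude.Def_SporCoxeter

set_option autoImplicit false

/-! # A presentation of the centraliser of a 2-central involution of the Held group

The group `2^{1+6}:L₃(2)` of order 21504 on four involutions `a, b, u, v`:
Coxeter graph a –4– b, b –3– u, b –3– v, u –4– v with the further relations
`abvbauvbubvuavbuvu = 1` and `abuavbabvubabvubabuvb = 1`. -/

namespace Cfsg.Agent.Lib.H17.HeCPres

/-- The generators a, b, u, v. -/
inductive Gen
  | a
  | b
  | u
  | v
  deriving DecidableEq

/-- the generator a as a word -/ abbrev a : FreeGroup Gen := FreeGroup.of Gen.a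
/-- the generator b as a word -/ abbrev b : FreeGroup Gen := FreeGroup.of Gen.b
/-- the generator u as a word -/ abbrev u : FreeGroup Gen := FreeGroup.of Gen.u
/-- the generator v as a word -/ abbrev v : FreeGroup Gen := FreeGroup.of Gen.v

/-- The Coxeter graph: a4b, b3u, b3v, u4v. -/
def edges : List (Gen × ℕ × Gen) :=
  [(.a, 4, .b), (.b, 3, .u), (.b, 3, .v), (.u, 4, .v)]

/-- The further relators. -/
def extra : List (FreeGroup Gen) := [
  a * b * v * b * a * u * v * b * u * b * v * u * a * v * b * u * v * u,
  a * b * u * a * v * b * a * b * v * u * b * a * b * v * u * b * a * b * u * v * b ]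

/-- The presented group. -/
abbrev Grp : Type := Cfsg.Spor.CoxPresented Gen edges extra

end Cfsg.Agent.Lib.H17.HeCPres
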