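import Cfsg.Agent.Lib.H17.HeCEmb

set_option autoImplicit false
set_option maxRecDepth 100000

/-! # The presented group of order 21504 is the centraliser of a transvection of `SL(5, 2)` (generated)

The letters go to products of transvections commuting with `1 + E₀₁`; the action on the 32 vectors
shows that the homomorphism is injective, and a chain of stabilisers of basis vectors bounds the
order of the centraliser. -/

namespace Cfsg.Agent.Lib.H17.HeCMat

open Matrix Cfsg.Spor Cfsg.Agent.Lib.H17.CosetCert Cfsg.Agent.Lib.H17.Sgs Cfsg.Agent.Lib.H17.SgsCent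

/-- the special linear group -/
abbrev SL5 : Type := Matrix.SpecialLinearGroup (Fin 5) (ZMod 2)

/-- the vectors -/
abbrev V : Type := Fin 5 → ZMod 2

/-- the number of a vector -/
def encN (v : V) : ℕ := (v 0).val + 2 * (v 1).val + 4 * (v 2).val + 8 * (v 3).val + 16 * (v 4).val

/-- the number of a vector -/
def enc (v : V) : Fin 32 := ⟨encN v % 32, Nat.mod_lt _ (by norm_num)⟩

/-- the vector of a number -/
def dec (x : Fin 32) : V := fun i => if x.val.testBit i.val then 1 else 0

theorem dec_enc : ∀ v : V, dec (enc v) = v := by decide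

theorem enc_dec : ∀ x : Fin 32, enc (dec x) = x := by decide

/-- the numbering of the vectors -/
def encE : V ≃ Fin 32 := ⟨enc, dec, dec_enc, enc_dec⟩

/-- the action on the numbers of the vectors -/
noncomputable def ρ : SL5 →* Equiv.Perm (Fin 32) :=
  (encE.permCongrHom : Equiv.Perm V →* Equiv.Perm (Fin 32)).comp (MulAction.toPermHom SL5 V)

theorem ρ_apply (M : SL5) (x : Fin 32) : ρ M x = enc (M • dec x) := rfl

theorem ρ_enc (M : SL5) (v : V) : ρ M (enc v) = enc (M • v) := by
  rw [ρ_apply, dec_enc]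

theorem tv_smul {i j : Fin 5} (hij : i ≠ j) (v : V) :
    (SpecialLinearGroup.transvection hij (1 : ZMod 2)) • v = Function.update v i (v i + v j) := by
  change (SpecialLinearGroup.transvection hij (1 : ZMod 2)).1 *ᵥ v = _
  rw [SpecialLinearGroup.transvection_coe, add_mulVec, one_mulVec, single_mulVec_eq]
  ext k
  by_cases hk : k = i
  · subst hk; simp
  · simp [Function.update_of_ne hk, Pi.single_eq_of_ne hk]

theorem ρ_tv {i j : Fin 5} (hij : i ≠ j) (T : ℕ) (hT : Good 5 32 32 T)
    (h : ∀ x : Fin 32, (enc (Function.update (dec x) i (dec x i + dec x j))).val = lk 5 32 T x) :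
    ρ (SpecialLinearGroup.transvection hij (1 : ZMod 2)) = σ 5 32 32 T := by
  ext x
  rw [ρ_apply, tv_smul, σ_apply 5 32 32 T hT]
  exact h x

theorem ρ_injective : Function.Injective ρ := by
  intro M N hMN
  apply Subtype.ext
  apply Matrix.toLin'.injective
  apply LinearMap.ext
  intro v
  have h := congrArg (fun p : Equiv.Perm (Fin 32) => dec (p (enc v))) hMN
  simp only [ρ_apply, dec_enc] at h
  exact h

/-! ## The transvections -/

/-- the transvection `1 + E_01` -/
noncomputable def t01 : SL5 := SpecialLinearGroup.transvection (by decide : (0 : Fin 5) ≠ 1) (1 : ZMod 2)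

/-- its table -/
def T01 : ℕ := 0xf7fbcd6f38b5eb494e3073dac52d2831ca410c20

theorem good01 : Good 5 32 32 T01 := good_of_checks 5 32 32 T01 (by decide +kernel) (by decide +kernel)

theorem ρ01 : ρ t01 = σ 5 32 32 T01 := ρ_tv _ T01 good01 (by decide)

/-- the transvection `1 + E_04` -/
noncomputable def t04 : SL5 := SpecialLinearGroup.transvection (by decide : (0 : Fin 5) ≠ 4) (1 : ZMod 2)

/-- its table -/
def T04 : ℕ := 0xf7f9dd6f19b5e9594e117b9ac5a928398a418820

theorem good04 : Good 5 32 32 T04 := good_of_checks 5 32 32 T04 (by decide +kernel) (by decide +kernel)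

theorem ρ04 : ρ t04 = σ 5 32 32 T04 := ρ_tv _ T04 good04 (by decide)

/-- the transvection `1 + E_21` -/
noncomputable def t21 : SL5 := SpecialLinearGroup.transvection (by decide : (2 : Fin 5) ≠ 1) (1 : ZMod 2)

/-- its table -/
def T21 : ℕ := 0xdebbcffb389cab4bda305a9ac7b928188a439820

theorem good21 : Good 5 32 32 T21 := good_of_checks 5 32 32 T21 (by decide +kernel) (by decide +kernel)

theorem ρ21 : ρ t21 = σ 5 32 32 T21 := ρ_tv _ T21 good21 (by decide)

/-- the transvection `1 + E_23` -/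
noncomputable def t23 : SL5 := SpecialLinearGroup.transvection (by decide : (2 : Fin 5) ≠ 3) (1 : ZMod 2)

/-- its table -/
def T23 : ℕ := 0xdeb38ffbbcbdab49ca305a9287b9ac398a418820

theorem good23 : Good 5 32 32 T23 := good_of_checks 5 32 32 T23 (by decide +kernel) (by decide +kernel)

theorem ρ23 : ρ t23 = σ 5 32 32 T23 := ρ_tv _ T23 good23 (by decide)

/-- the transvection `1 + E_24` -/
noncomputable def t24 : SL5 := SpecialLinearGroup.transvection (by decide : (2 : Fin 5) ≠ 4) (1 : ZMod 2)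

/-- its table -/
def T24 : ℕ := 0xdeb38ffbbc9ca30bdab47b9ac5a928398a418820

theorem good24 : Good 5 32 32 T24 := good_of_checks 5 32 32 T24 (by decide +kernel) (by decide +kernel)

theorem ρ24 : ρ t24 = σ 5 32 32 T24 := ρ_tv _ T24 good24 (by decide)

/-- the transvection `1 + E_34` -/
noncomputable def t34 : SL5 := SpecialLinearGroup.transvection (by decide : (3 : Fin 5) ≠ 4) (1 : ZMod 2)

/-- its table -/
def T34 : ℕ := 0xbdab49ca30ffbbcdeb387b9ac5a928398a418820

theorem good34 : Good 5 32 32 T34 := good_of_checks 5 32 32 T34 (by decide +kernel) (by decide +kernel)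

theorem ρ34 : ρ t34 = σ 5 32 32 T34 := ρ_tv _ T34 good34 (by decide)

/-- the transvection `1 + E_42` -/
noncomputable def t42 : SL5 := SpecialLinearGroup.transvection (by decide : (4 : Fin 5) ≠ 2) (1 : ZMod 2)

/-- its table -/
def T42 : ℕ := 0x7b9acdeb38398a49ca30ffbbc5a928bdab418820

theorem good42 : Good 5 32 32 T42 := good_of_checks 5 32 32 T42 (by decide +kernel) (by decide +kernel)

theorem ρ42 : ρ t42 = σ 5 32 32 T42 := ρ_tv _ T42 good42 (by decide)

/-- the tables of the transvections -/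
def tvtabs : List ℕ := [T01, T04, T21, T23, T24, T34, T42]

theorem good_tvtabs : ∀ t ∈ tvtabs, Good 5 32 32 t := by
  intro t ht
  simp only [tvtabs, List.mem_cons, List.not_mem_nil, or_false] at ht
  rcases ht with rfl | rfl | rfl | rfl | rfl | rfl | rfl
  · exact good01
  · exact good04
  · exact good21
  · exact good23
  · exact good24
  · exact good34
  · exact good42

/-- an element whose action is a trivial word in the tables is trivial -/
theorem eq_one_of_tables (M : SL5) (ts : List ℕ) (hts : ∀ t ∈ ts, t ∈ tvtabs)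
    (hρ : ρ M = (ts.map (σ 5 32 32)).prod) (hchk : checkWord 5 32 ts 32 = true) : M = 1 := by
  apply ρ_injective
  rw [hρ, map_one]
  exact prod_eq_one_of_check 5 32 32 ts (fun t ht => good_tvtabs t (hts t ht)) hchk

/-! ## The images of the letters -/

/-- the images of the letters -/
noncomputable def gg : Cfsg.Agent.Lib.H17.HeCGlue.Gen → SL5
  | .a => t21 * t04
  | .b => t01 * t24 * t42 * t24
  | .u => t01 * t24 * t34
  | .v => t01 * t23 * t24

/-- the words in the tables of the images of the letters -/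
def mm : ℕ → List ℕ
  | 0 => [T21, T04]
  | 1 => [T01, T24, T42, T24]
  | 2 => [T01, T24, T34]
  | _ => [T01, T23, T24]

theorem mm_mem : ∀ x < 4, ∀ t ∈ mm x, t ∈ tvtabs := by
  decide

theorem ρ_gg (u : Cfsg.Agent.Lib.H17.HeCGlue.Gen) :
    ρ (gg u) = ((mm (Cfsg.Agent.Lib.H17.HeCGlue.idx u)).map (σ 5 32 32)).prod := by
  cases u <;>
    simp only [gg, mm, Cfsg.Agent.Lib.H17.HeCGlue.idx, map_mul, ρ01, ρ04, ρ21, ρ23, ρ24, ρ34, ρ42, List.map_cons, List.map_nil,
      List.prod_cons, List.prod_nil, mul_one, mul_assoc]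

theorem idx_gen : ∀ x < 4, Cfsg.Agent.Lib.H17.HeCGlue.idx (Cfsg.Agent.Lib.H17.HeCGlue.gen x) = x := by
  decide

theorem ρ_prod (L : List ℕ) (hL : ∀ x ∈ L, x < 4) :
    ρ ((L.map Cfsg.Agent.Lib.H17.HeCGlue.gen).map gg).prod = ((L.flatMap mm).map (σ 5 32 32)).prod := by
  induction L with
  | nil => simp
  | cons x L ih =>
    rw [List.map_cons, List.map_cons, List.prod_cons, map_mul,
      ih (fun y hy => hL y (List.mem_cons_of_mem _ hy)), ρ_gg,
      idx_gen x (hL x List.mem_cons_self), List.flatMap_cons, List.map_append, List.prod_append]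

theorem flatMap_mem (L : List ℕ) (hL : ∀ x ∈ L, x < 4) : ∀ t ∈ L.flatMap mm, t ∈ tvtabs := by
  intro t ht
  obtain ⟨x, hx, htx⟩ := List.mem_flatMap.mp ht
  exact mm_mem x (hL x hx) t htx

theorem sq_check : ∀ x < 4, checkWord 5 32 (mm x ++ mm x) 32 = true := by
  decide +kernel

theorem gg_mul_self (u : Cfsg.Agent.Lib.H17.HeCGlue.Gen) : gg u * gg u = 1 := by
  have hx := Cfsg.Agent.Lib.H17.HeCGlue.idx_lt u
  apply eq_one_of_tables _ (mm (Cfsg.Agent.Lib.H17.HeCGlue.idx u) ++ mm (Cfsg.Agent.Lib.H17.HeCGlue.idx u))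
  · intro t ht
    rcases List.mem_append.mp ht with h | h <;> exact mm_mem _ hx t h
  · rw [map_mul, ρ_gg, List.map_append, List.prod_append]
  · exact sq_check _ hx

theorem relW_lt : ∀ w ∈ Cfsg.Agent.Lib.H17.HeCGlue.relW, ∀ x ∈ w, x < 4 := by
  decide

theorem rel_check : ∀ w ∈ Cfsg.Agent.Lib.H17.HeCGlue.relW, checkWord 5 32 (w.flatMap mm) 32 = true := by
  decide +kernel

theorem hW : ∀ w ∈ Cfsg.Agent.Lib.H17.HeCGlue.relW, ((w.map Cfsg.Agent.Lib.H17.HeCGlue.gen).map gg).prod = 1 := by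
  intro w hw
  exact eq_one_of_tables _ (w.flatMap mm) (flatMap_mem w (relW_lt w hw))
    (ρ_prod w (relW_lt w hw)) (rel_check w hw)

/-- the presented group of order 21504 -/
abbrev X : Type := Cfsg.Agent.Lib.H17.HeCEmb.X

/-- the homomorphism into the special linear group -/
noncomputable def g : X →* SL5 :=
  PresentedGroup.toGroup (f := gg) (Cfsg.Agent.Lib.H17.HeCGlue.lift_rels gg gg_mul_self hW)

theorem g_of (u : Cfsg.Agent.Lib.H17.HeCGlue.Gen) : g (PresentedGroup.of u) = gg u :=
  PresentedGroup.toGroup.of _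

/-- the action on the 32 vectors -/
noncomputable def ρ1 : X →* Equiv.Perm (Fin 32) := ρ.comp g

theorem ρ1_of (u : Cfsg.Agent.Lib.H17.HeCGlue.Gen) : ρ1 (PresentedGroup.of u) =
    ((mm (Cfsg.Agent.Lib.H17.HeCGlue.idx u)).map (σ 5 32 32)).prod := by
  change ρ (g (PresentedGroup.of u)) = _
  rw [g_of, ρ_gg]

/-- the table of the letter 0 -/
def mt0 : ℕ := 0xd6f9df7f1994e95b5e115a9ac7b928188a439820

theorem good_mt0 : Good 5 32 32 mt0 := good_of_checks 5 32 32 mt0 (by decide +kernel) (by decide +kernel)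

theorem mchk0 : checkTab 5 32 (mm 0).reverse mt0 32 = true := by
  decide +kernel

/-- the table of the letter 1 -/
def mt1 : ℕ := 0xf7fbc73dacb5eb431ca4d6f3852d2894e3010c20

theorem good_mt1 : Good 5 32 32 mt1 := good_of_checks 5 32 32 mt1 (by decide +kernel) (by decide +kernel)

theorem mchk1 : checkTab 5 32 (mm 1).reverse mt1 32 = true := by
  decide +kernel

/-- the table of the letter 2 -/
def mt2 : ℕ := 0x94e30b5eb4d6f38f7fbc73dac52d2831ca410c20

theorem good_mt2 : Good 5 32 32 mt2 := good_of_checks 5 32 32 mt2 (by decide +kernel) (by decide +kernel)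

theorem mchk2 : checkTab 5 32 (mm 2).reverse mt2 32 = true := by
  decide +kernel

/-- the table of the letter 3 -/
def mt3 : ℕ := 0xf7fbcd6f3894e30b5eb452d2873dac31ca410c20

theorem good_mt3 : Good 5 32 32 mt3 := good_of_checks 5 32 32 mt3 (by decide +kernel) (by decide +kernel)

theorem mchk3 : checkTab 5 32 (mm 3).reverse mt3 32 = true := by
  decide +kernel

/-- the tables of the letters -/
def mtabs : List ℕ := [mt0, mt1, mt2, mt3]

theorem good_mtabs : ∀ t ∈ mtabs, Good 5 32 32 t := by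
  intro t ht
  simp only [mtabs, List.mem_cons, List.not_mem_nil, or_false] at ht
  rcases ht with rfl | rfl | rfl | rfl
  · exact good_mt0
  · exact good_mt1
  · exact good_mt2
  · exact good_mt3

theorem good_mm (x : ℕ) (hx : x < 4) : ∀ t ∈ mm x, Good 5 32 32 t :=
  fun t ht => good_tvtabs t (mm_mem x hx t ht)

theorem mtabs_rep : ∀ t ∈ mtabs, ∃ y : X, ρ1 y = σ 5 32 32 t := by
  intro t ht
  simp only [mtabs, List.mem_cons, List.not_mem_nil, or_false] at ht
  rcases ht with rfl | rfl | rfl | rfl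
  · exact ⟨PresentedGroup.of .a, by
      rw [ρ1_of]
      exact prod_eq_σ 5 32 _ mt0 (good_mm 0 (by decide)) good_mt0 mchk0⟩
  · exact ⟨PresentedGroup.of .b, by
      rw [ρ1_of]
      exact prod_eq_σ 5 32 _ mt1 (good_mm 1 (by decide)) good_mt1 mchk1⟩
  · exact ⟨PresentedGroup.of .u, by
      rw [ρ1_of]
      exact prod_eq_σ 5 32 _ mt2 (good_mm 2 (by decide)) good_mt2 mchk2⟩
  · exact ⟨PresentedGroup.of .v, by
      rw [ρ1_of]
      exact prod_eq_σ 5 32 _ mt3 (good_mm 3 (by decide)) good_mt3 mchk3⟩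

attribute [local instance] Cfsg.Agent.Lib.H17.HeCEmb.finite_X

/-! ## level 1: base point 2, orbit size 16, 4 words, total length 4 -/

/-- the words of level 1 -/
def mw1 : List (List ℕ) := [[mt0], [mt1], [mt2], [mt3]]

/-- the orbit of level 1 -/
def mmask1 : ℕ := 0xcccccccc

/-- the ranks of level 1 -/
def mrank1 : ℕ := 0x518004ac004140019c006b0007b8002040010000

theorem mletters1 : ∀ ts ∈ mw1, ∀ t ∈ ts, t ∈ mtabs := by
  decide +kernel

theorem mfix1 : ∀ ts ∈ mw1, ∀ c ∈ ([] : List ℕ), applyT 5 32 ts c = c := by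
  decide +kernel

theorem mbase1 : tb mmask1 2 = true := by
  decide +kernel

theorem mconn1 : checkOrbConn 5 32 mmask1 mrank1 2 mw1 32 = true := by
  decide +kernel

theorem mcount1 : countBits mmask1 32 0 = 16 := by
  decide +kernel

theorem mlevel1 : 16 * Nat.card (stabL ρ1 ([2] : List ℕ)) ≤ Nat.card (stabL ρ1 ([] : List ℕ)) :=
  step 5 32 ρ1 mtabs good_mtabs mtabs_rep [] 2 (by decide) mmask1 mrank1 mw1 16 mletters1 mfix1 mbase1 mconn1 mcount1

/-! ## level 2: base point 4, orbit size 14, 5 words, total length 14 -/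

/-- the words of level 2 -/
def mw2 : List (List ℕ) := [[mt2, mt1], [mt1, mt2], [mt3, mt1], [mt1, mt3], [mt0, mt1, mt3, mt0, mt1, mt0]]

/-- the orbit of level 2 -/
def mmask2 : ℕ := 0x33333330

/-- the ranks of level 2 -/
def mrank2 : ℕ := 0x82001a600183001010014500169000e000000

theorem mletters2 : ∀ ts ∈ mw2, ∀ t ∈ ts, t ∈ mtabs := by
  decide +kernel

theorem mfix2 : ∀ ts ∈ mw2, ∀ c ∈ ([2] : List ℕ), applyT 5 32 ts c = c := by
  decide +kernel

theorem mbase2 : tb mmask2 4 = true := by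
  decide +kernel

theorem mconn2 : checkOrbConn 5 32 mmask2 mrank2 4 mw2 32 = true := by
  decide +kernel

theorem mcount2 : countBits mmask2 32 0 = 14 := by
  decide +kernel

theorem mlevel2 : 14 * Nat.card (stabL ρ1 ([4, 2] : List ℕ)) ≤ Nat.card (stabL ρ1 ([2] : List ℕ)) :=
  step 5 32 ρ1 mtabs good_mtabs mtabs_rep [2] 4 (by decide) mmask2 mrank2 mw2 14 mletters2 mfix2 mbase2 mconn2 mcount2

/-! ## level 3: base point 8, orbit size 12, 5 words, total length 24 -/

/-- the words of level 3 -/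
def mw3 : List (List ℕ) := [[mt3, mt2], [mt2, mt3], [mt1, mt2, mt3, mt1, mt2, mt1], [mt1, mt2, mt1, mt3, mt2, mt1], [mt0, mt1, mt3, mt0, mt1, mt0, mt3, mt1]]

/-- the orbit of level 3 -/
def mmask3 : ℕ := 0x33333300

/-- the ranks of level 3 -/
def mrank3 : ℕ := 0x14600103001620012500081000e00000000000

theorem mletters3 : ∀ ts ∈ mw3, ∀ t ∈ ts, t ∈ mtabs := by
  decide +kernel

theorem mfix3 : ∀ ts ∈ mw3, ∀ c ∈ ([4, 2] : List ℕ), applyT 5 32 ts c = c := by
  decide +kernel

theorem mbase3 : tb mmask3 8 = true := by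
  decide +kernel

theorem mconn3 : checkOrbConn 5 32 mmask3 mrank3 8 mw3 32 = true := by
  decide +kernel

theorem mcount3 : countBits mmask3 32 0 = 12 := by
  decide +kernel

theorem mlevel3 : 12 * Nat.card (stabL ρ1 ([8, 4, 2] : List ℕ)) ≤ Nat.card (stabL ρ1 ([4, 2] : List ℕ)) :=
  step 5 32 ρ1 mtabs good_mtabs mtabs_rep [4, 2] 8 (by decide) mmask3 mrank3 mw3 12 mletters3 mfix3 mbase3 mconn3 mcount3

/-! ## level 4: base point 16, orbit size 8, 3 words, total length 38 -/

/-- the words of level 4 -/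
def mw4 : List (List ℕ) := [[mt2, mt3, mt2, mt3], [mt1, mt2, mt3, mt1, mt2, mt1, mt2, mt3, mt1, mt2, mt3, mt1, mt2, mt1], [mt1, mt2, mt3, mt1, mt2, mt1, mt0, mt1, mt3, mt0, mt1, mt0, mt3, mt2, mt1, mt3, mt2, mt1, mt2, mt3]]

/-- the orbit of level 4 -/
def mmask4 : ℕ := 0x33330000

/-- the ranks of level 4 -/
def mrank4 : ℕ := 0x64000a2000c1000e000000000000000000000

theorem mletters4 : ∀ ts ∈ mw4, ∀ t ∈ ts, t ∈ mtabs := by
  decide +kernel

theorem mfix4 : ∀ ts ∈ mw4, ∀ c ∈ ([8, 4, 2] : List ℕ), applyT 5 32 ts c = c := by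
  decide +kernel

theorem mbase4 : tb mmask4 16 = true := by
  decide +kernel

theorem mconn4 : checkOrbConn 5 32 mmask4 mrank4 16 mw4 32 = true := by
  decide +kernel

theorem mcount4 : countBits mmask4 32 0 = 8 := by
  decide +kernel

theorem mlevel4 : 8 * Nat.card (stabL ρ1 ([16, 8, 4, 2] : List ℕ)) ≤ Nat.card (stabL ρ1 ([8, 4, 2] : List ℕ)) :=
  step 5 32 ρ1 mtabs good_mtabs mtabs_rep [8, 4, 2] 16 (by decide) mmask4 mrank4 mw4 8 mletters4 mfix4 mbase4 mconn4 mcount4

/-- the lower bound for the order, with the stabiliser of the base -/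
theorem mcard_ge_stab : 21504 * Nat.card (stabL ρ1 ([16, 8, 4, 2] : List ℕ)) ≤ Nat.card (stabL ρ1 ([] : List ℕ)) := by
  have h4 := mlevel4
  have h3 := mlevel3
  have h2 := mlevel2
  have h1 := mlevel1
  have e4 := h4
  have e3 := le_trans (Nat.mul_le_mul_left 12 e4) h3
  have e2 := le_trans (Nat.mul_le_mul_left 14 e3) h2
  have e1 := le_trans (Nat.mul_le_mul_left 16 e2) h1
  calc 21504 * Nat.card (stabL ρ1 ([16, 8, 4, 2] : List ℕ))
      = 16 * (14 * (12 * (8 * Nat.card (stabL ρ1 ([16, 8, 4, 2] : List ℕ))))) := by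
        simp only [← Nat.mul_assoc]
    _ ≤ Nat.card (stabL ρ1 ([] : List ℕ)) := e1

/-- the base -/
def mbase : List ℕ := [16, 8, 4, 2]

theorem ρ1_injective : Function.Injective ρ1 := by
  have h1 : 21504 * Nat.card (stabL ρ1 mbase) ≤ Nat.card (stabL ρ1 ([] : List ℕ)) := mcard_ge_stab
  rw [card_stabL_nil] at h1
  have h2 : Nat.card X = 21504 := Cfsg.Agent.Lib.H17.HeCEmb.card_X
  have h4 : Nat.card (stabL ρ1 mbase) ≤ 1 := by
    by_contra hcon
    rw [not_le] at hcon
    have : 21504 * 2 ≤ 21504 * Nat.card (stabL ρ1 mbase) := Nat.mul_le_mul_left _ hcon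
    omega
  have h5 := (Subgroup.card_le_one_iff_eq_bot _).mp h4
  rw [injective_iff_map_eq_one]
  intro y hy
  have hmem : y ∈ stabL ρ1 mbase := by
    intro c _ hc
    rw [hy]
    rfl
  rw [h5, Subgroup.mem_bot] at hmem
  exact hmem

theorem g_injective : Function.Injective g := by
  intro x y hxy
  apply ρ1_injective
  change ρ (g x) = ρ (g y)
  rw [hxy]

end Cfsg.Agent.Lib.H17.HeCMat
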