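import Cfsg.Agent.Lib.H17.HeCBound
import Cfsg.Agent.Lib.H17.HeCMat

set_option autoImplicit false
set_option maxRecDepth 100000

/-! # The centraliser of a transvection of `SL(5, 2)` and the centraliser of `e` in the Held group -/

namespace Cfsg.Agent.Lib.H17.HeCMain

open Matrix Cfsg.Spor Cfsg.Agent.Lib.H17.CosetCert Cfsg.Agent.Lib.H17.Sgs Cfsg.Agent.Lib.H17.SgsCent
  Cfsg.Agent.Lib.H17.HeCMat Cfsg.Agent.Lib.H17.Masks

/-! ## The letters commute with the transvection -/

theorem comm_check : ∀ t ∈ tvtabs, checkWord 5 32 [t, T01, t, T01] 32 = true := by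
  decide +kernel

theorem comm_of_table (M : SL5) (t : ℕ) (ht : t ∈ tvtabs) (hρ : ρ M = σ 5 32 32 t)
    (hM : M * M = 1) : Commute M t01 := by
  have h1 : M * t01 * M * t01 = 1 := by
    apply eq_one_of_tables _ [t, T01, t, T01]
    · intro t' ht'
      simp only [List.mem_cons, List.not_mem_nil, or_false] at ht'
      rcases ht' with rfl | rfl | rfl | rfl
      · exact ht
      · decide
      · exact ht
      · decide
    · simp only [map_mul, hρ, ρ01, List.map_cons, List.map_nil, List.prod_cons, List.prod_nil,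
        mul_one, mul_assoc]
    · exact comm_check t ht
  have h2 : t01 * t01 = 1 := by
    apply eq_one_of_tables _ [T01, T01] (by decide)
    · simp only [map_mul, ρ01, List.map_cons, List.map_nil, List.prod_cons, List.prod_nil, mul_one]
    · decide +kernel
  -- M t M t = 1, M² = t² = 1  ⟹  M t = t M
  change M * t01 = t01 * M
  calc M * t01 = M * t01 * (M * t01 * M * t01)⁻¹ := by rw [h1, inv_one, mul_one]
    _ = M * t01 * (t01⁻¹ * M⁻¹ * t01⁻¹ * M⁻¹) := by group
    _ = t01 * M := by
      have hMi : M⁻¹ = M := inv_eq_of_mul_eq_one_right hM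
      have hti : t01⁻¹ = t01 := inv_eq_of_mul_eq_one_right h2
      rw [hMi, hti]
      calc M * t01 * (t01 * M * t01 * M) = M * (t01 * t01) * M * t01 * M := by group
        _ = (M * M) * t01 * M := by rw [h2, mul_one]
        _ = t01 * M := by rw [hM, one_mul]

theorem sq_check : ∀ t ∈ tvtabs, checkWord 5 32 [t, t] 32 = true := by
  decide +kernel

theorem sq_of_table (M : SL5) (t : ℕ) (ht : t ∈ tvtabs) (hρ : ρ M = σ 5 32 32 t) : M * M = 1 := by
  apply eq_one_of_tables _ [t, t]
  · intro t' ht'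
    simp only [List.mem_cons, List.not_mem_nil, or_false] at ht'
    rcases ht' with rfl | rfl <;> exact ht
  · simp only [map_mul, hρ, List.map_cons, List.map_nil, List.prod_cons, List.prod_nil, mul_one]
  · exact sq_check t ht

theorem comm_tv (M : SL5) (t : ℕ) (ht : t ∈ tvtabs) (hρ : ρ M = σ 5 32 32 t) : Commute M t01 :=
  comm_of_table M t ht hρ (sq_of_table M t ht hρ)

theorem comm01 : Commute t01 t01 := Commute.refl _
theorem comm04 : Commute t04 t01 := comm_tv _ T04 (by decide) ρ04
theorem comm21 : Commute t21 t01 := comm_tv _ T21 (by decide) ρ21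
theorem comm23 : Commute t23 t01 := comm_tv _ T23 (by decide) ρ23
theorem comm24 : Commute t24 t01 := comm_tv _ T24 (by decide) ρ24
theorem comm34 : Commute t34 t01 := comm_tv _ T34 (by decide) ρ34
theorem comm42 : Commute t42 t01 := comm_tv _ T42 (by decide) ρ42

theorem comm_gg (u : Cfsg.Agent.Lib.H17.HeCGlue.Gen) : Commute (gg u) t01 := by
  cases u
  · exact comm21.mul_left comm04
  · exact ((comm01.mul_left comm24).mul_left comm42).mul_left comm24
  · exact (comm01.mul_left comm24).mul_left comm34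
  · exact (comm01.mul_left comm23).mul_left comm24

/-- the centraliser of the transvection -/
noncomputable def Ct : Subgroup SL5 := Subgroup.centralizer {t01}

theorem range_le : g.range ≤ Ct := by
  have h1 : g.range = Subgroup.map g ⊤ := MonoidHom.range_eq_map g
  rw [h1, ← Cfsg.Agent.Lib.H17.HeCGlue.closure_gens, MonoidHom.map_closure, Subgroup.closure_le]
  rintro _ ⟨_, ⟨x, hx, rfl⟩, rfl⟩
  change g (PresentedGroup.of (Cfsg.Agent.Lib.H17.HeCGlue.gen x)) ∈ Ct
  rw [g_of, Ct, Subgroup.mem_centralizer_iff]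
  rintro _ rfl
  exact (comm_gg _).symm.eq

/-! ## The order of the centraliser of the transvection -/

/-- the basis vectors -/
def e0 : V := Pi.single 0 1
/-- the basis vectors -/
def e1 : V := Pi.single 1 1
/-- the basis vectors -/
def e2 : V := Pi.single 2 1
/-- the basis vectors -/
def e3 : V := Pi.single 3 1
/-- the basis vectors -/
def e4 : V := Pi.single 4 1

theorem t01_smul (v : V) : t01 • v = v + v 1 • e0 := by
  unfold t01
  rw [tv_smul]
  ext k
  fin_cases k <;> simp [e0]

theorem smul_add' (M : SL5) (v w : V) : M • (v + w) = M • v + M • w :=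
  Matrix.mulVec_add _ _ _

theorem smul_smul' (M : SL5) (c : ZMod 2) (v : V) : M • (c • v) = c • (M • v) :=
  Matrix.mulVec_smul _ _ _

theorem smul_zero' (M : SL5) : M • (0 : V) = 0 := Matrix.mulVec_zero _

theorem smul_inj (M : SL5) (v w : V) (h : M • v = M • w) : v = w := by
  have := congrArg (fun x => M⁻¹ • x) h
  simpa [smul_smul] using this

theorem mem_Ct (M : SL5) : M ∈ Ct ↔ t01 * M = M * t01 := by
  rw [Ct, Subgroup.mem_centralizer_iff]
  constructor
  · intro h; exact h t01 rfl
  · rintro h _ rfl; exact h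

theorem e0_ne : e0 ≠ 0 := by decide

/-- an element of the centraliser fixes the first basis vector and preserves the second coordinate -/
theorem Ct_facts (M : SL5) (hM : M ∈ Ct) : M • e0 = e0 ∧ ∀ v : V, (M • v) 1 = v 1 := by
  have hc := (mem_Ct M).mp hM
  have key : ∀ v : V, v 1 • (M • e0) = (M • v) 1 • e0 := by
    intro v
    have h1 : M • (t01 • v) = t01 • (M • v) := by
      rw [smul_smul, smul_smul, hc]
    rw [t01_smul, t01_smul, smul_add', smul_smul'] at h1
    exact add_left_cancel h1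
  have h2 := key e1
  have he1 : e1 1 = 1 := by decide
  rw [he1, one_smul] at h2
  have hc1 : (M • e1) 1 = 1 := by
    by_contra hne
    have h0 : (M • e1) 1 = 0 := by
      generalize (M • e1) 1 = c at hne ⊢
      revert hne
      revert c
      decide
    rw [h0, zero_smul] at h2
    have : e0 = 0 := smul_inj M _ _ (by rw [h2, smul_zero'])
    exact e0_ne this
  rw [hc1, one_smul] at h2
  refine ⟨h2, fun v => ?_⟩
  have h3 := key v
  rw [h2] at h3
  have h4 := congrFun h3 0
  simp only [Pi.smul_apply, smul_eq_mul] at h4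
  have he0 : e0 0 = 1 := by decide
  rw [he0, mul_one, mul_one] at h4
  exact h4.symm

theorem finite_SL5 : Finite SL5 := inferInstance

/-- the masks of the four levels -/
def M1 : ℕ := 0xcccccccc
/-- the masks of the four levels -/
def M2 : ℕ := 0x33333330
/-- the masks of the four levels -/
def M3 : ℕ := 0x33333300
/-- the masks of the four levels -/
def M4 : ℕ := 0x33330000

theorem dec2 : dec ⟨2, by decide⟩ = e1 := by decide
theorem dec4 : dec ⟨4, by decide⟩ = e2 := by decide
theorem dec8 : dec ⟨8, by decide⟩ = e3 := by decide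
theorem dec16 : dec ⟨16, by decide⟩ = e4 := by decide

theorem in_M1 : ∀ w : V, w 1 = 1 → tb M1 (enc w).val = true := by decide
theorem in_M2 : ∀ w : V, w 1 = 0 → (∀ c0 : ZMod 2, w ≠ c0 • e0) → tb M2 (enc w).val = true := by
  decide
theorem in_M3 : ∀ w : V, w 1 = 0 → (∀ c0 c2 : ZMod 2, w ≠ c0 • e0 + c2 • e2) →
    tb M3 (enc w).val = true := by
  decide
theorem in_M4 : ∀ w : V, w 1 = 0 → (∀ c0 c2 c3 : ZMod 2, w ≠ c0 • e0 + c2 • e2 + c3 • e3) →
    tb M4 (enc w).val = true := by
  decide

theorem fix_of_stab (M : SL5) (bs : List ℕ) (hM : M ∈ stabL ρ bs) (c : ℕ) (hc : c < 32)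
    (hcm : c ∈ bs) (v : V) (hv : dec ⟨c, hc⟩ = v) : M • v = v := by
  have h := hM c hcm hc
  rw [ρ_apply, hv] at h
  have h2 := congrArg dec h
  rw [dec_enc, hv] at h2
  exact h2

theorem ne2 : ∀ c0 : ZMod 2, e2 ≠ c0 • e0 := by decide
theorem ne3 : ∀ c0 c2 : ZMod 2, e3 ≠ c0 • e0 + c2 • e2 := by decide
theorem ne4 : ∀ c0 c2 c3 : ZMod 2, e4 ≠ c0 • e0 + c2 • e2 + c3 • e3 := by decide

theorem cntM1 : countBits M1 32 0 = 16 := by decide +kernel
theorem cntM2 : countBits M2 32 0 = 14 := by decide +kernel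
theorem cntM3 : countBits M3 32 0 = 12 := by decide +kernel
theorem cntM4 : countBits M4 32 0 = 8 := by decide +kernel

attribute [local instance] finite_SL5

theorem bound1 : Nat.card ↥(Ct ⊓ stabL ρ ([] : List ℕ)) ≤
    16 * Nat.card ↥(Ct ⊓ stabL ρ ([2] : List ℕ)) := by
  have h := card_inf_le ρ Ct ([] : List ℕ) 2 (by decide) {j : Fin 32 | tb M1 j = true} (by
    intro M hM
    have hM' := Subgroup.mem_inf.mp hM
    change tb M1 (ρ M ⟨2, by decide⟩ : Fin 32) = true
    rw [ρ_apply, dec2]
    apply in_M1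
    rw [(Ct_facts M hM'.1).2]
    decide)
  rw [ncard_mask, cntM1] at h
  exact h

theorem bound2 : Nat.card ↥(Ct ⊓ stabL ρ ([2] : List ℕ)) ≤
    14 * Nat.card ↥(Ct ⊓ stabL ρ ([4, 2] : List ℕ)) := by
  have h := card_inf_le ρ Ct ([2] : List ℕ) 4 (by decide) {j : Fin 32 | tb M2 j = true} (by
    intro M hM
    have hM' := Subgroup.mem_inf.mp hM
    obtain ⟨hf0, hf1⟩ := Ct_facts M hM'.1
    change tb M2 (ρ M ⟨4, by decide⟩ : Fin 32) = true
    rw [ρ_apply, dec4]
    apply in_M2
    · rw [hf1]; decide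
    · intro c0 hw
      have : M • e2 = M • (c0 • e0) := by rw [hw, smul_smul', hf0]
      exact ne2 c0 (smul_inj M _ _ this))
  rw [ncard_mask, cntM2] at h
  exact h

theorem bound3 : Nat.card ↥(Ct ⊓ stabL ρ ([4, 2] : List ℕ)) ≤
    12 * Nat.card ↥(Ct ⊓ stabL ρ ([8, 4, 2] : List ℕ)) := by
  have h := card_inf_le ρ Ct ([4, 2] : List ℕ) 8 (by decide) {j : Fin 32 | tb M3 j = true} (by
    intro M hM
    have hM' := Subgroup.mem_inf.mp hM
    obtain ⟨hf0, hf1⟩ := Ct_facts M hM'.1
    have hf2 : M • e2 = e2 := fix_of_stab M _ hM'.2 4 (by decide) (by decide) e2 dec4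
    change tb M3 (ρ M ⟨8, by decide⟩ : Fin 32) = true
    rw [ρ_apply, dec8]
    apply in_M3
    · rw [hf1]; decide
    · intro c0 c2 hw
      have : M • e3 = M • (c0 • e0 + c2 • e2) := by
        rw [hw, smul_add', smul_smul', smul_smul', hf0, hf2]
      exact ne3 c0 c2 (smul_inj M _ _ this))
  rw [ncard_mask, cntM3] at h
  exact h

theorem bound4 : Nat.card ↥(Ct ⊓ stabL ρ ([8, 4, 2] : List ℕ)) ≤
    8 * Nat.card ↥(Ct ⊓ stabL ρ ([16, 8, 4, 2] : List ℕ)) := by
  have h := card_inf_le ρ Ct ([8, 4, 2] : List ℕ) 16 (by decide) {j : Fin 32 | tb M4 j = true} (by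
    intro M hM
    have hM' := Subgroup.mem_inf.mp hM
    obtain ⟨hf0, hf1⟩ := Ct_facts M hM'.1
    have hf2 : M • e2 = e2 := fix_of_stab M _ hM'.2 4 (by decide) (by decide) e2 dec4
    have hf3 : M • e3 = e3 := fix_of_stab M _ hM'.2 8 (by decide) (by decide) e3 dec8
    change tb M4 (ρ M ⟨16, by decide⟩ : Fin 32) = true
    rw [ρ_apply, dec16]
    apply in_M4
    · rw [hf1]; decide
    · intro c0 c2 c3 hw
      have : M • e4 = M • (c0 • e0 + c2 • e2 + c3 • e3) := by
        rw [hw, smul_add', smul_add', smul_smul', smul_smul', smul_smul', hf0, hf2, hf3]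
      exact ne4 c0 c2 c3 (smul_inj M _ _ this))
  rw [ncard_mask, cntM4] at h
  exact h

theorem vec_eq (v : V) : v = v 0 • e0 + v 1 • e1 + v 2 • e2 + v 3 • e3 + v 4 • e4 := by
  revert v
  decide

theorem last_trivial : Ct ⊓ stabL ρ ([16, 8, 4, 2] : List ℕ) = ⊥ := by
  rw [eq_bot_iff]
  intro M hM
  have hM' := Subgroup.mem_inf.mp hM
  obtain ⟨hf0, -⟩ := Ct_facts M hM'.1
  have hf1 : M • e1 = e1 := fix_of_stab M _ hM'.2 2 (by decide) (by decide) e1 dec2
  have hf2 : M • e2 = e2 := fix_of_stab M _ hM'.2 4 (by decide) (by decide) e2 dec4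
  have hf3 : M • e3 = e3 := fix_of_stab M _ hM'.2 8 (by decide) (by decide) e3 dec8
  have hf4 : M • e4 = e4 := fix_of_stab M _ hM'.2 16 (by decide) (by decide) e4 dec16
  rw [Subgroup.mem_bot]
  apply ρ_injective
  ext x
  rw [ρ_apply, map_one, Equiv.Perm.one_apply]
  have hv : M • dec x = dec x := by
    conv_lhs => rw [vec_eq (dec x)]
    rw [smul_add', smul_add', smul_add', smul_add', smul_smul', smul_smul', smul_smul', smul_smul',
      smul_smul', hf0, hf1, hf2, hf3, hf4]
    exact (vec_eq (dec x)).symm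
  rw [hv, enc_dec]

theorem card_Ct : Nat.card Ct ≤ 21504 := by
  have h0 : Nat.card Ct = Nat.card ↥(Ct ⊓ stabL ρ ([] : List ℕ)) := by
    rw [stabL_nil, inf_top_eq]
  have h5 : Nat.card ↥(Ct ⊓ stabL ρ ([16, 8, 4, 2] : List ℕ)) = 1 := by
    rw [last_trivial]
    exact Subgroup.card_bot
  have b1 := bound1
  have b2 := bound2
  have b3 := bound3
  have b4 := bound4
  omega

theorem range_eq : g.range = Ct := by
  apply Subgroup.eq_of_le_of_card_ge range_le
  have h1 : Nat.card g.range = Nat.card X := by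
    rw [← Nat.card_congr (MonoidHom.ofInjective g_injective).toEquiv]
  rw [h1, Cfsg.Agent.Lib.H17.HeCEmb.card_X]
  exact card_Ct

/-- the centraliser of the transvection is the presented group of order 21504 -/
noncomputable def equivCt : Ct ≃* X :=
  (MulEquiv.subgroupCongr range_eq.symm).trans (MonoidHom.ofInjective g_injective).symm

/-! ## The statement -/

open Cfsg.Agent.Lib.H17.HeCBound in
theorem orderOf_e : orderOf (PresentedGroup.of .e : He') = 2 := by
  apply orderOf_eq_prime
  · rw [pow_two]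
    exact Cfsg.Agent.Lib.H17.HeGlue.of_mul_self _
  · intro h
    have h1 : Cfsg.Agent.Lib.H17.HeSp44.φ (PresentedGroup.of .e) = 1 := by rw [h, map_one]
    rw [Cfsg.Agent.Lib.H17.HeSp44.φ_of] at h1
    have h2 := congrArg (fun p : Equiv.Perm (Fin 2058) => ((p ⟨3, by decide⟩ : Fin 2058) : ℕ)) h1
    change ((Cfsg.Agent.Lib.H17.CosetCert.σ 12 4096 2058 Cfsg.Agent.Lib.H17.HeSp44.tab4
      ⟨3, by decide⟩ : Fin 2058) : ℕ) = 3 at h2
    rw [σ_apply 12 4096 2058 _ good4] at h2
    revert h2
    decide +kernel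

open Cfsg.Agent.Lib.H17.HeCBound in
theorem main (s : Matrix.SpecialLinearGroup (Fin 5) (ZMod 2))
    (hs : (s : Matrix (Fin 5) (Fin 5) (ZMod 2)) = Matrix.transvection 0 1 1) :
    ∃ z : He', orderOf z = 2 ∧ Nonempty (↥(Subgroup.centralizer ({z} : Set He')) ≃*
      ↥(Subgroup.centralizer ({s} : Set (Matrix.SpecialLinearGroup (Fin 5) (ZMod 2))))) := by
  have hst : s = t01 := Subtype.ext hs
  subst hst
  exact ⟨PresentedGroup.of .e, orderOf_e, ⟨equivCz.trans equivCt.symm⟩⟩

end Cfsg.Agent.Lib.H17.HeCMain
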