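import Cfsg.Agent.Lib.H17.CosetCert

set_option autoImplicit false

/-! # Relations from a certified partial coset enumeration over the trivial subgroup

A certified trace (enumeration over the trivial subgroup, the group acting on itself) in which a
word leads from the first node back to the first node shows that the word is trivial. -/

namespace Cfsg.Agent.Lib.H17.RelCert

open Cfsg.Agent.Lib.H17.CosetCert

variable {G Q : Type*} [Group G] [MulAction G Q]

/-- a closed walk at the first node gives a word fixing the base point -/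
theorem act_eq_of_walk (F : ℕ → ℕ × ℕ × ℕ) (ng B : ℕ) (γ : ℕ → G) (hinv : ∀ x, γ x * γ x = 1)
    (q0 : Q) (s cnt : ℕ) (hI : Inv F ng γ q0 s cnt) (n code : ℕ) (w : List ℕ) (code' : ℕ)
    (h : walk F ng B s n code 0 w = some (code', 0, [])) : act γ w q0 = q0 := by
  obtain ⟨-, c, hc0, hfacts⟩ := hI
  obtain ⟨u, hu, hc⟩ := walk_sound F ng B γ hinv c s (fun f hf => (hfacts f hf).2.2) n code 0 w
    code' 0 [] h
  rw [List.append_nil] at hu
  subst hu
  rw [hc0] at hc
  exact hc.symm

/-- a closed walk at the first node, the group acting on itself: the word is trivial -/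
theorem prod_eq_one_of_walk (F : ℕ → ℕ × ℕ × ℕ) (ng B : ℕ) (γ : ℕ → G)
    (hinv : ∀ x, γ x * γ x = 1) (s cnt : ℕ) (hI : Inv F ng γ (1 : G) s cnt) (n code : ℕ)
    (w : List ℕ) (code' : ℕ) (h : walk F ng B s n code 0 w = some (code', 0, [])) :
    (w.map γ).prod = 1 := by
  have h1 := act_eq_of_walk F ng B γ hinv (1 : G) s cnt hI n code w code' h
  rw [act_eq_smul, prod_reverse_of_invol γ hinv, smul_eq_mul, mul_one, inv_eq_one] at h1
  exact h1

end Cfsg.Agent.Lib.H17.RelCert
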