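import Cfsg.Agent.Lib.H17.CosetPerm

set_option autoImplicit false

/-! # Lower bound for the order of a group from a chain of stabilisers

The group `G` acts on `Fin n` through `φ`; the letters are involutory packed tables.  At each
level, words in the letters that fix the base points chosen so far move the next base point to
at least `m` points, so the pointwise stabiliser of the shorter list has at least `m` times as
many elements as that of the longer one. -/

namespace Cfsg.Agent.Lib.H17.Sgs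

open Cfsg.Agent.Lib.H17.CosetCert

variable (wb Wm : ℕ) {G : Type*} [Group G] {n : ℕ} (φ : G →* Equiv.Perm (Fin n))

/-- the pointwise stabiliser of the points of a list -/
def stabL (bs : List ℕ) : Subgroup G where
  carrier := {g | ∀ c ∈ bs, ∀ hc : c < n, φ g ⟨c, hc⟩ = ⟨c, hc⟩}
  one_mem' := by
    intro c _ hc
    simp
  mul_mem' := by
    intro a b ha hb c hcm hc
    rw [map_mul, Equiv.Perm.mul_apply, hb c hcm hc, ha c hcm hc]
  inv_mem' := by
    intro a ha c hcm hc
    rw [map_inv]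
    exact (Equiv.Perm.inv_eq_iff_eq).mpr (ha c hcm hc).symm

theorem mem_stabL (bs : List ℕ) (g : G) :
    g ∈ stabL φ bs ↔ ∀ c ∈ bs, ∀ hc : c < n, φ g ⟨c, hc⟩ = ⟨c, hc⟩ := Iff.rfl

theorem stabL_nil : stabL φ [] = ⊤ := by
  rw [eq_top_iff]
  intro g _ c hc
  exact absurd hc (by simp)

theorem stabL_cons_le (b : ℕ) (bs : List ℕ) : stabL φ (b :: bs) ≤ stabL φ bs := by
  intro g hg c hc
  exact hg c (List.mem_cons_of_mem _ hc)

theorem stabL_cons_fix (b : ℕ) (bs : List ℕ) (hb : b < n) (g : G) (hg : g ∈ stabL φ (b :: bs)) :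
    φ g ⟨b, hb⟩ = ⟨b, hb⟩ := hg b List.mem_cons_self hb

/-- a word in involutory letters which are images under `φ` is an image under `φ` -/
theorem exists_of_word (tabs : List ℕ) (htabs : ∀ t ∈ tabs, ∃ g : G, φ g = σ wb Wm n t)
    (ts : List ℕ) (h : ∀ t ∈ ts, t ∈ tabs) : ∃ s : G, φ s = (ts.map (σ wb Wm n)).prod := by
  induction ts with
  | nil => exact ⟨1, by simp⟩
  | cons t ts ih =>
    obtain ⟨s, hs⟩ := ih (fun t' ht' => h t' (List.mem_cons_of_mem _ ht'))
    obtain ⟨g, hg⟩ := htabs t (h t List.mem_cons_self)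
    exact ⟨g * s, by rw [map_mul, hg, hs, List.map_cons, List.prod_cons]⟩

/-- **One level of the chain.** -/
theorem step [Finite G] (tabs : List ℕ)
    (hgood : ∀ t ∈ tabs, Good wb Wm n t) (htabs : ∀ t ∈ tabs, ∃ g : G, φ g = σ wb Wm n t)
    (bs : List ℕ) (b : ℕ) (hb : b < n) (mask hr : ℕ) (hw : List (List ℕ)) (m : ℕ)
    (hletters : ∀ ts ∈ hw, ∀ t ∈ ts, t ∈ tabs)
    (hfix : ∀ ts ∈ hw, ∀ c ∈ bs, applyT wb Wm ts c = c)
    (hbase : tb mask b = true)
    (hconn : checkOrbConn wb Wm mask hr b hw n = true)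
    (hcount : countBits mask n 0 = m) :
    m * Nat.card (stabL φ (b :: bs)) ≤ Nat.card (stabL φ bs) := by
  classical
  have hcn := checkOrbConn_sound wb Wm mask hr b hw n hconn
  have hgoodw : ∀ ts ∈ hw, ∀ t ∈ ts, Good wb Wm n t :=
    fun ts hts t ht => hgood t (hletters ts hts t ht)
  -- inverse of a word applied to a point
  have hinvapp : ∀ ts ∈ hw, ∀ i : Fin n,
      ((((ts.map (σ wb Wm n)).prod)⁻¹ i : Fin n) : ℕ) = applyT wb Wm ts i := by
    intro ts hts i
    rw [← prod_reverse_of_invol_list _ (by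
      intro g hg'
      obtain ⟨t, -, rfl⟩ := List.mem_map.mp hg'
      exact σ_mul_self wb Wm n t)]
    exact prod_reverse_apply wb Wm n ts (hgoodw ts hts) i
  -- the words lie in the stabiliser
  have hwords : ∀ ts ∈ hw, ∃ s ∈ stabL φ bs, φ s = (ts.map (σ wb Wm n)).prod := by
    intro ts hts
    obtain ⟨s, hs⟩ := exists_of_word wb Wm φ tabs htabs ts (hletters ts hts)
    refine ⟨s, ?_, hs⟩
    intro c hc hcn'
    have h1 : ((((ts.map (σ wb Wm n)).prod)⁻¹ ⟨c, hcn'⟩ : Fin n) : ℕ) = c := by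
      rw [hinvapp ts hts ⟨c, hcn'⟩]
      exact hfix ts hts c hc
    have h2 : ((ts.map (σ wb Wm n)).prod)⁻¹ ⟨c, hcn'⟩ = ⟨c, hcn'⟩ := Fin.ext h1
    rw [hs]
    exact (Equiv.Perm.inv_eq_iff_eq).mp h2 |>.symm
  -- every masked point is reached from the base point
  have key : ∀ r : ℕ, ∀ i : Fin n, tb mask i = true → lk wb Wm hr i = r →
      ∃ g ∈ stabL φ bs, φ g ⟨b, hb⟩ = i := by
    intro r
    induction r using Nat.strong_induction_on with
    | _ r ih =>
      intro i hi hir
      by_cases hip : (i : ℕ) = b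
      · exact ⟨1, one_mem _, by rw [map_one]; exact (Fin.ext hip).symm⟩
      · obtain ⟨ts, hts, hj1, hj2⟩ := hcn i i.2 hi hip
        obtain ⟨s, hs, hφs⟩ := hwords ts hts
        have hj : (((φ s)⁻¹ i : Fin n) : ℕ) = applyT wb Wm ts i := by
          rw [hφs]; exact hinvapp ts hts i
        obtain ⟨h', hh', hh'p⟩ := ih _ (by rw [← hir]; exact hj2) ((φ s)⁻¹ i)
          (by rw [hj]; exact hj1) (by rw [hj])
        refine ⟨s * h', mul_mem hs hh', ?_⟩
        rw [map_mul, Equiv.Perm.mul_apply, hh'p]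
        simp
  -- choose the elements
  let O : Type := {i : Fin n // tb mask i = true}
  have hsel : ∀ i : O, ∃ g : stabL φ bs, φ (g : G) ⟨b, hb⟩ = i.1 := by
    intro i
    obtain ⟨g, hg, hgi⟩ := key _ i.1 i.2 rfl
    exact ⟨⟨g, hg⟩, hgi⟩
  choose gsel hgsel using hsel
  let f : O × stabL φ (b :: bs) → stabL φ bs :=
    fun p => gsel p.1 * ⟨(p.2 : G), stabL_cons_le φ b bs p.2.2⟩
  have hf : Function.Injective f := by
    rintro ⟨i, h⟩ ⟨i', h'⟩ heq
    have heq' : (gsel i : G) * (h : G) = (gsel i' : G) * (h' : G) := by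
      have := congrArg (fun x : stabL φ bs => (x : G)) heq
      simpa [f] using this
    have hi : i = i' := by
      apply Subtype.ext
      have h1 : φ ((gsel i : G) * (h : G)) ⟨b, hb⟩ = i.1 := by
        rw [map_mul, Equiv.Perm.mul_apply, stabL_cons_fix φ b bs hb h h.2, hgsel]
      have h2 : φ ((gsel i' : G) * (h' : G)) ⟨b, hb⟩ = i'.1 := by
        rw [map_mul, Equiv.Perm.mul_apply, stabL_cons_fix φ b bs hb h' h'.2, hgsel]
      rw [← h1, ← h2, heq']
    subst hi
    have : (h : G) = (h' : G) := mul_left_cancel heq'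
    exact Prod.ext rfl (Subtype.ext this)
  have hcard := Nat.card_le_card_of_injective f hf
  rw [Nat.card_prod] at hcard
  have hO : Nat.card O = m := by
    rw [← hcount, ← ncard_mask]
    exact (Nat.card_coe_set_eq {i : Fin n | tb mask i = true})
  rw [hO] at hcard
  exact hcard

/-- a word in involutory letters fixes a point if tracing it does -/
theorem prod_fix_of_apply (ts : List ℕ) (hg : ∀ t ∈ ts, Good wb Wm n t) (c : ℕ) (hc : c < n)
    (h : applyT wb Wm ts c = c) : (ts.map (σ wb Wm n)).prod ⟨c, hc⟩ = ⟨c, hc⟩ := by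
  have h1 : ((ts.map (σ wb Wm n)).reverse.prod) ⟨c, hc⟩ = ⟨c, hc⟩ := by
    apply Fin.ext
    rw [prod_reverse_apply wb Wm n ts hg ⟨c, hc⟩]
    exact h
  rw [prod_reverse_of_invol_list _ (by
    intro g hg'
    obtain ⟨t, -, rfl⟩ := List.mem_map.mp hg'
    exact σ_mul_self wb Wm n t)] at h1
  exact (Equiv.Perm.inv_eq_iff_eq).mp h1 |>.symm

/-- if the pointwise stabiliser of the base is trivial, a word in the letters that fixes the base
is trivial -/
theorem prod_eq_one_of_base (tabs : List ℕ) (hgood : ∀ t ∈ tabs, Good wb Wm n t)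
    (htabs : ∀ t ∈ tabs, ∃ g : G, φ g = σ wb Wm n t)
    (bs : List ℕ) (hstab : stabL φ bs = ⊥)
    (ts : List ℕ) (hts : ∀ t ∈ ts, t ∈ tabs) (h : ∀ c ∈ bs, applyT wb Wm ts c = c) :
    (ts.map (σ wb Wm n)).prod = 1 := by
  obtain ⟨s, hs⟩ := exists_of_word wb Wm φ tabs htabs ts hts
  have hmem : s ∈ stabL φ bs := by
    intro c hc hcn
    rw [hs]
    exact prod_fix_of_apply wb Wm ts (fun t ht => hgood t (hts t ht)) c hcn (h c hc)
  rw [hstab, Subgroup.mem_bot] at hmem
  rw [← hs, hmem, map_one]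

/-- the end of the chain -/
theorem one_le_card [Finite G] (bs : List ℕ) : 1 ≤ Nat.card (stabL φ bs) :=
  Nat.card_pos

theorem card_stabL_nil : Nat.card (stabL φ []) = Nat.card G := by
  rw [stabL_nil]
  exact Subgroup.card_top

end Cfsg.Agent.Lib.H17.Sgs
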