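import Cfsg.Prelude.Def_SporCoxeter

set_option autoImplicit false

/-! # A presentation of the Hall–Janko group

The sub-presentation on the letters `a, …, e` of the presentation of the sporadic Suzuki group:
Coxeter graph a –5– b –3– c –8– d –3– e with the further relations
`a = (c d)^4` and `((b c d c d)^5 e)^3 = 1`. -/

namespace Cfsg.Agent.Lib.H17.J2Pres

/-- The generators a, b, c, d, e. -/
inductive Gen
  | a
  | b
  | c
  | d
  | e
  deriving DecidableEq

/-- the generator a as a word -/ abbrev a : FreeGroup Gen := FreeGroup.of Gen.a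
/-- the generator b as a word -/ abbrev b : FreeGroup Gen := FreeGroup.of Gen.b
/-- the generator c as a word -/ abbrev c : FreeGroup Gen := FreeGroup.of Gen.c
/-- the generator d as a word -/ abbrev d : FreeGroup Gen := FreeGroup.of Gen.d
/-- the generator e as a word -/ abbrev e : FreeGroup Gen := FreeGroup.of Gen.e

/-- The Coxeter graph: the path a5b3c8d3e. -/
def edges : List (Gen × ℕ × Gen) :=
  [(.a, 5, .b), (.b, 3, .c), (.c, 8, .d), (.d, 3, .e)]

/-- The further relators: a = (cd)^4 and 1 = ((bcdcd)^5 e)^3. -/
def extra : List (FreeGroup Gen) := [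
  a * ((c * d) ^ 4)⁻¹,
  ((b * c * d * c * d) ^ 5 * e) ^ 3 ]

/-- The presented group. -/
abbrev Grp : Type := Cfsg.Spor.CoxPresented Gen edges extra

end Cfsg.Agent.Lib.H17.J2Pres
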