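import Mathlib

set_option autoImplicit false

namespace Cfsg.Agent.Lib.H17

open Module

/-- In a finite-dimensional space, any two linearly independent families with the same index
type are related by a linear automorphism. -/
theorem exists_linearEquiv_of_linearIndependent {K V ι : Type*} [Field K] [AddCommGroup V]
    [Module K V] [FiniteDimensional K V]
    (u w : ι → V) (hu : LinearIndependent K u) (hw : LinearIndependent K w) :
    ∃ g : V ≃ₗ[K] V, ∀ i, g (u i) = w i := by
  let bu := Basis.span hu
  let bw := Basis.span hw
  let f := bu.equiv bw (Equiv.refl ι)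
  obtain ⟨g, hg⟩ := Submodule.exists_linearEquiv_restrict_eq f
  refine ⟨g, fun i => ?_⟩
  have h1 := hg (bu i)
  have h2 : ((bu i : Submodule.span K (Set.range u)) : V) = u i := congrArg Subtype.val (Basis.span_apply hu i)
  have h3 : f (bu i) = bw i := by simp [f]
  have h4 : ((bw i : Submodule.span K (Set.range w)) : V) = w i := congrArg Subtype.val (Basis.span_apply hw i)
  rw [h2] at h1
  rw [← h1, h3, h4]

/-- a nonzero vector can be moved to any nonzero vector. -/
theorem exists_linearEquiv_apply_eq {K V : Type*} [Field K] [AddCommGroup V]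
    [Module K V] [FiniteDimensional K V] (u w : V) (hu : u ≠ 0) (hw : w ≠ 0) :
    ∃ g : V ≃ₗ[K] V, g u = w := by
  obtain ⟨g, hg⟩ := exists_linearEquiv_of_linearIndependent (K := K) (ι := Unit)
    (fun _ => u) (fun _ => w)
    (linearIndependent_unique_iff.mpr hu) (linearIndependent_unique_iff.mpr hw)
  exact ⟨g, hg ()⟩

/-- a linearly independent pair can be moved to any linearly independent pair. -/
theorem exists_linearEquiv_pair {K V : Type*} [Field K] [AddCommGroup V]
    [Module K V] [FiniteDimensional K V] (u₁ u₂ w₁ w₂ : V)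
    (hu : LinearIndependent K ![u₁, u₂]) (hw : LinearIndependent K ![w₁, w₂]) :
    ∃ g : V ≃ₗ[K] V, g u₁ = w₁ ∧ g u₂ = w₂ := by
  obtain ⟨g, hg⟩ := exists_linearEquiv_of_linearIndependent _ _ hu hw
  exact ⟨g, by simpa using hg 0, by simpa using hg 1⟩

end Cfsg.Agent.Lib.H17
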