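import Mathlib

set_option autoImplicit false

namespace Cfsg.Agent.Lib.H17

/-- A map that agrees on every triple of points with some affine map is affine
(characteristic not two). -/
theorem linear_of_locally_affine {K V : Type*} [Field K] [AddCommGroup V] [Module K V]
    (h2 : (2 : K) ≠ 0) (σ : V → V)
    (hσ : ∀ x y z : V, ∃ (A : V →ₗ[K] V) (b : V),
      σ x = A x + b ∧ σ y = A y + b ∧ σ z = A z + b) :
    ∃ A : V →ₗ[K] V, ∀ x, σ x = A x + σ 0 := by
  have hsmul : ∀ (a : K) (x : V), σ (a • x) - σ 0 = a • (σ x - σ 0) := by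
    intro a x
    obtain ⟨A, b, h0, hx, hax⟩ := hσ 0 x (a • x)
    rw [map_zero, zero_add] at h0
    rw [hax, hx, h0, map_smul]
    simp
  have hmid : ∀ x y : V, σ ((2 : K)⁻¹ • (x + y)) = (2 : K)⁻¹ • (σ x + σ y) := by
    intro x y
    obtain ⟨A, b, hx, hy, hm⟩ := hσ x y ((2 : K)⁻¹ • (x + y))
    rw [hm, hx, hy, map_smul, map_add]
    have hb : b = (2 : K)⁻¹ • (b + b) := by
      rw [← two_smul K b, smul_smul, inv_mul_cancel₀ h2, one_smul]
    conv_lhs => rw [hb]
    rw [← smul_add]
    congr 1
    abel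
  have hadd : ∀ x y, σ (x + y) - σ 0 = (σ x - σ 0) + (σ y - σ 0) := by
    intro x y
    have h1 := hsmul (2 : K)⁻¹ (x + y)
    rw [hmid] at h1
    have h3 := congrArg (fun v => (2 : K) • v) h1
    simp only [smul_sub, smul_smul, mul_inv_cancel₀ h2, one_smul] at h3
    rw [two_smul] at h3
    rw [← h3]
    abel
  refine ⟨{ toFun := fun x => σ x - σ 0, map_add' := hadd, map_smul' := ?_ }, fun x => ?_⟩
  · intro a x
    simpa using hsmul a x
  · simp

/-- Version for permutations: a permutation locally affine on triples is affine with a linear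
automorphism as linear part. -/
theorem linearEquiv_of_locally_affine {K V : Type*} [Field K] [AddCommGroup V] [Module K V]
    (h2 : (2 : K) ≠ 0) (σ : Equiv.Perm V)
    (hσ : ∀ x y z : V, ∃ (A : V →ₗ[K] V) (b : V),
      σ x = A x + b ∧ σ y = A y + b ∧ σ z = A z + b) :
    ∃ A : V ≃ₗ[K] V, ∀ x, σ x = A x + σ 0 := by
  obtain ⟨A, hA⟩ := linear_of_locally_affine h2 σ hσ
  have hinj : Function.Injective A := by
    intro x y hxy
    apply σ.injective
    rw [hA x, hA y, hxy]
  have hsurj : Function.Surjective A := by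
    intro y
    refine ⟨σ.symm (y + σ 0), ?_⟩
    have := hA (σ.symm (y + σ 0))
    rw [Equiv.apply_symm_apply] at this
    exact (add_right_cancel this).symm
  have hbij : Function.Bijective A := ⟨hinj, hsurj⟩
  refine ⟨LinearEquiv.ofBijective A hbij, fun x => ?_⟩
  rw [LinearEquiv.ofBijective_apply]
  exact hA x

end Cfsg.Agent.Lib.H17
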