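import Mathlib
import Cfsg.Agent.Lib.H1.M11U.Defs

/-!
# S0420, piece ACT (cores): the action of a simple group of order 7920 on the eleven conjugates of a
10-clique of Sylow 3-subgroups is sharply 4-transitive; the stabiliser of such a clique has order 720.

Earlier pieces of the blueprint enter as explicit hypotheses (`tools/blueprints/S0420_sigs.lean`);
the exact-signature wrappers are in `Lib/H17/M11ACTw.lean`.
-/

set_option autoImplicit false
set_option linter.unusedSectionVars false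
open scoped Pointwise

universe u

namespace Cfsg.Agent.Lib.H17.M11U

open Cfsg.Agent.Lib.H1.M11U

/-- a free action of a finite group on a set of the same cardinality is transitive -/
theorem isPretransitive_of_free_of_card {G X : Type*} [Group G] [Finite G] [MulAction G X]
    [Finite X] [Nonempty X]
    (hfree : ∀ x : X, MulAction.stabilizer G x = ⊥) (hcard : Nat.card X = Nat.card G) :
    MulAction.IsPretransitive G X := by
  classical
  obtain ⟨x₀⟩ := ‹Nonempty X›
  have hinj : Function.Injective (fun g : G => g • x₀) := by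
    intro g g' hgg'
    have hgg'' : g • x₀ = g' • x₀ := hgg'
    have : g'⁻¹ * g ∈ MulAction.stabilizer G x₀ := by
      rw [MulAction.mem_stabilizer_iff, mul_smul, hgg'', inv_smul_smul]
    rw [hfree x₀, Subgroup.mem_bot] at this
    exact (inv_mul_eq_one.1 this).symm
  have hsurj : Function.Surjective (fun g : G => g • x₀) :=
    (Function.Injective.bijective_of_nat_card_le hinj (le_of_eq hcard)).2
  refine ⟨fun x y => ?_⟩
  obtain ⟨a, ha⟩ := hsurj x
  obtain ⟨b, hb⟩ := hsurj y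
  refine ⟨b * a⁻¹, ?_⟩
  rw [← ha, ← hb]
  simp [mul_smul]

variable {G : Type u} [Group G] [Finite G]

theorem mem_smul_sylow_iff {g u : G} {P : Sylow 3 G} :
    u ∈ ((g • P : Sylow 3 G) : Subgroup G) ↔ g⁻¹ * u * g ∈ (P : Subgroup G) := by
  rw [Sylow.coe_subgroup_smul, Subgroup.mem_pointwise_smul_iff_inv_smul_mem]
  simp [MulAut.smul_def]

theorem smul_eq_of_mem {u : G} {P : Sylow 3 G} (hu : u ∈ (P : Subgroup G)) : u • P = P :=
  Sylow.smul_eq_iff_mem_normalizer.2 (Subgroup.le_normalizer hu)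

/-- a clique of 10 Sylow 3-subgroups stabilised by each of its members -/
def Good (D : Set (Sylow 3 G)) : Prop :=
  D.ncard = 10 ∧ (∀ x ∈ D, ∀ y ∈ D, x ≠ y → Adj x y) ∧
    ∀ x ∈ D, ∀ u ∈ (x : Subgroup G), ∀ y ∈ D, u • y ∈ D

theorem good_smul (hadjsmul : ∀ (g : G) {P P' : Sylow 3 G}, Adj (g • P) (g • P') ↔ Adj P P')
    (g : G) {D : Set (Sylow 3 G)} (hD : Good D) : Good (g • D) := by
  obtain ⟨h10, hcl, hst⟩ := hD
  refine ⟨by rw [Set.ncard_smul_set, h10], ?_, ?_⟩
  · rintro x ⟨x₀, hx₀, rfl⟩ y ⟨y₀, hy₀, rfl⟩ hne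
    exact (hadjsmul g).2 (hcl x₀ hx₀ y₀ hy₀ fun e => hne (by simp [e]))
  · rintro x ⟨x₀, hx₀, rfl⟩ u hu y ⟨y₀, hy₀, rfl⟩
    have hu' : g⁻¹ * u * g ∈ (x₀ : Subgroup G) := mem_smul_sylow_iff.1 hu
    refine ⟨(g⁻¹ * u * g) • y₀, hst x₀ hx₀ _ hu' y₀ hy₀, ?_⟩
    simp only [smul_smul]
    congr 1
    group


/-- (L1) a good clique is a point together with the orbit of any other of its points under that point -/
theorem good_eq_insert_orb (h9 : ∀ P : Sylow 3 G, Nat.card (P : Subgroup G) = 9)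
    (hsemi : ∀ {P P' : Sylow 3 G}, P' ≠ P → ∀ {u : G}, u ∈ (P : Subgroup G) → u ≠ 1 → u • P' ≠ P')
    {D : Set (Sylow 3 G)} (hD : Good D) {x y : Sylow 3 G} (hx : x ∈ D) (hy : y ∈ D) (hne : y ≠ x) :
    D = insert x (orb x y) := by
  obtain ⟨h10, hcl, hst⟩ := hD
  have horb : orb x y = Set.range (fun u : (x : Subgroup G) => (u : G) • y) := by
    ext z; constructor
    · rintro ⟨u, hu, rfl⟩; exact ⟨⟨u, hu⟩, rfl⟩
    · rintro ⟨⟨u, hu⟩, rfl⟩; exact ⟨u, hu, rfl⟩
  have hinj : Function.Injective (fun u : (x : Subgroup G) => (u : G) • y) := by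
    intro u u' huu'
    have huu'' : (u : G) • y = (u' : G) • y := huu'
    by_contra hne'
    have h1 : ((u' : G)⁻¹ * (u : G)) ≠ 1 := by
      intro e; apply hne'; apply Subtype.ext; exact (inv_mul_eq_one.1 e).symm
    have h2 : ((u' : G)⁻¹ * (u : G)) ∈ (x : Subgroup G) :=
      Subgroup.mul_mem _ (Subgroup.inv_mem _ u'.2) u.2
    exact hsemi hne h2 h1 (by rw [mul_smul, huu'', inv_smul_smul])
  have hcard : (orb x y).ncard = 9 := by
    rw [horb, ← Nat.card_coe_set_eq, Nat.card_range_of_injective hinj, h9]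
  have hxn : x ∉ orb x y := by
    rintro ⟨u, hu, hux⟩
    apply hne
    have : y = u⁻¹ • x := by rw [← hux, inv_smul_smul]
    rw [this, smul_eq_of_mem (Subgroup.inv_mem _ hu)]
  symm
  refine Set.eq_of_subset_of_ncard_le ?_ ?_ (Set.toFinite D)
  · intro z hz
    rcases hz with rfl | ⟨u, hu, rfl⟩
    · exact hx
    · exact hst x hx u hu y hy
  · rw [Set.ncard_insert_of_notMem hxn, hcard, h10]

/-- (L2) two good cliques sharing two points are equal -/
theorem good_eq_of_two (h9 : ∀ P : Sylow 3 G, Nat.card (P : Subgroup G) = 9)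
    (hsemi : ∀ {P P' : Sylow 3 G}, P' ≠ P → ∀ {u : G}, u ∈ (P : Subgroup G) → u ≠ 1 → u • P' ≠ P')
    {D₁ D₂ : Set (Sylow 3 G)} (h1 : Good D₁) (h2 : Good D₂) {x y : Sylow 3 G}
    (hx1 : x ∈ D₁) (hy1 : y ∈ D₁) (hx2 : x ∈ D₂) (hy2 : y ∈ D₂) (hne : y ≠ x) : D₁ = D₂ := by
  rw [good_eq_insert_orb h9 hsemi h1 hx1 hy1 hne, good_eq_insert_orb h9 hsemi h2 hx2 hy2 hne]

/-- (L3) no point lies on three good cliques -/
theorem not_three_good (h9 : ∀ P : Sylow 3 G, Nat.card (P : Subgroup G) = 9)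
    (hsemi : ∀ {P P' : Sylow 3 G}, P' ≠ P → ∀ {u : G}, u ∈ (P : Subgroup G) → u ≠ 1 → u • P' ≠ P')
    (h18 : ∀ P : Sylow 3 G, Nat.card {P' : Sylow 3 G // Adj P P'} = 18)
    {D₁ D₂ D₃ : Set (Sylow 3 G)} (h1 : Good D₁) (h2 : Good D₂) (h3 : Good D₃)
    (h12 : D₁ ≠ D₂) (h13 : D₁ ≠ D₃) (h23 : D₂ ≠ D₃) {x : Sylow 3 G}
    (hx1 : x ∈ D₁) (hx2 : x ∈ D₂) (hx3 : x ∈ D₃) : False := by
  have hNbcard : ({P' | Adj x P'} : Set (Sylow 3 G)).ncard = 18 := by
    rw [← Nat.card_coe_set_eq]; exact h18 x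
  have hsub : ∀ D : Set (Sylow 3 G), Good D → x ∈ D → D \ {x} ⊆ {P' | Adj x P'} := by
    intro D hD hxD z hz
    exact hD.2.1 x hxD z hz.1 (fun e => hz.2 (by simp [e]))
  have hc : ∀ D : Set (Sylow 3 G), Good D → x ∈ D → (D \ {x}).ncard = 9 := by
    intro D hD hxD
    rw [Set.ncard_sdiff_singleton_of_mem hxD, hD.1]
  have hdisj : ∀ D D' : Set (Sylow 3 G), Good D → Good D' → D ≠ D' → x ∈ D → x ∈ D' →
      Disjoint (D \ {x}) (D' \ {x}) := by
    intro D D' hD hD' hne hxD hxD'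
    rw [Set.disjoint_left]
    intro z hz hz'
    exact hne (good_eq_of_two h9 hsemi hD hD' hxD hz.1 hxD' hz'.1 (fun e => hz.2 (by simp [e])))
  have hu : ((D₁ \ {x}) ∪ (D₂ \ {x}) ∪ (D₃ \ {x})).ncard = 27 := by
    rw [Set.ncard_union_eq
      (Set.disjoint_union_left.2 ⟨hdisj _ _ h1 h3 h13 hx1 hx3, hdisj _ _ h2 h3 h23 hx2 hx3⟩),
      Set.ncard_union_eq (hdisj _ _ h1 h2 h12 hx1 hx2), hc _ h1 hx1, hc _ h2 hx2, hc _ h3 hx3]
  have hle : ((D₁ \ {x}) ∪ (D₂ \ {x}) ∪ (D₃ \ {x})).ncard ≤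
      ({P' | Adj x P'} : Set (Sylow 3 G)).ncard :=
    Set.ncard_le_ncard (Set.union_subset (Set.union_subset (hsub _ h1 hx1) (hsub _ h2 hx2))
      (hsub _ h3 hx3))
  omega


/-- (L4) every point lies on exactly two of the eleven good cliques -/
theorem two_good_through (h9 : ∀ P : Sylow 3 G, Nat.card (P : Subgroup G) = 9)
    (hsemi : ∀ {P P' : Sylow 3 G}, P' ≠ P → ∀ {u : G}, u ∈ (P : Subgroup G) → u ≠ 1 → u • P' ≠ P')
    (h18 : ∀ P : Sylow 3 G, Nat.card {P' : Sylow 3 G // Adj P P'} = 18)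
    (h55 : Nat.card (Sylow 3 G) = 55)
    [DecidableEq (Set (Sylow 3 G))] [∀ (x : Sylow 3 G) (D : Set (Sylow 3 G)), Decidable (x ∈ D)]
    (𝓒 : Finset (Set (Sylow 3 G))) (hgood : ∀ D ∈ 𝓒, Good D) (h11 : 𝓒.card = 11)
    (x : Sylow 3 G) : (𝓒.filter (fun D => x ∈ D)).card = 2 := by
  classical
  have : Fintype (Sylow 3 G) := Fintype.ofFinite _
  have hle : ∀ x : Sylow 3 G, (𝓒.filter (fun D => x ∈ D)).card ≤ 2 := by
    intro x
    by_contra hlt
    push Not at hlt
    obtain ⟨D₁, h1, D₂, h2, D₃, h3, h12, h13, h23⟩ := Finset.two_lt_card.1 hlt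
    rw [Finset.mem_filter] at h1 h2 h3
    exact not_three_good h9 hsemi h18 (hgood _ h1.1) (hgood _ h2.1) (hgood _ h3.1) h12 h13 h23
      h1.2 h2.2 h3.2
  have hsum : ∑ x : Sylow 3 G, (𝓒.filter (fun D => x ∈ D)).card = 110 := by
    simp_rw [Finset.card_filter]
    rw [Finset.sum_comm]
    have : ∀ D ∈ 𝓒, (∑ x : Sylow 3 G, if x ∈ D then 1 else 0) = 10 := by
      intro D hD
      rw [← Finset.card_filter, ← (hgood D hD).1, Set.ncard_eq_toFinset_card',
        Set.filter_mem_univ_eq_toFinset]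
    rw [Finset.sum_congr rfl this, Finset.sum_const, h11]
    rfl
  have h2 : ∀ x ∈ (Finset.univ : Finset (Sylow 3 G)), (𝓒.filter (fun D => x ∈ D)).card = 2 := by
    rw [← Finset.sum_eq_sum_iff_of_le (fun x _ => hle x)]
    rw [hsum, Finset.sum_const, Finset.card_univ, ← Nat.card_eq_fintype_card, h55]
    rfl
  exact h2 x (Finset.mem_univ x)

/-- (L5) two distinct good cliques among the eleven meet -/
theorem good_meet (h9 : ∀ P : Sylow 3 G, Nat.card (P : Subgroup G) = 9)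
    (hsemi : ∀ {P P' : Sylow 3 G}, P' ≠ P → ∀ {u : G}, u ∈ (P : Subgroup G) → u ≠ 1 → u • P' ≠ P')
    (h18 : ∀ P : Sylow 3 G, Nat.card {P' : Sylow 3 G // Adj P P'} = 18)
    (h55 : Nat.card (Sylow 3 G) = 55)
    [DecidableEq (Set (Sylow 3 G))] [∀ (x : Sylow 3 G) (D : Set (Sylow 3 G)), Decidable (x ∈ D)]
    (𝓒 : Finset (Set (Sylow 3 G))) (hgood : ∀ D ∈ 𝓒, Good D) (h11 : 𝓒.card = 11)
    {D₁ D₂ : Set (Sylow 3 G)} (h1 : D₁ ∈ 𝓒) (h2 : D₂ ∈ 𝓒) (hne : D₁ ≠ D₂) :
    ∃ x, x ∈ D₁ ∧ x ∈ D₂ := by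
  classical
  have : Fintype (Sylow 3 G) := Fintype.ofFinite _
  by_contra hno
  push Not at hno
  have h2' : D₂ ∈ 𝓒.erase D₁ := Finset.mem_erase.2 ⟨hne.symm, h2⟩
  have hT : ((𝓒.erase D₁).erase D₂).card = 9 := by
    rw [Finset.card_erase_of_mem h2', Finset.card_erase_of_mem h1, h11]
  have hex : ∀ x : Sylow 3 G, ∃ D' : Set (Sylow 3 G),
      x ∈ D₁ → D' ∈ (𝓒.erase D₁).erase D₂ ∧ x ∈ D' := by
    intro x
    by_cases hx : x ∈ D₁
    · have hc := two_good_through h9 hsemi h18 h55 𝓒 hgood h11 x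
      obtain ⟨D', hD', hne'⟩ := Finset.exists_mem_ne (by rw [hc]; norm_num) D₁
      rw [Finset.mem_filter] at hD'
      refine ⟨D', fun _ => ⟨?_, hD'.2⟩⟩
      rw [Finset.mem_erase, Finset.mem_erase]
      refine ⟨?_, hne', hD'.1⟩
      rintro rfl
      exact hno x hx hD'.2
    · exact ⟨D₁, fun hx' => absurd hx' hx⟩
  choose f hf using hex
  have hD₁card : D₁.toFinset.card = 10 := by
    rw [← Set.ncard_eq_toFinset_card', (hgood D₁ h1).1]
  obtain ⟨x, hx, y, hy, hxy, hfxy⟩ :=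
    Finset.exists_ne_map_eq_of_card_lt_of_maps_to (s := D₁.toFinset)
      (t := (𝓒.erase D₁).erase D₂) (f := f) (by rw [hT, hD₁card]; norm_num)
      (fun a ha => (hf a (Set.mem_toFinset.1 ha)).1)
  rw [Set.mem_toFinset] at hx hy
  have hfx := hf x hx
  have hfy := hf y hy
  rw [← hfxy] at hfy
  have hmem : f x ∈ 𝓒 := Finset.mem_of_mem_erase (Finset.mem_of_mem_erase hfx.1)
  have hneq : f x ≠ D₁ := (Finset.mem_erase.1 (Finset.mem_of_mem_erase hfx.1)).1
  exact hneq (good_eq_of_two h9 hsemi (hgood _ hmem) (hgood _ h1) hfx.2 hfy.2 hx hy hxy.symm)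


/-- (ACT, core) the action on the eleven conjugates of a good clique is sharply 4-transitive -/
theorem act_core (hcardG : Nat.card G = 7920)
    (h9 : ∀ P : Sylow 3 G, Nat.card (P : Subgroup G) = 9)
    (hsemi : ∀ {P P' : Sylow 3 G}, P' ≠ P → ∀ {u : G}, u ∈ (P : Subgroup G) → u ≠ 1 → u • P' ≠ P')
    (h18 : ∀ P : Sylow 3 G, Nat.card {P' : Sylow 3 G // Adj P P'} = 18)
    (h55 : Nat.card (Sylow 3 G) = 55)
    (hadjsmul : ∀ (g : G) {P P' : Sylow 3 G}, Adj (g • P) (g • P') ↔ Adj P P')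
    (hclique : ∃ C : Set (Sylow 3 G), Good C)
    (hstab : ∀ C : Set (Sylow 3 G), Good C → Nat.card (MulAction.stabilizer G C) = 720)
    (hfix3 : ∀ {x y : Sylow 3 G}, Adj x y → ∀ {u : G}, u ∈ (x : Subgroup G) → u ≠ 1 →
      ∀ {g : G}, g • x = x → g • y = y → g • (u • y) = u • y → g = 1) :
    ∃ (α : Type u) (_ : Fintype α) (_ : DecidableEq α) (_ : MulAction G α), Fintype.card α = 11 ∧
      MulAction.IsMultiplyPretransitive G α 4 ∧ ∀ x : Fin 4 ↪ α, MulAction.stabilizer G x = ⊥ := by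
  classical
  obtain ⟨C, hC⟩ := hclique
  have hgoodorb : ∀ D ∈ MulAction.orbit G C, Good D := by
    rintro D ⟨g, rfl⟩
    exact good_smul hadjsmul g hC
  have hcardorb : Nat.card (MulAction.orbit G C) = 11 := by
    have h1 := MulAction.index_stabilizer G C
    have h2 := Subgroup.card_mul_index (MulAction.stabilizer G C)
    rw [hstab C hC, hcardG, h1] at h2
    rw [Nat.card_coe_set_eq]
    omega
  let _ft : Fintype (MulAction.orbit G C) := Fintype.ofFinite _
  have : Fintype (Sylow 3 G) := Fintype.ofFinite _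
  have hfree : ∀ x : Fin 4 ↪ MulAction.orbit G C, MulAction.stabilizer G x = ⊥ := by
    intro x
    rw [Subgroup.eq_bot_iff_forall]
    intro g hg
    rw [MulAction.mem_stabilizer_iff] at hg
    have hfixD : ∀ i, g • ((x i : MulAction.orbit G C) : Set (Sylow 3 G)) = (x i : Set _) := by
      intro i
      have := congrArg (fun f : Fin 4 ↪ MulAction.orbit G C =>
        ((f i : MulAction.orbit G C) : Set (Sylow 3 G))) hg
      simpa [Function.Embedding.smul_apply, MulAction.orbit.coe_smul] using this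
    have hD : ∀ i, Good ((x i : MulAction.orbit G C) : Set (Sylow 3 G)) :=
      fun i => hgoodorb _ (x i).2
    have hDne : ∀ i j, i ≠ j →
        ((x i : MulAction.orbit G C) : Set (Sylow 3 G)) ≠ (x j : Set _) := by
      intro i j hij e
      exact hij (x.injective (Subtype.ext e))
    have h𝓒good : ∀ D ∈ (MulAction.orbit G C).toFinset, Good D :=
      fun D hD => hgoodorb D (Set.mem_toFinset.1 hD)
    have h𝓒card : (MulAction.orbit G C).toFinset.card = 11 := by
      rw [← hcardorb, Nat.card_coe_set_eq, Set.ncard_eq_toFinset_card']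
    have hmem : ∀ i, ((x i : MulAction.orbit G C) : Set (Sylow 3 G)) ∈
        (MulAction.orbit G C).toFinset := fun i => Set.mem_toFinset.2 (x i).2
    obtain ⟨p₁, hp₁0, hp₁1⟩ := good_meet h9 hsemi h18 h55 _ h𝓒good h𝓒card (hmem 0) (hmem 1)
      (hDne 0 1 (by decide))
    obtain ⟨p₂, hp₂0, hp₂2⟩ := good_meet h9 hsemi h18 h55 _ h𝓒good h𝓒card (hmem 0) (hmem 2)
      (hDne 0 2 (by decide))
    obtain ⟨p₃, hp₃0, hp₃3⟩ := good_meet h9 hsemi h18 h55 _ h𝓒good h𝓒card (hmem 0) (hmem 3)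
      (hDne 0 3 (by decide))
    have h12 : p₁ ≠ p₂ := by
      rintro rfl
      exact not_three_good h9 hsemi h18 (hD 0) (hD 1) (hD 2) (hDne 0 1 (by decide))
        (hDne 0 2 (by decide)) (hDne 1 2 (by decide)) hp₁0 hp₁1 hp₂2
    have h13 : p₁ ≠ p₃ := by
      rintro rfl
      exact not_three_good h9 hsemi h18 (hD 0) (hD 1) (hD 3) (hDne 0 1 (by decide))
        (hDne 0 3 (by decide)) (hDne 1 3 (by decide)) hp₁0 hp₁1 hp₃3
    have h23 : p₂ ≠ p₃ := by
      rintro rfl
      exact not_three_good h9 hsemi h18 (hD 0) (hD 2) (hD 3) (hDne 0 2 (by decide))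
        (hDne 0 3 (by decide)) (hDne 2 3 (by decide)) hp₂0 hp₂2 hp₃3
    have hfixp : ∀ (j : Fin 4) (p : Sylow 3 G), j ≠ 0 →
        p ∈ ((x 0 : MulAction.orbit G C) : Set (Sylow 3 G)) →
        p ∈ ((x j : MulAction.orbit G C) : Set (Sylow 3 G)) → g • p = p := by
      intro j p hj hp0 hpj
      by_contra hne
      have h0 : g • p ∈ ((x 0 : MulAction.orbit G C) : Set (Sylow 3 G)) := by
        rw [← hfixD 0]; exact Set.smul_mem_smul_set hp0
      have hj' : g • p ∈ ((x j : MulAction.orbit G C) : Set (Sylow 3 G)) := by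
        rw [← hfixD j]; exact Set.smul_mem_smul_set hpj
      exact hDne 0 j hj.symm (good_eq_of_two h9 hsemi (hD 0) (hD j) hp0 h0 hpj hj' hne)
    have hg1 := hfixp 1 p₁ (by decide) hp₁0 hp₁1
    have hg2 := hfixp 2 p₂ (by decide) hp₂0 hp₂2
    have hg3 := hfixp 3 p₃ (by decide) hp₃0 hp₃3
    have heq := good_eq_insert_orb h9 hsemi (hD 0) hp₁0 hp₂0 h12.symm
    have hp₃ : p₃ ∈ insert p₁ (orb p₁ p₂) := heq ▸ hp₃0
    rcases hp₃ with e | ⟨u, hu, hup⟩
    · exact absurd e h13.symm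
    · have hu1 : u ≠ 1 := by
        rintro rfl
        rw [one_smul] at hup
        exact h23 hup
      have hadj : Adj p₁ p₂ := (hD 0).2.1 p₁ hp₁0 p₂ hp₂0 h12
      exact hfix3 hadj hu hu1 hg1 hg2 (by rw [hup]; exact hg3)
  refine ⟨MulAction.orbit G C, _ft, inferInstance, inferInstance, ?_, ?_, hfree⟩
  · rw [← Nat.card_eq_fintype_card, hcardorb]
  · have hne : Nonempty (Fin 4 ↪ MulAction.orbit G C) :=
      Function.Embedding.nonempty_of_card_le (by
        rw [Fintype.card_fin, ← Nat.card_eq_fintype_card, hcardorb]; norm_num)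
    apply isPretransitive_of_free_of_card hfree
    rw [Nat.card_eq_fintype_card, Fintype.card_embedding_eq, Fintype.card_fin,
      ← Nat.card_eq_fintype_card, hcardorb, hcardG]
    rfl


/-- orbit-stabiliser for a subgroup acting through the ambient group -/
theorem card_eq_orbit_mul {G' Ω : Type*} [Group G'] [MulAction G' Ω] [Finite G']
    (K : Subgroup G') (x : Ω) :
    Nat.card K = (MulAction.orbit K x).ncard * Nat.card ↥(K ⊓ MulAction.stabilizer G' x) := by
  have h1 := MulAction.index_stabilizer K x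
  have h2 := Subgroup.card_mul_index (MulAction.stabilizer K x)
  have h3 : Nat.card (MulAction.stabilizer K x) = Nat.card ↥(K ⊓ MulAction.stabilizer G' x) := by
    refine Nat.card_congr ⟨fun k => ⟨(k.1 : G'), ⟨k.1.2, ?_⟩⟩, fun g => ⟨⟨g.1, g.2.1⟩, ?_⟩,
      fun k => rfl, fun g => rfl⟩
    · have := k.2
      rw [MulAction.mem_stabilizer_iff] at this
      change ((k.1 : K) : G') • x = x
      exact this
    · have := g.2.2
      change (g.1 : G') • x = x at this
      rw [MulAction.mem_stabilizer_iff]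
      exact this
  rw [← h2, h1, h3, mul_comm]

/-- (ACT1, core) the stabiliser of a good clique has order `10 * 9 * 8` -/
theorem card_stabilizer_core
    (h9 : ∀ P : Sylow 3 G, Nat.card (P : Subgroup G) = 9)
    (hsemi : ∀ {P P' : Sylow 3 G}, P' ≠ P → ∀ {u : G}, u ∈ (P : Subgroup G) → u ≠ 1 → u • P' ≠ P')
    (hnrm : ∀ (g : G) (P : Sylow 3 G), g • P = P ↔ g ∈ Nrm P)
    {C : Set (Sylow 3 G)} (hC : Good C) : Nat.card (MulAction.stabilizer G C) = 720 := by
  obtain ⟨h10, hcl, hst⟩ := id hC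
  -- a set mapped into itself is fixed
  have hstabof : ∀ g : G, (∀ y ∈ C, g • y ∈ C) → g ∈ MulAction.stabilizer G C := by
    intro g hg
    rw [MulAction.mem_stabilizer_iff]
    refine Set.eq_of_subset_of_ncard_le ?_ ?_ (Set.toFinite C)
    · rintro _ ⟨y, hy, rfl⟩; exact hg y hy
    · rw [Set.ncard_smul_set]
  have hmemH : ∀ w ∈ C, ∀ u ∈ (w : Subgroup G), u ∈ MulAction.stabilizer G C :=
    fun w hw u hu => hstabof u (hst w hw u hu)
  have hHmem : ∀ g ∈ MulAction.stabilizer G C, ∀ y ∈ C, g • y ∈ C := by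
    intro g hg y hy
    rw [MulAction.mem_stabilizer_iff] at hg
    rw [← hg]
    exact Set.smul_mem_smul_set hy
  obtain ⟨x, y₀, hx, hy₀, hxy⟩ := (Set.one_lt_ncard_iff (Set.toFinite C)).1 (by rw [h10]; norm_num)
  -- step 1: the stabiliser is transitive on `C`
  have horb1 : (MulAction.orbit (MulAction.stabilizer G C) x) = C := by
    ext z
    constructor
    · rintro ⟨k, rfl⟩
      exact hHmem k.1 k.2 x hx
    · intro hz
      by_cases hzx : z = x
      · rw [hzx]; exact MulAction.mem_orbit_self x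
      · obtain ⟨w, hwC, hw⟩ := Set.exists_mem_notMem_of_ncard_lt_ncard
          (s := ({x, z} : Set (Sylow 3 G))) (t := C)
          (by rw [Set.ncard_pair (Ne.symm hzx), h10]; norm_num) (Set.toFinite _)
        have hwx : x ≠ w := fun e => hw (by simp [e])
        have hwz : z ≠ w := fun e => hw (by simp [e])
        have heq := good_eq_insert_orb h9 hsemi hC hwC hx hwx
        have hz' : z ∈ insert w (orb w x) := heq ▸ hz
        rcases hz' with e | ⟨u, hu, huz⟩
        · exact absurd e hwz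
        · exact ⟨⟨u, hmemH w hwC u hu⟩, huz⟩
  -- step 2: the stabiliser of `x` in it is transitive on `C \ {x}`
  have horb2 : (MulAction.orbit
      ↥(MulAction.stabilizer G C ⊓ MulAction.stabilizer G x) y₀) = orb x y₀ := by
    have heq := good_eq_insert_orb h9 hsemi hC hx hy₀ (Ne.symm hxy)
    ext z
    constructor
    · rintro ⟨k, rfl⟩
      have hk1 : (k : G) • y₀ ∈ C := hHmem k.1 k.2.1 y₀ hy₀
      have hk2 : (k : G) • x = x := MulAction.mem_stabilizer_iff.1 k.2.2
      have hk1' : (k : G) • y₀ ∈ insert x (orb x y₀) := heq ▸ hk1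
      rcases hk1' with e | hmem
      · exfalso
        apply hxy
        have : (k : G) • y₀ = (k : G) • x := by rw [e, hk2]
        exact (MulAction.injective (k : G) this).symm
      · exact hmem
    · rintro ⟨u, hu, rfl⟩
      exact ⟨⟨u, hmemH x hx u hu, MulAction.mem_stabilizer_iff.2 (smul_eq_of_mem hu)⟩, rfl⟩
  have hcard2 : (orb x y₀).ncard = 9 := by
    have heq := good_eq_insert_orb h9 hsemi hC hx hy₀ (Ne.symm hxy)
    have hxn : x ∉ orb x y₀ := by
      rintro ⟨u, hu, hux⟩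
      apply hxy
      have : y₀ = u⁻¹ • x := by rw [← hux, inv_smul_smul]
      rw [this, smul_eq_of_mem (Subgroup.inv_mem _ hu)]
    have := h10
    rw [heq, Set.ncard_insert_of_notMem hxn] at this
    omega
  -- step 3: the two-point stabiliser lies in the stabiliser of `C` and has order 8
  have hstab_eq : ∀ P : Sylow 3 G, MulAction.stabilizer G P = Nrm P := by
    intro P
    ext g
    rw [MulAction.mem_stabilizer_iff]
    exact hnrm g P
  have hle : MulAction.stabilizer G x ⊓ MulAction.stabilizer G y₀ ≤ MulAction.stabilizer G C := by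
    intro q hq
    have hqx : q • x = x := MulAction.mem_stabilizer_iff.1 hq.1
    have hqy : q • y₀ = y₀ := MulAction.mem_stabilizer_iff.1 hq.2
    apply hstabof
    have heq := good_eq_insert_orb h9 hsemi hC hx hy₀ (Ne.symm hxy)
    intro y hy
    have hy' : y ∈ insert x (orb x y₀) := heq ▸ hy
    rcases hy' with e | ⟨u, hu, rfl⟩
    · rw [e, hqx]; exact hx
    · have hconj : q * u * q⁻¹ ∈ (x : Subgroup G) := by
        have : q * u * q⁻¹ ∈ ((q • x : Sylow 3 G) : Subgroup G) := by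
          rw [mem_smul_sylow_iff]
          have : q⁻¹ * (q * u * q⁻¹) * q = u := by group
          rw [this]; exact hu
        rwa [hqx] at this
      have : q • u • y₀ = (q * u * q⁻¹) • y₀ := by
        conv_rhs => rw [← hqy]
        simp only [smul_smul]
        congr 1
        group
      rw [this]
      exact hst x hx _ hconj y₀ hy₀
  have h3 : MulAction.stabilizer G C ⊓ MulAction.stabilizer G x ⊓ MulAction.stabilizer G y₀ =
      Nrm x ⊓ Nrm y₀ := by
    rw [← hstab_eq x, ← hstab_eq y₀]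
    apply le_antisymm
    · exact fun g hg => ⟨hg.1.2, hg.2⟩
    · exact fun g hg => ⟨⟨hle hg, hg.1⟩, hg.2⟩
  have hadj : Nat.card ↥(Nrm x ⊓ Nrm y₀) = 8 := hcl x hx y₀ hy₀ hxy
  rw [card_eq_orbit_mul (MulAction.stabilizer G C) x, horb1, h10,
    card_eq_orbit_mul (MulAction.stabilizer G C ⊓ MulAction.stabilizer G x) y₀, horb2, hcard2,
    h3, hadj]

end Cfsg.Agent.Lib.H17.M11U
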