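import Mathlib
import Cfsg.Agent.Lib.H1.M11U.Defs
import Cfsg.Agent.Lib.H1.M11U.Base
import Cfsg.Agent.Lib.H9.M11SUB
import Cfsg.Agent.Lib.H17.M11ACT

/-!
# S0420, piece ACT: exact-signature wrappers (see `tools/blueprints/S0420_sigs.lean`)

* `card_stabilizer_clique` (ACT1), exact signature;
* `act_of`: `act` with `exists_clique` and `eq_one_of_fix_three` (exact statements) as hypotheses.
-/

set_option autoImplicit false
open scoped Pointwise

universe u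

namespace Cfsg.Agent.Lib.H17.M11U

open Cfsg.Agent.Lib.H1.M11U

variable {G : Type u} [Group G] [Finite G]

/-- (ACT1) exact signature of `Sigs.card_stabilizer_clique`. -/
theorem card_stabilizer_clique (h : Hyp G) {C : Set (Sylow 3 G)} (hC : C.ncard = 10)
    (hcl : ∀ x ∈ C, ∀ y ∈ C, x ≠ y → Adj x y)
    (hst : ∀ x ∈ C, ∀ u ∈ (x : Subgroup G), ∀ y ∈ C, u • y ∈ C) :
    Nat.card (MulAction.stabilizer G C) = 720 :=
  card_stabilizer_core (Cfsg.Agent.Lib.H1.M11U.card_sylow3_sub h)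
    (fun hne _ hu hu1 => Cfsg.Agent.Lib.H9.M11U.semireg h hne hu hu1)
    Cfsg.Agent.Lib.H1.M11U.smul_eq_iff ⟨hC, hcl, hst⟩

/-- (ACT) `act` from the exact statements of `exists_clique` and `eq_one_of_fix_three`. -/
theorem act_of (h : Hyp G)
    (hclique : ∃ C : Set (Sylow 3 G), C.ncard = 10 ∧ (∀ x ∈ C, ∀ y ∈ C, x ≠ y → Adj x y) ∧
      ∀ x ∈ C, ∀ u ∈ (x : Subgroup G), ∀ y ∈ C, u • y ∈ C)
    (hfix3 : ∀ {x y : Sylow 3 G}, Adj x y → ∀ {u : G}, u ∈ (x : Subgroup G) → u ≠ 1 →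
      ∀ {g : G}, g • x = x → g • y = y → g • (u • y) = u • y → g = 1) :
    ∃ (α : Type u) (_ : Fintype α) (_ : DecidableEq α) (_ : MulAction G α), Fintype.card α = 11 ∧
      MulAction.IsMultiplyPretransitive G α 4 ∧ ∀ x : Fin 4 ↪ α, MulAction.stabilizer G x = ⊥ :=
  act_core h.card (Cfsg.Agent.Lib.H1.M11U.card_sylow3_sub h)
    (fun hne _ hu hu1 => Cfsg.Agent.Lib.H9.M11U.semireg h hne hu hu1)
    (Cfsg.Agent.Lib.H9.M11U.card_adj h) (Cfsg.Agent.Lib.H1.M11U.card_sylow3 h)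
    (fun g _ _ => Cfsg.Agent.Lib.H1.M11U.adj_smul g) hclique
    (fun C hC => card_stabilizer_clique h hC.1 hC.2.1 hC.2.2) hfix3

end Cfsg.Agent.Lib.H17.M11U
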