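import Mathlib
import Cfsg.Agent.Lib.H1.M11U.Defs
import Cfsg.Agent.Lib.H17.M11ACTw
import Cfsg.Agent.Lib.H18.M11ACT2
import Cfsg.Agent.Lib.H19.M11CLOSEsig

/-!
# S0420, piece ACT: `act` in the exact signature of `tools/blueprints/S0420_sigs.lean`

`act_of` (Lib/H17/M11ACTw) fed with helper19's `exists_clique` and helper18's `eq_one_of_fix_three`.
-/

set_option autoImplicit false
open scoped Pointwise

universe u

namespace Cfsg.Agent.Lib.H17.M11U

open Cfsg.Agent.Lib.H1.M11U

variable {G : Type u} [Group G] [Finite G]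

/-- (ACT) exact signature of `Sigs.act`. -/
theorem act (h : Hyp G) :
    ∃ (α : Type u) (_ : Fintype α) (_ : DecidableEq α) (_ : MulAction G α), Fintype.card α = 11 ∧
      MulAction.IsMultiplyPretransitive G α 4 ∧ ∀ x : Fin 4 ↪ α, MulAction.stabilizer G x = ⊥ :=
  act_of h (Cfsg.Agent.Lib.H19.M11U.exists_clique h)
    (fun hadj _ hu hu1 _ hgx hgy hguy =>
      Cfsg.Agent.Lib.H18.M11U.eq_one_of_fix_three h hadj hu hu1 hgx hgy hguy)

end Cfsg.Agent.Lib.H17.M11U
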