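import Mathlib

/-!
# S4756 piece STR2 (architect helper23): `[A, P] = G'` and `P = C_P(A) G'`
-/

set_option autoImplicit false

namespace Cfsg.Agent.Lib.H17.MUL

open scoped commutatorElement

private theorem str2_key {G : Type*} [Group G] (a₀ x y : G) (h : ⁅a₀, x⁆ = ⁅a₀, y⁆) :
    a₀ * (y⁻¹ * x) = (y⁻¹ * x) * a₀ := by
  rw [commutatorElement_def, commutatorElement_def] at h
  have h1 : x * a₀⁻¹ * x⁻¹ = y * a₀⁻¹ * y⁻¹ := by
    have := congrArg (fun t => a₀⁻¹ * t) h
    simpa [mul_assoc] using this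
  calc a₀ * (y⁻¹ * x) = a₀ * (y⁻¹ * (x * a₀⁻¹ * x⁻¹) * x) * a₀ := by group
    _ = a₀ * (y⁻¹ * (y * a₀⁻¹ * y⁻¹) * x) * a₀ := by rw [h1]
    _ = (y⁻¹ * x) * a₀ := by group

private theorem str2_comm_mem {G : Type*} [Group G] (x y : G) : ⁅x, y⁆ ∈ commutator G := by
  rw [commutator_def]
  exact Subgroup.commutator_mem_commutator (Subgroup.mem_top x) (Subgroup.mem_top y)

/-- STR2 (pure group theory): `G = A P`, `P ⊴ G`, `G' ≤ P`, `A` abelian, and some `a₀ ∈ A` centralizes no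
nonidentity element of `G'`.  Then `[A, P] = G'` and `P = C_P(A) G'`. -/
theorem commutator_eq_and_sup_eq {G : Type*} [Group G] [Finite G] (P A : Subgroup G)
    (hPn : P.Normal) (hDP : commutator G ≤ P) (hsup : A ⊔ P = ⊤) (hAab : IsMulCommutative ↥A)
    (a₀ : G) (ha₀ : a₀ ∈ A)
    (hfpf : ∀ d ∈ commutator G, a₀ * d = d * a₀ → d = 1) :
    ⁅A, P⁆ = commutator G ∧ (P ⊓ Subgroup.centralizer (A : Set G)) ⊔ commutator G = P := by
  classical
  -- the self-map `d ↦ [a₀, d]` of `G'`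
  let f : ↥(commutator G) → ↥(commutator G) := fun d => ⟨⁅a₀, (d : G)⁆, str2_comm_mem _ _⟩
  have hf_inj : Function.Injective f := by
    intro d d' h
    have h' : ⁅a₀, (d : G)⁆ = ⁅a₀, (d' : G)⁆ := congrArg Subtype.val h
    have hk := str2_key a₀ (d : G) (d' : G) h'
    have hmem : (d' : G)⁻¹ * (d : G) ∈ commutator G :=
      (commutator G).mul_mem ((commutator G).inv_mem d'.2) d.2
    have := hfpf _ hmem hk
    apply Subtype.ext
    have h2 : (d : G) = (d' : G) * ((d' : G)⁻¹ * (d : G)) := by group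
    rw [h2, this, mul_one]
  have hf_surj : Function.Surjective f := Finite.injective_iff_surjective.mp hf_inj
  -- every element of `G'` is `[a₀, d]` with `d ∈ G'`
  have hsurj' : ∀ z ∈ commutator G, ∃ d ∈ commutator G, ⁅a₀, d⁆ = z := by
    intro z hz
    obtain ⟨d, hd⟩ := hf_surj ⟨z, hz⟩
    exact ⟨d.1, d.2, congrArg Subtype.val hd⟩
  refine ⟨?_, ?_⟩
  · apply le_antisymm
    · rw [commutator_def]
      exact Subgroup.commutator_mono le_top le_top
    · intro z hz
      obtain ⟨d, hd, rfl⟩ := hsurj' z hz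
      exact Subgroup.commutator_mem_commutator ha₀ (hDP hd)
  · apply le_antisymm
    · exact sup_le inf_le_left hDP
    · intro u hu
      obtain ⟨d, hd, hdu⟩ := hsurj' ⁅a₀, u⁆ (str2_comm_mem _ _)
      -- c := d⁻¹ u commutes with a₀
      have hc := str2_key a₀ u d hdu.symm
      have hcP : d⁻¹ * u ∈ P := P.mul_mem (P.inv_mem (hDP hd)) hu
      have hcC : d⁻¹ * u ∈ Subgroup.centralizer (A : Set G) := by
        rw [Subgroup.mem_centralizer_iff]
        intro b hb
        -- w := [c, b] ∈ G' is centralized by a₀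
        have hab : a₀ * b = b * a₀ := by
          have := hAab.is_comm.comm (⟨a₀, ha₀⟩ : ↥A) ⟨b, hb⟩
          exact congrArg Subtype.val this
        have hw : ⁅d⁻¹ * u, b⁆ ∈ commutator G := str2_comm_mem _ _
        have hcomm : a₀ * ⁅d⁻¹ * u, b⁆ = ⁅d⁻¹ * u, b⁆ * a₀ := by
          rw [commutatorElement_def]
          have e1 : a₀ * (d⁻¹ * u) = (d⁻¹ * u) * a₀ := hc
          have e2 : a₀ * (d⁻¹ * u)⁻¹ = (d⁻¹ * u)⁻¹ * a₀ := by
            have := congrArg (fun t => (d⁻¹ * u)⁻¹ * t * (d⁻¹ * u)⁻¹) e1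
            simp only [mul_assoc, mul_inv_cancel, mul_one] at this
            simpa [mul_assoc] using this.symm
          have e3 : a₀ * b⁻¹ = b⁻¹ * a₀ := by
            have := congrArg (fun t => b⁻¹ * t * b⁻¹) hab
            simp only [mul_assoc, inv_mul_cancel_left, mul_inv_cancel, mul_one] at this
            simpa [mul_assoc] using this.symm
          calc a₀ * ((d⁻¹ * u) * b * (d⁻¹ * u)⁻¹ * b⁻¹)
              = (a₀ * (d⁻¹ * u)) * b * (d⁻¹ * u)⁻¹ * b⁻¹ := by group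
            _ = (d⁻¹ * u) * (a₀ * b) * (d⁻¹ * u)⁻¹ * b⁻¹ := by rw [e1]; group
            _ = (d⁻¹ * u) * b * (a₀ * (d⁻¹ * u)⁻¹) * b⁻¹ := by rw [hab]; group
            _ = (d⁻¹ * u) * b * (d⁻¹ * u)⁻¹ * (a₀ * b⁻¹) := by rw [e2]; group
            _ = (d⁻¹ * u) * b * (d⁻¹ * u)⁻¹ * b⁻¹ * a₀ := by rw [e3]; group
        have h1 := hfpf _ hw hcomm
        rw [commutatorElement_eq_one_iff_commute] at h1
        exact h1.eq.symm
      have hu2 : u = d * (d⁻¹ * u) := by group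
      rw [hu2]
      exact Subgroup.mul_mem _ (Subgroup.mem_sup_right hd)
        (Subgroup.mem_sup_left ⟨hcP, hcC⟩)

end Cfsg.Agent.Lib.H17.MUL
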