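/-
S0976 farm-out (helper5), task T4 (helper17): in a simple group of order 4032 with 64 Sylow
7-subgroups, an element `z` of order 3 of `C(P)` has `C_G(z) = N(P)` and is not conjugate to `z⁻¹`.
-/
import Mathlib
import Cfsg.Agent.Lib.H5.Ord.O4032a
import Cfsg.Agent.Lib.H5.Ord.SylPrime3
import Cfsg.Agent.Lib.H5.Ord.NCInv

set_option autoImplicit false
set_option linter.unusedSectionVars false

namespace Cfsg.Agent.Lib.H17.O4032

open Subgroup MulAction Cfsg.Agent.Lib.H5 Cfsg.Agent.Lib.H5.SylPrime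

variable {G : Type*} [Group G]

/-- The elements of an abelian subgroup killed by 3. -/
def K3 (C : Subgroup G) (hcomm : ∀ a ∈ C, ∀ b ∈ C, a * b = b * a) : Subgroup G where
  carrier := {c | c ∈ C ∧ c ^ 3 = 1}
  mul_mem' := by
    rintro a b ⟨ha, ha3⟩ ⟨hb, hb3⟩
    exact ⟨C.mul_mem ha hb, by
      rw [(show Commute a b from hcomm a ha b hb).mul_pow, ha3, hb3, one_mul]⟩
  one_mem' := ⟨C.one_mem, one_pow 3⟩
  inv_mem' := by
    rintro a ⟨ha, ha3⟩
    exact ⟨C.inv_mem ha, by rw [inv_pow, ha3, inv_one]⟩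

/-- In an abelian group of order 21 the elements of order dividing 3 are the powers of any element of
order 3. -/
theorem eq_or_eq_inv_of_card_21 [Finite G] (C : Subgroup G)
    (hcomm : ∀ a ∈ C, ∀ b ∈ C, a * b = b * a) (hC : Nat.card C = 21) {z c : G} (hz : z ∈ C)
    (hz3 : orderOf z = 3) (hc : c ∈ C) (hc3 : c ^ 3 = 1) : c = 1 ∨ c = z ∨ c = z⁻¹ := by
  have : Fact (Nat.Prime 3) := ⟨by norm_num⟩
  have hz3' : z ^ 3 = 1 := by rw [← hz3]; exact pow_orderOf_eq_one z
  have hpg : IsPGroup 3 (K3 C hcomm) := by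
    intro g
    refine ⟨1, ?_⟩
    apply Subtype.ext
    simpa using g.2.2
  obtain ⟨k, hk⟩ := IsPGroup.iff_card.mp hpg
  have hle : K3 C hcomm ≤ C := fun x hx => hx.1
  have hdvd : Nat.card (K3 C hcomm) ∣ 21 := hC ▸ Subgroup.card_dvd_of_le hle
  have hzK : z ∈ K3 C hcomm := ⟨hz, hz3'⟩
  have hzle : zpowers z ≤ K3 C hcomm := (zpowers_le).mpr hzK
  have hzc : Nat.card (zpowers z) = 3 := by rw [Nat.card_zpowers, hz3]
  have h3 : 3 ∣ Nat.card (K3 C hcomm) := hzc ▸ Subgroup.card_dvd_of_le hzle
  have hcard : Nat.card (K3 C hcomm) = 3 := by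
    rw [hk] at hdvd h3 ⊢
    rcases k with _ | _ | k
    · norm_num at h3
    · norm_num
    · exfalso
      have h9 : 9 ∣ 21 := Dvd.dvd.trans ⟨3 ^ k, by ring⟩ hdvd
      norm_num at h9
  have heq : zpowers z = K3 C hcomm :=
    Subgroup.eq_of_le_of_card_ge hzle (by rw [hcard, hzc])
  have hcK : c ∈ zpowers z := by rw [heq]; exact ⟨hc, hc3⟩
  obtain ⟨i, hi⟩ := mem_zpowers_iff.mp hcK
  have hmod : z ^ (i % 3) = c := by
    have h5 := zpow_mod_orderOf z i
    rw [hz3, hi] at h5
    exact_mod_cast h5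
  have h0 : 0 ≤ i % 3 := Int.emod_nonneg _ (by norm_num)
  have h1 : i % 3 < 3 := Int.emod_lt_of_pos _ (by norm_num)
  have hcases : i % 3 = 0 ∨ i % 3 = 1 ∨ i % 3 = 2 := by omega
  rcases hcases with h | h | h
  · left; rw [← hmod, h, zpow_zero]
  · right; left; rw [← hmod, h, zpow_one]
  · right; right
    rw [← hmod, h]
    apply eq_inv_of_mul_eq_one_left
    have : z ^ (2 : ℤ) * z = z ^ 3 := by
      rw [show (2 : ℤ) = ((2 : ℕ) : ℤ) from rfl, zpow_natCast]; group
    rw [this, hz3']

theorem ne_inv_of_orderOf_three {z : G} (hz3 : orderOf z = 3) : z ≠ z⁻¹ := by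
  intro h
  have h1 : z ^ 2 = 1 := by rw [pow_two]; nth_rewrite 2 [h]; exact mul_inv_cancel z
  have h2 := orderOf_dvd_of_pow_eq_one h1
  rw [hz3] at h2
  norm_num at h2

theorem ne_one_of_orderOf_three {z : G} (hz3 : orderOf z = 3) : z ≠ 1 := by
  rintro rfl
  rw [orderOf_one] at hz3
  norm_num at hz3

/-- `N(P)` (of order 63) centralises an element of order 3 of the abelian group `C(P)` of order 21. -/
theorem normalizer_le_centralizer_singleton [Finite G] (P : Subgroup G)
    (hcomm : ∀ a ∈ centralizer (P : Set G), ∀ b ∈ centralizer (P : Set G), a * b = b * a)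
    (hC : Nat.card (centralizer (P : Set G)) = 21)
    (hN : Nat.card (normalizer (P : Set G)) = 63) {z : G} (hz : z ∈ centralizer (P : Set G))
    (hz3 : orderOf z = 3) : normalizer (P : Set G) ≤ centralizer ({z} : Set G) := by
  intro n hn
  rw [mem_centralizer_singleton_iff]
  have hz3' : z ^ 3 = 1 := by rw [← hz3]; exact pow_orderOf_eq_one z
  have hc : n * z * n⁻¹ ∈ centralizer (P : Set G) := conj_mem_centralizer_of_mem_normalizer P hn hz
  have hc3 : (n * z * n⁻¹) ^ 3 = 1 := by rw [conj_pow, hz3', mul_one, mul_inv_cancel]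
  rcases eq_or_eq_inv_of_card_21 _ hcomm hC hz hz3 hc hc3 with h | h | h
  · exfalso
    apply ne_one_of_orderOf_three hz3
    have h1 : n⁻¹ * (n * z * n⁻¹) * n = n⁻¹ * 1 * n := by rw [h]
    simpa [mul_assoc] using h1
  · have h1 : n * z * n⁻¹ * n = z * n := by rw [h]
    simpa [mul_assoc] using h1
  · exfalso
    have s1 : SemiconjBy n z z⁻¹ := by
      unfold SemiconjBy
      have h1 : n * z * n⁻¹ * n = z⁻¹ * n := by rw [h]
      simpa [mul_assoc] using h1
    have s2 : SemiconjBy n z⁻¹ z := by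
      have := s1.inv_right
      rwa [inv_inv] at this
    have s3 : SemiconjBy (n * n) z z := s2.mul_left s1
    have c1 : Commute ((n * n) ^ 32) z := Commute.pow_left s3 32
    have hn63 : n ^ 63 = 1 := by
      have h2 : (⟨n, hn⟩ : normalizer (P : Set G)) ^ 63 = 1 := by
        rw [← hN]; exact pow_card_eq_one'
      have h3 := congrArg (fun x : normalizer (P : Set G) => (x : G)) h2
      simpa using h3
    have h4 : (n * n) ^ 32 = n := by
      rw [← pow_two, ← pow_mul]
      calc n ^ (2 * 32) = n ^ 63 * n := by rw [← pow_succ]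
        _ = n := by rw [hn63, one_mul]
    rw [h4] at c1
    have h5 : n * z * n⁻¹ = z := by
      rw [c1.eq, mul_assoc, mul_inv_cancel, mul_one]
    exact ne_inv_of_orderOf_three hz3 (h5.symm.trans h)

theorem conj_mem_centralizer_singleton {g z x : G} (hg : g * z * g⁻¹ = z⁻¹)
    (hx : x ∈ centralizer ({z} : Set G)) : g * x * g⁻¹ ∈ centralizer ({z} : Set G) := by
  rw [mem_centralizer_singleton_iff] at hx ⊢
  -- `g x g⁻¹` commutes with `g z g⁻¹ = z⁻¹`, hence with `z`
  have h1 : Commute (g * x * g⁻¹) (g * z * g⁻¹) := by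
    unfold Commute SemiconjBy
    calc g * x * g⁻¹ * (g * z * g⁻¹) = g * (x * z) * g⁻¹ := by group
      _ = g * (z * x) * g⁻¹ := by rw [hx]
      _ = g * z * g⁻¹ * (g * x * g⁻¹) := by group
  rw [hg] at h1
  have h2 := h1.inv_right
  rw [inv_inv] at h2
  exact h2.eq

theorem relIndex_mul_card_of_le [Finite G] {N H : Subgroup G} (h : N ≤ H) :
    N.relIndex H * Nat.card N = Nat.card H := by
  have h1 := (N.subgroupOf H).index_mul_card
  rw [Nat.card_congr (Subgroup.subgroupOfEquivOfLe h).toEquiv] at h1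
  exact h1

end Cfsg.Agent.Lib.H17.O4032

namespace Cfsg.Agent.Lib.H5.O4032

open Subgroup MulAction Cfsg.Agent.Lib.H5 Cfsg.Agent.Lib.H5.SylPrime Cfsg.Agent.Lib.H17.O4032

variable {G : Type*} [Group G] [Finite G] [IsSimpleGroup G]

/-- **T4** `n_7 = 64`: an element `z` of order 3 of `C(P)` has `C_G(z) = N(P)` and is not conjugate
to its inverse. -/
theorem caseC_centralizer (hG : Nat.card G = 4032) [Fact (Nat.Prime 7)] (P : Sylow 7 G)
    (hP : Nat.card (P : Subgroup G) = 7) (hNtop : normalizer ((P : Subgroup G) : Set G) ≠ ⊤)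
    (hn : Nat.card (Sylow 7 G) = 64)
    (hN : Nat.card (normalizer ((P : Subgroup G) : Set G)) = 63)
    (hC : Nat.card (centralizer ((P : Subgroup G) : Set G)) = 21) :
    ∃ z : G, orderOf z = 3 ∧ z ∈ centralizer ((P : Subgroup G) : Set G) ∧
      centralizer ({z} : Set G) = normalizer ((P : Subgroup G) : Set G) ∧ ¬ IsConj z z⁻¹ := by
  have : Fact (Nat.Prime 3) := ⟨by norm_num⟩
  have hcomm : ∀ a ∈ centralizer ((P : Subgroup G) : Set G),
      ∀ b ∈ centralizer ((P : Subgroup G) : Set G), a * b = b * a :=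
    centralizer_comm_of_card (p := 7) (q := 3) (j := 1) (P : Subgroup G) hP (by norm_num)
      (by norm_num) (by rw [hC]; norm_num)
  obtain ⟨z', hz'⟩ := exists_prime_orderOf_dvd_card'
    (G := centralizer ((P : Subgroup G) : Set G)) 3 (by rw [hC]; norm_num)
  have hzC : (z' : G) ∈ centralizer ((P : Subgroup G) : Set G) := z'.2
  have hz3 : orderOf (z' : G) = 3 := by rw [Subgroup.orderOf_coe, hz']
  refine ⟨(z' : G), hz3, hzC, ?_⟩
  generalize (z' : G) = z at hzC hz3
  have hNH : normalizer ((P : Subgroup G) : Set G) ≤ centralizer ({z} : Set G) :=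
    normalizer_le_centralizer_singleton _ hcomm hC hN hzC hz3
  have hCN : centralizer ((P : Subgroup G) : Set G) ≤ normalizer ((P : Subgroup G) : Set G) :=
    centralizer_le_normalizer _
  have hzN : z ∈ normalizer ((P : Subgroup G) : Set G) := hCN hzC
  have hPH : (P : Subgroup G) ≤ centralizer ({z} : Set G) := le_normalizer.trans hNH
  have hmod := relIndex_normalizer_modEq_one' P hPH
  have hcardH := relIndex_mul_card_of_le hNH
  rw [hN] at hcardH
  have hHdvd : Nat.card (centralizer ({z} : Set G)) ∣ 4032 := hG ▸ Subgroup.card_subgroup_dvd_card _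
  -- the index of `N`
  have hidx : (normalizer ((P : Subgroup G) : Set G)).index = 64 := by
    have h1 := (normalizer ((P : Subgroup G) : Set G)).card_mul_index
    rw [hN, hG] at h1
    omega
  -- fixed points of `z` on the cosets of `N`
  have hfix1 := card_fixedBy_modEq_one 7 P hP hzC
  have hfix2 : Nat.card (G ⧸ normalizer ((P : Subgroup G) : Set G)) ≡
      Nat.card (fixedBy (G ⧸ normalizer ((P : Subgroup G) : Set G)) z) [MOD 3] :=
    card_modEq_card_fixedBy (r := 3) (k := 1) (by rw [hz3]; norm_num)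
  rw [← Subgroup.index_eq_card, hidx] at hfix2
  have hfix3 := card_fixedBy_le_index (normalizer ((P : Subgroup G) : Set G)) z
  rw [hidx] at hfix3
  have hfix4 : Nat.card (fixedBy (G ⧸ normalizer ((P : Subgroup G) : Set G)) z) ≠ 64 := by
    intro h
    apply ne_one_of_orderOf_three hz3
    exact eq_one_of_card_fixedBy_eq _ hNtop (by rw [h, hidx])
  have hfix5 := card_fixedBy_mul_card (normalizer ((P : Subgroup G) : Set G)) hzN
  rw [hN] at hfix5
  -- the relative index is 1
  have hm1 : (normalizer ((P : Subgroup G) : Set G)).relIndex (centralizer ({z} : Set G)) = 1 := by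
    generalize (normalizer ((P : Subgroup G) : Set G)).relIndex (centralizer ({z} : Set G)) = m
      at hmod hcardH
    generalize Nat.card (fixedBy (G ⧸ normalizer ((P : Subgroup G) : Set G)) z) = f
      at hfix1 hfix2 hfix3 hfix4 hfix5
    generalize Nat.card {g : G // IsConj z g ∧ g ∈ normalizer ((P : Subgroup G) : Set G)} = c
      at hfix5
    rw [← hcardH] at hHdvd hfix5
    have hm64 : m ∣ 2 ^ 6 := by
      have h1 : m * 63 ∣ 64 * 63 := by norm_num; exact hHdvd
      exact Nat.dvd_of_mul_dvd_mul_right (by norm_num) h1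
    obtain ⟨j, hj, rfl⟩ := (Nat.dvd_prime_pow Nat.prime_two).mp hm64
    have hfm : f = 2 ^ j * c := by
      have h2 : f * 63 = (2 ^ j * c) * 63 := by rw [hfix5]; ring
      exact Nat.eq_of_mul_eq_mul_right (by norm_num) h2
    unfold Nat.ModEq at hmod hfix1 hfix2
    interval_cases j <;> simp at hmod ⊢ <;> omega
  have heq : centralizer ({z} : Set G) = normalizer ((P : Subgroup G) : Set G) :=
    le_antisymm (relIndex_eq_one.mp hm1) hNH
  refine ⟨heq, ?_⟩
  intro hconj
  obtain ⟨g, hg⟩ := isConj_iff.mp hconj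
  have hg' : g⁻¹ * z * g⁻¹⁻¹ = z⁻¹ := by
    rw [inv_inv]
    have h1 : g⁻¹ * (g * z * g⁻¹)⁻¹ * g = g⁻¹ * z⁻¹⁻¹ * g := by rw [hg]
    rw [inv_inv] at h1
    rw [← h1]
    group
  have hgN : g ∈ normalizer ((normalizer ((P : Subgroup G) : Set G) : Subgroup G) : Set G) := by
    rw [mem_normalizer_iff]
    intro x
    rw [← heq]
    constructor
    · exact fun hx => conj_mem_centralizer_singleton hg hx
    · intro hx
      have h2 := conj_mem_centralizer_singleton hg' hx
      rw [inv_inv] at h2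
      have h3 : g⁻¹ * (g * x * g⁻¹) * g = x := by group
      rwa [h3] at h2
  have hNN : normalizer ((normalizer ((P : Subgroup G) : Set G) : Subgroup G) : Set G) =
      normalizer ((P : Subgroup G) : Set G) := Sylow.normalizer_normalizer P
  rw [hNN, ← heq, mem_centralizer_singleton_iff] at hgN
  apply ne_inv_of_orderOf_three hz3
  rw [← hg, hgN, mul_assoc, mul_inv_cancel, mul_one]

end Cfsg.Agent.Lib.H5.O4032
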