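/-
S0976 farm-out (helper5), task T5 (helper17): a group of order 4 cannot normalise a group of order 9
containing an element `z` with `|C_G(z)|` odd that is not conjugate to its inverse.
-/
import Mathlib

set_option autoImplicit false
set_option linter.unusedSectionVars false

namespace Cfsg.Agent.Lib.H17.O4032

open Subgroup MulAction

variable {G : Type*} [Group G]

/-- `t z' t⁻¹` for `z' = z` or `z⁻¹`. -/
def cjz (z : G) (p : G × Bool) : G := p.1 * (bif p.2 then z else z⁻¹) * p.1⁻¹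

theorem comm_of_comm_inv {u z : G} (h : u * z⁻¹ = z⁻¹ * u) : u * z = z * u := by
  have h1 : z * (u * z⁻¹) * z = z * (z⁻¹ * u) * z := by rw [h]
  simpa [mul_assoc] using h1.symm

theorem eq_one_of_comm [Finite G] (T : Subgroup G) (hT : Nat.card T = 4) {z : G}
    (hodd : Odd (Nat.card (centralizer ({z} : Set G)))) {t : G} (ht : t ∈ T)
    (hcomm : t * z = z * t) : t = 1 := by
  have h1 : orderOf t ∣ 4 := hT ▸ Subgroup.orderOf_dvd_natCard T ht
  have h2 : orderOf t ∣ Nat.card (centralizer ({z} : Set G)) :=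
    Subgroup.orderOf_dvd_natCard _ (mem_centralizer_singleton_iff.mpr hcomm)
  have h3 : Nat.Coprime 4 (Nat.card (centralizer ({z} : Set G))) := by
    have : Nat.Coprime 2 (Nat.card (centralizer ({z} : Set G))) := hodd.coprime_two_left
    exact Nat.Coprime.pow_left 2 this
  exact orderOf_eq_one_iff.mp (Nat.eq_one_of_dvd_coprimes h3 h1 h2)

theorem cjz_comm {z : G} (p : G × Bool) {u : G} (h : u * cjz z p = cjz z p * u) :
    (p.1⁻¹ * u * p.1) * z = z * (p.1⁻¹ * u * p.1) := by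
  obtain ⟨t, b⟩ := p
  cases b
  · apply comm_of_comm_inv
    simp only [cjz, cond_false] at h
    have h1 : t⁻¹ * (u * (t * z⁻¹ * t⁻¹)) * t = t⁻¹ * (t * z⁻¹ * t⁻¹ * u) * t := by rw [h]
    simpa [mul_assoc] using h1
  · simp only [cjz, cond_true] at h
    have h1 : t⁻¹ * (u * (t * z * t⁻¹)) * t = t⁻¹ * (t * z * t⁻¹ * u) * t := by rw [h]
    simpa [mul_assoc] using h1

theorem cjz_injOn [Finite G] (T : Subgroup G) (hT : Nat.card T = 4) {z : G}
    (hodd : Odd (Nat.card (centralizer ({z} : Set G)))) (hconj : ¬ IsConj z z⁻¹) :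
    Set.InjOn (cjz z) ((T : Set G) ×ˢ (Set.univ : Set Bool)) := by
  rintro ⟨t, b⟩ ⟨ht, -⟩ ⟨t', b'⟩ ⟨ht', -⟩ h
  simp only [SetLike.mem_coe] at ht ht'
  have key : ∀ (z' : G), (∀ u, u * z' = z' * u → u * z = z * u) →
      t * z' * t⁻¹ = t' * z' * t'⁻¹ → t = t' := by
    intro z' hz' h1
    have h2 : (t'⁻¹ * t) * z' = z' * (t'⁻¹ * t) := by
      have : t'⁻¹ * (t * z' * t⁻¹) * t = t'⁻¹ * (t' * z' * t'⁻¹) * t := by rw [h1]
      simpa [mul_assoc] using this
    have h3 := eq_one_of_comm T hT hodd (T.mul_mem (T.inv_mem ht') ht) (hz' _ h2)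
    exact (inv_mul_eq_one.mp h3).symm
  cases b <;> cases b'
  · simp only [cjz, cond_false] at h
    rw [key z⁻¹ (fun u hu => comm_of_comm_inv hu) h]
  · exfalso
    simp only [cjz, cond_false, cond_true] at h
    apply hconj
    rw [isConj_iff]
    refine ⟨t⁻¹ * t', ?_⟩
    have : t⁻¹ * (t * z⁻¹ * t⁻¹) * t = t⁻¹ * (t' * z * t'⁻¹) * t := by rw [h]
    simp only [mul_assoc, inv_mul_cancel_left, inv_mul_cancel, mul_one] at this
    rw [this]
    simp [mul_assoc]
  · exfalso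
    simp only [cjz, cond_false, cond_true] at h
    apply hconj
    rw [isConj_iff]
    refine ⟨t'⁻¹ * t, ?_⟩
    have : t'⁻¹ * (t * z * t⁻¹) * t' = t'⁻¹ * (t' * z⁻¹ * t'⁻¹) * t' := by rw [h]
    simp only [mul_assoc, inv_mul_cancel_left, inv_mul_cancel, mul_one] at this
    rw [← this]
    simp [mul_assoc]
  · simp only [cjz, cond_true] at h
    rw [key z (fun u hu => hu) h]

end Cfsg.Agent.Lib.H17.O4032

namespace Cfsg.Agent.Lib.H5.O4032

open Subgroup MulAction Cfsg.Agent.Lib.H17.O4032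

section general
variable {G : Type*} [Group G]

/-- **T5** a four-group/cyclic group of order 4 normalizing a group of order 9 containing an element
`z` with `|C_G(z)|` odd and `z` not conjugate to `z⁻¹`: impossible. -/
theorem false_of_nine_four [Finite G] (S T : Subgroup G) (hS : Nat.card S = 9)
    (hT : Nat.card T = 4) (hTS : T ≤ normalizer (S : Set G)) {z : G} (hzS : z ∈ S) (hz1 : z ≠ 1)
    (hodd : Odd (Nat.card (centralizer ({z} : Set G)))) (hconj : ¬ IsConj z z⁻¹) : False := by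
  classical
  have hconjS : ∀ t ∈ T, ∀ s ∈ S, t * s * t⁻¹ ∈ S := fun t ht s hs =>
    ((mem_normalizer_iff.mp (hTS ht)) s).mp hs
  have himg : cjz z '' ((T : Set G) ×ˢ (Set.univ : Set Bool)) ⊆ (S : Set G) \ {1} := by
    rintro _ ⟨⟨t, b⟩, ⟨ht, -⟩, rfl⟩
    have hz' : (bif b then z else z⁻¹) ∈ S ∧ (bif b then z else z⁻¹) ≠ 1 := by
      cases b <;> simp [hzS, hz1]
    refine ⟨hconjS t ht _ hz'.1, ?_⟩
    simp only [Set.mem_singleton_iff, cjz]
    intro h
    apply hz'.2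
    have h1 : t⁻¹ * (t * (bif b then z else z⁻¹) * t⁻¹) * t = t⁻¹ * 1 * t := by rw [h]
    simpa [mul_assoc] using h1
  have hcard1 : (cjz z '' ((T : Set G) ×ˢ (Set.univ : Set Bool))).ncard = 8 := by
    rw [Set.InjOn.ncard_image (cjz_injOn T hT hodd hconj), Set.ncard_prod, Set.ncard_univ,
      Nat.card_eq_fintype_card, Fintype.card_bool]
    have : (T : Set G).ncard = 4 := by rw [← hT]; rfl
    rw [this]
  have hcard2 : ((S : Set G) \ {1}).ncard = 8 := by
    rw [Set.ncard_sdiff_singleton_of_mem S.one_mem]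
    have : (S : Set G).ncard = 9 := by rw [← hS]; rfl
    rw [this]
  have heq : cjz z '' ((T : Set G) ×ˢ (Set.univ : Set Bool)) = (S : Set G) \ {1} :=
    Set.eq_of_subset_of_ncard_le himg (by rw [hcard1, hcard2]) (Set.toFinite _)
  have h2 : 2 ∣ Nat.card T := by rw [hT]; norm_num
  obtain ⟨t₀, ht₀⟩ := exists_prime_orderOf_dvd_card' (G := T) 2 h2
  have ht₀1 : (t₀ : G) ≠ 1 := by
    intro h
    have : t₀ = 1 := Subtype.ext h
    rw [this, orderOf_one] at ht₀
    omega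
  have ht₀sq : (t₀ : G) * t₀ = 1 := by
    have h3 : t₀ ^ 2 = 1 := by rw [← ht₀]; exact pow_orderOf_eq_one t₀
    have h4 := congrArg (fun x : T => (x : G)) h3
    simpa [pow_two] using h4
  have ht₀inv : (t₀ : G)⁻¹ = t₀ := inv_eq_of_mul_eq_one_left ht₀sq
  have : Fact (Nat.Prime 3) := ⟨by norm_num⟩
  have hSc : IsMulCommutative S :=
    IsPGroup.isMulCommutative_of_card_eq_prime_sq (p := 3) (by rw [hS]; norm_num)
  have hSab : ∀ a b : S, a * b = b * a := fun a b => hSc.is_comm.comm a b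
  have hcS : (t₀ : G) * z * (t₀ : G)⁻¹ ∈ S := hconjS t₀ t₀.2 z hzS
  have hwS : z * ((t₀ : G) * z * (t₀ : G)⁻¹) ∈ S := S.mul_mem hzS hcS
  have hab : z * ((t₀ : G) * z * (t₀ : G)⁻¹) = ((t₀ : G) * z * (t₀ : G)⁻¹) * z := by
    have h5 := congrArg (fun x : S => (x : G)) (hSab ⟨z, hzS⟩ ⟨_, hcS⟩)
    simpa using h5
  have hw : (t₀ : G) * (z * ((t₀ : G) * z * (t₀ : G)⁻¹)) =
      (z * ((t₀ : G) * z * (t₀ : G)⁻¹)) * t₀ := by
    rw [ht₀inv] at hab ⊢
    calc (t₀ : G) * (z * ((t₀ : G) * z * t₀)) = (t₀ : G) * (((t₀ : G) * z * t₀) * z) := by rw [hab]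
      _ = ((t₀ : G) * t₀) * z * t₀ * z := by simp only [mul_assoc]
      _ = (z * ((t₀ : G) * z * t₀)) * t₀ := by
          rw [ht₀sq, one_mul]
          simp only [mul_assoc]
          rw [ht₀sq, mul_one]
  by_cases hw1 : z * ((t₀ : G) * z * (t₀ : G)⁻¹) = 1
  · apply hconj
    rw [isConj_iff]
    exact ⟨t₀, (eq_inv_of_mul_eq_one_right hw1)⟩
  · have hmem : z * ((t₀ : G) * z * (t₀ : G)⁻¹) ∈ (S : Set G) \ {1} := ⟨hwS, hw1⟩
    rw [← heq] at hmem
    obtain ⟨⟨t, b⟩, ⟨ht, -⟩, hp⟩ := hmem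
    have h5 := cjz_comm (z := z) (t, b) (u := (t₀ : G)) (by rw [hp]; exact hw)
    have h6 := eq_one_of_comm T hT hodd (T.mul_mem (T.mul_mem (T.inv_mem ht) t₀.2) ht) h5
    apply ht₀1
    have h7 : t * (t⁻¹ * (t₀ : G) * t) * t⁻¹ = t * 1 * t⁻¹ := by rw [h6]
    simpa [mul_assoc] using h7

end general

end Cfsg.Agent.Lib.H5.O4032
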