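/-
S0976 farm-out (helper5), task T6b (helper17): the case `n_7 = 64` of "no simple group of order 4032",
assembled from T4, T5 and T6a.
-/
import Mathlib
import Cfsg.Agent.Lib.H17.O4032_T4
import Cfsg.Agent.Lib.H17.O4032_T5
import Cfsg.Agent.Lib.H4.O4032_T6a

set_option autoImplicit false
set_option linter.unusedSectionVars false

namespace Cfsg.Agent.Lib.H17.O4032

open Subgroup MulAction Cfsg.Agent.Lib.H5 Cfsg.Agent.Lib.H5.SylPrime Cfsg.Agent.Lib.H5.O4032

variable {G : Type*} [Group G] [Finite G] [IsSimpleGroup G]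

/-- `n_7 = 64`, given T6a as a hypothesis. -/
theorem caseC_of_four_dvd (hG : Nat.card G = 4032) [Fact (Nat.Prime 7)] [Fact (Nat.Prime 3)]
    (h6a : ∀ S : Sylow 3 G, 4 ∣ Nat.card (normalizer ((S : Subgroup G) : Set G)))
    (P : Sylow 7 G)
    (hP : Nat.card (P : Subgroup G) = 7) (hNtop : normalizer ((P : Subgroup G) : Set G) ≠ ⊤)
    (hn : Nat.card (Sylow 7 G) = 64)
    (hN : Nat.card (normalizer ((P : Subgroup G) : Set G)) = 63)
    (hC : Nat.card (centralizer ((P : Subgroup G) : Set G)) = 21) : False := by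
  obtain ⟨z, hz3, hzC, hcent, hnconj⟩ := caseC_centralizer hG P hP hNtop hn hN hC
  have hodd : Odd (Nat.card (centralizer ({z} : Set G))) := by
    rw [hcent, hN]; decide
  have hpg : IsPGroup 3 (zpowers z) := by
    apply IsPGroup.of_card (n := 1)
    rw [Nat.card_zpowers, hz3, pow_one]
  obtain ⟨S, hS⟩ := hpg.exists_le_sylow
  have hScard : Nat.card (S : Subgroup G) = 9 := by
    have := (sylow_card_and_index S (k := 2) (m := 448) (by rw [hG]; norm_num) (by norm_num)).1
    rw [this]; norm_num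
  have hzS : z ∈ (S : Subgroup G) := hS (mem_zpowers z)
  have : Fact (Nat.Prime 2) := ⟨Nat.prime_two⟩
  obtain ⟨T', hT'⟩ := Sylow.exists_subgroup_card_pow_prime (G := normalizer ((S : Subgroup G) : Set G))
    2 (n := 2) (by norm_num; exact h6a S)
  refine false_of_nine_four (S : Subgroup G) (T'.map (normalizer ((S : Subgroup G) : Set G)).subtype)
    hScard ?_ (Subgroup.map_subtype_le _) hzS (ne_one_of_orderOf_three hz3) hodd hnconj
  rw [Nat.card_congr (T'.equivMapOfInjective _ (Subgroup.subtype_injective _)).toEquiv.symm, hT']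
  norm_num

end Cfsg.Agent.Lib.H17.O4032

namespace Cfsg.Agent.Lib.H5.O4032

open Subgroup MulAction Cfsg.Agent.Lib.H5 Cfsg.Agent.Lib.H5.SylPrime

variable {G : Type*} [Group G] [Finite G] [IsSimpleGroup G]

/-- **T6b** `n_7 = 64`. -/
theorem caseC (hG : Nat.card G = 4032) [Fact (Nat.Prime 7)] (P : Sylow 7 G)
    (hP : Nat.card (P : Subgroup G) = 7) (hNtop : normalizer ((P : Subgroup G) : Set G) ≠ ⊤)
    (hn : Nat.card (Sylow 7 G) = 64)
    (hN : Nat.card (normalizer ((P : Subgroup G) : Set G)) = 63)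
    (hC : Nat.card (centralizer ((P : Subgroup G) : Set G)) = 21) : False := by
  have : Fact (Nat.Prime 3) := ⟨by norm_num⟩
  exact Cfsg.Agent.Lib.H17.O4032.caseC_of_four_dvd hG (fun S => caseC_four_dvd hG hn S)
    P hP hNtop hn hN hC

end Cfsg.Agent.Lib.H5.O4032
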