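import Cfsg.Agent.Lib.H17.O7Refl

set_option autoImplicit false
set_option maxRecDepth 100000

/-! # The order of `O(7, 3)` is at most 18341406720 (generated)

A chain of stabilisers of the vectors of a hyperbolic basis. -/

namespace Cfsg.Agent.Lib.H17.O7Bound

open Matrix Cfsg.Agent.Lib.H17.CosetCert Cfsg.Agent.Lib.H17.Sgs Cfsg.Agent.Lib.H17.SgsCent Cfsg.Agent.Lib.H17.O7Vec Cfsg.Agent.Lib.H17.O7Refl

/-- a vector of the hyperbolic basis -/
def x1 : V7 := Pi.single (.inr (.inl 0)) 1
/-- a vector of the hyperbolic basis -/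
def y1 : V7 := Pi.single (.inr (.inr 0)) 1
/-- a vector of the hyperbolic basis -/
def x2 : V7 := Pi.single (.inr (.inl 1)) 1
/-- a vector of the hyperbolic basis -/
def y2 : V7 := Pi.single (.inr (.inr 1)) 1
/-- a vector of the hyperbolic basis -/
def x3 : V7 := Pi.single (.inr (.inl 2)) 1
/-- a vector of the hyperbolic basis -/
def y3 : V7 := Pi.single (.inr (.inr 2)) 1
/-- a vector of the hyperbolic basis -/
def e0 : V7 := Pi.single (.inl ()) 1

theorem dec_x1 : dec ⟨3, by decide⟩ = x1 := by decide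
theorem dec_y1 : dec ⟨81, by decide⟩ = y1 := by decide
theorem dec_x2 : dec ⟨9, by decide⟩ = x2 := by decide
theorem dec_y2 : dec ⟨243, by decide⟩ = y2 := by decide
theorem dec_x3 : dec ⟨27, by decide⟩ = x3 := by decide
theorem dec_y3 : dec ⟨729, by decide⟩ = y3 := by decide
theorem dec_e0 : dec ⟨1, by decide⟩ = e0 := by decide

theorem B_x1 (w : V7) : B x1 w = w (.inr (.inr 0)) := by
  simp [B, x1]
theorem B_y1 (w : V7) : B y1 w = w (.inr (.inl 0)) := by
  simp [B, y1]
theorem B_x2 (w : V7) : B x2 w = w (.inr (.inr 1)) := by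
  simp [B, x2]
theorem B_y2 (w : V7) : B y2 w = w (.inr (.inl 1)) := by
  simp [B, y2]
theorem B_x3 (w : V7) : B x3 w = w (.inr (.inr 2)) := by
  simp [B, x3]
theorem B_y3 (w : V7) : B y3 w = w (.inr (.inl 2)) := by
  simp [B, y3]
theorem B_e0 (w : V7) : B e0 w = 2 * w (.inl ()) := by
  simp [B, e0]

/-- the mask of level 1 -/
def K1 : ℕ := 0x118638818e208d88230c41d8138604e00e3803b03b6248009200db0036c491891b1188189188d8818e041c70386041c0e3860493b60000093b6db0009388c46208c46230c46231381c0e00e0703b0381c08000000db6db6c49249246388231186388c41186381380381d81381c01d81248036db62480001b624e2062461891b1046c40c4e181076041c70071c3020024ed893b6006d80049231188d88c46206231188381c0e381c0e181c0e076db6db0000000249249388230c7104618e208c313803b027007604e00ec08036c49006d89200db1248d881891b103123620620e386041c70c0838e181db00093b6001276c00248c46231188c46231188c70381c0e070381c0e070249249249249249249248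

theorem cntK1 : countBits K1 2187 0 = 728 := by decide +kernel

theorem in_K1 : ∀ y : Fin 2187, dec y ≠ 0 → Q (dec y) = 0 → tb K1 y.val = true := by
  decide +kernel

/-- the mask of level 2 -/
def K2 : ℕ := 0x1d8138604e00e3803b0200000000000000000000000000000000000000006041c70386041c0e386040000000000000000000000000000000000000000381c0e00e0703b0381c08000000000000000000000000000000000000000181380381d81381c01d8100000000000000000000000000000000000000000e181076041c70071c30200000000000000000000000000000000000000000381c0e381c0e181c0e0400000000000000000000000000000000000000003803b027007604e00ec0800000000000000000000000000000000000000000e386041c70c0838e181000000000000000000000000000000000000000030381c0e070381c0e070200000000000000000000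

theorem cntK2 : countBits K2 2187 0 = 243 := by decide +kernel

theorem in_K2 : ∀ y : Fin 2187, dec y ≠ 0 → Q (dec y) = 0 → dec y (.inr (.inr 0)) = 1 → tb K2 y.val = true := by
  decide +kernel

/-- the mask of level 3 -/
def K3 : ℕ := 0x6008000200030000c01000000000000000000000000000000000000000000206000000206030000200000000000000000000000000000000000000000000000030180c01008040000000000000000000000000000000000000000008000c06008000006008000000000000000000000000000000000000000000008180206000180001000000000000000000000000000000000000000000c06030000000008040200000000000000000000000000000000000000000000c01000180200030040000000000000000000000000000000000000000030000206000040c00008000000000000000000000000000000000000000001008040201008040200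

theorem cntK3 : countBits K3 2187 0 = 80 := by decide +kernel

theorem in_K3 : ∀ y : Fin 2187, dec y ≠ 0 → Q (dec y) = 0 → dec y (.inr (.inr 0)) = 0 → dec y (.inr (.inl 0)) = 0 → tb K3 y.val = true := by
  decide +kernel

/-- the mask of level 4 -/
def K4 : ℕ := 0x206000000206030000200000000000000000000000000000000000000000000000000000000000000000000000000000000000000000000000000000000000000000000000000000000000000000000000000000000000000000000008180206000180001000000000000000000000000000000000000000000000000000000000000000000000000000000000000000000000000000000000000000000000000000000000000000000000000000000000000000000030000206000040c00008000000000000000000000000000000000000000000000000000000000000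

theorem cntK4 : countBits K4 2187 0 = 27 := by decide +kernel

theorem in_K4 : ∀ y : Fin 2187, dec y ≠ 0 → Q (dec y) = 0 → dec y (.inr (.inr 0)) = 0 → dec y (.inr (.inl 0)) = 0 → dec y (.inr (.inr 1)) = 1 → tb K4 y.val = true := by
  decide +kernel

/-- the mask of level 5 -/
def K5 : ℕ := 0xc00000040000000000000000000000000000000000000000000000000000000000000000000000000000000000000000000000000000000000000000000000000000000000000000000000000000000000000000000000030000000000000200000000000000000000000000000000000000000000000000000000000000000000000000000000000000000000000000000000000000000000000000000000000000000000000000000000000000000000000040000008000000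

theorem cntK5 : countBits K5 2187 0 = 8 := by decide +kernel

theorem in_K5 : ∀ y : Fin 2187, dec y ≠ 0 → Q (dec y) = 0 → dec y (.inr (.inr 0)) = 0 → dec y (.inr (.inl 0)) = 0 → dec y (.inr (.inr 1)) = 0 → dec y (.inr (.inl 1)) = 0 → tb K5 y.val = true := by
  decide +kernel

/-- the mask of level 6 -/
def K6 : ℕ := 0x30000000000000200000000000000000000000000000000000000000000000000000000000000000000000000000000000000000000000000000000000000000000000000000000000000000000000000000000000000000000000000000000000000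

theorem cntK6 : countBits K6 2187 0 = 3 := by decide +kernel

theorem in_K6 : ∀ y : Fin 2187, dec y ≠ 0 → Q (dec y) = 0 → dec y (.inr (.inr 0)) = 0 → dec y (.inr (.inl 0)) = 0 → dec y (.inr (.inr 1)) = 0 → dec y (.inr (.inl 1)) = 0 → dec y (.inr (.inr 2)) = 1 → tb K6 y.val = true := by
  decide +kernel

/-- the mask of level 7 -/
def K7 : ℕ := 0x6

theorem cntK7 : countBits K7 2187 0 = 2 := by decide +kernel

theorem in_K7 : ∀ y : Fin 2187, dec y ≠ 0 → Q (dec y) = 1 → dec y (.inr (.inr 0)) = 0 → dec y (.inr (.inl 0)) = 0 → dec y (.inr (.inr 1)) = 0 → dec y (.inr (.inl 1)) = 0 → dec y (.inr (.inr 2)) = 0 → dec y (.inr (.inl 2)) = 0 → tb K7 y.val = true := by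
  decide +kernel

theorem fix_of_stab (M : O7) (bs : List ℕ) (hM : M ∈ stabL ρ bs) (c : ℕ) (hc : c < 2187)
    (hcm : c ∈ bs) (v : V7) (hv : dec ⟨c, hc⟩ = v) : mat M *ᵥ v = v := by
  have h := hM c hcm hc
  rw [ρ_apply, hv] at h
  have h2 := congrArg dec h
  rw [dec_enc, hv] at h2
  exact h2

theorem finite_O7 : Finite O7 := inferInstance

attribute [local instance] finite_O7

theorem Q_x1 : Q x1 = 0 := by decide
theorem ne_x1 : x1 ≠ 0 := by decide
theorem Q_y1 : Q y1 = 0 := by decide
theorem ne_y1 : y1 ≠ 0 := by decide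
theorem B_x1_y1 : B x1 y1 = 1 := by decide
theorem Q_x2 : Q x2 = 0 := by decide
theorem ne_x2 : x2 ≠ 0 := by decide
theorem B_x1_x2 : B x1 x2 = 0 := by decide
theorem B_y1_x2 : B y1 x2 = 0 := by decide
theorem Q_y2 : Q y2 = 0 := by decide
theorem ne_y2 : y2 ≠ 0 := by decide
theorem B_x1_y2 : B x1 y2 = 0 := by decide
theorem B_y1_y2 : B y1 y2 = 0 := by decide
theorem B_x2_y2 : B x2 y2 = 1 := by decide
theorem Q_x3 : Q x3 = 0 := by decide
theorem ne_x3 : x3 ≠ 0 := by decide
theorem B_x1_x3 : B x1 x3 = 0 := by decide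
theorem B_y1_x3 : B y1 x3 = 0 := by decide
theorem B_x2_x3 : B x2 x3 = 0 := by decide
theorem B_y2_x3 : B y2 x3 = 0 := by decide
theorem Q_y3 : Q y3 = 0 := by decide
theorem ne_y3 : y3 ≠ 0 := by decide
theorem B_x1_y3 : B x1 y3 = 0 := by decide
theorem B_y1_y3 : B y1 y3 = 0 := by decide
theorem B_x2_y3 : B x2 y3 = 0 := by decide
theorem B_y2_y3 : B y2 y3 = 0 := by decide
theorem B_x3_y3 : B x3 y3 = 1 := by decide
theorem Q_e0 : Q e0 = 1 := by decide
theorem ne_e0 : e0 ≠ 0 := by decide
theorem B_x1_e0 : B x1 e0 = 0 := by decide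
theorem B_y1_e0 : B y1 e0 = 0 := by decide
theorem B_x2_e0 : B x2 e0 = 0 := by decide
theorem B_y2_e0 : B y2 e0 = 0 := by decide
theorem B_x3_e0 : B x3 e0 = 0 := by decide
theorem B_y3_e0 : B y3 e0 = 0 := by decide

theorem bound1 : Nat.card ↥((⊤ : Subgroup O7) ⊓ stabL ρ ([] : List ℕ)) ≤
    728 * Nat.card ↥((⊤ : Subgroup O7) ⊓ stabL ρ ([3] : List ℕ)) := by
  have h := card_inf_le ρ (⊤ : Subgroup O7) ([] : List ℕ) 3 (by decide)
    {j : Fin 2187 | tb K1 j = true} (by
    intro M hM
    have hM' := Subgroup.mem_inf.mp hM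
    change tb K1 (ρ M ⟨3, by decide⟩ : Fin 2187) = true
    rw [ρ_apply, dec_x1]
    apply in_K1
    · rw [dec_enc]
      intro h0
      apply ne_x1
      apply mulVec_inj M
      rw [h0, mulVec_zero]
    · rw [dec_enc, Q_o, Q_x1]
    )
  rw [ncard_mask, cntK1] at h
  exact h

theorem bound2 : Nat.card ↥((⊤ : Subgroup O7) ⊓ stabL ρ ([3] : List ℕ)) ≤
    243 * Nat.card ↥((⊤ : Subgroup O7) ⊓ stabL ρ ([81, 3] : List ℕ)) := by
  have h := card_inf_le ρ (⊤ : Subgroup O7) ([3] : List ℕ) 81 (by decide)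
    {j : Fin 2187 | tb K2 j = true} (by
    intro M hM
    have hM' := Subgroup.mem_inf.mp hM
    have hf1 : mat M *ᵥ x1 = x1 := fix_of_stab M _ hM'.2 3 (by decide) (by decide) x1 dec_x1
    change tb K2 (ρ M ⟨81, by decide⟩ : Fin 2187) = true
    rw [ρ_apply, dec_y1]
    apply in_K2
    · rw [dec_enc]
      intro h0
      apply ne_y1
      apply mulVec_inj M
      rw [h0, mulVec_zero]
    · rw [dec_enc, Q_o, Q_y1]
    · rw [dec_enc]
      have h1 := B_o M x1 y1
      rw [hf1, B_x1_y1, B_x1] at h1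
      exact h1
    )
  rw [ncard_mask, cntK2] at h
  exact h

theorem bound3 : Nat.card ↥((⊤ : Subgroup O7) ⊓ stabL ρ ([81, 3] : List ℕ)) ≤
    80 * Nat.card ↥((⊤ : Subgroup O7) ⊓ stabL ρ ([9, 81, 3] : List ℕ)) := by
  have h := card_inf_le ρ (⊤ : Subgroup O7) ([81, 3] : List ℕ) 9 (by decide)
    {j : Fin 2187 | tb K3 j = true} (by
    intro M hM
    have hM' := Subgroup.mem_inf.mp hM
    have hf1 : mat M *ᵥ x1 = x1 := fix_of_stab M _ hM'.2 3 (by decide) (by decide) x1 dec_x1
    have hf2 : mat M *ᵥ y1 = y1 := fix_of_stab M _ hM'.2 81 (by decide) (by decide) y1 dec_y1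
    change tb K3 (ρ M ⟨9, by decide⟩ : Fin 2187) = true
    rw [ρ_apply, dec_x2]
    apply in_K3
    · rw [dec_enc]
      intro h0
      apply ne_x2
      apply mulVec_inj M
      rw [h0, mulVec_zero]
    · rw [dec_enc, Q_o, Q_x2]
    · rw [dec_enc]
      have h1 := B_o M x1 x2
      rw [hf1, B_x1_x2, B_x1] at h1
      exact h1
    · rw [dec_enc]
      have h1 := B_o M y1 x2
      rw [hf2, B_y1_x2, B_y1] at h1
      exact h1
    )
  rw [ncard_mask, cntK3] at h
  exact h

theorem bound4 : Nat.card ↥((⊤ : Subgroup O7) ⊓ stabL ρ ([9, 81, 3] : List ℕ)) ≤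
    27 * Nat.card ↥((⊤ : Subgroup O7) ⊓ stabL ρ ([243, 9, 81, 3] : List ℕ)) := by
  have h := card_inf_le ρ (⊤ : Subgroup O7) ([9, 81, 3] : List ℕ) 243 (by decide)
    {j : Fin 2187 | tb K4 j = true} (by
    intro M hM
    have hM' := Subgroup.mem_inf.mp hM
    have hf1 : mat M *ᵥ x1 = x1 := fix_of_stab M _ hM'.2 3 (by decide) (by decide) x1 dec_x1
    have hf2 : mat M *ᵥ y1 = y1 := fix_of_stab M _ hM'.2 81 (by decide) (by decide) y1 dec_y1
    have hf3 : mat M *ᵥ x2 = x2 := fix_of_stab M _ hM'.2 9 (by decide) (by decide) x2 dec_x2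
    change tb K4 (ρ M ⟨243, by decide⟩ : Fin 2187) = true
    rw [ρ_apply, dec_y2]
    apply in_K4
    · rw [dec_enc]
      intro h0
      apply ne_y2
      apply mulVec_inj M
      rw [h0, mulVec_zero]
    · rw [dec_enc, Q_o, Q_y2]
    · rw [dec_enc]
      have h1 := B_o M x1 y2
      rw [hf1, B_x1_y2, B_x1] at h1
      exact h1
    · rw [dec_enc]
      have h1 := B_o M y1 y2
      rw [hf2, B_y1_y2, B_y1] at h1
      exact h1
    · rw [dec_enc]
      have h1 := B_o M x2 y2
      rw [hf3, B_x2_y2, B_x2] at h1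
      exact h1
    )
  rw [ncard_mask, cntK4] at h
  exact h

theorem bound5 : Nat.card ↥((⊤ : Subgroup O7) ⊓ stabL ρ ([243, 9, 81, 3] : List ℕ)) ≤
    8 * Nat.card ↥((⊤ : Subgroup O7) ⊓ stabL ρ ([27, 243, 9, 81, 3] : List ℕ)) := by
  have h := card_inf_le ρ (⊤ : Subgroup O7) ([243, 9, 81, 3] : List ℕ) 27 (by decide)
    {j : Fin 2187 | tb K5 j = true} (by
    intro M hM
    have hM' := Subgroup.mem_inf.mp hM
    have hf1 : mat M *ᵥ x1 = x1 := fix_of_stab M _ hM'.2 3 (by decide) (by decide) x1 dec_x1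
    have hf2 : mat M *ᵥ y1 = y1 := fix_of_stab M _ hM'.2 81 (by decide) (by decide) y1 dec_y1
    have hf3 : mat M *ᵥ x2 = x2 := fix_of_stab M _ hM'.2 9 (by decide) (by decide) x2 dec_x2
    have hf4 : mat M *ᵥ y2 = y2 := fix_of_stab M _ hM'.2 243 (by decide) (by decide) y2 dec_y2
    change tb K5 (ρ M ⟨27, by decide⟩ : Fin 2187) = true
    rw [ρ_apply, dec_x3]
    apply in_K5
    · rw [dec_enc]
      intro h0
      apply ne_x3
      apply mulVec_inj M
      rw [h0, mulVec_zero]
    · rw [dec_enc, Q_o, Q_x3]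
    · rw [dec_enc]
      have h1 := B_o M x1 x3
      rw [hf1, B_x1_x3, B_x1] at h1
      exact h1
    · rw [dec_enc]
      have h1 := B_o M y1 x3
      rw [hf2, B_y1_x3, B_y1] at h1
      exact h1
    · rw [dec_enc]
      have h1 := B_o M x2 x3
      rw [hf3, B_x2_x3, B_x2] at h1
      exact h1
    · rw [dec_enc]
      have h1 := B_o M y2 x3
      rw [hf4, B_y2_x3, B_y2] at h1
      exact h1
    )
  rw [ncard_mask, cntK5] at h
  exact h

theorem bound6 : Nat.card ↥((⊤ : Subgroup O7) ⊓ stabL ρ ([27, 243, 9, 81, 3] : List ℕ)) ≤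
    3 * Nat.card ↥((⊤ : Subgroup O7) ⊓ stabL ρ ([729, 27, 243, 9, 81, 3] : List ℕ)) := by
  have h := card_inf_le ρ (⊤ : Subgroup O7) ([27, 243, 9, 81, 3] : List ℕ) 729 (by decide)
    {j : Fin 2187 | tb K6 j = true} (by
    intro M hM
    have hM' := Subgroup.mem_inf.mp hM
    have hf1 : mat M *ᵥ x1 = x1 := fix_of_stab M _ hM'.2 3 (by decide) (by decide) x1 dec_x1
    have hf2 : mat M *ᵥ y1 = y1 := fix_of_stab M _ hM'.2 81 (by decide) (by decide) y1 dec_y1
    have hf3 : mat M *ᵥ x2 = x2 := fix_of_stab M _ hM'.2 9 (by decide) (by decide) x2 dec_x2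
    have hf4 : mat M *ᵥ y2 = y2 := fix_of_stab M _ hM'.2 243 (by decide) (by decide) y2 dec_y2
    have hf5 : mat M *ᵥ x3 = x3 := fix_of_stab M _ hM'.2 27 (by decide) (by decide) x3 dec_x3
    change tb K6 (ρ M ⟨729, by decide⟩ : Fin 2187) = true
    rw [ρ_apply, dec_y3]
    apply in_K6
    · rw [dec_enc]
      intro h0
      apply ne_y3
      apply mulVec_inj M
      rw [h0, mulVec_zero]
    · rw [dec_enc, Q_o, Q_y3]
    · rw [dec_enc]
      have h1 := B_o M x1 y3
      rw [hf1, B_x1_y3, B_x1] at h1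
      exact h1
    · rw [dec_enc]
      have h1 := B_o M y1 y3
      rw [hf2, B_y1_y3, B_y1] at h1
      exact h1
    · rw [dec_enc]
      have h1 := B_o M x2 y3
      rw [hf3, B_x2_y3, B_x2] at h1
      exact h1
    · rw [dec_enc]
      have h1 := B_o M y2 y3
      rw [hf4, B_y2_y3, B_y2] at h1
      exact h1
    · rw [dec_enc]
      have h1 := B_o M x3 y3
      rw [hf5, B_x3_y3, B_x3] at h1
      exact h1
    )
  rw [ncard_mask, cntK6] at h
  exact h

theorem bound7 : Nat.card ↥((⊤ : Subgroup O7) ⊓ stabL ρ ([729, 27, 243, 9, 81, 3] : List ℕ)) ≤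
    2 * Nat.card ↥((⊤ : Subgroup O7) ⊓ stabL ρ ([1, 729, 27, 243, 9, 81, 3] : List ℕ)) := by
  have h := card_inf_le ρ (⊤ : Subgroup O7) ([729, 27, 243, 9, 81, 3] : List ℕ) 1 (by decide)
    {j : Fin 2187 | tb K7 j = true} (by
    intro M hM
    have hM' := Subgroup.mem_inf.mp hM
    have hf1 : mat M *ᵥ x1 = x1 := fix_of_stab M _ hM'.2 3 (by decide) (by decide) x1 dec_x1
    have hf2 : mat M *ᵥ y1 = y1 := fix_of_stab M _ hM'.2 81 (by decide) (by decide) y1 dec_y1
    have hf3 : mat M *ᵥ x2 = x2 := fix_of_stab M _ hM'.2 9 (by decide) (by decide) x2 dec_x2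
    have hf4 : mat M *ᵥ y2 = y2 := fix_of_stab M _ hM'.2 243 (by decide) (by decide) y2 dec_y2
    have hf5 : mat M *ᵥ x3 = x3 := fix_of_stab M _ hM'.2 27 (by decide) (by decide) x3 dec_x3
    have hf6 : mat M *ᵥ y3 = y3 := fix_of_stab M _ hM'.2 729 (by decide) (by decide) y3 dec_y3
    change tb K7 (ρ M ⟨1, by decide⟩ : Fin 2187) = true
    rw [ρ_apply, dec_e0]
    apply in_K7
    · rw [dec_enc]
      intro h0
      apply ne_e0
      apply mulVec_inj M
      rw [h0, mulVec_zero]
    · rw [dec_enc, Q_o, Q_e0]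
    · rw [dec_enc]
      have h1 := B_o M x1 e0
      rw [hf1, B_x1_e0, B_x1] at h1
      exact h1
    · rw [dec_enc]
      have h1 := B_o M y1 e0
      rw [hf2, B_y1_e0, B_y1] at h1
      exact h1
    · rw [dec_enc]
      have h1 := B_o M x2 e0
      rw [hf3, B_x2_e0, B_x2] at h1
      exact h1
    · rw [dec_enc]
      have h1 := B_o M y2 e0
      rw [hf4, B_y2_e0, B_y2] at h1
      exact h1
    · rw [dec_enc]
      have h1 := B_o M x3 e0
      rw [hf5, B_x3_e0, B_x3] at h1
      exact h1
    · rw [dec_enc]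
      have h1 := B_o M y3 e0
      rw [hf6, B_y3_e0, B_y3] at h1
      exact h1
    )
  rw [ncard_mask, cntK7] at h
  exact h

theorem vec_eq (v : V7) : v = v (.inr (.inl 0)) • x1 + v (.inr (.inr 0)) • y1 + v (.inr (.inl 1)) • x2 +
    v (.inr (.inr 1)) • y2 + v (.inr (.inl 2)) • x3 + v (.inr (.inr 2)) • y3 + v (.inl ()) • e0 := by
  ext i
  rcases i with u | i | i
  · simp [x1, y1, x2, y2, x3, y3, e0]
  · fin_cases i <;> simp [x1, y1, x2, y2, x3, y3, e0]
  · fin_cases i <;> simp [x1, y1, x2, y2, x3, y3, e0]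

theorem last_trivial : (⊤ : Subgroup O7) ⊓ stabL ρ ([1, 729, 27, 243, 9, 81, 3] : List ℕ) = ⊥ := by
  rw [eq_bot_iff]
  intro M hM
  have hM' := Subgroup.mem_inf.mp hM
  have hf1 : mat M *ᵥ x1 = x1 := fix_of_stab M _ hM'.2 3 (by decide) (by decide) x1 dec_x1
  have hf2 : mat M *ᵥ y1 = y1 := fix_of_stab M _ hM'.2 81 (by decide) (by decide) y1 dec_y1
  have hf3 : mat M *ᵥ x2 = x2 := fix_of_stab M _ hM'.2 9 (by decide) (by decide) x2 dec_x2
  have hf4 : mat M *ᵥ y2 = y2 := fix_of_stab M _ hM'.2 243 (by decide) (by decide) y2 dec_y2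
  have hf5 : mat M *ᵥ x3 = x3 := fix_of_stab M _ hM'.2 27 (by decide) (by decide) x3 dec_x3
  have hf6 : mat M *ᵥ y3 = y3 := fix_of_stab M _ hM'.2 729 (by decide) (by decide) y3 dec_y3
  have hf7 : mat M *ᵥ e0 = e0 := fix_of_stab M _ hM'.2 1 (by decide) (by decide) e0 dec_e0
  rw [Subgroup.mem_bot]
  apply eq_of_mulVec
  intro x
  rw [mat_one, one_mulVec]
  conv_lhs => rw [vec_eq x]
  rw [mulVec_add, mulVec_add, mulVec_add, mulVec_add, mulVec_add, mulVec_add, mulVec_smul,
    mulVec_smul, mulVec_smul, mulVec_smul, mulVec_smul, mulVec_smul, mulVec_smul, hf1, hf2, hf3,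
    hf4, hf5, hf6, hf7]
  exact (vec_eq x).symm

theorem card_O7 : Nat.card O7 ≤ 18341406720 := by
  have h0 : Nat.card O7 = Nat.card ↥((⊤ : Subgroup O7) ⊓ stabL ρ ([] : List ℕ)) := by
    rw [stabL_nil, inf_top_eq]
    exact (Nat.card_congr Subgroup.topEquiv.toEquiv).symm
  have h8 : Nat.card ↥((⊤ : Subgroup O7) ⊓ stabL ρ ([1, 729, 27, 243, 9, 81, 3] : List ℕ)) = 1 := by
    rw [last_trivial]
    exact Subgroup.card_bot
  have b1 := bound1
  have b2 := bound2
  have b3 := bound3
  have b4 := bound4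
  have b5 := bound5
  have b6 := bound6
  have b7 := bound7
  omega

end Cfsg.Agent.Lib.H17.O7Bound
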