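import Cfsg.Agent.Lib.H17.O7Chain
import Cfsg.Agent.Lib.H17.RestrictPerm
import Cfsg.Agent.Lib.H17.Fi22Ord.Word
import Cfsg.Agent.Lib.H17.Fi22O73.Lower
import Cfsg.Agent.Lib.H17.Iwa

set_option autoImplicit false
set_option maxRecDepth 100000

/-! # The subgroup `⟨b, …, i⟩` of the Fischer group `Fi22` acts faithfully on 351 transpositions

Its image is the group `P1` generated by the eight tables; it is perfect. -/

namespace Cfsg.Agent.Lib.H17.O7K

open Cfsg.Spor Cfsg.Agent.Lib.H17.CosetCert Cfsg.Agent.Lib.H17.Sgs Cfsg.Agent.Lib.H17.Fi22Glue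
  Cfsg.Agent.Lib.H17.Fi22U62 Cfsg.Agent.Lib.H17.Fi22Word Cfsg.Agent.Lib.H17.O7Lines
  Cfsg.Agent.Lib.H17.O7Chain Cfsg.Agent.Lib.H17.RestrictPerm Cfsg.Agent.Lib.H17.Iwa

attribute [local instance] Cfsg.Agent.Lib.H17.Fi22Word.finite_G

/-! ## Homomorphisms onto `P1` -/

theorem card_range_mul_ker {A : Type*} [Group A] (f : A →* Equiv.Perm (Fin 3510)) :
    Nat.card f.range * Nat.card f.ker = Nat.card A := by
  rw [← Subgroup.index_ker, mul_comm]
  exact Subgroup.card_mul_index f.ker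

/-- a group with an injective homomorphism onto `P1` is isomorphic to it -/
noncomputable def isoOfHom {A : Type*} [Group A] (f : A →* Equiv.Perm (Fin 3510))
    (hinj : Function.Injective f) (hr : f.range = P1) : A ≃* P1 :=
  (MonoidHom.ofInjective hinj).trans (MulEquiv.subgroupCongr hr)

/-- a group with an injective homomorphism onto `P1` has trivial centre -/
theorem center_eq_bot_of_hom {A : Type*} [Group A] (f : A →* Equiv.Perm (Fin 3510))
    (hinj : Function.Injective f) (hr : f.range = P1) : Subgroup.center A = ⊥ := by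
  rw [eq_bot_iff]
  intro z hz
  rw [Subgroup.mem_bot]
  apply hinj
  rw [map_one]
  apply center_trivial (f z)
  · rw [← hr]
    exact ⟨z, rfl⟩
  · intro q hq
    rw [← hr] at hq
    obtain ⟨k, rfl⟩ := hq
    rw [← map_mul, ← map_mul, Subgroup.mem_center_iff.mp hz k]

theorem commutator_eq_top_of_equiv {A B : Type*} [Group A] [Group B] (e : A ≃* B)
    (h : commutator A = ⊤) : commutator B = ⊤ := by
  have h1 := Subgroup.map_commutator (⊤ : Subgroup A) ⊤ e.toMonoidHom
  rw [← commutator_def, h, Subgroup.map_top_of_surjective _ e.surjective, ← commutator_def] at h1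
  exact h1.symm

/-! ## The subgroup -/

/-- the subgroup `⟨b, …, i⟩` -/
abbrev K : Subgroup G := Cfsg.Agent.Lib.H17.Fi22O73.H

theorem card_K : Nat.card K = 4585351680 := by
  have h := Subgroup.index_mul_card K
  rw [Cfsg.Agent.Lib.H17.Fi22O73.index_eq, Cfsg.Agent.Lib.H17.Fi22Ord.card_eq] at h
  omega

theorem K_eq : (K : Subgroup G) =
    Subgroup.closure ((PresentedGroup.mk rels) '' Cfsg.Agent.Lib.H17.Fi22O73.S) :=
  MonoidHom.map_closure _ _

/-- the words of the eight generators -/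
def kw (k : Fin 8) : List ℕ := [k.val + 1]

theorem of_mem_K (x : ℕ) (hx : 1 ≤ x ∧ x ≤ 8) : (PresentedGroup.of (gen x) : G) ∈ K := by
  obtain ⟨h1, h8⟩ := hx
  interval_cases x
  · exact Subgroup.mem_map_of_mem _ (Subgroup.subset_closure Cfsg.Agent.Lib.H17.Fi22O73.sg0_mem)
  · exact Subgroup.mem_map_of_mem _ (Subgroup.subset_closure Cfsg.Agent.Lib.H17.Fi22O73.sg1_mem)
  · exact Subgroup.mem_map_of_mem _ (Subgroup.subset_closure Cfsg.Agent.Lib.H17.Fi22O73.sg2_mem)
  · exact Subgroup.mem_map_of_mem _ (Subgroup.subset_closure Cfsg.Agent.Lib.H17.Fi22O73.sg3_mem)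
  · exact Subgroup.mem_map_of_mem _ (Subgroup.subset_closure Cfsg.Agent.Lib.H17.Fi22O73.sg4_mem)
  · exact Subgroup.mem_map_of_mem _ (Subgroup.subset_closure Cfsg.Agent.Lib.H17.Fi22O73.sg5_mem)
  · exact Subgroup.mem_map_of_mem _ (Subgroup.subset_closure Cfsg.Agent.Lib.H17.Fi22O73.sg6_mem)
  · exact Subgroup.mem_map_of_mem _ (Subgroup.subset_closure Cfsg.Agent.Lib.H17.Fi22O73.sg7_mem)

theorem e_kw_mem (k : Fin 8) : e (kw k) ∈ K := by
  rw [kw, e_singleton]
  exact of_mem_K _ ⟨by omega, by omega⟩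

/-- the eight generators -/
noncomputable def kg (k : Fin 8) : K := ⟨e (kw k), e_kw_mem k⟩

theorem kg_val (k : Fin 8) : ((kg k : K) : G) = e (kw k) := rfl

theorem kg_val' (k : Fin 8) : ((kg k : K) : G) = PresentedGroup.of (gen (k.val + 1)) := by
  rw [kg_val, kw, e_singleton]

theorem closure_kg : Subgroup.closure (Set.range kg) = ⊤ := by
  rw [eq_top_iff]
  intro h _
  have hle : Subgroup.closure ((PresentedGroup.mk rels) '' Cfsg.Agent.Lib.H17.Fi22O73.S) ≤
      (Subgroup.closure (Set.range kg)).map K.subtype := by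
    rw [Subgroup.closure_le]
    rintro _ ⟨s, hs, rfl⟩
    simp only [Cfsg.Agent.Lib.H17.Fi22O73.S, Set.mem_insert_iff, Set.mem_singleton_iff] at hs
    rcases hs with rfl | rfl | rfl | rfl | rfl | rfl | rfl | rfl
    · exact ⟨kg 0, Subgroup.subset_closure ⟨0, rfl⟩, kg_val' 0⟩
    · exact ⟨kg 1, Subgroup.subset_closure ⟨1, rfl⟩, kg_val' 1⟩
    · exact ⟨kg 2, Subgroup.subset_closure ⟨2, rfl⟩, kg_val' 2⟩
    · exact ⟨kg 3, Subgroup.subset_closure ⟨3, rfl⟩, kg_val' 3⟩
    · exact ⟨kg 4, Subgroup.subset_closure ⟨4, rfl⟩, kg_val' 4⟩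
    · exact ⟨kg 5, Subgroup.subset_closure ⟨5, rfl⟩, kg_val' 5⟩
    · exact ⟨kg 6, Subgroup.subset_closure ⟨6, rfl⟩, kg_val' 6⟩
    · exact ⟨kg 7, Subgroup.subset_closure ⟨7, rfl⟩, kg_val' 7⟩
  have hh : (h : G) ∈
      Subgroup.closure ((PresentedGroup.mk rels) '' Cfsg.Agent.Lib.H17.Fi22O73.S) := by
    rw [← K_eq]
    exact h.2
  obtain ⟨k, hk, hkh⟩ := hle hh
  have : k = h := Subtype.ext hkh
  rw [← this]
  exact hk

/-! ## The action on the 351 points -/

/-- the action on the 3510 points -/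
noncomputable def ψK : K →* Equiv.Perm (Fin 3510) := φ.comp K.subtype

theorem φ_gen_apply (x : ℕ) (i : Fin 3510) :
    ((φ (PresentedGroup.of (gen x)) i : Fin 3510) : ℕ) = lk 12 4096 (tabOf (gen x)) i := by
  rw [φ_of]
  exact σ_apply 12 4096 3510 _ (good_tabs _ (tabOf_mem _)) i

theorem gen_closed : ∀ k : Fin 8, ∀ i : Fin 3510, tb DM i = true →
    tb DM (lk 12 4096 (tabOf (gen (k.val + 1))) i) = true := by
  decide +kernel

theorem K_inv (h : K) (i : Fin 3510) (hi : tb DM i = true) : tb DM (ψK h i) = true := by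
  have key : ∀ g ∈ Subgroup.closure (Set.range kg), ∀ i ∈ {i : Fin 3510 | tb DM i = true},
      ψK g i ∈ {i : Fin 3510 | tb DM i = true} := by
    intro g hg
    induction hg using Subgroup.closure_induction with
    | mem s hs =>
      obtain ⟨k, rfl⟩ := hs
      intro i hi
      change tb DM ((φ ((kg k : K) : G) i : Fin 3510) : ℕ) = true
      rw [kg_val', φ_gen_apply]
      exact gen_closed k i hi
    | one => intro i hi; rw [map_one]; exact hi
    | mul a b _ _ iha ihb =>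
      intro i hi
      rw [map_mul, Equiv.Perm.mul_apply]
      exact iha _ (ihb _ hi)
    | inv a _ iha =>
      intro i hi
      rw [map_inv]
      exact perm_inv_stable (ψK a) _ iha i hi
  exact key h (by rw [closure_kg]; trivial) i hi

/-- the action on the 351 points -/
noncomputable def αK : K →* Equiv.Perm (Fin 3510) := restr ψK DM K_inv

/-- the tables of the eight generators on the 351 points -/
def rtOf : ℕ → ℕ
  | 0 => RT0
  | 1 => RT1
  | 2 => RT2
  | 3 => RT3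
  | 4 => RT4
  | 5 => RT5
  | 6 => RT6
  | _ => RT7

theorem rtOf_mem : ∀ k : Fin 8, rtOf k ∈ rtabs := by decide

theorem rt_check : ∀ k : Fin 8, ∀ i : Fin 3510,
    (if tb DM i = true then lk 12 4096 (tabOf (gen (k.val + 1))) i else (i : ℕ)) =
      lk 12 4096 (rtOf k) i := by
  decide +kernel

theorem αK_kg (k : Fin 8) : αK (kg k) = σ 12 4096 3510 (rtOf k) := by
  ext i
  rw [σ_apply 12 4096 3510 _ (good_rtabs _ (rtOf_mem k)), ← rt_check k i]
  by_cases h : tb DM i = true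
  · rw [if_pos h, αK, restr_apply_of_mem _ _ _ _ _ h]
    change ((φ ((kg k : K) : G) i : Fin 3510) : ℕ) = _
    rw [kg_val', φ_gen_apply]
  · rw [if_neg h, αK, restr_apply_of_not_mem _ _ _ _ _ h]

/-- the image of a group generated by eight elements acting by the eight tables is `P1` -/
theorem map_closure_eq_P1 {A : Type*} [Group A] (f : A →* Equiv.Perm (Fin 3510)) (g : Fin 8 → A)
    (hg : ∀ k, f (g k) = σ 12 4096 3510 (rtOf k)) :
    (Subgroup.closure (Set.range g)).map f = P1 := by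
  rw [MonoidHom.map_closure, P1]
  congr 1
  ext p
  constructor
  · rintro ⟨_, ⟨k, rfl⟩, rfl⟩
    exact ⟨rtOf k, rtOf_mem k, hg k⟩
  · rintro ⟨t, ht, rfl⟩
    simp only [rtabs, List.mem_cons, List.not_mem_nil, or_false] at ht
    rcases ht with rfl | rfl | rfl | rfl | rfl | rfl | rfl | rfl
    · exact ⟨g 0, ⟨0, rfl⟩, hg 0⟩
    · exact ⟨g 1, ⟨1, rfl⟩, hg 1⟩
    · exact ⟨g 2, ⟨2, rfl⟩, hg 2⟩
    · exact ⟨g 3, ⟨3, rfl⟩, hg 3⟩
    · exact ⟨g 4, ⟨4, rfl⟩, hg 4⟩
    · exact ⟨g 5, ⟨5, rfl⟩, hg 5⟩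
    · exact ⟨g 6, ⟨6, rfl⟩, hg 6⟩
    · exact ⟨g 7, ⟨7, rfl⟩, hg 7⟩

theorem range_αK : αK.range = P1 := by
  rw [MonoidHom.range_eq_map, ← closure_kg]
  exact map_closure_eq_P1 αK kg αK_kg

theorem finite_K : Finite K := inferInstance

theorem αK_facts : Nat.card P1 = 4585351680 ∧ Nat.card αK.ker = 1 := by
  have h1 := card_range_mul_ker αK
  rw [card_K, range_αK] at h1
  have h2 := card_P1_ge
  have h3 : 0 < Nat.card αK.ker := Nat.card_pos
  constructor <;> nlinarith

theorem card_P1 : Nat.card P1 = 4585351680 := αK_facts.1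

theorem αK_injective : Function.Injective αK := by
  rw [← MonoidHom.ker_eq_bot_iff]
  exact Subgroup.card_eq_one.mp αK_facts.2

/-- the subgroup is isomorphic to `P1` -/
noncomputable def isoK : K ≃* P1 := isoOfHom αK αK_injective range_αK

/-! ## Perfectness -/

theorem prod_kg (L : List (Fin 8)) :
    (((L.map kg).prod : K) : G) = e (List.flatMap kw L) := by
  induction L with
  | nil => rfl
  | cons k L ih =>
    rw [List.map_cons, List.prod_cons, Subgroup.coe_mul, ih, kg_val, List.flatMap_cons, e_append]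

theorem kg_mul_self (k : Fin 8) : kg k * kg k = 1 := by
  apply Subtype.ext
  rw [Subgroup.coe_mul, kg_val', Subgroup.coe_one]
  exact of_mul_self _

/-- the edges of the graph on the eight generators -/
def edgesK : List (Fin 8 × Fin 8) :=
  [(0, 1), (1, 2), (2, 3), (2, 6), (3, 4), (4, 5), (6, 7)]

theorem braid_check : ∀ p ∈ edgesK, ∀ c ∈ sbase,
    applyT 12 4096
      (tw ((kw p.1 ++ kw p.2) ++ ((kw p.1 ++ kw p.2) ++ (kw p.1 ++ kw p.2)))) c = c := by
  decide +kernel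

theorem braidK (x y : Fin 8) (h : (x, y) ∈ edgesK) : ∃ g : K, g * kg x * g⁻¹ = kg y := by
  apply isConj_of_braid (kg_mul_self x) (kg_mul_self y)
  apply Subtype.ext
  rw [pow_succ, pow_succ, pow_one, Subgroup.coe_mul, Subgroup.coe_mul, Subgroup.coe_mul, kg_val,
    kg_val, ← e_append, ← e_append, ← e_append]
  have := e_eq_one _ (braid_check (x, y) h)
  rw [Subgroup.coe_one, ← this]
  congr 1 <;> simp only [List.append_assoc]

theorem conj_transK {a b c : K} (h1 : ∃ g : K, g * a * g⁻¹ = b) (h2 : ∃ g : K, g * b * g⁻¹ = c) :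
    ∃ g : K, g * a * g⁻¹ = c := by
  obtain ⟨g, rfl⟩ := h1
  obtain ⟨h, rfl⟩ := h2
  exact ⟨h * g, by group⟩

theorem ck0 : ∃ g : K, g * kg 0 * g⁻¹ = kg 0 := ⟨1, by group⟩
theorem ck1 : ∃ g : K, g * kg 0 * g⁻¹ = kg 1 := braidK 0 1 (by decide)
theorem ck2 : ∃ g : K, g * kg 0 * g⁻¹ = kg 2 := conj_transK ck1 (braidK 1 2 (by decide))
theorem ck3 : ∃ g : K, g * kg 0 * g⁻¹ = kg 3 := conj_transK ck2 (braidK 2 3 (by decide))
theorem ck4 : ∃ g : K, g * kg 0 * g⁻¹ = kg 4 := conj_transK ck3 (braidK 3 4 (by decide))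
theorem ck5 : ∃ g : K, g * kg 0 * g⁻¹ = kg 5 := conj_transK ck4 (braidK 4 5 (by decide))
theorem ck6 : ∃ g : K, g * kg 0 * g⁻¹ = kg 6 := conj_transK ck2 (braidK 2 6 (by decide))
theorem ck7 : ∃ g : K, g * kg 0 * g⁻¹ = kg 7 := conj_transK ck6 (braidK 6 7 (by decide))

theorem conj_allK : ∀ s ∈ Set.range kg, ∃ g : K, g * kg 0 * g⁻¹ = s := by
  rintro _ ⟨k, rfl⟩
  fin_cases k
  · exact ck0
  · exact ck1
  · exact ck2
  · exact ck3
  · exact ck4
  · exact ck5
  · exact ck6
  · exact ck7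

/-- a relator of odd length -/
def oddK : List (Fin 8) :=
  [0, 1, 2, 3, 4, 5, 6, 0, 1, 2, 3, 4, 5, 6, 0, 1, 2, 3, 4, 5, 6, 0, 1, 2, 3, 4, 5, 6,
    0, 1, 2, 3, 4, 5, 6, 0, 1, 2, 3, 4, 5, 6, 0, 1, 2, 3, 4, 5, 6, 0, 1, 2, 3, 4, 5, 6,
    0, 1, 2, 3, 4, 5, 6]

theorem oddK_check : ∀ c ∈ sbase, applyT 12 4096 (tw (List.flatMap kw oddK)) c = c := by
  decide +kernel

theorem perfect_K : commutator K = ⊤ := by
  apply commutator_eq_top_of_odd_relation _ closure_kg (kg 0) conj_allK (kg_mul_self 0)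
    (oddK.map kg)
  · intro s hs
    obtain ⟨k, -, rfl⟩ := List.mem_map.mp hs
    exact ⟨k, rfl⟩
  · rw [List.length_map]
    decide
  · apply Subtype.ext
    rw [prod_kg, e_eq_one _ oddK_check]
    rfl

theorem perfect_P1 : commutator P1 = ⊤ := commutator_eq_top_of_equiv isoK perfect_K

end Cfsg.Agent.Lib.H17.O7K
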