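import Cfsg.Agent.Lib.H17.O7Lines

set_option autoImplicit false
set_option maxRecDepth 100000

/-! # The kernel of the action of `O(7, 3)` on the 351 pairs has at most two elements (generated) -/

namespace Cfsg.Agent.Lib.H17.O7Ker

open Matrix Cfsg.Agent.Lib.H17.CosetCert Cfsg.Agent.Lib.H17.Sgs Cfsg.Agent.Lib.H17.SgsCent Cfsg.Agent.Lib.H17.O7Vec Cfsg.Agent.Lib.H17.O7Refl Cfsg.Agent.Lib.H17.O7Lines

theorem negC_negC (y : Fin 2187) : negC (negC y) = y := by
  rw [negC, negC, dec_enc, neg_neg, enc_dec]

/-- an element of the kernel maps a vector of norm `-1` to itself or its opposite -/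
theorem ker_pm (M : O7) (hM : M ∈ αO.ker) (w : V7) (hw : Q w = 2) :
    mat M *ᵥ w = w ∨ mat M *ᵥ w = -w := by
  have hy : tb IM (enc w) = true := by
    rw [factD, dec_enc]
    exact hw
  have hB := factB _ hy
  have hfix : αO M (line (enc w)) = line (enc w) := by
    rw [MonoidHom.mem_ker.mp hM, Equiv.Perm.one_apply]
  rw [αO_apply] at hfix
  unfold O7Lines.act at hfix
  rw [if_pos hB.1, line_ρ_rep_line M _ hy] at hfix
  have hy' : tb IM (ρ M (enc w)) = true := IM_ρ M _ hy
  have hB' := factB _ hy'
  have key : ρ M (enc w) = enc w ∨ ρ M (enc w) = negC (enc w) := by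
    rcases hB.2 with h1 | h1 <;> rcases hB'.2 with h2 | h2
    · left
      rw [← h2, hfix, h1]
    · right
      have : negC (ρ M (enc w)) = enc w := by rw [← h2, hfix, h1]
      have h3 := congrArg negC this
      rw [negC_negC] at h3
      exact h3
    · right
      rw [← h2, hfix, h1]
    · left
      have : negC (ρ M (enc w)) = negC (enc w) := by rw [← h2, hfix, h1]
      have h3 := congrArg negC this
      rw [negC_negC, negC_negC] at h3
      exact h3
  rw [ρ_apply, dec_enc] at key
  rcases key with h | h
  · left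
    have := congrArg dec h
    rw [dec_enc, dec_enc] at this
    exact this
  · right
    have := congrArg dec h
    rw [negC, dec_enc, dec_enc, dec_enc] at this
    exact this

theorem fix_of_stab (M : O7) (bs : List ℕ) (hM : M ∈ stabL ρ bs) (c : ℕ) (hc : c < 2187)
    (hcm : c ∈ bs) (v : V7) (hv : dec ⟨c, hc⟩ = v) : mat M *ᵥ v = v := by
  have h := hM c hcm hc
  rw [ρ_apply, hv] at h
  have h2 := congrArg dec h
  rw [dec_enc, hv] at h2
  exact h2

theorem finite_O7 : Finite O7 := inferInstance

attribute [local instance] finite_O7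

/-- a vector of norm `-1` -/
def w1 : V7 := mkV 1 0 1 0 0 1 1

theorem Q_w1 : Q w1 = 2 := by decide

theorem dec_w1 : dec ⟨982, by decide⟩ = w1 := by decide

theorem enc_w1 : enc w1 = ⟨982, by decide⟩ := by decide

/-- a vector of the dual basis -/
def d1 : V7 := mkV 2 2 2 2 2 2 0

/-- a vector of norm `-1` -/
def w2 : V7 := mkV 1 1 0 0 1 0 2

theorem Q_w2 : Q w2 = 2 := by decide

theorem dec_w2 : dec ⟨1543, by decide⟩ = w2 := by decide

theorem enc_w2 : enc w2 = ⟨1543, by decide⟩ := by decide

/-- a vector of the dual basis -/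
def d2 : V7 := mkV 0 0 2 2 0 2 2

/-- a vector of norm `-1` -/
def w3 : V7 := mkV 0 2 2 1 2 1 2

theorem Q_w3 : Q w3 = 2 := by decide

theorem dec_w3 : dec ⟨1914, by decide⟩ = w3 := by decide

theorem enc_w3 : enc w3 = ⟨1914, by decide⟩ := by decide

/-- a vector of the dual basis -/
def d3 : V7 := mkV 2 0 0 2 1 0 1

/-- a vector of norm `-1` -/
def w4 : V7 := mkV 2 1 0 2 0 2 2

theorem Q_w4 : Q w4 = 2 := by decide

theorem dec_w4 : dec ⟨2003, by decide⟩ = w4 := by decide

theorem enc_w4 : enc w4 = ⟨2003, by decide⟩ := by decide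

/-- a vector of the dual basis -/
def d4 : V7 := mkV 0 2 2 2 0 2 1

/-- a vector of norm `-1` -/
def w5 : V7 := mkV 2 2 1 0 0 1 1

theorem Q_w5 : Q w5 = 2 := by decide

theorem dec_w5 : dec ⟨989, by decide⟩ = w5 := by decide

theorem enc_w5 : enc w5 = ⟨989, by decide⟩ := by decide

/-- a vector of the dual basis -/
def d5 : V7 := mkV 1 0 0 0 1 1 2

/-- a vector of norm `-1` -/
def w6 : V7 := mkV 2 1 2 1 2 2 1

theorem Q_w6 : Q w6 = 2 := by decide

theorem dec_w6 : dec ⟨1427, by decide⟩ = w6 := by decide

theorem enc_w6 : enc w6 = ⟨1427, by decide⟩ := by decide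

/-- a vector of the dual basis -/
def d6 : V7 := mkV 0 1 2 1 0 0 0

/-- a vector of norm `-1` -/
def w7 : V7 := mkV 2 0 1 2 1 2 1

theorem Q_w7 : Q w7 = 2 := by decide

theorem dec_w7 : dec ⟨1361, by decide⟩ = w7 := by decide

theorem enc_w7 : enc w7 = ⟨1361, by decide⟩ := by decide

/-- a vector of the dual basis -/
def d7 : V7 := mkV 2 2 0 1 1 1 2

/-- the mask of level 1 -/
def KK1 : ℕ := 0x100000000000000000000000000000000000000000000000000000000000000000000000000000000000000000000000000000000000000000000000000000000000000000000000000000000000000000000000000000000000000000000000000000000000000000000000000000000000000000000000000000400000000000000000000000000000000000000000000000000000000000000000000000000000000000000000000000000000000000000000000000000000000000000000000000000000000000000000000000000000000000000000000000000000000000000000000000000000000000000000000000000000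

theorem cntKK1 : countBits KK1 2187 0 = 2 := by decide +kernel

theorem in_KK1 : tb KK1 (enc w1).val = true ∧ tb KK1 (enc (-w1)).val = true := by decide +kernel

theorem kbound1 : Nat.card ↥(αO.ker ⊓ stabL ρ ([] : List ℕ)) ≤
    2 * Nat.card ↥(αO.ker ⊓ stabL ρ ([982] : List ℕ)) := by
  have h := card_inf_le ρ αO.ker ([] : List ℕ) 982 (by decide)
    {j : Fin 2187 | tb KK1 j = true} (by
    intro M hM
    have hM' := Subgroup.mem_inf.mp hM
    change tb KK1 (ρ M ⟨982, by decide⟩ : Fin 2187) = true
    rw [ρ_apply, dec_w1]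
    rcases ker_pm M hM'.1 w1 Q_w1 with h | h
    · rw [h]
      exact in_KK1.1
    · rw [h]
      exact in_KK1.2)
  rw [ncard_mask, cntKK1] at h
  exact h

/-- a vector of norm `-1` joining two vectors of the basis -/
def u2 : V7 := mkV 0 2 1 0 2 1 2

theorem Q_u2 : Q u2 = 2 := by decide

theorem u2_eq : u2 = w1 + (2 : ZMod 3) • w2 := by decide

theorem u2_ne : w1 + (2 : ZMod 3) • -w2 ≠ u2 ∧ w1 + (2 : ZMod 3) • -w2 ≠ -u2 := by decide

/-- the mask of level 2 -/
def KK2 : ℕ := 0x80000000000000000000000000000000000000000000000000000000000000000000000000000000000000000000000000000000000000000000000000000000000000000000000000000000000000000000000000000000000000000000000000000000000000000000000000000000000000000000000000000000000000000000000000000000000000000000000000000000000000000000000000000000000000000000000000000000000000000000000000000000000000000000000000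

theorem cntKK2 : countBits KK2 2187 0 = 1 := by decide +kernel

theorem in_KK2 : tb KK2 (enc w2).val = true := by decide +kernel

theorem kbound2 : Nat.card ↥(αO.ker ⊓ stabL ρ ([982] : List ℕ)) ≤
    1 * Nat.card ↥(αO.ker ⊓ stabL ρ ([1543, 982] : List ℕ)) := by
  have h := card_inf_le ρ αO.ker ([982] : List ℕ) 1543 (by decide)
    {j : Fin 2187 | tb KK2 j = true} (by
    intro M hM
    have hM' := Subgroup.mem_inf.mp hM
    have hf : mat M *ᵥ w1 = w1 := fix_of_stab M _ hM'.2 982 (by decide) (by decide) w1 dec_w1
    change tb KK2 (ρ M ⟨1543, by decide⟩ : Fin 2187) = true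
    rw [ρ_apply, dec_w2]
    rcases ker_pm M hM'.1 w2 Q_w2 with h | h
    · rw [h]
      exact in_KK2
    · exfalso
      have h2 := ker_pm M hM'.1 u2 Q_u2
      rw [u2_eq, mulVec_add, mulVec_smul, hf, h, ← u2_eq] at h2
      rcases h2 with h2 | h2
      · exact u2_ne.1 h2
      · exact u2_ne.2 h2)
  rw [ncard_mask, cntKK2] at h
  exact h

/-- a vector of norm `-1` joining two vectors of the basis -/
def u3 : V7 := mkV 1 2 0 1 2 2 0

theorem Q_u3 : Q u3 = 2 := by decide

theorem u3_eq : u3 = w1 + (1 : ZMod 3) • w3 := by decide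

theorem u3_ne : w1 + (1 : ZMod 3) • -w3 ≠ u3 ∧ w1 + (1 : ZMod 3) • -w3 ≠ -u3 := by decide

/-- the mask of level 3 -/
def KK3 : ℕ := 0x40000000000000000000000000000000000000000000000000000000000000000000000000000000000000000000000000000000000000000000000000000000000000000000000000000000000000000000000000000000000000000000000000000000000000000000000000000000000000000000000000000000000000000000000000000000000000000000000000000000000000000000000000000000000000000000000000000000000000000000000000000000000000000000000000000000000000000000000000000000000000000000000000000000000000000000000000000000000000000000000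

theorem cntKK3 : countBits KK3 2187 0 = 1 := by decide +kernel

theorem in_KK3 : tb KK3 (enc w3).val = true := by decide +kernel

theorem kbound3 : Nat.card ↥(αO.ker ⊓ stabL ρ ([1543, 982] : List ℕ)) ≤
    1 * Nat.card ↥(αO.ker ⊓ stabL ρ ([1914, 1543, 982] : List ℕ)) := by
  have h := card_inf_le ρ αO.ker ([1543, 982] : List ℕ) 1914 (by decide)
    {j : Fin 2187 | tb KK3 j = true} (by
    intro M hM
    have hM' := Subgroup.mem_inf.mp hM
    have hf : mat M *ᵥ w1 = w1 := fix_of_stab M _ hM'.2 982 (by decide) (by decide) w1 dec_w1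
    change tb KK3 (ρ M ⟨1914, by decide⟩ : Fin 2187) = true
    rw [ρ_apply, dec_w3]
    rcases ker_pm M hM'.1 w3 Q_w3 with h | h
    · rw [h]
      exact in_KK3
    · exfalso
      have h2 := ker_pm M hM'.1 u3 Q_u3
      rw [u3_eq, mulVec_add, mulVec_smul, hf, h, ← u3_eq] at h2
      rcases h2 with h2 | h2
      · exact u3_ne.1 h2
      · exact u3_ne.2 h2)
  rw [ncard_mask, cntKK3] at h
  exact h

/-- a vector of norm `-1` joining two vectors of the basis -/
def u4 : V7 := mkV 2 2 1 1 0 2 2

theorem Q_u4 : Q u4 = 2 := by decide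

theorem u4_eq : u4 = w1 + (2 : ZMod 3) • w4 := by decide

theorem u4_ne : w1 + (2 : ZMod 3) • -w4 ≠ u4 ∧ w1 + (2 : ZMod 3) • -w4 ≠ -u4 := by decide

/-- the mask of level 4 -/
def KK4 : ℕ := 0x800000000000000000000000000000000000000000000000000000000000000000000000000000000000000000000000000000000000000000000000000000000000000000000000000000000000000000000000000000000000000000000000000000000000000000000000000000000000000000000000000000000000000000000000000000000000000000000000000000000000000000000000000000000000000000000000000000000000000000000000000000000000000000000000000000000000000000000000000000000000000000000000000000000000000000000000000000000000000000000000000000000000000000000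

theorem cntKK4 : countBits KK4 2187 0 = 1 := by decide +kernel

theorem in_KK4 : tb KK4 (enc w4).val = true := by decide +kernel

theorem kbound4 : Nat.card ↥(αO.ker ⊓ stabL ρ ([1914, 1543, 982] : List ℕ)) ≤
    1 * Nat.card ↥(αO.ker ⊓ stabL ρ ([2003, 1914, 1543, 982] : List ℕ)) := by
  have h := card_inf_le ρ αO.ker ([1914, 1543, 982] : List ℕ) 2003 (by decide)
    {j : Fin 2187 | tb KK4 j = true} (by
    intro M hM
    have hM' := Subgroup.mem_inf.mp hM
    have hf : mat M *ᵥ w1 = w1 := fix_of_stab M _ hM'.2 982 (by decide) (by decide) w1 dec_w1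
    change tb KK4 (ρ M ⟨2003, by decide⟩ : Fin 2187) = true
    rw [ρ_apply, dec_w4]
    rcases ker_pm M hM'.1 w4 Q_w4 with h | h
    · rw [h]
      exact in_KK4
    · exfalso
      have h2 := ker_pm M hM'.1 u4 Q_u4
      rw [u4_eq, mulVec_add, mulVec_smul, hf, h, ← u4_eq] at h2
      rcases h2 with h2 | h2
      · exact u4_ne.1 h2
      · exact u4_ne.2 h2)
  rw [ncard_mask, cntKK4] at h
  exact h

/-- a vector of norm `-1` joining two vectors of the basis -/
def u5 : V7 := mkV 1 0 1 1 2 0 1

theorem Q_u5 : Q u5 = 2 := by decide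

theorem u5_eq : u5 = w3 + (2 : ZMod 3) • w5 := by decide

theorem u5_ne : w3 + (2 : ZMod 3) • -w5 ≠ u5 ∧ w3 + (2 : ZMod 3) • -w5 ≠ -u5 := by decide

/-- the mask of level 5 -/
def KK5 : ℕ := 0x20000000000000000000000000000000000000000000000000000000000000000000000000000000000000000000000000000000000000000000000000000000000000000000000000000000000000000000000000000000000000000000000000000000000000000000000000000000000000000000000000000000

theorem cntKK5 : countBits KK5 2187 0 = 1 := by decide +kernel

theorem in_KK5 : tb KK5 (enc w5).val = true := by decide +kernel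

theorem kbound5 : Nat.card ↥(αO.ker ⊓ stabL ρ ([2003, 1914, 1543, 982] : List ℕ)) ≤
    1 * Nat.card ↥(αO.ker ⊓ stabL ρ ([989, 2003, 1914, 1543, 982] : List ℕ)) := by
  have h := card_inf_le ρ αO.ker ([2003, 1914, 1543, 982] : List ℕ) 989 (by decide)
    {j : Fin 2187 | tb KK5 j = true} (by
    intro M hM
    have hM' := Subgroup.mem_inf.mp hM
    have hf : mat M *ᵥ w3 = w3 := fix_of_stab M _ hM'.2 1914 (by decide) (by decide) w3 dec_w3
    change tb KK5 (ρ M ⟨989, by decide⟩ : Fin 2187) = true
    rw [ρ_apply, dec_w5]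
    rcases ker_pm M hM'.1 w5 Q_w5 with h | h
    · rw [h]
      exact in_KK5
    · exfalso
      have h2 := ker_pm M hM'.1 u5 Q_u5
      rw [u5_eq, mulVec_add, mulVec_smul, hf, h, ← u5_eq] at h2
      rcases h2 with h2 | h2
      · exact u5_ne.1 h2
      · exact u5_ne.2 h2)
  rw [ncard_mask, cntKK5] at h
  exact h

/-- a vector of norm `-1` joining two vectors of the basis -/
def u6 : V7 := mkV 0 1 2 2 1 2 0

theorem Q_u6 : Q u6 = 2 := by decide

theorem u6_eq : u6 = w5 + (2 : ZMod 3) • w6 := by decide

theorem u6_ne : w5 + (2 : ZMod 3) • -w6 ≠ u6 ∧ w5 + (2 : ZMod 3) • -w6 ≠ -u6 := by decide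

/-- the mask of level 6 -/
def KK6 : ℕ := 0x800000000000000000000000000000000000000000000000000000000000000000000000000000000000000000000000000000000000000000000000000000000000000000000000000000000000000000000000000000000000000000000000000000000000000000000000000000000000000000000000000000000000000000000000000000000000000000000000000000000000000000000000000000000000000000000000000000000000000000000

theorem cntKK6 : countBits KK6 2187 0 = 1 := by decide +kernel

theorem in_KK6 : tb KK6 (enc w6).val = true := by decide +kernel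

theorem kbound6 : Nat.card ↥(αO.ker ⊓ stabL ρ ([989, 2003, 1914, 1543, 982] : List ℕ)) ≤
    1 * Nat.card ↥(αO.ker ⊓ stabL ρ ([1427, 989, 2003, 1914, 1543, 982] : List ℕ)) := by
  have h := card_inf_le ρ αO.ker ([989, 2003, 1914, 1543, 982] : List ℕ) 1427 (by decide)
    {j : Fin 2187 | tb KK6 j = true} (by
    intro M hM
    have hM' := Subgroup.mem_inf.mp hM
    have hf : mat M *ᵥ w5 = w5 := fix_of_stab M _ hM'.2 989 (by decide) (by decide) w5 dec_w5
    change tb KK6 (ρ M ⟨1427, by decide⟩ : Fin 2187) = true
    rw [ρ_apply, dec_w6]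
    rcases ker_pm M hM'.1 w6 Q_w6 with h | h
    · rw [h]
      exact in_KK6
    · exfalso
      have h2 := ker_pm M hM'.1 u6 Q_u6
      rw [u6_eq, mulVec_add, mulVec_smul, hf, h, ← u6_eq] at h2
      rcases h2 with h2 | h2
      · exact u6_ne.1 h2
      · exact u6_ne.2 h2)
  rw [ncard_mask, cntKK6] at h
  exact h

/-- a vector of norm `-1` joining two vectors of the basis -/
def u7 : V7 := mkV 0 1 2 0 2 0 1

theorem Q_u7 : Q u7 = 2 := by decide

theorem u7_eq : u7 = w4 + (2 : ZMod 3) • w7 := by decide

theorem u7_ne : w4 + (2 : ZMod 3) • -w7 ≠ u7 ∧ w4 + (2 : ZMod 3) • -w7 ≠ -u7 := by decide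

/-- the mask of level 7 -/
def KK7 : ℕ := 0x20000000000000000000000000000000000000000000000000000000000000000000000000000000000000000000000000000000000000000000000000000000000000000000000000000000000000000000000000000000000000000000000000000000000000000000000000000000000000000000000000000000000000000000000000000000000000000000000000000000000000000000000000000000000000000000000000000

theorem cntKK7 : countBits KK7 2187 0 = 1 := by decide +kernel

theorem in_KK7 : tb KK7 (enc w7).val = true := by decide +kernel

theorem kbound7 : Nat.card ↥(αO.ker ⊓ stabL ρ ([1427, 989, 2003, 1914, 1543, 982] : List ℕ)) ≤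
    1 * Nat.card ↥(αO.ker ⊓ stabL ρ ([1361, 1427, 989, 2003, 1914, 1543, 982] : List ℕ)) := by
  have h := card_inf_le ρ αO.ker ([1427, 989, 2003, 1914, 1543, 982] : List ℕ) 1361 (by decide)
    {j : Fin 2187 | tb KK7 j = true} (by
    intro M hM
    have hM' := Subgroup.mem_inf.mp hM
    have hf : mat M *ᵥ w4 = w4 := fix_of_stab M _ hM'.2 2003 (by decide) (by decide) w4 dec_w4
    change tb KK7 (ρ M ⟨1361, by decide⟩ : Fin 2187) = true
    rw [ρ_apply, dec_w7]
    rcases ker_pm M hM'.1 w7 Q_w7 with h | h
    · rw [h]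
      exact in_KK7
    · exfalso
      have h2 := ker_pm M hM'.1 u7 Q_u7
      rw [u7_eq, mulVec_add, mulVec_smul, hf, h, ← u7_eq] at h2
      rcases h2 with h2 | h2
      · exact u7_ne.1 h2
      · exact u7_ne.2 h2)
  rw [ncard_mask, cntKK7] at h
  exact h

theorem wvec_eq : ∀ y : Fin 2187, dec y = B (dec y) d1 • w1 + B (dec y) d2 • w2 + B (dec y) d3 • w3 + B (dec y) d4 • w4 + B (dec y) d5 • w5 + B (dec y) d6 • w6 + B (dec y) d7 • w7 := by
  decide +kernel

theorem klast : αO.ker ⊓ stabL ρ ([1361, 1427, 989, 2003, 1914, 1543, 982] : List ℕ) = ⊥ := by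
  rw [eq_bot_iff]
  intro M hM
  have hM' := Subgroup.mem_inf.mp hM
  have hf1 : mat M *ᵥ w1 = w1 := fix_of_stab M _ hM'.2 982 (by decide) (by decide) w1 dec_w1
  have hf2 : mat M *ᵥ w2 = w2 := fix_of_stab M _ hM'.2 1543 (by decide) (by decide) w2 dec_w2
  have hf3 : mat M *ᵥ w3 = w3 := fix_of_stab M _ hM'.2 1914 (by decide) (by decide) w3 dec_w3
  have hf4 : mat M *ᵥ w4 = w4 := fix_of_stab M _ hM'.2 2003 (by decide) (by decide) w4 dec_w4
  have hf5 : mat M *ᵥ w5 = w5 := fix_of_stab M _ hM'.2 989 (by decide) (by decide) w5 dec_w5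
  have hf6 : mat M *ᵥ w6 = w6 := fix_of_stab M _ hM'.2 1427 (by decide) (by decide) w6 dec_w6
  have hf7 : mat M *ᵥ w7 = w7 := fix_of_stab M _ hM'.2 1361 (by decide) (by decide) w7 dec_w7
  rw [Subgroup.mem_bot]
  apply eq_of_mulVec
  intro x
  rw [mat_one, one_mulVec]
  have hx := wvec_eq (enc x)
  rw [dec_enc] at hx
  conv_lhs => rw [hx]
  rw [mulVec_add, mulVec_add, mulVec_add, mulVec_add, mulVec_add, mulVec_add, mulVec_smul,
    mulVec_smul, mulVec_smul, mulVec_smul, mulVec_smul, mulVec_smul, mulVec_smul, hf1, hf2, hf3,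
    hf4, hf5, hf6, hf7]
  exact hx.symm

theorem card_ker : Nat.card αO.ker ≤ 2 := by
  have h0 : Nat.card αO.ker = Nat.card ↥(αO.ker ⊓ stabL ρ ([] : List ℕ)) := by
    rw [stabL_nil, inf_top_eq]
  have h8 : Nat.card ↥(αO.ker ⊓ stabL ρ ([1361, 1427, 989, 2003, 1914, 1543, 982] : List ℕ)) = 1 := by
    rw [klast]
    exact Subgroup.card_bot
  have b1 := kbound1
  have b2 := kbound2
  have b3 := kbound3
  have b4 := kbound4
  have b5 := kbound5
  have b6 := kbound6
  have b7 := kbound7
  omega

end Cfsg.Agent.Lib.H17.O7Ker
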