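import Cfsg.Agent.Lib.H17.O7T

set_option autoImplicit false
set_option maxRecDepth 100000

/-! # The subgroup `⟨b, …, i⟩` of the Fischer group `Fi22` is isomorphic to `PΩ(7, 3)` -/

namespace Cfsg.Agent.Lib.H17.O7Main

open Matrix Cfsg.Agent.Lib.H17.CosetCert Cfsg.Agent.Lib.H17.Sgs Cfsg.Agent.Lib.H17.O7Vec
  Cfsg.Agent.Lib.H17.O7Refl Cfsg.Agent.Lib.H17.O7Lines Cfsg.Agent.Lib.H17.O7Chain
  Cfsg.Agent.Lib.H17.O7Ker Cfsg.Agent.Lib.H17.O7K Cfsg.Agent.Lib.H17.O7T

/-- the commutator subgroup of the orthogonal group -/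
abbrev Om : Subgroup O7 := commutator O7

/-- the action of the commutator subgroup on the 351 points -/
noncomputable def αΩ : Om →* Equiv.Perm (Fin 3510) := αO.comp Om.subtype

theorem range_αΩ : αΩ.range = P1 := by
  rw [αΩ, MonoidHom.range_comp, Subgroup.range_subtype]
  have h : Om = T := commutator_eq_T
  rw [h]
  exact map_T

theorem αΩ_injective : Function.Injective αΩ := by
  rw [← MonoidHom.ker_eq_bot_iff, eq_bot_iff]
  intro x hx
  rw [Subgroup.mem_bot]
  apply Subtype.ext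
  have hxT : (x : O7) ∈ T := by
    rw [← commutator_eq_T]
    exact x.2
  have h1 : (x : O7) ∈ T ⊓ αO.ker := Subgroup.mem_inf.mpr ⟨hxT, hx⟩
  rw [T_inf_ker, Subgroup.mem_bot] at h1
  exact h1

/-- the commutator subgroup is isomorphic to `P1` -/
noncomputable def isoΩ : Om ≃* P1 := isoOfHom αΩ αΩ_injective range_αΩ

theorem center_Ω : Subgroup.center Om = ⊥ := center_eq_bot_of_hom αΩ αΩ_injective range_αΩ

/-- the quotient by the trivial centre -/
noncomputable def isoP : Cfsg.POmega (ZMod 3) (Cfsg.quadFormOdd 3 (ZMod 3)) ≃* Om :=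
  (QuotientGroup.quotientMulEquivOfEq center_Ω).trans QuotientGroup.quotientBot

theorem main : Nonempty (K ≃* Cfsg.POmega (ZMod 3) (Cfsg.quadFormOdd 3 (ZMod 3))) :=
  ⟨isoK.trans (isoΩ.symm.trans isoP.symm)⟩

end Cfsg.Agent.Lib.H17.O7Main
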