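import Cfsg.Agent.Lib.H17.O7Vec

set_option autoImplicit false
set_option maxRecDepth 100000

/-! # Negatives of reflections in `O(7, 3)` -/

namespace Cfsg.Agent.Lib.H17.O7Refl

open Matrix Cfsg.Agent.Lib.H17.O7Vec

theorem rank_one_mulVec (w b x : V7) :
    (replicateCol Unit w * replicateRow Unit b) *ᵥ x = (b ⬝ᵥ x) • w := by
  ext i
  simp only [mulVec, dotProduct, mul_apply, replicateCol_apply, replicateRow_apply,
    Finset.univ_unique, Finset.sum_singleton, Pi.smul_apply, smul_eq_mul]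
  rw [Finset.sum_mul]
  apply Finset.sum_congr rfl
  intro j _
  ring

/-- the matrix of the negative of the reflection in the vector `w` of norm `-1` -/
def nrMat (w : V7) : Matrix I7 I7 (ZMod 3) :=
  -(1 + replicateCol Unit w * replicateRow Unit (bvec w))

theorem nrMat_mulVec (w x : V7) : nrMat w *ᵥ x = -x - B x w • w := by
  rw [nrMat, neg_mulVec, add_mulVec, one_mulVec, rank_one_mulVec, bvec_dot, neg_add, sub_eq_add_neg]

theorem three_eq_zero : (3 : ZMod 3) = 0 := by decide

theorem nrMat_nrMat (w : V7) (hw : Q w = 2) (x : V7) : nrMat w *ᵥ (nrMat w *ᵥ x) = x := by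
  rw [nrMat_mulVec, nrMat_mulVec, sub_eq_add_neg (-x), B_add_left, B_neg_left, B_neg_left,
    B_smul_left, B_self, hw]
  ext i
  simp only [Pi.add_apply, Pi.neg_apply, Pi.smul_apply, smul_eq_mul, Pi.sub_apply]
  have h3 := three_eq_zero
  linear_combination (2 * B x w * w i) * h3

theorem nrMat_mul_self (w : V7) (hw : Q w = 2) : nrMat w * nrMat w = 1 := by
  apply mat_ext
  intro x
  rw [← mulVec_mulVec, nrMat_nrMat w hw, one_mulVec]

theorem Q_nrMat (w : V7) (hw : Q w = 2) (x : V7) : Q (nrMat w *ᵥ x) = Q x := by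
  rw [nrMat_mulVec, sub_eq_add_neg, ← neg_add, Q_neg, Q_add, Q_smul, hw, B_smul_right]
  have h3 := three_eq_zero
  linear_combination (B x w ^ 2) * h3

/-- the negative of the reflection in the vector `w` of norm `-1` -/
def nr (w : V7) (hw : Q w = 2) : O7 :=
  ⟨⟨nrMat w, nrMat w, nrMat_mul_self w hw, nrMat_mul_self w hw⟩, (mem_O7 _).mpr (Q_nrMat w hw)⟩

theorem mat_nr (w : V7) (hw : Q w = 2) : mat (nr w hw) = nrMat w := rfl

theorem nr_mulVec (w : V7) (hw : Q w = 2) (x : V7) : mat (nr w hw) *ᵥ x = -x - B x w • w := by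
  rw [mat_nr, nrMat_mulVec]

theorem nr_mul_self (w : V7) (hw : Q w = 2) : nr w hw * nr w hw = 1 := by
  apply eq_of_mulVec
  intro x
  rw [mat_mul, ← mulVec_mulVec, mat_nr, nrMat_nrMat w hw, mat_one, one_mulVec]

theorem card_I7 : Fintype.card I7 = 7 := by decide

theorem det_nrMat (w : V7) (hw : Q w = 2) : (nrMat w).det = 1 := by
  rw [nrMat, det_neg, det_one_add_replicateCol_mul_replicateRow, bvec_dot, B_self, hw, card_I7]
  decide

/-- conjugation of the negative of a reflection -/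
theorem conj_nr (M : O7) (w : V7) (hw : Q w = 2) :
    M * nr w hw * M⁻¹ = nr (mat M *ᵥ w) (by rw [Q_o]; exact hw) := by
  apply eq_of_mulVec
  intro x
  rw [mat_mul, mat_mul, ← mulVec_mulVec, ← mulVec_mulVec, nr_mulVec, nr_mulVec, mulVec_sub,
    mulVec_neg, mulVec_smul, mulVec_mulVec, ← mat_mul, mul_inv_cancel, mat_one, one_mulVec]
  congr 2
  have h := B_o M (mat M⁻¹ *ᵥ x) w
  rw [mulVec_mulVec, ← mat_mul, mul_inv_cancel, mat_one, one_mulVec] at h
  exact h.symm

/-- opposite vectors give the same element -/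
theorem nr_neg (w : V7) (hw : Q w = 2) : nr (-w) (by rw [Q_neg]; exact hw) = nr w hw := by
  apply eq_of_mulVec
  intro x
  rw [nr_mulVec, nr_mulVec, B_neg_right, smul_neg, neg_smul, neg_neg]

/-- the matrix `-1` -/
def negOne : O7 :=
  ⟨-1, (mem_O7 _).mpr (fun u => by
    rw [Units.val_neg, Units.val_one, neg_mulVec, one_mulVec, Q_neg])⟩

theorem negOne_mulVec (x : V7) : mat negOne *ᵥ x = -x := by
  change ((-1 : GL7) : Matrix I7 I7 (ZMod 3)) *ᵥ x = -x
  rw [Units.val_neg, Units.val_one, neg_mulVec, one_mulVec]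

theorem det_negOne : (mat negOne).det = -1 := by
  change ((-1 : GL7) : Matrix I7 I7 (ZMod 3)).det = -1
  rw [Units.val_neg, Units.val_one, det_neg, det_one, card_I7]
  decide

end Cfsg.Agent.Lib.H17.O7Refl
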