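import Cfsg.Agent.Lib.H17.O7K
import Cfsg.Agent.Lib.H17.O7Ker

set_option autoImplicit false
set_option maxRecDepth 100000

/-! # The commutator subgroup of `O(7, 3)` is generated by eight negatives of reflections and acts
faithfully on the 351 pairs, with image `P1` -/

namespace Cfsg.Agent.Lib.H17.O7T

open Matrix Cfsg.Agent.Lib.H17.CosetCert Cfsg.Agent.Lib.H17.Sgs Cfsg.Agent.Lib.H17.O7Vec
  Cfsg.Agent.Lib.H17.O7Refl Cfsg.Agent.Lib.H17.O7Lines Cfsg.Agent.Lib.H17.O7Chain
  Cfsg.Agent.Lib.H17.O7Ker Cfsg.Agent.Lib.H17.O7K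

theorem finite_O7 : Finite O7 := inferInstance

attribute [local instance] finite_O7

/-- the eight generators -/
noncomputable def tgN : ℕ → O7
  | 0 => nr v0 nrm0
  | 1 => nr v1 nrm1
  | 2 => nr v2 nrm2
  | 3 => nr v3 nrm3
  | 4 => nr v4 nrm4
  | 5 => nr v5 nrm5
  | 6 => nr v6 nrm6
  | _ => nr v7 nrm7

/-- the eight generators -/
noncomputable def tg (k : Fin 8) : O7 := tgN k.val

theorem αO_tg (k : Fin 8) : αO (tg k) = σ 12 4096 3510 (rtOf k) := by
  fin_cases k
  · exact αO_nr0
  · exact αO_nr1
  · exact αO_nr2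
  · exact αO_nr3
  · exact αO_nr4
  · exact αO_nr5
  · exact αO_nr6
  · exact αO_nr7

theorem tg_eq_nr (k : Fin 8) : ∃ (w : V7) (hw : Q w = 2), tg k = nr w hw := by
  fin_cases k
  · exact ⟨v0, nrm0, rfl⟩
  · exact ⟨v1, nrm1, rfl⟩
  · exact ⟨v2, nrm2, rfl⟩
  · exact ⟨v3, nrm3, rfl⟩
  · exact ⟨v4, nrm4, rfl⟩
  · exact ⟨v5, nrm5, rfl⟩
  · exact ⟨v6, nrm6, rfl⟩
  · exact ⟨v7, nrm7, rfl⟩

/-- the subgroup generated by the eight generators -/
noncomputable def T : Subgroup O7 := Subgroup.closure (Set.range tg)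

theorem map_T : T.map αO = P1 := map_closure_eq_P1 αO tg αO_tg

/-! ## The determinant -/

theorem det_T (M : O7) (hM : M ∈ T) : (mat M).det = 1 := by
  induction hM using Subgroup.closure_induction with
  | mem s hs =>
    obtain ⟨k, rfl⟩ := hs
    obtain ⟨w, hw, h⟩ := tg_eq_nr k
    rw [h, mat_nr, det_nrMat w hw]
  | one => rw [mat_one, det_one]
  | mul a b _ _ iha ihb => rw [mat_mul, det_mul, iha, ihb, mul_one]
  | inv a _ iha =>
    have h := congrArg Matrix.det (mat_mul a⁻¹ a)
    rw [inv_mul_cancel, mat_one, det_one, det_mul, iha, mul_one] at h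
    exact h.symm

theorem negOne_ne_one : negOne ≠ 1 := by
  intro h
  have h1 := det_negOne
  rw [h, mat_one, det_one] at h1
  revert h1
  decide

theorem negOne_not_mem_T : negOne ∉ T := by
  intro h
  have h1 := det_T _ h
  rw [det_negOne] at h1
  revert h1
  decide

theorem negOne_mem_ker : negOne ∈ αO.ker := αO_negOne

/-- the kernel of the action consists of `1` and `-1` -/
theorem ker_cases (M : O7) (hM : M ∈ αO.ker) : M = 1 ∨ M = negOne := by
  by_contra hcon
  push_neg at hcon
  let f : Fin 3 → αO.ker := ![1, ⟨negOne, negOne_mem_ker⟩, ⟨M, hM⟩]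
  have hf : Function.Injective f := by
    intro a b hab
    fin_cases a <;> fin_cases b
    · rfl
    · exact absurd (congrArg Subtype.val hab).symm negOne_ne_one
    · exact absurd (congrArg Subtype.val hab).symm hcon.1
    · exact absurd (congrArg Subtype.val hab) negOne_ne_one
    · rfl
    · exact absurd (congrArg Subtype.val hab).symm hcon.2
    · exact absurd (congrArg Subtype.val hab) hcon.1
    · exact absurd (congrArg Subtype.val hab) hcon.2
    · rfl
  have h3 := Nat.card_le_card_of_injective f hf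
  rw [Nat.card_eq_fintype_card, Fintype.card_fin] at h3
  have := card_ker
  omega

theorem T_inf_ker : T ⊓ αO.ker = ⊥ := by
  rw [eq_bot_iff]
  intro M hM
  obtain ⟨hT, hk⟩ := Subgroup.mem_inf.mp hM
  rw [Subgroup.mem_bot]
  rcases ker_cases M hk with h | h
  · exact h
  · rw [h] at hT
    exact absurd hT negOne_not_mem_T

/-! ## The generated subgroup is normal -/

theorem nr_congr (w w' : V7) (h : w = w') (hw : Q w = 2) (hw' : Q w' = 2) : nr w hw = nr w' hw' := by
  subst h
  rfl

/-- two vectors of norm `-1` on the same point are equal or opposite -/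
theorem line_cases (y y' : Fin 2187) (hy : tb IM y = true) (hy' : tb IM y' = true)
    (h : line y' = line y) : y' = y ∨ y' = negC y := by
  have hB := factB _ hy
  have hB' := factB _ hy'
  rcases hB.2 with h1 | h1 <;> rcases hB'.2 with h2 | h2
  · left
    rw [← h2, h, h1]
  · right
    have : negC y' = y := by rw [← h2, h, h1]
    have h3 := congrArg negC this
    rw [negC_negC] at h3
    exact h3
  · right
    rw [← h2, h, h1]
  · left
    have : negC y' = negC y := by rw [← h2, h, h1]
    have h3 := congrArg negC this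
    rw [negC_negC, negC_negC] at h3
    exact h3

theorem line_v0 : line (enc v0) = ⟨14, by decide⟩ := by decide +kernel

theorem IM_v0 : tb IM (enc v0) = true := by decide +kernel

theorem DM_14 : tb DM 14 = true := by decide +kernel

/-- the generated subgroup is transitive on the 351 points -/
theorem trans_T (i : Fin 3510) (hi : tb DM i = true) : ∃ t ∈ T, αO t ⟨14, by decide⟩ = i := by
  obtain ⟨g1, hg1, h1⟩ := trans_P1 ⟨14, by decide⟩ DM_14
  obtain ⟨g2, hg2, h2⟩ := trans_P1 i hi
  rw [← map_T] at hg1 hg2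
  obtain ⟨t1, ht1, rfl⟩ := hg1
  obtain ⟨t2, ht2, rfl⟩ := hg2
  refine ⟨t2 * t1⁻¹, T.mul_mem ht2 (T.inv_mem ht1), ?_⟩
  rw [map_mul, map_inv, Equiv.Perm.mul_apply, ← h1]
  have h3 : (αO t1)⁻¹ ((αO t1) ⟨6, by decide⟩) = ⟨6, by decide⟩ := by simp
  rw [h3]
  exact h2

/-- every negative of a reflection of the class lies in the generated subgroup -/
theorem all_nr (w : V7) (hw : Q w = 2) : nr w hw ∈ T := by
  have hy : tb IM (enc w) = true := by
    rw [factD, dec_enc]
    exact hw
  obtain ⟨t, ht, hti⟩ := trans_T (line (enc w)) (factB _ hy).1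
  rw [αO_apply] at hti
  unfold O7Lines.act at hti
  rw [if_pos DM_14, ← line_v0, line_ρ_rep_line t _ IM_v0] at hti
  have hc := line_cases (enc w) (ρ t (enc v0)) hy (IM_ρ t _ IM_v0) hti
  rw [ρ_apply, dec_enc] at hc
  have h0 : tg 0 ∈ T := Subgroup.subset_closure ⟨0, rfl⟩
  have hconj : t * tg 0 * t⁻¹ ∈ T := T.mul_mem (T.mul_mem ht h0) (T.inv_mem ht)
  have htg : tg 0 = nr v0 nrm0 := rfl
  rw [htg, conj_nr] at hconj
  rcases hc with h | h
  · have h' : mat t *ᵥ v0 = w := by
      have := congrArg dec h
      rw [dec_enc, dec_enc] at this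
      exact this
    rw [nr_congr _ w h' _ hw] at hconj
    exact hconj
  · have h' : mat t *ᵥ v0 = -w := by
      have := congrArg dec h
      rw [negC, dec_enc, dec_enc, dec_enc] at this
      exact this
    rw [nr_congr _ (-w) h' _ (by rw [Q_neg]; exact hw), nr_neg] at hconj
    exact hconj

theorem normal_T : T.Normal := by
  constructor
  intro n hn g
  induction hn using Subgroup.closure_induction with
  | mem s hs =>
    obtain ⟨k, rfl⟩ := hs
    obtain ⟨w, hw, h⟩ := tg_eq_nr k
    rw [h, conj_nr]
    exact all_nr _ _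
  | one =>
    rw [mul_one, mul_inv_cancel]
    exact T.one_mem
  | mul a b _ _ iha ihb =>
    have : g * (a * b) * g⁻¹ = (g * a * g⁻¹) * (g * b * g⁻¹) := by group
    rw [this]
    exact T.mul_mem iha ihb
  | inv a _ iha =>
    have : g * a⁻¹ * g⁻¹ = (g * a * g⁻¹)⁻¹ := by group
    rw [this]
    exact T.inv_mem iha

/-! ## The orders -/

/-- the action of the generated subgroup -/
noncomputable def αT : T →* Equiv.Perm (Fin 3510) := αO.comp T.subtype

theorem range_αT : αT.range = P1 := by
  rw [αT, MonoidHom.range_comp, Subgroup.range_subtype]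
  exact map_T

theorem αT_injective : Function.Injective αT := by
  rw [← MonoidHom.ker_eq_bot_iff, eq_bot_iff]
  intro x hx
  rw [Subgroup.mem_bot]
  apply Subtype.ext
  have h1 : (x : O7) ∈ T ⊓ αO.ker := Subgroup.mem_inf.mpr ⟨x.2, hx⟩
  rw [T_inf_ker, Subgroup.mem_bot] at h1
  exact h1

/-- the generated subgroup is isomorphic to `P1` -/
noncomputable def isoT : T ≃* P1 := isoOfHom αT αT_injective range_αT

theorem card_T : Nat.card T = 4585351680 := by
  rw [Nat.card_congr isoT.toEquiv, card_P1]

theorem perfect_T : commutator T = ⊤ := commutator_eq_top_of_equiv isoT.symm perfect_P1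

/-! ## The commutator subgroup -/

theorem comm_of_card_le_four {A : Type*} [Group A] [Finite A] (h : Nat.card A ≤ 4) (a b : A) :
    a * b = b * a := by
  have hpos : 0 < Nat.card A := Nat.card_pos
  have hcases : Nat.card A = 1 ∨ Nat.card A = 2 ∨ Nat.card A = 3 ∨ Nat.card A = 4 := by omega
  rcases hcases with h1 | h2 | h3 | h4
  · have : Subsingleton A := (Nat.card_eq_one_iff_unique.mp h1).1
    exact Subsingleton.elim _ _
  · have : Fact (Nat.Prime 2) := ⟨Nat.prime_two⟩
    have hc : IsCyclic A := isCyclic_of_prime_card h2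
    let _ : CommGroup A := IsCyclic.commGroup
    exact mul_comm a b
  · have : Fact (Nat.Prime 3) := ⟨Nat.prime_three⟩
    have hc : IsCyclic A := isCyclic_of_prime_card h3
    let _ : CommGroup A := IsCyclic.commGroup
    exact mul_comm a b
  · have : Fact (Nat.Prime 2) := ⟨Nat.prime_two⟩
    have h4' : Nat.card A = 2 ^ 2 := by rw [h4]; norm_num
    exact (IsPGroup.isMulCommutative_of_card_eq_prime_sq h4').is_comm.comm a b

theorem index_T_le : T.index ≤ 4 := by
  have h1 := Subgroup.card_mul_index T
  rw [card_T] at h1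
  have h2 := Cfsg.Agent.Lib.H17.O7Bound.card_O7
  by_contra hcon
  push_neg at hcon
  nlinarith

theorem commutator_le_T : commutator O7 ≤ T := by
  have hn := normal_T
  have hcomm : ∀ a b : O7 ⧸ T, a * b = b * a := by
    apply comm_of_card_le_four
    change T.index ≤ 4
    exact index_T_le
  rw [commutator_eq_closure, Subgroup.closure_le]
  rintro x ⟨p, q, rfl⟩
  rw [SetLike.mem_coe, ← QuotientGroup.eq_one_iff, commutatorElement_def]
  simp only [QuotientGroup.mk_mul, QuotientGroup.mk_inv]
  rw [hcomm (p : O7 ⧸ T) q]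
  group

theorem T_le_commutator : T ≤ commutator O7 := by
  have h1 := T.map_subtype_commutator
  rw [perfect_T, ← MonoidHom.range_eq_map, Subgroup.range_subtype] at h1
  rw [h1, commutator_def]
  exact Subgroup.commutator_mono le_top le_top

theorem commutator_eq_T : commutator O7 = T := le_antisymm commutator_le_T T_le_commutator

end Cfsg.Agent.Lib.H17.O7T
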