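import Cfsg.Agent.Lib.H17.SgsCent
import Cfsg.Prelude.Def_Classical

set_option autoImplicit false
set_option maxRecDepth 100000

/-! # The orthogonal group `O(7, 3)` acting on the 2187 vectors -/

namespace Cfsg.Agent.Lib.H17.O7Vec

open Matrix Cfsg.Agent.Lib.H17.CosetCert Cfsg.Agent.Lib.H17.Sgs Cfsg.Agent.Lib.H17.SgsCent

/-- the index set of the coordinates -/
abbrev I7 : Type := Unit ⊕ (Fin 3 ⊕ Fin 3)

/-- the vectors -/
abbrev V7 : Type := I7 → ZMod 3

/-- the general linear group -/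
abbrev GL7 : Type := Matrix.GeneralLinearGroup I7 (ZMod 3)

/-- the orthogonal group -/
abbrev O7 : Subgroup GL7 := Cfsg.isometryGroup (ZMod 3) (Cfsg.quadFormOdd 3 (ZMod 3))

/-- the number of a vector -/
def encN (v : V7) : ℕ :=
  (v (.inl ())).val + 3 * (v (.inr (.inl 0))).val + 9 * (v (.inr (.inl 1))).val +
    27 * (v (.inr (.inl 2))).val + 81 * (v (.inr (.inr 0))).val + 243 * (v (.inr (.inr 1))).val +
    729 * (v (.inr (.inr 2))).val

/-- the number of a vector -/
def enc (v : V7) : Fin 2187 := ⟨encN v % 2187, Nat.mod_lt _ (by norm_num)⟩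

/-- the residue of a number -/
def unc (n : ℕ) : ZMod 3 := (⟨n % 3, Nat.mod_lt _ (by norm_num)⟩ : Fin 3)

/-- the vector with given coordinates -/
def mkV (a x1 x2 x3 y1 y2 y3 : ZMod 3) : V7 :=
  Sum.elim (fun _ => a) (Sum.elim ![x1, x2, x3] ![y1, y2, y3])

/-- the vector of a number -/
def decN (x : ℕ) : V7 :=
  mkV (unc x) (unc (x / 3)) (unc (x / 9)) (unc (x / 27)) (unc (x / 81)) (unc (x / 243))
    (unc (x / 729))

/-- the vector of a number -/
def dec (x : Fin 2187) : V7 := decN x.val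

theorem dec_enc : ∀ v : V7, dec (enc v) = v := by decide +kernel

theorem enc_dec : ∀ x : Fin 2187, enc (dec x) = x := by decide +kernel

/-- the numbering of the vectors -/
def encE : V7 ≃ Fin 2187 := ⟨enc, dec, dec_enc, enc_dec⟩

/-- the quadratic form -/
def Q (v : V7) : ZMod 3 :=
  v (.inl ()) ^ 2 + v (.inr (.inl 0)) * v (.inr (.inr 0)) + v (.inr (.inl 1)) * v (.inr (.inr 1)) +
    v (.inr (.inl 2)) * v (.inr (.inr 2))

theorem Q_eq (v : V7) : Cfsg.quadFormOdd 3 (ZMod 3) v = Q v := by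
  simp only [Cfsg.quadFormOdd, Fin.sum_univ_three, Q]
  ring

/-- the polar form -/
def B (u v : V7) : ZMod 3 :=
  2 * u (.inl ()) * v (.inl ()) +
    (u (.inr (.inl 0)) * v (.inr (.inr 0)) + u (.inr (.inr 0)) * v (.inr (.inl 0))) +
    (u (.inr (.inl 1)) * v (.inr (.inr 1)) + u (.inr (.inr 1)) * v (.inr (.inl 1))) +
    (u (.inr (.inl 2)) * v (.inr (.inr 2)) + u (.inr (.inr 2)) * v (.inr (.inl 2)))

theorem Q_add (u v : V7) : Q (u + v) = Q u + Q v + B u v := by
  simp only [Q, B, Pi.add_apply]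
  ring

theorem Q_smul (a : ZMod 3) (u : V7) : Q (a • u) = a ^ 2 * Q u := by
  simp only [Q, Pi.smul_apply, smul_eq_mul]
  ring

theorem Q_neg (u : V7) : Q (-u) = Q u := by
  simp only [Q, Pi.neg_apply]
  ring

theorem B_comm (u v : V7) : B u v = B v u := by
  simp only [B]
  ring

theorem B_add_left (u u' v : V7) : B (u + u') v = B u v + B u' v := by
  simp only [B, Pi.add_apply]
  ring

theorem B_smul_left (a : ZMod 3) (u v : V7) : B (a • u) v = a * B u v := by
  simp only [B, Pi.smul_apply, smul_eq_mul]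
  ring

theorem B_neg_left (u v : V7) : B (-u) v = -B u v := by
  simp only [B, Pi.neg_apply]
  ring

theorem B_add_right (u v v' : V7) : B u (v + v') = B u v + B u v' := by
  rw [B_comm, B_add_left, B_comm v, B_comm v']

theorem B_smul_right (a : ZMod 3) (u v : V7) : B u (a • v) = a * B u v := by
  rw [B_comm, B_smul_left, B_comm]

theorem B_neg_right (u v : V7) : B u (-v) = -B u v := by
  rw [B_comm, B_neg_left, B_comm]

theorem B_self (u : V7) : B u u = 2 * Q u := by
  simp only [B, Q]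
  ring

/-- the polar form as a dot product -/
def bvec (w : V7) : V7 :=
  mkV (2 * w (.inl ())) (w (.inr (.inr 0))) (w (.inr (.inr 1))) (w (.inr (.inr 2)))
    (w (.inr (.inl 0))) (w (.inr (.inl 1))) (w (.inr (.inl 2)))

theorem bvec_dot (w x : V7) : bvec w ⬝ᵥ x = B x w := by
  simp only [dotProduct, Fintype.sum_sum_type, Fin.sum_univ_three, bvec, mkV, B, Sum.elim_inl,
    Sum.elim_inr, Finset.univ_unique, Finset.sum_singleton, Matrix.cons_val_zero,
    Matrix.cons_val_one, Matrix.cons_val]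
  ring

/-- the matrix of an element -/
def mat (M : O7) : Matrix I7 I7 (ZMod 3) := ((M : GL7) : Matrix I7 I7 (ZMod 3))

theorem mat_one : mat 1 = 1 := rfl

theorem mat_mul (M N : O7) : mat (M * N) = mat M * mat N := rfl

theorem mem_O7 (M : GL7) : M ∈ O7 ↔ ∀ u : V7,
    Q ((M : Matrix I7 I7 (ZMod 3)) *ᵥ u) = Q u := by
  constructor
  · intro h u
    have := h u u
    simp only [Units.coeHom_apply] at this
    rw [Q_eq, Q_eq] at this
    exact this
  · intro h u v
    simp only [Units.coeHom_apply]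
    rw [Q_eq, Q_eq]
    exact h u

theorem Q_o (M : O7) (u : V7) : Q (mat M *ᵥ u) = Q u := (mem_O7 M.1).mp M.2 u

theorem B_o (M : O7) (u v : V7) : B (mat M *ᵥ u) (mat M *ᵥ v) = B u v := by
  have h1 := Q_add (mat M *ᵥ u) (mat M *ᵥ v)
  rw [← mulVec_add, Q_o, Q_o, Q_o, Q_add] at h1
  exact (add_left_cancel h1).symm

theorem mat_ext (A C : Matrix I7 I7 (ZMod 3)) (h : ∀ x : V7, A *ᵥ x = C *ᵥ x) : A = C := by
  apply Matrix.toLin'.injective
  apply LinearMap.ext
  intro v
  rw [Matrix.toLin'_apply, Matrix.toLin'_apply]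
  exact h v

/-- the action on the vectors -/
noncomputable def ρV : O7 →* Equiv.Perm V7 where
  toFun M :=
    { toFun := fun v => mat M *ᵥ v
      invFun := fun v => mat M⁻¹ *ᵥ v
      left_inv := fun v => by
        change mat M⁻¹ *ᵥ (mat M *ᵥ v) = v
        rw [mulVec_mulVec, ← mat_mul, inv_mul_cancel, mat_one, one_mulVec]
      right_inv := fun v => by
        change mat M *ᵥ (mat M⁻¹ *ᵥ v) = v
        rw [mulVec_mulVec, ← mat_mul, mul_inv_cancel, mat_one, one_mulVec] }
  map_one' := by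
    ext v : 1
    change mat 1 *ᵥ v = v
    rw [mat_one, one_mulVec]
  map_mul' M N := by
    ext v : 1
    change mat (M * N) *ᵥ v = mat M *ᵥ (mat N *ᵥ v)
    rw [mulVec_mulVec, mat_mul]

theorem ρV_apply (M : O7) (v : V7) : ρV M v = mat M *ᵥ v := rfl

/-- the action on the numbers of the vectors -/
noncomputable def ρ : O7 →* Equiv.Perm (Fin 2187) :=
  (encE.permCongrHom : Equiv.Perm V7 →* Equiv.Perm (Fin 2187)).comp ρV

theorem ρ_apply (M : O7) (x : Fin 2187) : ρ M x = enc (mat M *ᵥ dec x) := rfl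

theorem ρ_injective : Function.Injective ρ := by
  intro M N hMN
  apply Subtype.ext
  apply Units.ext
  change mat M = mat N
  apply mat_ext
  intro v
  have h := congrArg (fun p : Equiv.Perm (Fin 2187) => dec (p (enc v))) hMN
  simp only [ρ_apply, dec_enc] at h
  exact h

theorem mulVec_inj (M : O7) (v w : V7) (h : mat M *ᵥ v = mat M *ᵥ w) : v = w :=
  (ρV M).injective h

theorem eq_of_mulVec (M N : O7) (h : ∀ x : V7, mat M *ᵥ x = mat N *ᵥ x) : M = N := by
  apply ρ_injective
  ext y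
  rw [ρ_apply, ρ_apply, h]

end Cfsg.Agent.Lib.H17.O7Vec
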