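import Cfsg.Agent.Lib.H5.Ord.GenTests3
import Cfsg.Agent.Lib.H15.O983Tools

/-!
S0983 filler (helper17): no simple group of order 4680 = 2^3 * 3^2 * 5 * 13 (helper26's blueprint, with helper24's
shorter route).  `n_13 = 40`, `|N(P_13)| = 117`, `|C(P_13)| = 39`.  An element `y` of order 3 of `C(P_13)` has exactly one
fixed point on the 40 Sylow 13-subgroups, so `C(y) = N(P_13)` and it contains a Sylow 3-subgroup `T` (abelian of order 9)
with `N(T) ∩ C(y) = T`.  Then `a = |N(T) : T|` is the size of the `N(T)`-class of `y` inside `T`, so `a ≤ 8`,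
`a ≡ 1 (mod 3)`, `a ∣ 520`: `a = 1` is Burnside, and for `a = 4` the `N(T)`-classes of `y` and `y⁻¹` fill `T` minus `1`, so
every element of order 3 has a centralizer of order 117; but `3 ∣ |C(P_5)|`.
-/

set_option autoImplicit false

namespace Cfsg.Agent.Lib.H17.O983

open Subgroup MulAction Cfsg.Agent.Lib.H5 Cfsg.Agent.Lib.H5.SylPrime Cfsg.Agent.Lib.H5.GenTests
  Cfsg.Agent.Lib.H15.O983
open scoped Pointwise

section general

variable {G : Type*} [Group G]

/-- If `y ∈ N` has exactly one fixed point on the cosets of `N`, then every `g` with `g⁻¹ y g ∈ N` lies in `N`. -/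
theorem mem_of_conj_mem_of_card_fixedBy_eq_one (N : Subgroup G) {y : G}
    (hf : Nat.card (fixedBy (G ⧸ N) y) = 1) (hyN : y ∈ N) {g : G} (hg : g⁻¹ * y * g ∈ N) :
    g ∈ N := by
  obtain ⟨hsub, -⟩ := Nat.card_eq_one_iff_unique.mp hf
  have h1 : ((1 : G) : G ⧸ N) ∈ fixedBy (G ⧸ N) y := by
    rw [mem_fixedBy]
    show ((y * 1 : G) : G ⧸ N) = ((1 : G) : G ⧸ N)
    rw [QuotientGroup.eq]
    simpa using N.inv_mem hyN
  have hgf : ((g : G) : G ⧸ N) ∈ fixedBy (G ⧸ N) y := by
    rw [mem_fixedBy]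
    show ((y * g : G) : G ⧸ N) = ((g : G) : G ⧸ N)
    rw [QuotientGroup.eq]
    have : (y * g)⁻¹ * g = (g⁻¹ * y * g)⁻¹ := by group
    rw [this]; exact N.inv_mem hg
  have := congrArg Subtype.val (hsub.elim ⟨_, h1⟩ ⟨_, hgf⟩)
  have h2 := QuotientGroup.eq.mp this
  simpa using h2

/-- Orbit counting for the conjugation action of `M` on `z`, when `C_M(z) = T`. -/
theorem ncard_conj_mul_card (M T : Subgroup G) (z : G) (hzM : z ∈ M)
    (hC : ∀ g ∈ M, g * z = z * g → g ∈ T) (hT : ∀ g ∈ T, g ∈ M ∧ g * z = z * g) :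
    ({t : G | ∃ c ∈ M, c * z * c⁻¹ = t} : Set G).ncard * Nat.card T = Nat.card M := by
  have key := card_conj_mul_card_centralizer (G := M) ⟨z, hzM⟩
  have himg : ({t : G | ∃ c ∈ M, c * z * c⁻¹ = t} : Set G) =
      Subtype.val '' {g : M | IsConj (⟨z, hzM⟩ : M) g} := by
    ext t
    simp only [Set.mem_ofPred_eq, Set.mem_image]
    constructor
    · rintro ⟨c, hc, rfl⟩
      refine ⟨⟨c * z * c⁻¹, M.mul_mem (M.mul_mem hc hzM) (M.inv_mem hc)⟩, ?_, rfl⟩
      rw [isConj_iff]
      exact ⟨⟨c, hc⟩, rfl⟩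
    · rintro ⟨g, hg, rfl⟩
      obtain ⟨c, hc⟩ := isConj_iff.mp hg
      refine ⟨c.1, c.2, ?_⟩
      have := congrArg Subtype.val hc
      simpa using this
  have e1 : ({t : G | ∃ c ∈ M, c * z * c⁻¹ = t} : Set G).ncard =
      Nat.card {g : M // IsConj (⟨z, hzM⟩ : M) g} := by
    rw [himg, Set.ncard_image_of_injective _ Subtype.val_injective, ← Nat.card_coe_set_eq]
    rfl
  have e2 : Nat.card (centralizer ({(⟨z, hzM⟩ : M)} : Set M)) = Nat.card T := by
    apply Nat.card_congr
    refine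
      { toFun := fun g => ⟨(g.1 : G), hC _ g.1.2 ?_⟩
        invFun := fun t => ⟨⟨t.1, (hT _ t.2).1⟩, ?_⟩
        left_inv := fun g => rfl
        right_inv := fun t => rfl }
    · have := mem_centralizer_singleton_iff.mp g.2
      exact congrArg Subtype.val this
    · rw [mem_centralizer_singleton_iff]
      exact Subtype.ext (hT _ t.2).2
  rw [e1, ← e2]
  exact key

theorem card_centralizer_eq_of_isConj [Finite G] {x y : G} (h : IsConj x y) :
    Nat.card (centralizer ({x} : Set G)) = Nat.card (centralizer ({y} : Set G)) := by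
  have h1 := card_conj_mul_card_centralizer x
  have h2 := card_conj_mul_card_centralizer y
  have e : Nat.card {g : G // IsConj x g} = Nat.card {g : G // IsConj y g} := by
    apply Nat.card_congr
    exact Equiv.subtypeEquivRight (fun g => ⟨fun hg => h.symm.trans hg, fun hg => h.trans hg⟩)
  rw [e, ← h2] at h1
  have hpos : 0 < Nat.card {g : G // IsConj y g} := by
    have : Nonempty {g : G // IsConj y g} := ⟨⟨y, IsConj.refl y⟩⟩
    exact Nat.card_pos
  exact Nat.eq_of_mul_eq_mul_left hpos h1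

theorem centralizer_inv_eq (y : G) : centralizer ({y⁻¹} : Set G) = centralizer ({y} : Set G) := by
  ext g
  rw [mem_centralizer_singleton_iff, mem_centralizer_singleton_iff]
  constructor
  · intro h
    have : Commute g y⁻¹ := h
    exact (Commute.inv_right_iff.mp this).eq
  · intro h
    have : Commute g y := h
    exact (Commute.inv_right_iff.mpr this).eq

end general

theorem arith_d13 (d : ℕ) (h1 : d ∣ 360) (h2 : d % 13 = 1) (h3 : d ≠ 1) : d = 40 := by
  obtain ⟨e, he⟩ := h1
  have he360 : e ≤ 360 := Nat.le_of_dvd (by norm_num) ⟨d, by rw [he]; ring⟩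
  interval_cases e <;> omega

theorem arith_d5 (d : ℕ) (h1 : d ∣ 936) (h2 : d % 5 = 1) (h3 : d ≠ 1) :
    d = 6 ∨ d = 26 ∨ d = 36 ∨ d = 156 ∨ d = 936 := by
  obtain ⟨e, he⟩ := h1
  have he936 : e ≤ 936 := Nat.le_of_dvd (by norm_num) ⟨d, by rw [he]; ring⟩
  interval_cases e <;> omega

theorem arith_c5 (c r d : ℕ) (hd : d = 6 ∨ d = 26 ∨ d = 36 ∨ d = 156 ∨ d = 936)
    (h4 : 2 * 4680 ∣ d.factorial) (h5 : r ∣ 5 - 1) (h6 : r ≠ 1) (h7 : c * r * d = 4680) :
    3 ∣ c ∨ (c = 65 ∧ d = 36) := by
  have hr4 : r ≤ 4 := Nat.le_of_dvd (by norm_num) h5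
  rcases hd with h | h | h | h | h
  · rw [h] at h4
    exact absurd h4 (by decide)
  · rw [h] at h7
    interval_cases r <;> omega
  · rw [h] at h7
    interval_cases r <;> omega
  · rw [h] at h7
    interval_cases r <;> omega
  · rw [h] at h7
    interval_cases r <;> omega

theorem arith_a (a n3 : ℕ) (h : a * n3 = 520) (h8 : a ≤ 8) (h3 : n3 % 3 = 1) : a = 1 ∨ a = 4 := by
  interval_cases a <;> omega

theorem not_simple_4680 {G : Type*} [Group G] [Finite G] [IsSimpleGroup G] : Nat.card G ≠ 4680 := by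
  intro hn
  have hnc : ¬ IsMulCommutative G :=
    not_isMulCommutative_of_card_not_prime (by rw [hn]; norm_num)
  have hp13 : Fact (Nat.Prime 13) := ⟨by norm_num⟩
  have hp3 : Fact (Nat.Prime 3) := ⟨by norm_num⟩
  have hp5 : Fact (Nat.Prime 5) := ⟨by norm_num⟩
  let P : Sylow 13 G := default
  obtain ⟨h1, h2, h3, -, h5, h6, h7, -, hP, hNd, hNtop, -, -, -⟩ :=
    prime_data_explicit hnc hn (p := 13) (m := 360) (by norm_num) (by norm_num) (by norm_num) P
  set N := normalizer ((P : Subgroup G) : Set G) with hN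
  set C := centralizer ((P : Subgroup G) : Set G) with hC
  set r := C.relIndex N
  set c₀ := Nat.card C with hc₀
  set d := Nat.card (Sylow 13 G) with hd
  have hd40 : d = 40 := arith_d13 d h1 h2 h3
  have hr12 : r ≤ 12 := Nat.le_of_dvd (by norm_num) h5
  have hc39 : c₀ = 39 := by
    rw [hd40] at h7
    interval_cases r <;> omega
  have hN117 : Nat.card N = 117 := by
    rw [hd40] at hNd; omega
  -- an element of order 3 in `C(P_13)` and its unique fixed point
  obtain ⟨y, hy, hyC⟩ := exists_orderOf_eq_in_centralizer 3 (P : Subgroup G)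
    (by rw [← hc₀, hc39]; norm_num)
  have hyN : y ∈ N := centralizer_le_normalizer _ hyC
  have hy1 : y ≠ 1 := by
    intro h; rw [h, orderOf_one] at hy; omega
  have hidx : N.index = d := index_normalizer_eq_card_sylow P
  have hf1 : Nat.card (fixedBy (G ⧸ N) y) = 1 := by
    have a1 : Nat.card (fixedBy (G ⧸ N) y) ≡ 1 [MOD 13] := card_fixedBy_modEq_one 13 P hP hyC
    have a2 := card_modEq_card_fixedBy (Ω := G ⧸ N) (r := 3) (k := 1) (y := y)
      (by rw [pow_one]; exact hy)
    have a3 := card_fixedBy_le_index N y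
    have a4 : Nat.card (fixedBy (G ⧸ N) y) ≠ N.index := by
      intro heq
      exact hy1 (eq_one_of_card_fixedBy_eq N hNtop heq)
    have h' : Nat.card (G ⧸ N) = N.index := rfl
    rw [h', hidx, hd40] at a2
    rw [hidx, hd40] at a3 a4
    unfold Nat.ModEq at a1 a2
    omega
  have hK : ∀ g : G, g⁻¹ * y * g ∈ N → g ∈ N := fun g hg =>
    mem_of_conj_mem_of_card_fixedBy_eq_one N hf1 hyN hg
  set Cy := centralizer ({y} : Set G) with hCy
  have hCyN : Cy ≤ N := by
    intro g hg
    apply hK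
    have := mem_centralizer_singleton_iff.mp hg
    have e : g⁻¹ * y * g = y := by rw [mul_assoc, ← this, inv_mul_cancel_left]
    rw [e]; exact hyN
  -- a Sylow 3-subgroup containing `y`
  have hz3 : IsPGroup 3 (zpowers y) := by
    apply IsPGroup.of_card (n := 1); rw [Nat.card_zpowers, hy, pow_one]
  obtain ⟨T, hyT⟩ := hz3.exists_le_sylow
  have hyT' : y ∈ (T : Subgroup G) := hyT (mem_zpowers y)
  obtain ⟨-, g2, -, -, g5, hT9, -⟩ := sylow_data hnc hn (p := 3) (k := 2) (m := 520)
    (by norm_num) (by norm_num) (by norm_num) (by norm_num) T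
  have hT9' : Nat.card (T : Subgroup G) = 9 := by rw [hT9]; norm_num
  have hTcomm : ∀ a b : (T : Subgroup G), a * b = b * a :=
    (IsPGroup.isMulCommutative_of_card_eq_prime_sq (p := 3) hT9).is_comm.comm
  have hTCy : (T : Subgroup G) ≤ Cy := by
    intro t ht
    rw [mem_centralizer_singleton_iff]
    have := hTcomm ⟨t, ht⟩ ⟨y, hyT'⟩
    exact congrArg Subtype.val this
  have hPCy : (P : Subgroup G) ≤ Cy := by
    intro x hx
    rw [mem_centralizer_singleton_iff]
    exact (mem_centralizer_iff.mp hyC) x hx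
  have hCy117 : Nat.card Cy = 117 := by
    have d1 : Nat.card Cy ∣ 117 := hN117 ▸ card_dvd_of_le hCyN
    have d2 : 9 ∣ Nat.card Cy := by have := card_dvd_of_le hTCy; rwa [hT9'] at this
    have d3 : 13 ∣ Nat.card Cy := by have := card_dvd_of_le hPCy; rwa [hP] at this
    have d4 : 9 * 13 ∣ Nat.card Cy :=
      Nat.Coprime.mul_dvd_of_dvd_of_dvd (by norm_num : Nat.Coprime 9 13) d2 d3
    exact Nat.dvd_antisymm d1 d4
  have hCyN' : Cy = N := eq_of_le_of_card_ge hCyN (by rw [hCy117, hN117])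
  -- `N(T) ∩ C(y) = T`
  set M := normalizer ((T : Subgroup G) : Set G) with hM
  have hTM : (T : Subgroup G) ≤ M := le_normalizer
  have hMC : ∀ g ∈ M, g * y = y * g → g ∈ (T : Subgroup G) := by
    intro g hgM hgy
    by_contra hgT
    have hgN : g ∈ N := hCyN (mem_centralizer_singleton_iff.mpr hgy)
    have hTK : (T : Subgroup G) ≤ M ⊓ N := le_inf hTM (hTCy.trans hCyN)
    have k1 : Nat.card (M ⊓ N : Subgroup G) ∣ 117 := hN117 ▸ card_dvd_of_le inf_le_right
    have k2 : 9 ∣ Nat.card (M ⊓ N : Subgroup G) := by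
      have := card_dvd_of_le hTK; rwa [hT9'] at this
    have k3 : Nat.card (M ⊓ N : Subgroup G) ≠ 9 := by
      intro h9
      have : (T : Subgroup G) = M ⊓ N := eq_of_le_of_card_ge hTK (by rw [h9, hT9'])
      exact hgT (this ▸ ⟨hgM, hgN⟩)
    have k4 : Nat.card (M ⊓ N : Subgroup G) = 117 := by
      obtain ⟨e, he⟩ := k2
      rw [he] at k1 k3 ⊢
      have : e ∣ 13 := by
        have : 9 * e ∣ 9 * 13 := k1
        exact Nat.dvd_of_mul_dvd_mul_left (by norm_num) this
      have he13 : e ≤ 13 := Nat.le_of_dvd (by norm_num) this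
      interval_cases e <;> omega
    have hNM : N ≤ M := by
      have : M ⊓ N = N := eq_of_le_of_card_ge inf_le_right (by rw [k4, hN117])
      rw [← this]; exact inf_le_left
    have hTC : (T : Subgroup G) ≤ C := by
      intro t ht
      rw [mem_centralizer_iff]
      intro x hx
      have hxM : x ∈ M := hNM (le_normalizer hx)
      have htN : t ∈ N := (hTCy.trans hCyN) ht
      have c1 : x * t * x⁻¹ * t⁻¹ ∈ (T : Subgroup G) := by
        have := (mem_normalizer_iff.mp hxM t).mp ht
        exact mul_mem this (inv_mem ht)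
      have c2 : x * t * x⁻¹ * t⁻¹ ∈ (P : Subgroup G) := by
        have := (mem_normalizer_iff.mp htN x⁻¹).mp (inv_mem hx)
        have e : x * t * x⁻¹ * t⁻¹ = x * (t * x⁻¹ * t⁻¹) := by group
        rw [e]; exact mul_mem hx this
      have hdisj : (T : Subgroup G) ⊓ (P : Subgroup G) = ⊥ :=
        (disjoint_of_coprime_natCard (by rw [hT9', hP]; norm_num)).eq_bot
      have hmem : x * t * x⁻¹ * t⁻¹ ∈ (T : Subgroup G) ⊓ (P : Subgroup G) := ⟨c1, c2⟩
      rw [hdisj, mem_bot] at hmem
      calc x * t = (x * t * x⁻¹ * t⁻¹) * (t * x) := by group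
        _ = t * x := by rw [hmem, one_mul]
    have : 9 ∣ c₀ := by have := card_dvd_of_le hTC; rwa [hT9'] at this
    rw [hc39] at this; omega
  -- the `N(T)`-classes of `y` and `y⁻¹`
  have hyM : y ∈ M := hTM hyT'
  have hTdata : ∀ g ∈ (T : Subgroup G), g ∈ M ∧ g * y = y * g := fun g hg =>
    ⟨hTM hg, mem_centralizer_singleton_iff.mp (hTCy hg)⟩
  have hMC' : ∀ g ∈ M, g * y⁻¹ = y⁻¹ * g → g ∈ (T : Subgroup G) := by
    intro g hgM hgy
    apply hMC g hgM
    have : Commute g y⁻¹ := hgy
    exact (Commute.inv_right_iff.mp this).eq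
  have hTdata' : ∀ g ∈ (T : Subgroup G), g ∈ M ∧ g * y⁻¹ = y⁻¹ * g := fun g hg => by
    refine ⟨hTM hg, ?_⟩
    have : Commute g y := (hTdata g hg).2
    exact (Commute.inv_right_iff.mpr this).eq
  set A : Set G := {t : G | ∃ c ∈ M, c * y * c⁻¹ = t} with hA
  set B : Set G := {t : G | ∃ c ∈ M, c * y⁻¹ * c⁻¹ = t} with hB
  have hAc : A.ncard * Nat.card (T : Subgroup G) = Nat.card M :=
    ncard_conj_mul_card M (T : Subgroup G) y hyM hMC hTdata
  have hBc : B.ncard * Nat.card (T : Subgroup G) = Nat.card M :=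
    ncard_conj_mul_card M (T : Subgroup G) y⁻¹ (M.inv_mem hyM) hMC' hTdata'
  rw [hT9'] at hAc hBc
  set S : Set G := ((T : Subgroup G) : Set G) \ {1} with hS
  have hS8 : S.ncard = 8 := by
    rw [hS, Set.ncard_sdiff_singleton_of_mem (one_mem _)]
    have : ((T : Subgroup G) : Set G).ncard = 9 := by
      rw [← hT9', ← Nat.card_coe_set_eq]; rfl
    rw [this]
  have hAS : A ⊆ S := by
    rintro t ⟨c, hc, rfl⟩
    refine ⟨(mem_normalizer_iff.mp hc y).mp hyT', ?_⟩
    intro h1
    rw [Set.mem_singleton_iff] at h1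
    apply hy1
    have : y = c⁻¹ * (c * y * c⁻¹) * c := by group
    rw [this, h1]; group
  have hBS : B ⊆ S := by
    rintro t ⟨c, hc, rfl⟩
    refine ⟨(mem_normalizer_iff.mp hc y⁻¹).mp (inv_mem hyT'), ?_⟩
    intro h1
    rw [Set.mem_singleton_iff] at h1
    apply hy1
    have : y⁻¹ = c⁻¹ * (c * y⁻¹ * c⁻¹) * c := by group
    rw [h1] at this
    have h2 : y⁻¹ = 1 := by rw [this]; group
    exact inv_eq_one.mp h2
  have hAB : Disjoint A B := by
    rw [Set.disjoint_left]
    rintro t ⟨c, hc, rfl⟩ ⟨c', hc', h⟩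
    -- (c⁻¹ c') y⁻¹ (c⁻¹ c')⁻¹ = y
    have e1 : (c⁻¹ * c')⁻¹ * y * (c⁻¹ * c') = y⁻¹ := by
      have : y⁻¹ = c'⁻¹ * (c' * y⁻¹ * c'⁻¹) * c' := by group
      rw [h] at this
      rw [this]; group
    have hmem : c⁻¹ * c' ∈ N := by
      apply hK
      rw [e1]; exact N.inv_mem hyN
    rw [← hCyN', hCy, mem_centralizer_singleton_iff] at hmem
    have e2 : (c⁻¹ * c')⁻¹ * y * (c⁻¹ * c') = y := by
      rw [mul_assoc, ← hmem, inv_mul_cancel_left]
    rw [e2] at e1
    -- y = y⁻¹ ⇒ y ^ 2 = 1
    have h2 : y ^ 2 = 1 := by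
      rw [pow_two]; nth_rewrite 1 [e1]; exact inv_mul_cancel y
    have := orderOf_dvd_of_pow_eq_one h2
    rw [hy] at this; omega
  have hA8 : A.ncard ≤ 8 := hS8 ▸ Set.ncard_le_ncard hAS (Set.toFinite S)
  set n3 := Nat.card (Sylow 3 G) with hn3
  have han : A.ncard * n3 = 520 := by
    rw [← hAc] at g5; nlinarith
  have hacases : A.ncard = 1 ∨ A.ncard = 4 := arith_a _ _ han hA8 g2
  rcases hacases with ha | ha
  · -- `N(T) = T`: Burnside
    have hM9 : Nat.card M = 9 := by rw [← hAc, ha]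
    have hMT : (T : Subgroup G) = M := eq_of_le_of_card_ge hTM (by rw [hM9, hT9'])
    have hnp := Cfsg.Agent.S0493.not_isPGroup_of_card (G := G) (p := 3) (k := 2) (m := 520) hn
      (by norm_num) (by norm_num) (by norm_num)
    apply not_normalizer_le_centralizer_of_simple (p := 3) (by rw [hn]; norm_num) hnp T
    intro g hg
    have hgT : g ∈ (T : Subgroup G) := by rw [hMT]; exact hg
    rw [mem_centralizer_iff]
    intro t ht
    have := hTcomm ⟨t, ht⟩ ⟨g, hgT⟩
    exact congrArg Subtype.val this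
  · -- the two classes fill `T` minus `1`
    have hb : B.ncard = 4 := by omega
    have hAB8 : (A ∪ B) = S := by
      apply Set.eq_of_subset_of_ncard_le (Set.union_subset hAS hBS) _ (Set.toFinite S)
      rw [Set.ncard_union_eq hAB (Set.toFinite A) (Set.toFinite B), ha, hb, hS8]
    have hall : ∀ t ∈ (T : Subgroup G), t ≠ 1 → Nat.card (centralizer ({t} : Set G)) = 117 := by
      intro t ht ht1
      have htS : t ∈ S := ⟨ht, ht1⟩
      rw [← hAB8] at htS
      rcases htS with ⟨c, -, hc⟩ | ⟨c, -, hc⟩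
      · rw [← card_centralizer_eq_of_isConj (isConj_iff.mpr ⟨c, hc⟩), ← hCy, hCy117]
      · rw [← card_centralizer_eq_of_isConj (isConj_iff.mpr ⟨c, hc⟩), centralizer_inv_eq, ← hCy,
          hCy117]
    -- every element of order 3 has a centralizer of order 117
    have hall3 : ∀ w : G, orderOf w = 3 → Nat.card (centralizer ({w} : Set G)) = 117 := by
      intro w hw
      have hw3 : IsPGroup 3 (zpowers w) := by
        apply IsPGroup.of_card (n := 1); rw [Nat.card_zpowers, hw, pow_one]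
      obtain ⟨T', hwT⟩ := hw3.exists_le_sylow
      have hwT' : w ∈ (T' : Subgroup G) := hwT (mem_zpowers w)
      obtain ⟨g, hg⟩ := MulAction.exists_smul_eq G T T'
      have hmem : w ∈ MulAut.conj g • (T : Subgroup G) := by
        rw [← Sylow.coe_subgroup_smul, hg]; exact hwT'
      rw [Subgroup.mem_pointwise_smul_iff_inv_smul_mem] at hmem
      have hmem' : g⁻¹ * w * g ∈ (T : Subgroup G) := by
        simpa [MulAut.smul_def] using hmem
      have hne : g⁻¹ * w * g ≠ 1 := by
        intro h1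
        have : w = g * (g⁻¹ * w * g) * g⁻¹ := by group
        rw [h1] at this
        have hw1 : w = 1 := by rw [this]; group
        rw [hw1, orderOf_one] at hw; omega
      have hconj : IsConj (g⁻¹ * w * g) w := by
        rw [isConj_iff]; exact ⟨g, by group⟩
      rw [← card_centralizer_eq_of_isConj hconj]
      exact hall _ hmem' hne
    -- but `3 ∣ |C(P_5)|`
    let Q : Sylow 5 G := default
    obtain ⟨q1, q2, q3, q4, q5, q6, q7, -, hQ, -, -, -, -, qfp⟩ :=
      prime_data_explicit hnc hn (p := 5) (m := 936) (by norm_num) (by norm_num) (by norm_num) Q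
    set r' := (centralizer ((Q : Subgroup G) : Set G)).relIndex (normalizer ((Q : Subgroup G) : Set G))
    set c' := Nat.card (centralizer ((Q : Subgroup G) : Set G)) with hc'
    set d' := Nat.card (Sylow 5 G) with hd'
    have h3c : 3 ∣ c' := by
      rcases arith_c5 c' r' d' (arith_d5 d' q1 q2 q3) q4 q5 q6 q7 with h | ⟨hc65, hd36⟩
      · exact h
      · obtain ⟨f, hf1, hf2, hf3, -⟩ := qfp 13 (by norm_num) (by rw [hc65]; norm_num)
        rw [hd36] at hf2 hf3
        omega
    obtain ⟨w, hw, hwQ⟩ := exists_orderOf_eq_in_centralizer 3 (Q : Subgroup G) h3c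
    have hQw : (Q : Subgroup G) ≤ centralizer ({w} : Set G) := by
      intro x hx
      rw [mem_centralizer_singleton_iff]
      exact (mem_centralizer_iff.mp hwQ) x hx
    have h5 : 5 ∣ Nat.card (centralizer ({w} : Set G)) := by
      have := card_dvd_of_le hQw; rwa [hQ] at this
    rw [hall3 w hw] at h5
    omega

end Cfsg.Agent.Lib.H17.O983
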