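import Mathlib

set_option autoImplicit false

/-! # Classes of subgroups of order three

A criterion for a finite group to have exactly seven classes of subgroups of order three, from a
Sylow 3-subgroup all of whose elements of order three are conjugate to one of seven elements or
their inverses, and its transport along an isomorphism. -/

namespace Cfsg.Agent.Lib.H17.OrderThree

/-- exactly seven classes of subgroups of order three -/
def SevenClasses (G : Type*) [Group G] : Prop :=
  ∃ Y : Fin 7 → Subgroup G, (∀ i, Nat.card (Y i) = 3) ∧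
    (∀ i j, (∃ g : G, (Y i).map (MulAut.conj g).toMonoidHom = Y j) → i = j) ∧
    (∀ X : Subgroup G, Nat.card X = 3 →
      ∃ i, ∃ g : G, X.map (MulAut.conj g).toMonoidHom = Y i)

theorem map_conj_map {G H : Type*} [Group G] [Group H] (e : G ≃* H) (S : Subgroup G) (g : G) :
    (S.map e.toMonoidHom).map (MulAut.conj (e g)).toMonoidHom =
      (S.map (MulAut.conj g).toMonoidHom).map e.toMonoidHom := by
  rw [Subgroup.map_map, Subgroup.map_map]
  congr 1
  ext x
  simp [MulAut.conj_apply]

theorem SevenClasses.of_equiv {G H : Type*} [Group G] [Group H] (e : G ≃* H)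
    (h : SevenClasses G) : SevenClasses H := by
  obtain ⟨Y, h1, h2, h3⟩ := h
  have hinj : Function.Injective (Subgroup.map e.toMonoidHom) :=
    Subgroup.map_injective e.injective
  refine ⟨fun i => (Y i).map e.toMonoidHom, ?_, ?_, ?_⟩
  · intro i
    rw [Subgroup.card_map_of_injective e.injective]
    exact h1 i
  · rintro i j ⟨g, hg⟩
    apply h2 i j
    refine ⟨e.symm g, ?_⟩
    apply hinj
    rw [← map_conj_map, MulEquiv.apply_symm_apply]
    exact hg
  · intro X hX
    have hX' : Nat.card (X.map e.symm.toMonoidHom) = 3 := by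
      rw [Subgroup.card_map_of_injective e.symm.injective]
      exact hX
    obtain ⟨i, g, hg⟩ := h3 _ hX'
    refine ⟨i, e g, ?_⟩
    change X.map (MulAut.conj (e g)).toMonoidHom = (Y i).map e.toMonoidHom
    rw [← hg, ← map_conj_map]
    congr 1
    rw [Subgroup.map_map]
    have : e.toMonoidHom.comp e.symm.toMonoidHom = MonoidHom.id H := by
      ext x
      simp
    rw [this, Subgroup.map_id]

variable {K : Type*} [Group K]

theorem mem_zpowers_three (y x : K) (hy : y ^ 3 = 1) (hx : x ∈ Subgroup.zpowers y) :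
    x = 1 ∨ x = y ∨ x = y⁻¹ := by
  obtain ⟨k, rfl⟩ := Subgroup.mem_zpowers_iff.mp hx
  have hk : k = 3 * (k / 3) + k % 3 := (Int.mul_ediv_add_emod k 3).symm
  have h3 : y ^ (3 : ℤ) = 1 := by
    have : y ^ ((3 : ℕ) : ℤ) = 1 := by rw [zpow_natCast]; exact hy
    exact this
  have hr : y ^ k = y ^ (k % 3) := by
    conv_lhs => rw [hk]
    rw [zpow_add, zpow_mul, h3, one_zpow, one_mul]
  have h0 : 0 ≤ k % 3 := Int.emod_nonneg k (by norm_num)
  have h1 : k % 3 < 3 := Int.emod_lt_of_pos k (by norm_num)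
  rw [hr]
  have : k % 3 = 0 ∨ k % 3 = 1 ∨ k % 3 = 2 := by omega
  rcases this with h | h | h <;> rw [h]
  · left
    simp
  · right; left
    simp
  · right; right
    have : y ^ (2 : ℤ) * y = 1 := by
      have e : y ^ (2 : ℤ) * y = y ^ (3 : ℤ) := by
        rw [show (3 : ℤ) = 2 + 1 by norm_num, zpow_add, zpow_one]
      rw [e, h3]
    exact eq_inv_of_mul_eq_one_left this

theorem card_zpowers_three (y : K) (hy : y ^ 3 = 1) (hy1 : y ≠ 1) :
    Nat.card (Subgroup.zpowers y) = 3 := by
  rw [Nat.card_zpowers]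
  haveI : Fact (Nat.Prime 3) := ⟨by norm_num⟩
  exact orderOf_eq_prime hy hy1

theorem map_conj_zpowers (g x : K) :
    (Subgroup.zpowers x).map (MulAut.conj g).toMonoidHom = Subgroup.zpowers (g * x * g⁻¹) := by
  rw [MonoidHom.map_zpowers]
  rfl

/-- a subgroup of order three is generated by an element of order three -/
theorem exists_gen_of_card_three (X : Subgroup K) (hX : Nat.card X = 3) :
    ∃ x : K, x ≠ 1 ∧ x ^ 3 = 1 ∧ X = Subgroup.zpowers x := by
  haveI : Finite X := Nat.finite_of_card_ne_zero (by rw [hX]; norm_num)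
  have hne : X ≠ ⊥ := by
    intro h
    rw [h, Subgroup.card_bot] at hX
    norm_num at hX
  obtain ⟨x, hx1⟩ := (Subgroup.ne_bot_iff_exists_ne_one).mp hne
  have hx3 : (x : K) ^ 3 = 1 := by
    have := pow_card_eq_one' (G := X) (x := x)
    rw [hX] at this
    have h2 := congrArg (Subtype.val) this
    simpa using h2
  have hx1' : (x : K) ≠ 1 := by
    intro h
    apply hx1
    exact Subtype.ext h
  refine ⟨x, hx1', hx3, ?_⟩
  symm
  apply Subgroup.eq_of_le_of_card_ge
  · rw [Subgroup.zpowers_le]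
    exact x.2
  · rw [card_zpowers_three _ hx3 hx1', hX]

/-- the criterion -/
theorem sevenClasses_of_sylow [Finite K] (U : Subgroup K) (m : ℕ) (hU : Nat.card U = 3 ^ 9)
    (hK : Nat.card K = 3 ^ 9 * m) (hm : ¬ 3 ∣ m)
    (y : Fin 7 → K) (hy3 : ∀ i, y i ^ 3 = 1) (hy1 : ∀ i, y i ≠ 1)
    (hconj : ∀ u ∈ U, u ≠ 1 → u ^ 3 = 1 →
      ∃ g : K, ∃ i, g * u * g⁻¹ = y i ∨ g * u * g⁻¹ = (y i)⁻¹)
    (hdist : ∀ i j (g : K), (g * y i * g⁻¹ = y j ∨ g * y i * g⁻¹ = (y j)⁻¹) → i = j) :
    SevenClasses K := by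
  have : Fact (Nat.Prime 3) := ⟨by norm_num⟩
  refine ⟨fun i => Subgroup.zpowers (y i), fun i => card_zpowers_three _ (hy3 i) (hy1 i), ?_, ?_⟩
  · rintro i j ⟨g, hg⟩
    rw [map_conj_zpowers] at hg
    have hg' : Subgroup.zpowers (g * y i * g⁻¹) = Subgroup.zpowers (y j) := hg
    have hmem : g * y i * g⁻¹ ∈ Subgroup.zpowers (y j) := by
      rw [← hg']
      exact Subgroup.mem_zpowers _
    rcases mem_zpowers_three _ _ (hy3 j) hmem with h | h | h
    · exfalso
      apply hy1 i
      have : y i = g⁻¹ * (g * y i * g⁻¹) * g := by group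
      rw [this, h]
      group
    · exact hdist i j g (Or.inl h)
    · exact hdist i j g (Or.inr h)
  · intro X hX
    obtain ⟨x, hx1, hx3, rfl⟩ := exists_gen_of_card_three X hX
    -- the Sylow subgroup
    have hm0 : m ≠ 0 := by
      rintro rfl
      exact hm (dvd_zero 3)
    have hfac : (Nat.card K).factorization 3 = 9 := by
      rw [hK, Nat.factorization_mul (by norm_num) hm0, Nat.factorization_pow]
      simp [Nat.factorization_eq_zero_of_not_dvd hm, Nat.Prime.factorization_self Nat.prime_three]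
    let P : Sylow 3 K := Sylow.ofCard U (by rw [hU, hfac])
    have hPU : (P : Subgroup K) = U := rfl
    have hpg : IsPGroup 3 (Subgroup.zpowers x) :=
      IsPGroup.of_card (n := 1) (by rw [card_zpowers_three _ hx3 hx1]; norm_num)
    obtain ⟨Q, hQ⟩ := hpg.exists_le_sylow
    obtain ⟨g, hg⟩ := MulAction.exists_smul_eq K Q P
    have hxU : g * x * g⁻¹ ∈ U := by
      rw [← hPU, ← hg, Sylow.coe_subgroup_smul]
      have := Subgroup.smul_mem_pointwise_smul x (MulAut.conj g) (Q : Subgroup K)
        (hQ (Subgroup.mem_zpowers x))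
      rwa [MulAut.smul_def, MulAut.conj_apply] at this
    have hu1 : g * x * g⁻¹ ≠ 1 := by
      intro h
      apply hx1
      have : x = g⁻¹ * (g * x * g⁻¹) * g := by group
      rw [this, h]
      group
    have hu3 : (g * x * g⁻¹) ^ 3 = 1 := by
      rw [conj_pow, hx3]
      group
    obtain ⟨g', i, h⟩ := hconj _ hxU hu1 hu3
    refine ⟨i, g' * g, ?_⟩
    rw [map_conj_zpowers]
    have e1 : g' * g * x * (g' * g)⁻¹ = g' * (g * x * g⁻¹) * g'⁻¹ := by group
    rw [e1]
    rcases h with h | h
    · rw [h]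
    · rw [h, Subgroup.zpowers_inv]

end Cfsg.Agent.Lib.H17.OrderThree
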