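import Mathlib

set_option autoImplicit false

/-! # Groups generated by a polycyclic sequence with factors of order three

If each generator conjugates the later ones into the subgroup they generate, and its cube lies
in that subgroup, then every element of the group is a product of powers of the generators, in
order, with exponents less than three. -/

namespace Cfsg.Agent.Lib.H17.PcGroup

variable {G : Type*} [Group G]

/-- a product of powers, in order -/
def nfL : List G → List ℕ → G
  | [], _ => 1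
  | _ :: _, [] => 1
  | s :: L, a :: c => s ^ a * nfL L c

theorem nfL_cons (s : G) (L : List G) (a : ℕ) (c : List ℕ) :
    nfL (s :: L) (a :: c) = s ^ a * nfL L c := rfl

/-- the polycyclic relations -/
def PcOK : List G → Prop
  | [] => True
  | s :: L => (∀ t ∈ L, s * t * s⁻¹ ∈ Subgroup.closure {x | x ∈ L}) ∧
      s ^ 3 ∈ Subgroup.closure {x | x ∈ L} ∧ PcOK L

theorem conj_mem (N : Subgroup G) (s : G) (T : Set G) (hN : N = Subgroup.closure T)
    (hconj : ∀ t ∈ T, s * t * s⁻¹ ∈ N) : ∀ n ∈ N, s * n * s⁻¹ ∈ N := by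
  intro n hn
  rw [hN] at hn
  induction hn using Subgroup.closure_induction with
  | mem t ht => exact hconj t ht
  | one => simp
  | mul a b _ _ iha ihb =>
    have : s * (a * b) * s⁻¹ = (s * a * s⁻¹) * (s * b * s⁻¹) := by group
    rw [this]
    exact N.mul_mem iha ihb
  | inv a _ iha =>
    have : s * a⁻¹ * s⁻¹ = (s * a * s⁻¹)⁻¹ := by group
    rw [this]
    exact N.inv_mem iha

theorem conj_pow_mem (N : Subgroup G) (s : G) (h : ∀ n ∈ N, s * n * s⁻¹ ∈ N) (a : ℕ) :
    ∀ n ∈ N, s ^ a * n * (s ^ a)⁻¹ ∈ N := by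
  induction a with
  | zero => intro n hn; simpa using hn
  | succ a ih =>
    intro n hn
    have : s ^ (a + 1) * n * (s ^ (a + 1))⁻¹ = s * (s ^ a * n * (s ^ a)⁻¹) * s⁻¹ := by
      rw [pow_succ']
      group
    rw [this]
    exact h _ (ih n hn)

/-- the normal form with the power on the right -/
theorem pc_step_right (N : Subgroup G) (s : G) (T : Set G) (hN : N = Subgroup.closure T)
    (hconj : ∀ t ∈ T, s * t * s⁻¹ ∈ N) (hpow : s ^ 3 ∈ N) :
    ∀ m ∈ Subgroup.closure (insert s T), ∃ a < 3, ∃ n ∈ N, m = n * s ^ a := by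
  have h1 := conj_mem N s T hN hconj
  have h2 := conj_pow_mem N s h1
  intro m hm
  induction hm using Subgroup.closure_induction with
  | mem x hx =>
    rcases hx with rfl | hx
    · exact ⟨1, by norm_num, 1, N.one_mem, by simp⟩
    · exact ⟨0, by norm_num, x, by rw [hN]; exact Subgroup.subset_closure hx, by simp⟩
  | one => exact ⟨0, by norm_num, 1, N.one_mem, by simp⟩
  | mul x y _ _ ihx ihy =>
    obtain ⟨a, ha, n, hn, rfl⟩ := ihx
    obtain ⟨b, hb, n', hn', rfl⟩ := ihy
    have hc := h2 a n' hn'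
    by_cases hab : a + b < 3
    · refine ⟨a + b, hab, n * (s ^ a * n' * (s ^ a)⁻¹), N.mul_mem hn hc, ?_⟩
      rw [pow_add]
      group
    · refine ⟨a + b - 3, by omega, n * (s ^ a * n' * (s ^ a)⁻¹) * s ^ 3,
        N.mul_mem (N.mul_mem hn hc) hpow, ?_⟩
      have : a + b = 3 + (a + b - 3) := by omega
      have e1 : s ^ a * s ^ b = s ^ 3 * s ^ (a + b - 3) := by
        rw [← pow_add, ← pow_add, ← this]
      calc n * s ^ a * (n' * s ^ b) = n * (s ^ a * n' * (s ^ a)⁻¹) * (s ^ a * s ^ b) := by group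
        _ = n * (s ^ a * n' * (s ^ a)⁻¹) * s ^ 3 * s ^ (a + b - 3) := by rw [e1]; group
  | inv x _ ihx =>
    obtain ⟨a, ha, n, hn, rfl⟩ := ihx
    by_cases ha0 : a = 0
    · subst ha0
      exact ⟨0, by norm_num, n⁻¹, N.inv_mem hn, by simp⟩
    · have hx : (s ^ 3)⁻¹ * n⁻¹ ∈ N := N.mul_mem (N.inv_mem hpow) (N.inv_mem hn)
      have hc := h2 (3 - a) _ hx
      refine ⟨3 - a, by omega, _, hc, ?_⟩
      have e1 : s ^ 3 = s ^ (3 - a) * s ^ a := by
        rw [← pow_add]
        congr 1
        omega
      rw [e1]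
      group

/-- the normal form with the power on the left -/
theorem pc_step (N : Subgroup G) (s : G) (T : Set G) (hN : N = Subgroup.closure T)
    (hconj : ∀ t ∈ T, s * t * s⁻¹ ∈ N) (hpow : s ^ 3 ∈ N) :
    ∀ m ∈ Subgroup.closure (insert s T), ∃ a < 3, ∃ n ∈ N, m = s ^ a * n := by
  intro m hm
  obtain ⟨a, ha, n, hn, h⟩ := pc_step_right N s T hN hconj hpow m⁻¹ (Subgroup.inv_mem _ hm)
  have hm' : m = (s ^ a)⁻¹ * n⁻¹ := by
    have := congrArg (fun x : G => x⁻¹) h
    simpa using this
  by_cases ha0 : a = 0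
  · subst ha0
    exact ⟨0, by norm_num, n⁻¹, N.inv_mem hn, by simpa using hm'⟩
  · refine ⟨3 - a, by omega, (s ^ 3)⁻¹ * n⁻¹, N.mul_mem (N.inv_mem hpow) (N.inv_mem hn), ?_⟩
    have e1 : s ^ 3 = s ^ (3 - a) * s ^ a := by
      rw [← pow_add]
      congr 1
      omega
    rw [hm', e1]
    group

theorem nfL_mem (L : List G) (c : List ℕ) : nfL L c ∈ Subgroup.closure {x | x ∈ L} := by
  induction L generalizing c with
  | nil => exact Subgroup.one_mem _
  | cons s L ih =>
    cases c with
    | nil => exact Subgroup.one_mem _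
    | cons a c =>
      rw [nfL_cons]
      have hle : Subgroup.closure {x | x ∈ L} ≤ Subgroup.closure {x | x ∈ s :: L} :=
        Subgroup.closure_mono (fun x hx => List.mem_cons_of_mem _ hx)
      have hs : s ∈ ({x | x ∈ s :: L} : Set G) := by
        change s ∈ s :: L
        exact List.mem_cons_self ..
      exact Subgroup.mul_mem _ (Subgroup.pow_mem _ (Subgroup.subset_closure hs) a) (hle (ih c))

/-- every element is a product of powers, in order, with exponents less than three -/
theorem mem_nfL (L : List G) (h : PcOK L) : ∀ u ∈ Subgroup.closure {x | x ∈ L},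
    ∃ c : List ℕ, c.length = L.length ∧ (∀ a ∈ c, a < 3) ∧ u = nfL L c := by
  induction L with
  | nil =>
    intro u hu
    have : ({x | x ∈ ([] : List G)} : Set G) = ∅ := by
      ext x
      simp
    rw [this, Subgroup.closure_empty, Subgroup.mem_bot] at hu
    exact ⟨[], rfl, by simp, by rw [hu]; rfl⟩
  | cons s L ih =>
    obtain ⟨hc, hp, hL⟩ := h
    intro u hu
    have hset : ({x | x ∈ s :: L} : Set G) = insert s {x | x ∈ L} := by
      ext x
      simp
    rw [hset] at hu
    obtain ⟨a, ha, n, hn, rfl⟩ := pc_step (Subgroup.closure {x | x ∈ L}) s {x | x ∈ L} rfl hc hp u hu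
    obtain ⟨c, hlen, hlt, rfl⟩ := ih hL n hn
    refine ⟨a :: c, by simp [hlen], ?_, rfl⟩
    intro b hb
    rcases List.mem_cons.mp hb with rfl | hb
    · exact ha
    · exact hlt b hb

end Cfsg.Agent.Lib.H17.PcGroup
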