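import Cfsg.Agent.Lib.H17.O7K
import Cfsg.Agent.Lib.H17.PcGroup
import Cfsg.Agent.Lib.H17.OrderThree

set_option autoImplicit false
set_option maxRecDepth 100000

/-! # Elements of the subgroup `⟨b, …, i⟩` of `Fi22` given by words, and their action on the points

Tools to compute with elements given by words through packed tables of their action on the 3510
points: equality by the images of a base, products of powers of a list of elements, counting of
points in a relation invariant under the group. -/

namespace Cfsg.Agent.Lib.H17.OmBase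

open Cfsg.Spor Cfsg.Agent.Lib.H17.CosetCert Cfsg.Agent.Lib.H17.Sgs Cfsg.Agent.Lib.H17.Fi22Glue
  Cfsg.Agent.Lib.H17.Fi22U62 Cfsg.Agent.Lib.H17.Fi22Word Cfsg.Agent.Lib.H17.O7Lines
  Cfsg.Agent.Lib.H17.O7K Cfsg.Agent.Lib.H17.PcGroup

attribute [local instance] Cfsg.Agent.Lib.H17.Fi22Word.finite_G

/-! ## Loops the kernel evaluates without deep recursion -/

/-- `f i` holds for all `i < n` -/
noncomputable def allLt (f : ℕ → Bool) (n : ℕ) : Bool :=
  Nat.rec (motive := fun _ => Bool) true (fun i ih => cond (f i) ih false) n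

theorem allLt_sound (f : ℕ → Bool) (n : ℕ) (h : allLt f n = true) : ∀ i < n, f i = true := by
  induction n with
  | zero => intro i hi; omega
  | succ n ih =>
    have h' : cond (f n) (allLt f n) false = true := h
    cases hb : f n with
    | false => rw [hb] at h'; exact absurd h' (by simp)
    | true =>
      rw [hb] at h'
      intro i hi
      rcases Nat.lt_succ_iff_lt_or_eq.mp hi with hlt | rfl
      · exact ih h' i hlt
      · exact hb

/-- the number of `i < n` with `f i`, added to `acc` -/
noncomputable def countP (f : ℕ → Bool) (n : ℕ) : ℕ → ℕ :=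
  Nat.rec (motive := fun _ => ℕ → ℕ) (fun acc => acc)
    (fun i ih acc => cond (f i) (force (Nat.succ acc) ih) (ih acc)) n

theorem countP_eq (f : ℕ → Bool) (n acc : ℕ) :
    countP f n acc = acc + ((Finset.range n).filter fun i => f i = true).card := by
  induction n generalizing acc with
  | zero => simp [countP]
  | succ n ih =>
    have h' : countP f (n + 1) acc =
        cond (f n) (force (Nat.succ acc) (countP f n)) (countP f n acc) := rfl
    rw [h', force_eq, Finset.range_add_one, Finset.filter_insert]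
    cases hb : f n with
    | true =>
      simp only [cond_true, if_true]
      rw [ih, Finset.card_insert_of_notMem (by simp)]
      omega
    | false =>
      simp only [cond_false, Bool.false_eq_true, if_false]
      rw [ih]

theorem card_filter_fin (f : ℕ → Bool) (n : ℕ) :
    (Finset.univ.filter fun i : Fin n => f i = true).card = countP f n 0 := by
  rw [countP_eq, zero_add]
  apply Finset.card_bij (fun (i : Fin n) _ => (i : ℕ))
  · intro i hi
    simp only [Finset.mem_filter, Finset.mem_univ, true_and] at hi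
    simp only [Finset.mem_filter, Finset.mem_range]
    exact ⟨i.2, hi⟩
  · intro i _ j _ h
    exact Fin.ext h
  · intro j hj
    simp only [Finset.mem_filter, Finset.mem_range] at hj
    exact ⟨⟨j, hj.1⟩, by simp [hj.2], rfl⟩

/-! ## Elements given by words -/

theorem e_mem_K (w : List ℕ) (h : ∀ x ∈ w, 1 ≤ x ∧ x ≤ 8) : e w ∈ K := by
  induction w with
  | nil => rw [e_nil]; exact K.one_mem
  | cons x w ih =>
    rw [e_cons]
    exact K.mul_mem (of_mem_K x (h x List.mem_cons_self))
      (ih fun y hy => h y (List.mem_cons_of_mem _ hy))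

/-- the element of a word in the eight letters -/
noncomputable def ek (w : List ℕ) (h : ∀ x ∈ w, 1 ≤ x ∧ x ≤ 8) : K := ⟨e w, e_mem_K w h⟩

/-- the element acts on the points by the function -/
def Acts (x : K) (A : ℕ → ℕ) : Prop := ∀ p : Fin 3510, ((ψK x p : Fin 3510) : ℕ) = A p

theorem Acts.one : Acts 1 (fun p => p) := by
  intro p
  rw [map_one]
  rfl

theorem Acts.mul {x y : K} {A B : ℕ → ℕ} (hx : Acts x A) (hy : Acts y B) :
    Acts (x * y) (fun p => A (B p)) := by
  intro p
  rw [map_mul, Equiv.Perm.mul_apply, hx, hy]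

theorem Acts.congr {x : K} {A B : ℕ → ℕ} (hx : Acts x A) (h : ∀ p : Fin 3510, A p = B p) :
    Acts x B := by
  intro p
  rw [hx, h]

theorem acts_ek (w : List ℕ) (h : ∀ x ∈ w, 1 ≤ x ∧ x ≤ 8) :
    Acts (ek w h) (applyT 12 4096 (tw w.reverse)) := by
  intro p
  change ((φ (e w) p : Fin 3510) : ℕ) = _
  rw [φ_e, prod_apply 12 4096 3510 _ (fun t ht => good_tabs t (tw_mem w t ht)) p]
  congr 2
  unfold tw
  rw [List.map_reverse]

theorem acts_ek_tab (w : List ℕ) (h : ∀ x ∈ w, 1 ≤ x ∧ x ≤ 8) (T : ℕ)
    (hT : ∀ p : Fin 3510, applyT 12 4096 (tw w.reverse) p = lk 12 4096 T p) :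
    Acts (ek w h) (lk 12 4096 T) :=
  (acts_ek w h).congr hT

theorem ψK_injective : Function.Injective ψK := by
  intro x y hxy
  apply Subtype.ext
  exact Cfsg.Agent.Lib.H17.Fi22Ord.φ_injective hxy

/-- two elements which agree on the base are equal -/
theorem eq_of_acts {x y : K} {A B : ℕ → ℕ} (hx : Acts x A) (hy : Acts y B)
    (h : ∀ b ∈ sbase, A b = B b) : x = y := by
  apply ψK_injective
  have hmem : (⟨ψK (x⁻¹ * y), ⟨((x⁻¹ * y : K) : G), rfl⟩⟩ : P) ∈ stabL P.subtype sbase := by
    intro c hc hcn
    change ψK (x⁻¹ * y) ⟨c, hcn⟩ = ⟨c, hcn⟩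
    rw [map_mul, Equiv.Perm.mul_apply, map_inv, Equiv.Perm.inv_eq_iff_eq]
    apply Fin.ext
    rw [hx, hy]
    exact (h c hc).symm
  rw [stab_trivial, Subgroup.mem_bot] at hmem
  have h1 : ψK (x⁻¹ * y) = 1 := congrArg Subtype.val hmem
  rw [map_mul, map_inv, inv_mul_eq_one] at h1
  exact h1

theorem ne_of_acts {x y : K} {A B : ℕ → ℕ} (hx : Acts x A) (hy : Acts y B) (b : Fin 3510)
    (h : A b ≠ B b) : x ≠ y := by
  rintro rfl
  apply h
  rw [← hx, ← hy]

/-! ## Products of powers -/

/-- apply the table `a` times -/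
noncomputable def powA (T a p : ℕ) : ℕ :=
  Nat.rec (motive := fun _ => ℕ) p (fun _ ih => lk 12 4096 T ih) a

theorem powA_succ (T a p : ℕ) : powA T (a + 1) p = lk 12 4096 T (powA T a p) := rfl

theorem acts_pow {s : K} {T : ℕ} (h : Acts s (lk 12 4096 T)) (a : ℕ) :
    Acts (s ^ a) (powA T a) := by
  induction a with
  | zero =>
    intro p
    rw [pow_zero, map_one]
    rfl
  | succ a ih =>
    intro p
    rw [pow_succ', map_mul, Equiv.Perm.mul_apply, h, ih, powA_succ]

/-- the action of the product of powers with exponents the ternary digits of the code -/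
noncomputable def nfA (Ts : List ℕ) : ℕ → ℕ → ℕ :=
  List.rec (motive := fun _ => ℕ → ℕ → ℕ) (fun _ p => p)
    (fun T _ ih c p => powA T (Nat.mod c 3) (ih (Nat.div c 3) p)) Ts

theorem nfA_nil (c p : ℕ) : nfA [] c p = p := rfl

theorem nfA_cons (T : ℕ) (Ts : List ℕ) (c p : ℕ) :
    nfA (T :: Ts) c p = powA T (c % 3) (nfA Ts (c / 3) p) := rfl

/-- the ternary digits -/
def digs : ℕ → ℕ → List ℕ
  | 0, _ => []
  | n + 1, c => c % 3 :: digs n (c / 3)

theorem digs_length (n c : ℕ) : (digs n c).length = n := by
  induction n generalizing c with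
  | zero => rfl
  | succ n ih => simp [digs, ih]

theorem exists_code (n : ℕ) (cs : List ℕ) (hl : cs.length = n) (h3 : ∀ a ∈ cs, a < 3) :
    ∃ c < 3 ^ n, cs = digs n c := by
  induction n generalizing cs with
  | zero =>
    refine ⟨0, by norm_num, ?_⟩
    rw [List.length_eq_zero_iff.mp hl]
    rfl
  | succ n ih =>
    cases cs with
    | nil => simp at hl
    | cons a cs =>
      obtain ⟨c, hc, rfl⟩ := ih cs (by simpa using hl) (fun b hb => h3 b (List.mem_cons_of_mem _ hb))
      have ha : a < 3 := h3 a List.mem_cons_self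
      refine ⟨a + 3 * c, ?_, ?_⟩
      · rw [pow_succ]
        omega
      · have h1 : (a + 3 * c) % 3 = a := by omega
        have h2 : (a + 3 * c) / 3 = c := by omega
        simp only [digs, h1, h2]

/-- the product of powers with exponents the ternary digits of the code -/
noncomputable def nfK (L : List K) (c : ℕ) : K := nfL L (digs L.length c)

theorem nfK_nil (c : ℕ) : nfK [] c = 1 := rfl

theorem nfK_cons (s : K) (L : List K) (c : ℕ) : nfK (s :: L) c = s ^ (c % 3) * nfK L (c / 3) := rfl

theorem acts_nfK (L : List K) (Ts : List ℕ)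
    (h : List.Forall₂ (fun s T => Acts s (lk 12 4096 T)) L Ts) (c : ℕ) :
    Acts (nfK L c) (nfA Ts c) := by
  induction h generalizing c with
  | nil =>
    intro p
    rw [nfK_nil, map_one]
    rfl
  | cons hs _ ih =>
    intro p
    rw [nfK_cons, map_mul, Equiv.Perm.mul_apply, acts_pow hs, ih, nfA_cons]

theorem nfK_mem (L : List K) (c : ℕ) : nfK L c ∈ Subgroup.closure {x | x ∈ L} :=
  nfL_mem L _

/-- every element of the group generated by a polycyclic sequence is a product of powers -/
theorem exists_nfK (L : List K) (h : PcOK L) (u : K) (hu : u ∈ Subgroup.closure {x | x ∈ L}) :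
    ∃ c < 3 ^ L.length, u = nfK L c := by
  obtain ⟨cs, hl, h3, rfl⟩ := mem_nfL L h u hu
  obtain ⟨c, hc, rfl⟩ := exists_code L.length cs hl h3
  exact ⟨c, hc, rfl⟩

/-- a code whose first digits vanish gives an element of the group of the later elements -/
theorem nfK_mem_drop (L1 L2 : List K) (c : ℕ) (hc : c % 3 ^ L1.length = 0) :
    nfK (L1 ++ L2) c ∈ Subgroup.closure {x | x ∈ L2} := by
  induction L1 generalizing c with
  | nil => exact nfK_mem L2 c
  | cons s L1 ih =>
    rw [List.cons_append, nfK_cons]
    rw [List.length_cons, pow_succ] at hc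
    have h1 : c % 3 = 0 := by
      have := Nat.mod_mod_of_dvd c (Dvd.intro_left (3 ^ L1.length) rfl : 3 ∣ 3 ^ L1.length * 3)
      rw [hc] at this
      simpa using this.symm
    have h2 : c / 3 % 3 ^ L1.length = 0 := by
      have h3 : 3 ^ L1.length * 3 ∣ c := Nat.dvd_of_mod_eq_zero hc
      obtain ⟨m, rfl⟩ := h3
      have : 3 ^ L1.length * 3 * m / 3 = 3 ^ L1.length * m := by
        rw [mul_assoc, mul_comm 3 m, ← mul_assoc]
        exact Nat.mul_div_cancel _ (by norm_num)
      rw [this]
      exact Nat.mul_mod_right _ _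
    rw [h1, pow_zero, one_mul]
    exact ih _ h2

theorem acts_ek_chk (w : List ℕ) (h : ∀ x ∈ w, 1 ≤ x ∧ x ≤ 8) (T : ℕ)
    (hT : allLt (fun p => Nat.beq (applyT 12 4096 (tw w.reverse) p) (lk 12 4096 T p)) 3510 = true) :
    Acts (ek w h) (lk 12 4096 T) :=
  acts_ek_tab w h T fun p => Nat.eq_of_beq_eq_true (allLt_sound _ _ hT p p.2)

theorem nfK_zero (L : List K) : nfK L 0 = 1 := by
  induction L with
  | nil => rfl
  | cons s L ih =>
    rw [nfK_cons]
    simp [ih]

/-! ## Polycyclic sequences by indices -/

theorem pcOK_of_index {G : Type*} [Group G] (L : List G)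
    (h1 : ∀ i j, i < j → j < L.length →
      L.getD i 1 * L.getD j 1 * (L.getD i 1)⁻¹ ∈ Subgroup.closure {x | x ∈ L.drop (i + 1)})
    (h3 : ∀ i, i < L.length → L.getD i 1 ^ 3 ∈ Subgroup.closure {x | x ∈ L.drop (i + 1)}) :
    PcOK L := by
  induction L with
  | nil => trivial
  | cons s L ih =>
    refine ⟨?_, ?_, ?_⟩
    · intro t ht
      obtain ⟨j, hj, rfl⟩ := List.mem_iff_getElem.mp ht
      have := h1 0 (j + 1) (by omega) (by simpa using hj)
      have e1 : L[j]?.getD 1 = L[j] := by simp [hj]
      simpa [e1] using this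
    · have := h3 0 (by simp)
      simpa using this
    · apply ih
      · intro i j hij hj
        have := h1 (i + 1) (j + 1) (by omega) (by simpa using hj)
        simpa using this
      · intro i hi
        have := h3 (i + 1) (by simpa using hi)
        simpa using this

/-! ## Counting points in an invariant relation -/

/-- the number of points in relation with their image -/
noncomputable def cnt (r : ℕ → ℕ → Bool) (x : K) : ℕ :=
  (Finset.univ.filter fun p : Fin 3510 => r p (ψK x p) = true).card

theorem cnt_eq (r : ℕ → ℕ → Bool) {x : K} {A : ℕ → ℕ} (hx : Acts x A) :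
    cnt r x = countP (fun p => r p (A p)) 3510 0 := by
  rw [← card_filter_fin]
  unfold cnt
  congr 1
  ext p
  simp only [Finset.mem_filter, Finset.mem_univ, true_and]
  rw [hx]

theorem cnt_conj (r : ℕ → ℕ → Bool)
    (hr : ∀ (g : K) (p q : Fin 3510), r (ψK g p) (ψK g q) = r p q) (g x : K) :
    cnt r (g * x * g⁻¹) = cnt r x := by
  unfold cnt
  apply Finset.card_bij (fun (p : Fin 3510) _ => ψK g⁻¹ p)
  · intro p hp
    simp only [Finset.mem_filter, Finset.mem_univ, true_and] at hp ⊢
    have h1 := hr g (ψK g⁻¹ p) (ψK x (ψK g⁻¹ p))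
    have h2 : ψK g (ψK g⁻¹ p) = p := by simp [map_inv]
    have h3 : ψK g (ψK x (ψK g⁻¹ p)) = ψK (g * x * g⁻¹) p := by simp [map_mul]
    rw [h2, h3] at h1
    rw [← h1]
    exact hp
  · intro p _ q _ h
    exact (ψK g⁻¹).injective h
  · intro q hq
    simp only [Finset.mem_filter, Finset.mem_univ, true_and] at hq
    refine ⟨ψK g q, ?_, ?_⟩
    · simp only [Finset.mem_filter, Finset.mem_univ, true_and]
      have h3 : ψK (g * x * g⁻¹) (ψK g q) = ψK g (ψK x q) := by simp [map_mul]
      rw [h3, hr]
      exact hq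
    · simp [map_inv]

/-- a relation invariant under the eight generators is invariant under the group -/
theorem rel_invariant (r : ℕ → ℕ → Bool)
    (hr : ∀ (k : Fin 8) (p q : Fin 3510), r (ψK (kg k) p) (ψK (kg k) q) = r p q) :
    ∀ (g : K) (p q : Fin 3510), r (ψK g p) (ψK g q) = r p q := by
  have key : ∀ g ∈ Subgroup.closure (Set.range kg), ∀ p q : Fin 3510,
      r (ψK g p) (ψK g q) = r p q := by
    intro g hg
    induction hg using Subgroup.closure_induction with
    | mem s hs =>
      obtain ⟨k, rfl⟩ := hs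
      exact hr k
    | one =>
      intro p q
      rw [map_one]
      rfl
    | mul a b _ _ iha ihb =>
      intro p q
      rw [map_mul, Equiv.Perm.mul_apply, Equiv.Perm.mul_apply, iha, ihb]
    | inv a _ iha =>
      intro p q
      rw [← iha (ψK a⁻¹ p) (ψK a⁻¹ q), ← Equiv.Perm.mul_apply, ← Equiv.Perm.mul_apply, ← map_mul,
        mul_inv_cancel, map_one]
      rfl
  intro g
  exact key g (by rw [closure_kg]; trivial)

theorem acts_kg (k : Fin 8) : Acts (kg k) (lk 12 4096 (tabOf (gen (k.val + 1)))) := by
  intro p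
  change ((φ ((kg k : K) : G) p : Fin 3510) : ℕ) = _
  rw [kg_val', φ_gen_apply]

theorem mem_DM_iff (g : K) (p : Fin 3510) : tb DM (ψK g p) = tb DM p := by
  cases h : tb DM p with
  | true => exact K_inv g p h
  | false =>
    cases h2 : tb DM (ψK g p) with
    | false => rfl
    | true =>
      have := K_inv g⁻¹ _ h2
      rw [← Equiv.Perm.mul_apply, ← map_mul, inv_mul_cancel, map_one, Equiv.Perm.one_apply, h] at this
      exact absurd this (by simp)

end Cfsg.Agent.Lib.H17.OmBase
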