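import Cfsg.Agent.Lib.H17.OmTab
import Cfsg.Agent.Lib.H17.OmRel

set_option autoImplicit false
set_option maxRecDepth 100000

/-! # Three numbers telling the seven representatives apart

The number of fixed points, of fixed points among the 351 points, and of the 351 points in the
relation with their image. -/

namespace Cfsg.Agent.Lib.H17.OmInv

open Cfsg.Spor Cfsg.Agent.Lib.H17.CosetCert Cfsg.Agent.Lib.H17.Fi22U62 Cfsg.Agent.Lib.H17.Fi22Word
  Cfsg.Agent.Lib.H17.O7Lines Cfsg.Agent.Lib.H17.O7K Cfsg.Agent.Lib.H17.OmBase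
  Cfsg.Agent.Lib.H17.OmTab Cfsg.Agent.Lib.H17.OmRel

/-- equality of points -/
def r0 (p q : ℕ) : Bool := Nat.beq p q

/-- equality of points among the 351 -/
def r1 (p q : ℕ) : Bool := tb DM p && Nat.beq p q

/-- the numbers of fixed points -/
def V0 : ℕ := 0x2402401b01b00000002402401b01b07e07e

/-- the numbers of fixed points among the 351 -/
def V1 : ℕ := 0x900900000000000002402401b01b02d02d

/-- the numbers of points in the relation with their image -/
def V2 : ℕ := 0x510510a20a20f30f30f30f30f30f3000000000000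

/-- the three numbers at a place -/
def ival (j : ℕ) : ℕ × ℕ × ℕ := (lk 12 4096 V0 j, lk 12 4096 V1 j, lk 12 4096 V2 j)

theorem inv_chk : allLt (fun j => force (rcode j) fun c =>
    Nat.beq (countP (fun p => r0 p (nfA Ts c p)) 3510 0) (lk 12 4096 V0 j) &&
    (Nat.beq (countP (fun p => r1 p (nfA Ts c p)) 3510 0) (lk 12 4096 V1 j) &&
    Nat.beq (countP (fun p => rel p (nfA Ts c p)) 3510 0) (lk 12 4096 V2 j))) 14 = true := by
  decide +kernel

theorem ival_sep : ∀ i j : Fin 7, (ival (2 * i) = ival (2 * j) ∨ ival (2 * i) = ival (2 * j + 1)) →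
    i = j := by
  decide

end Cfsg.Agent.Lib.H17.OmInv
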