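import Cfsg.Agent.Lib.H17.OmChk
import Cfsg.Agent.Lib.H17.OmInv

set_option autoImplicit false
set_option maxRecDepth 100000

/-! # The subgroup `⟨b, …, i⟩` of `Fi22` has exactly seven classes of subgroups of order three

The nine root elements generate a Sylow 3-subgroup; each of its elements of order three is
conjugate to one of seven representatives or its inverse, and three numbers tell these apart. -/

namespace Cfsg.Agent.Lib.H17.OmMain

open Cfsg.Spor Cfsg.Agent.Lib.H17.CosetCert Cfsg.Agent.Lib.H17.Fi22U62 Cfsg.Agent.Lib.H17.Fi22Word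
  Cfsg.Agent.Lib.H17.O7Lines Cfsg.Agent.Lib.H17.O7K Cfsg.Agent.Lib.H17.PcGroup
  Cfsg.Agent.Lib.H17.OrderThree Cfsg.Agent.Lib.H17.OmBase Cfsg.Agent.Lib.H17.OmTab
  Cfsg.Agent.Lib.H17.OmChk Cfsg.Agent.Lib.H17.OmRel Cfsg.Agent.Lib.H17.OmInv

attribute [local instance] Cfsg.Agent.Lib.H17.Fi22Word.finite_G

theorem acts_nf (c : ℕ) : Acts (nfK pgL c) (nfA Ts c) := acts_nfK pgL Ts acts_pgL c

theorem sbase_lt : ∀ b ∈ sbase, b < 3510 := by decide

theorem acts_cube {x : K} {A : ℕ → ℕ} (h : Acts x A) : Acts (x ^ 3) (fun p => A (A (A p))) := by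
  have e : x ^ 3 = x * (x * x) := by rw [pow_succ, pow_two, mul_assoc]
  rw [e]
  exact h.mul (h.mul h)

/-! ## The Sylow subgroup -/

/-- the subgroup generated by the nine root elements -/
noncomputable def U : Subgroup K := Subgroup.closure {x | x ∈ pgL}

theorem rel_sound (i j : ℕ) (hij : i < j) (hj : j < 9) :
    relc i j % 3 ^ (i + 1) = 0 ∧ gN i * gN j * (gN i)⁻¹ = nfK pgL (relc i j) := by
  have h : relOK i j = true := allLt_sound _ _ (allLt_sound _ _ OmChk.rel_chk i (by omega)) j hj
  unfold relOK at h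
  have hb : Nat.blt i j = true := by
    rw [Nat.blt_eq]
    exact hij
  rw [hb, cond_true, Bool.and_eq_true] at h
  obtain ⟨h1, h2⟩ := h
  refine ⟨Nat.eq_of_beq_eq_true h1, ?_⟩
  rw [mul_inv_eq_iff_eq_mul]
  exact eq_of_acts ((acts_gN i (by omega)).mul (acts_gN j (by omega)))
    ((acts_nf _).mul (acts_gN i (by omega)))
    (fun b hb => Nat.eq_of_beq_eq_true (List.all_eq_true.mp h2 b hb))

theorem cube_sound (i : ℕ) (hi : i < 9) : gN i ^ 3 = 1 := by
  have h := allLt_sound _ _ cube_chk i hi
  exact eq_of_acts (acts_pow (acts_gN i (by omega)) 3) Acts.one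
    (fun b hb => Nat.eq_of_beq_eq_true (List.all_eq_true.mp h b hb))

theorem pcOK : PcOK pgL := by
  apply pcOK_of_index
  · intro i j hij hj
    rw [pgL_length] at hj
    rw [pgL_getD i (by omega), pgL_getD j hj]
    obtain ⟨h1, h2⟩ := rel_sound i j hij hj
    rw [h2]
    have := nfK_mem_drop (pgL.take (i + 1)) (pgL.drop (i + 1)) (relc i j) (by
      rw [List.length_take, pgL_length, min_eq_left (by omega)]
      exact h1)
    rwa [List.take_append_drop] at this
  · intro i hi
    rw [pgL_length] at hi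
    rw [pgL_getD i hi, cube_sound i hi]
    exact Subgroup.one_mem _

theorem exists_code_U (u : K) (hu : u ∈ U) : ∃ c < 19683, u = nfK pgL c := by
  obtain ⟨c, hc, rfl⟩ := exists_nfK pgL pcOK u hu
  rw [pgL_length] at hc
  exact ⟨c, by norm_num at hc; exact hc, rfl⟩

theorem card_U_le : Nat.card U ≤ 19683 := by
  have hs : Function.Surjective (fun c : Fin 19683 => (⟨nfK pgL c, nfK_mem pgL c⟩ : U)) := by
    rintro ⟨u, hu⟩
    obtain ⟨c, hc, rfl⟩ := exists_code_U u hu
    exact ⟨⟨c, hc⟩, rfl⟩
  have := Nat.card_le_card_of_surjective _ hs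
  simpa using this

theorem key_lt (j j' : ℕ) (h : j < j') (hj' : j' ≤ 19682) : key (ordc j) < key (ordc j') := by
  induction j', h using Nat.le_induction with
  | base =>
    have := allLt_sound _ _ ord_chk j (by omega)
    rw [Nat.blt_eq] at this
    exact this
  | succ m hm ih =>
    have := allLt_sound _ _ ord_chk m (by omega)
    rw [Nat.blt_eq] at this
    exact lt_trans (ih (by omega)) this

theorem card_U_ge : 19683 ≤ Nat.card U := by
  have hi : Function.Injective
      (fun j : Fin 19683 => (⟨nfK pgL (ordc j), nfK_mem pgL _⟩ : U)) := by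
    intro j j' h
    have h1 : nfK pgL (ordc j) = nfK pgL (ordc j') := congrArg Subtype.val h
    have e : ∀ p : Fin 3510, nfA Ts (ordc j) p = nfA Ts (ordc j') p := fun p => by
      rw [← acts_nf, ← acts_nf, h1]
    have hk : key (ordc j) = key (ordc j') := by
      unfold key
      have e6 := e ⟨6, by norm_num⟩
      have e7 := e ⟨7, by norm_num⟩
      have e24 := e ⟨24, by norm_num⟩
      simp only at e6 e7 e24
      rw [e6, e7, e24]
    rcases lt_trichotomy j.val j'.val with hlt | heq | hgt
    · exact absurd hk (ne_of_lt (key_lt _ _ hlt (by omega)))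
    · exact Fin.ext heq
    · exact absurd hk.symm (ne_of_lt (key_lt _ _ hgt (by omega)))
  have := Nat.card_le_card_of_injective _ hi
  simpa using this

theorem card_U : Nat.card U = 3 ^ 9 := by
  have h1 := card_U_le
  have h2 := card_U_ge
  norm_num
  omega

/-! ## The representatives -/

/-- the seven representatives -/
noncomputable def y (i : Fin 7) : K := nfK pgL (rcode (2 * i))

theorem root_sound (i : ℕ) (hi : i < 7) :
    nfK pgL (rcode (2 * i + 1)) = (nfK pgL (rcode (2 * i)))⁻¹ ∧
      nfK pgL (rcode (2 * i)) ^ 3 = 1 ∧ nfK pgL (rcode (2 * i)) ≠ 1 := by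
  have h := allLt_sound _ _ root_chk i hi
  simp only [Bool.and_eq_true] at h
  obtain ⟨h1, h2, h3⟩ := h
  refine ⟨?_, ?_, ?_⟩
  · apply eq_inv_of_mul_eq_one_right
    exact eq_of_acts ((acts_nf _).mul (acts_nf _)) Acts.one
      (fun b hb => Nat.eq_of_beq_eq_true (List.all_eq_true.mp h1 b hb))
  · exact eq_of_acts (acts_cube (acts_nf _)) Acts.one
      (fun b hb => Nat.eq_of_beq_eq_true (List.all_eq_true.mp h2 b hb))
  · refine ne_of_acts (acts_nf _) Acts.one ⟨0, by norm_num⟩ ?_
    intro heq
    change nfA Ts (rcode (Nat.mul 2 i)) 0 = 0 at heq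
    rw [heq] at h3
    simp at h3

theorem hy3 (i : Fin 7) : y i ^ 3 = 1 := (root_sound i i.2).2.1

theorem hy1 (i : Fin 7) : y i ≠ 1 := (root_sound i i.2).2.2

/-! ## Every element of order three of the Sylow subgroup is conjugate to a representative -/

theorem acts_capp (k : ℕ) (hk : k < 25) : ∃ g : K, Acts g (capp k) := by
  cases h1 : Nat.blt k 9 with
  | true =>
    rw [Nat.blt_eq] at h1
    refine ⟨gN k, (acts_gN k (by omega)).congr fun p => ?_⟩
    unfold capp
    rw [Nat.blt_eq.mpr h1, cond_true]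
  | false =>
    have h1' : ¬ k < 9 := by
      rw [← Nat.blt_eq, h1]
      simp
    cases h2 : Nat.blt k 18 with
    | true =>
      rw [Nat.blt_eq] at h2
      refine ⟨gN (k - 9) ^ 2, (acts_pow (acts_gN (k - 9) (by omega)) 2).congr fun p => ?_⟩
      unfold capp
      rw [h1, cond_false, Nat.blt_eq.mpr h2, cond_true]
      rfl
    | false =>
      refine ⟨gN (k - 9), (acts_gN (k - 9) (by omega)).congr fun p => ?_⟩
      unfold capp
      rw [h1, cond_false, h2, cond_false]
      rfl

theorem edge_sound (k c d : ℕ) (hk : k < 25) (h : edgeOK k c d = true) :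
    ∃ g : K, g * nfK pgL c * g⁻¹ = nfK pgL d := by
  obtain ⟨g, hg⟩ := acts_capp k hk
  refine ⟨g, ?_⟩
  rw [mul_inv_eq_iff_eq_mul]
  exact eq_of_acts (hg.mul (acts_nf c)) ((acts_nf d).mul hg)
    (fun b hb => Nat.eq_of_beq_eq_true (List.all_eq_true.mp h b hb))

theorem notCube_sound (c : ℕ) (h : notCube c = true) : nfK pgL c ^ 3 ≠ 1 := by
  obtain ⟨b, hb, hne⟩ := List.any_eq_true.mp h
  refine ne_of_acts (acts_cube (acts_nf c)) Acts.one ⟨b, sbase_lt b hb⟩ ?_
  intro heq
  change nfA Ts c (nfA Ts c (nfA Ts c b)) = b at heq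
  rw [heq] at hne
  simp at hne

/-- conjugate to a representative or its inverse -/
def Q (u : K) : Prop := ∃ g : K, ∃ i : Fin 7, g * u * g⁻¹ = y i ∨ g * u * g⁻¹ = (y i)⁻¹

theorem chk_sound : ∀ r c : ℕ, c < 19683 → rk c = r → nfK pgL c ≠ 1 → nfK pgL c ^ 3 = 1 →
    Q (nfK pgL c) := by
  intro r
  induction r using Nat.strong_induction_on with
  | _ r ih =>
    intro c hc hr h1 h3
    have h : chk c = true := allLt_sound _ _ forest_chk c hc
    unfold chk at h
    rw [force_eq] at h
    unfold chkE at h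
    cases h0 : Nat.beq (Nat.mod (lk 24 16777216 FT c) 4) 0 with
    | true =>
      rw [h0, cond_true, Bool.or_eq_true] at h
      rcases h with hz | hn
      · have : c = 0 := Nat.eq_of_beq_eq_true hz
        subst this
        exact absurd (nfK_zero pgL) h1
      · exact absurd h3 (notCube_sound c hn)
    | false =>
      rw [h0, cond_false] at h
      cases h1' : Nat.beq (Nat.mod (lk 24 16777216 FT c) 4) 1 with
      | true =>
        rw [h1', cond_true, Bool.and_eq_true] at h
        obtain ⟨hlt, heq⟩ := h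
        rw [Nat.blt_eq] at hlt
        have heq' : c = rcode (Nat.div (lk 24 16777216 FT c) 4) := Nat.eq_of_beq_eq_true heq
        generalize Nat.div (lk 24 16777216 FT c) 4 = j at hlt heq'
        obtain ⟨i, hi⟩ : ∃ i, j = 2 * i ∨ j = 2 * i + 1 := ⟨j / 2, by omega⟩
        rcases hi with hi | hi
        · subst hi
          subst heq'
          refine ⟨1, ⟨i, by omega⟩, Or.inl ?_⟩
          simp [y]
        · subst hi
          subst heq'
          refine ⟨1, ⟨i, by omega⟩, Or.inr ?_⟩
          rw [(root_sound i (by omega)).1]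
          simp [y]
      | false =>
        rw [h1', cond_false] at h
        simp only [Bool.and_eq_true] at h
        obtain ⟨hd, hk, hrk, he⟩ := h
        rw [Nat.blt_eq] at hd hk hrk
        generalize Nat.div (lk 24 16777216 FT c) 128 = d at hd hrk he
        obtain ⟨g, hg⟩ := edge_sound _ c d hk he
        have hd1 : nfK pgL d ≠ 1 := by
          rw [← hg]
          intro hcon
          apply h1
          have e2 : nfK pgL c = g⁻¹ * (g * nfK pgL c * g⁻¹) * g := by group
          rw [e2, hcon]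
          group
        have hd3 : nfK pgL d ^ 3 = 1 := by
          rw [← hg, conj_pow, h3]
          group
        obtain ⟨g', i, hQ⟩ := ih (rk d) (by rw [← hr]; exact hrk) d hd rfl hd1 hd3
        refine ⟨g' * g, i, ?_⟩
        have e1 : g' * g * nfK pgL c * (g' * g)⁻¹ = g' * (g * nfK pgL c * g⁻¹) * g'⁻¹ := by group
        rw [e1, hg]
        exact hQ

theorem hconj : ∀ u ∈ U, u ≠ 1 → u ^ 3 = 1 →
    ∃ g : K, ∃ i, g * u * g⁻¹ = y i ∨ g * u * g⁻¹ = (y i)⁻¹ := by
  intro u hu h1 h3
  obtain ⟨c, hc, rfl⟩ := exists_code_U u hu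
  exact chk_sound _ c hc rfl h1 h3

/-! ## The representatives are not conjugate to each other -/

/-- the three numbers of an element -/
noncomputable def inv3 (x : K) : ℕ × ℕ × ℕ := (cnt r0 x, cnt r1 x, cnt rel x)

theorem r0_K (g : K) (p q : Fin 3510) : r0 (ψK g p) (ψK g q) = r0 p q := by
  unfold r0
  rw [Bool.eq_iff_iff]
  simp [Fin.val_inj]

theorem r1_K (g : K) (p q : Fin 3510) : r1 (ψK g p) (ψK g q) = r1 p q := by
  unfold r1
  rw [mem_DM_iff]
  congr 1
  exact r0_K g p q

theorem inv3_conj (g x : K) : inv3 (g * x * g⁻¹) = inv3 x := by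
  unfold inv3
  rw [cnt_conj r0 r0_K, cnt_conj r1 r1_K, cnt_conj rel rel_K]

theorem inv3_rcode (j : ℕ) (hj : j < 14) : inv3 (nfK pgL (rcode j)) = ival j := by
  have h := allLt_sound _ _ inv_chk j hj
  rw [force_eq] at h
  simp only [Bool.and_eq_true] at h
  obtain ⟨h0, h1, h2⟩ := h
  unfold inv3 ival
  rw [cnt_eq r0 (acts_nf _), cnt_eq r1 (acts_nf _), cnt_eq rel (acts_nf _),
    Nat.eq_of_beq_eq_true h0, Nat.eq_of_beq_eq_true h1, Nat.eq_of_beq_eq_true h2]

theorem hdist : ∀ i j (g : K), (g * y i * g⁻¹ = y j ∨ g * y i * g⁻¹ = (y j)⁻¹) → i = j := by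
  intro i j g h
  apply ival_sep i j
  have hi := inv3_rcode (2 * i) (by omega)
  rcases h with h | h
  · left
    rw [← hi, ← inv3_rcode (2 * j) (by omega), ← inv3_conj g]
    exact congrArg inv3 h
  · right
    rw [← hi, ← inv3_rcode (2 * j + 1) (by omega), (root_sound j j.2).1, ← inv3_conj g]
    exact congrArg inv3 h

/-- the subgroup has exactly seven classes of subgroups of order three -/
theorem main : SevenClasses K :=
  sevenClasses_of_sylow U 232960 card_U (by rw [card_K]; norm_num) (by norm_num) y hy3 hy1 hconj hdist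

end Cfsg.Agent.Lib.H17.OmMain
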