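import Cfsg.Agent.Lib.H17.OmTabA
import Cfsg.Agent.Lib.H17.OmTabB
import Cfsg.Agent.Lib.H17.OmTabC

set_option autoImplicit false
set_option maxRecDepth 100000

/-! # The sixteen elements and their tables, by index -/

namespace Cfsg.Agent.Lib.H17.OmTab

open Cfsg.Spor Cfsg.Agent.Lib.H17.CosetCert Cfsg.Agent.Lib.H17.Fi22U62 Cfsg.Agent.Lib.H17.Fi22Word
  Cfsg.Agent.Lib.H17.O7K Cfsg.Agent.Lib.H17.OmBase Cfsg.Agent.Lib.H17.OmTabA
  Cfsg.Agent.Lib.H17.OmTabB Cfsg.Agent.Lib.H17.OmTabC

/-- the tables by index -/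
def tabN : ℕ → ℕ
  | 0 => T0
  | 1 => T1
  | 2 => T2
  | 3 => T3
  | 4 => T4
  | 5 => T5
  | 6 => T6
  | 7 => T7
  | 8 => T8
  | 9 => T9
  | 10 => T10
  | 11 => T11
  | 12 => T12
  | 13 => T13
  | 14 => T14
  | 15 => T15
  | _ => 0

/-- the elements by index -/
noncomputable def gN : ℕ → K
  | 0 => g0
  | 1 => g1
  | 2 => g2
  | 3 => g3
  | 4 => g4
  | 5 => g5
  | 6 => g6
  | 7 => g7
  | 8 => g8
  | 9 => g9
  | 10 => g10
  | 11 => g11
  | 12 => g12
  | 13 => g13
  | 14 => g14
  | 15 => g15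
  | _ => 1

theorem acts_gN (i : ℕ) (hi : i < 16) : Acts (gN i) (lk 12 4096 (tabN i)) := by
  interval_cases i
  · exact acts_g0
  · exact acts_g1
  · exact acts_g2
  · exact acts_g3
  · exact acts_g4
  · exact acts_g5
  · exact acts_g6
  · exact acts_g7
  · exact acts_g8
  · exact acts_g9
  · exact acts_g10
  · exact acts_g11
  · exact acts_g12
  · exact acts_g13
  · exact acts_g14
  · exact acts_g15

/-- the tables of the nine root elements -/
def Ts : List ℕ := [T0, T1, T2, T3, T4, T5, T6, T7, T8]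

/-- the nine root elements -/
noncomputable def pgL : List K := [g0, g1, g2, g3, g4, g5, g6, g7, g8]

theorem acts_pgL : List.Forall₂ (fun s T => Acts s (lk 12 4096 T)) pgL Ts :=
  (List.Forall₂.cons acts_g0 (List.Forall₂.cons acts_g1 (List.Forall₂.cons acts_g2 (List.Forall₂.cons acts_g3 (List.Forall₂.cons acts_g4 (List.Forall₂.cons acts_g5 (List.Forall₂.cons acts_g6 (List.Forall₂.cons acts_g7 (List.Forall₂.cons acts_g8 List.Forall₂.nil)))))))))

theorem pgL_length : pgL.length = 9 := rfl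

theorem pgL_getD (i : ℕ) (hi : i < 9) : pgL.getD i 1 = gN i := by
  interval_cases i <;> rfl

/-- the codes of the seven representatives (even places) and of their inverses (odd places) -/
def RC : ℕ := 0x71f82da66ac66ac25f86a50f300f3000900090b640b6416f85b5

/-- the code at a place -/
def rcode (j : ℕ) : ℕ := lk 15 32768 RC j

end Cfsg.Agent.Lib.H17.OmTab
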