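import Mathlib

set_option autoImplicit false

namespace Cfsg.Agent.Lib.H17

open MulAction

section
variable {M : Type*} [Group M] {X : Type*} [MulAction M X]

/-- The orbit of a subgroup, computed inside the orbit of the group, has the same cardinality. -/
theorem card_orbit_subgroup_in_orbit (K : Subgroup M) (x : X) :
    Set.ncard (orbit K (⟨x, mem_orbit_self x⟩ : orbit M x)) = Nat.card (orbit K x) := by
  have himg : Subtype.val '' (orbit K (⟨x, mem_orbit_self x⟩ : orbit M x)) = orbit K x := by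
    ext y
    constructor
    · rintro ⟨z, ⟨k, rfl⟩, rfl⟩
      exact ⟨k, rfl⟩
    · rintro ⟨k, rfl⟩
      exact ⟨k • (⟨x, mem_orbit_self x⟩ : orbit M x), ⟨k, rfl⟩, rfl⟩
  rw [← Set.ncard_image_of_injective _ Subtype.val_injective, himg, _root_.Nat.card_coe_set_eq]

/-- The orbits of a normal subgroup have cardinality dividing that of the orbits of the group. -/
theorem card_orbit_normal_dvd (K : Subgroup M) [K.Normal] (x : X) :
    Nat.card (orbit K x) ∣ Nat.card (orbit M x) := by
  have hB : IsBlock M (orbit K (⟨x, mem_orbit_self x⟩ : orbit M x)) := IsBlock.orbit_of_normal _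
  have hne : (orbit K (⟨x, mem_orbit_self x⟩ : orbit M x)).Nonempty := ⟨_, mem_orbit_self _⟩
  have := hB.ncard_dvd_card hne
  rwa [card_orbit_subgroup_in_orbit] at this

/-- If `M = A ⊔ H` with `A` normal, then `[M : H]` divides `|A|`. -/
theorem index_dvd_card_of_sup_eq_top (A H : Subgroup M) [A.Normal] (h : A ⊔ H = ⊤) :
    H.index ∣ Nat.card A := by
  have htrans : IsPretransitive A (M ⧸ H) := by
    rw [isPretransitive_iff_base ((1 : M) : M ⧸ H)]
    intro q
    induction q using QuotientGroup.induction_on with | _ m =>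
    have hmem : m ∈ ((A ⊔ H : Subgroup M) : Set M) := by rw [h]; trivial
    rw [Subgroup.normal_mul] at hmem
    obtain ⟨n, hn, k, hk, hnk⟩ := hmem
    refine ⟨⟨n, hn⟩, ?_⟩
    change ((n * 1 : M) : M ⧸ H) = (m : M ⧸ H)
    rw [QuotientGroup.eq]
    have : (n * 1)⁻¹ * m = k := by rw [← hnk]; group
    rw [this]
    exact hk
  have h1 := index_stabilizer_of_transitive A (((1 : M) : M ⧸ H))
  have h2 : (stabilizer A (((1 : M) : M ⧸ H))).index ∣ Nat.card A := Subgroup.index_dvd_card _
  rw [h1] at h2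
  exact h2

/-- Stabilizer in a subgroup. -/
theorem stabilizer_subgroup_eq (H : Subgroup M) (x : X) :
    stabilizer H x = (stabilizer M x).subgroupOf H := by
  ext h
  simp [Subgroup.mem_subgroupOf, mem_stabilizer_iff, Subgroup.smul_def]

/-- If `M = A ⊔ H`, `A` normal of order prime to `p`, and the `H`-orbit of `x` has size prime
to `p`, then so does the `M`-orbit. -/
theorem not_dvd_card_orbit_of_sup_eq_top (p : ℕ) (hp : p.Prime) (A H : Subgroup M) [A.Normal]
    (h : A ⊔ H = ⊤) (hA : ¬ p ∣ Nat.card A) (x : X) (hx : ¬ p ∣ Nat.card (orbit H x)) :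
    ¬ p ∣ Nat.card (orbit M x) := by
  have h1 : H.index ∣ Nat.card A := index_dvd_card_of_sup_eq_top A H h
  have h2 : Nat.card (orbit M x) = (stabilizer M x).index := by
    rw [index_stabilizer, _root_.Nat.card_coe_set_eq]
  have h3 : Nat.card (orbit H x) = (stabilizer M x).relIndex H := by
    rw [Subgroup.relIndex, ← stabilizer_subgroup_eq, index_stabilizer,
      _root_.Nat.card_coe_set_eq]
  have h4 : (stabilizer M x).index ∣ (stabilizer M x ⊓ H).index :=
    Subgroup.index_dvd_of_le inf_le_left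
  have h5 : (stabilizer M x ⊓ H).relIndex H * H.index = (stabilizer M x ⊓ H).index :=
    Subgroup.relIndex_mul_index inf_le_right
  rw [Subgroup.inf_relIndex_right] at h5
  intro hdvd
  rw [h2] at hdvd
  have h6 : p ∣ (stabilizer M x).relIndex H * H.index := by
    rw [h5]; exact hdvd.trans h4
  rcases hp.dvd_mul.mp h6 with h7 | h7
  · exact hx (h3 ▸ h7)
  · exact hA (h7.trans h1)

end

section
variable {G : Type*} [Group G] {X : Type*} [MulAction G X]

theorem orbit_subgroupOf_eq (H L : Subgroup G) (hHL : H ≤ L) (x : X) :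
    orbit (H.subgroupOf L) x = orbit H x := by
  ext y
  constructor
  · rintro ⟨⟨⟨g, hgL⟩, hg⟩, rfl⟩
    exact ⟨⟨g, hg⟩, rfl⟩
  · rintro ⟨⟨g, hg⟩, rfl⟩
    exact ⟨⟨⟨g, hHL hg⟩, hg⟩, rfl⟩

/-- Orbits of a normalized subgroup `K ≤ H` have size dividing the `H`-orbit sizes. -/
theorem card_orbit_dvd_of_le_normalizer (K H : Subgroup G) (hKH : K ≤ H)
    (hn : H ≤ Subgroup.normalizer (K : Set G)) (x : X) :
    Nat.card (orbit K x) ∣ Nat.card (orbit H x) := by
  have : (K.subgroupOf H).Normal := Subgroup.normal_subgroupOf_of_le_normalizer hn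
  have := card_orbit_normal_dvd (M := H) (K.subgroupOf H) x
  rwa [orbit_subgroupOf_eq K H hKH] at this

/-- If `H` normalizes `N`, `p ∤ |N|` and `p ∤ |H·x|` then `p ∤ |(N ⊔ H)·x|`. -/
theorem not_dvd_card_orbit_sup (p : ℕ) (hp : p.Prime) (N H : Subgroup G)
    (hn : H ≤ Subgroup.normalizer (N : Set G)) (hN : ¬ p ∣ Nat.card N) (x : X)
    (hx : ¬ p ∣ Nat.card (orbit H x)) :
    ¬ p ∣ Nat.card (orbit (N ⊔ H : Subgroup G) x) := by
  have hnorm : (N.subgroupOf (N ⊔ H)).Normal := by
    apply Subgroup.normal_subgroupOf_of_le_normalizer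
    exact sup_le Subgroup.le_normalizer hn
  have htop : N.subgroupOf (N ⊔ H) ⊔ H.subgroupOf (N ⊔ H) = ⊤ := by
    rw [← Subgroup.subgroupOf_sup le_sup_left le_sup_right, Subgroup.subgroupOf_self]
  have hcard : Nat.card (N.subgroupOf (N ⊔ H)) = Nat.card N :=
    Nat.card_congr (Subgroup.subgroupOfEquivOfLe le_sup_left).toEquiv
  apply not_dvd_card_orbit_of_sup_eq_top (M := (N ⊔ H : Subgroup G)) p hp
    (N.subgroupOf (N ⊔ H)) (H.subgroupOf (N ⊔ H)) htop (by rwa [hcard]) x
  rwa [orbit_subgroupOf_eq H (N ⊔ H) le_sup_right]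

end

end Cfsg.Agent.Lib.H17
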