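import Mathlib

set_option autoImplicit false

/-! # Products of a row vector with a matrix over `ZMod p`, computed on packed rows

A row of a matrix is packed into one number, with digits in base `65536`.  The product of a row
vector with the matrix is then a sum of multiples of the packed rows, whose digits are reduced
modulo `p`.  The result is the product of the vector with the matrix over `ZMod p`. -/

namespace Cfsg.Agent.Lib.H17.PackMat

/-- the base of the digits -/
def BB : ℕ := 65536

theorem BB_pos : 0 < BB := by decide

/-- the number with the given digits, the least significant first -/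
def pack : List ℕ → ℕ
  | [] => 0
  | a :: L => a + BB * pack L

/-- the `n` lowest digits of a number -/
def unpack : ℕ → ℕ → List ℕ
  | 0, _ => []
  | n + 1, S => (S % BB) :: unpack n (S / BB)

theorem unpack_length (n S : ℕ) : (unpack n S).length = n := by
  induction n generalizing S with
  | zero => rfl
  | succ n ih => simp [unpack, ih]

theorem pack_unpack (n S : ℕ) (h : S < BB ^ n) : pack (unpack n S) = S := by
  induction n generalizing S with
  | zero =>
    simp at h
    subst h
    rfl
  | succ n ih =>
    rw [unpack, pack, ih]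
    · exact Nat.mod_add_div S BB
    · rw [pow_succ] at h
      exact Nat.div_lt_of_lt_mul (by rwa [mul_comm] at h)

theorem unpack_pack (L : List ℕ) (h : ∀ a ∈ L, a < BB) : unpack L.length (pack L) = L := by
  induction L with
  | nil => rfl
  | cons a L ih =>
    have ha : a < BB := h a (List.mem_cons_self ..)
    rw [List.length_cons, unpack, pack]
    have h1 : (a + BB * pack L) % BB = a := by
      rw [Nat.add_mul_mod_self_left, Nat.mod_eq_of_lt ha]
    have h2 : (a + BB * pack L) / BB = pack L := by
      rw [Nat.add_mul_div_left _ _ BB_pos, Nat.div_eq_of_lt ha, zero_add]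
    rw [h1, h2, ih (fun b hb => h b (List.mem_cons_of_mem _ hb))]

/-- the digit number `j` -/
def digit (S j : ℕ) : ℕ := S / BB ^ j % BB

theorem getD_unpack (n S j : ℕ) (hj : j < n) : (unpack n S).getD j 0 = digit S j := by
  induction n generalizing S j with
  | zero => omega
  | succ n ih =>
    rw [unpack]
    cases j with
    | zero => simp [digit]
    | succ j =>
      rw [List.getD_cons_succ, ih (S / BB) j (by omega)]
      unfold digit
      rw [pow_succ, Nat.div_div_eq_div_mul, mul_comm]

/-! ## Sums of multiples of rows -/

/-- the sum of the multiples of the rows `Ds` by the entries of `r`; the rows have length `n` -/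
def lincomb (n : ℕ) : List ℕ → List (List ℕ) → List ℕ
  | a :: r, D :: Ds => List.zipWith (· + ·) (D.map (a * ·)) (lincomb n r Ds)
  | _, _ => List.replicate n 0

/-- the sum of the multiples of the packed rows -/
def dot : List ℕ → List ℕ → ℕ
  | a :: r, P :: Q => a * P + dot r Q
  | _, _ => 0

theorem pack_replicate_zero (n : ℕ) : pack (List.replicate n 0) = 0 := by
  induction n with
  | zero => rfl
  | succ n ih => rw [List.replicate_succ, pack, ih]; rfl

theorem pack_map_mul (a : ℕ) (L : List ℕ) : pack (L.map (a * ·)) = a * pack L := by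
  induction L with
  | nil => simp [pack]
  | cons b L ih =>
    rw [List.map_cons, pack, pack, ih]
    ring

theorem pack_zipWith_add (L1 L2 : List ℕ) (h : L1.length = L2.length) :
    pack (List.zipWith (· + ·) L1 L2) = pack L1 + pack L2 := by
  induction L1 generalizing L2 with
  | nil =>
    cases L2 with
    | nil => rfl
    | cons b L2 => simp at h
  | cons a L1 ih =>
    cases L2 with
    | nil => simp at h
    | cons b L2 =>
      rw [List.zipWith_cons_cons, pack, pack, pack, ih L2 (by simpa using h)]
      ring

theorem lincomb_length (n : ℕ) (r : List ℕ) (Ds : List (List ℕ)) (h : ∀ D ∈ Ds, D.length = n) :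
    (lincomb n r Ds).length = n := by
  induction r generalizing Ds with
  | nil => simp [lincomb]
  | cons a r ih =>
    cases Ds with
    | nil => simp [lincomb]
    | cons D Ds =>
      rw [lincomb, List.length_zipWith, List.length_map, h D (List.mem_cons_self ..),
        ih Ds (fun E hE => h E (List.mem_cons_of_mem _ hE)), min_self]

theorem dot_map_pack (n : ℕ) (r : List ℕ) (Ds : List (List ℕ)) (h : ∀ D ∈ Ds, D.length = n) :
    dot r (Ds.map pack) = pack (lincomb n r Ds) := by
  induction r generalizing Ds with
  | nil =>
    cases Ds <;> simp [dot, lincomb, pack_replicate_zero]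
  | cons a r ih =>
    cases Ds with
    | nil => simp [dot, lincomb, pack_replicate_zero]
    | cons D Ds =>
      have hD : D.length = n := h D (List.mem_cons_self ..)
      have hDs : ∀ E ∈ Ds, E.length = n := fun E hE => h E (List.mem_cons_of_mem _ hE)
      rw [List.map_cons, dot, lincomb, pack_zipWith_add, pack_map_mul, ih Ds hDs]
      rw [List.length_map, hD, lincomb_length n r Ds hDs]

theorem getD_zipWith_add (L1 L2 : List ℕ) (h : L1.length = L2.length) (j : ℕ) :
    (List.zipWith (· + ·) L1 L2).getD j 0 = L1.getD j 0 + L2.getD j 0 := by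
  induction L1 generalizing L2 j with
  | nil =>
    cases L2 with
    | nil => simp
    | cons b L2 => simp at h
  | cons a L1 ih =>
    cases L2 with
    | nil => simp at h
    | cons b L2 =>
      cases j with
      | zero => simp
      | succ j =>
        rw [List.zipWith_cons_cons, List.getD_cons_succ, List.getD_cons_succ, List.getD_cons_succ]
        exact ih L2 (by simpa using h) j

theorem getD_map_mul (a : ℕ) (L : List ℕ) (j : ℕ) : (L.map (a * ·)).getD j 0 = a * L.getD j 0 := by
  induction L generalizing j with
  | nil => simp
  | cons b L ih =>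
    cases j with
    | zero => simp
    | succ j =>
      rw [List.map_cons, List.getD_cons_succ, List.getD_cons_succ]
      exact ih j

theorem getD_replicate_zero (n j : ℕ) : (List.replicate n 0).getD j 0 = 0 := by
  rw [List.getD_eq_getElem?_getD]
  by_cases h : j < n
  · simp [h]
  · simp [h]

/-- the entries of the sum of multiples -/
theorem getD_lincomb (n : ℕ) (r : List ℕ) (Ds : List (List ℕ)) (h : ∀ D ∈ Ds, D.length = n)
    (hlen : r.length = Ds.length) (j : ℕ) :
    (lincomb n r Ds).getD j 0 =
      ∑ k ∈ Finset.range r.length, r.getD k 0 * (Ds.getD k []).getD j 0 := by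
  induction r generalizing Ds with
  | nil => simp [lincomb, getD_replicate_zero]
  | cons a r ih =>
    cases Ds with
    | nil => simp at hlen
    | cons D Ds =>
      have hD : D.length = n := h D (List.mem_cons_self ..)
      have hDs : ∀ E ∈ Ds, E.length = n := fun E hE => h E (List.mem_cons_of_mem _ hE)
      rw [lincomb, getD_zipWith_add _ _ (by rw [List.length_map, hD, lincomb_length n r Ds hDs]),
        getD_map_mul, ih Ds hDs (by simpa using hlen), List.length_cons, Finset.sum_range_succ']
      simp only [List.getD_cons_succ, List.getD_cons_zero]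
      ring

theorem lincomb_le (n : ℕ) (r : List ℕ) (Ds : List (List ℕ)) (c1 c2 : ℕ)
    (h : ∀ D ∈ Ds, D.length = n) (hlen : r.length = Ds.length)
    (hr : ∀ k, r.getD k 0 ≤ c1) (hD : ∀ k j, (Ds.getD k []).getD j 0 ≤ c2) (j : ℕ) :
    (lincomb n r Ds).getD j 0 ≤ r.length * (c1 * c2) := by
  rw [getD_lincomb n r Ds h hlen j]
  calc _ ≤ ∑ _k ∈ Finset.range r.length, c1 * c2 :=
        Finset.sum_le_sum (fun k _ => Nat.mul_le_mul (hr k) (hD k j))
    _ = r.length * (c1 * c2) := by simp

theorem lt_of_getD_lt (L : List ℕ) (c : ℕ) (h : ∀ j, L.getD j 0 < c) : ∀ a ∈ L, a < c := by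
  intro a ha
  obtain ⟨i, hi, rfl⟩ := List.getElem_of_mem ha
  have := h i
  rwa [List.getD_eq_getElem _ _ hi] at this

/-! ## The digits of a sum of multiples of packed rows -/

/-- the digits of the sum of multiples of packed rows, when there is no carry -/
theorem digit_dot (n : ℕ) (r PM : List ℕ) (c1 c2 : ℕ) (hlen : r.length = PM.length)
    (hPM : ∀ P ∈ PM, P < BB ^ n) (hr : ∀ k, r.getD k 0 ≤ c1)
    (hD : ∀ k j, digit (PM.getD k 0) j ≤ c2) (hc : r.length * (c1 * c2) < BB) (j : ℕ)
    (hj : j < n) :
    digit (dot r PM) j = ∑ k ∈ Finset.range r.length, r.getD k 0 * digit (PM.getD k 0) j := by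
  have hDs : ∀ D ∈ PM.map (unpack n), D.length = n := by
    intro D hD
    obtain ⟨P, -, rfl⟩ := List.mem_map.mp hD
    exact unpack_length n P
  have hmap : (PM.map (unpack n)).map pack = PM := by
    rw [List.map_map]
    conv_rhs => rw [← List.map_id PM]
    apply List.map_congr_left
    intro P hP
    exact pack_unpack n P (hPM P hP)
  have hlen' : r.length = (PM.map (unpack n)).length := by rw [List.length_map, hlen]
  have hget : ∀ k j, j < n → ((PM.map (unpack n)).getD k []).getD j 0 = digit (PM.getD k 0) j := by
    intro k j hj
    by_cases hk : k < PM.length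
    · rw [List.getD_eq_getElem (List.map (unpack n) PM) [] (by rwa [List.length_map]),
        List.getElem_map, List.getD_eq_getElem PM 0 hk, getD_unpack n _ j hj]
    · rw [List.getD_eq_default (List.map (unpack n) PM) [] (by rw [List.length_map]; omega),
        List.getD_eq_default PM 0 (by omega)]
      simp [digit]
  have hget' : ∀ k j, ((PM.map (unpack n)).getD k []).getD j 0 ≤ c2 := by
    intro k j
    by_cases hj : j < n
    · rw [hget k j hj]
      exact hD k j
    · have hl : ((PM.map (unpack n)).getD k []).length ≤ n := by
        by_cases hk : k < PM.length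
        · rw [List.getD_eq_getElem (List.map (unpack n) PM) [] (by rwa [List.length_map]),
            List.getElem_map, unpack_length]
        · rw [List.getD_eq_default (List.map (unpack n) PM) [] (by rw [List.length_map]; omega)]
          simp
      rw [List.getD_eq_default _ _ (by omega)]
      exact Nat.zero_le _
  have hlt : ∀ a ∈ lincomb n r (PM.map (unpack n)), a < BB := by
    apply lt_of_getD_lt
    intro j
    exact lt_of_le_of_lt (lincomb_le n r _ c1 c2 hDs hlen' hr hget' j) hc
  have h1 : dot r PM = pack (lincomb n r (PM.map (unpack n))) := by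
    rw [← dot_map_pack n r _ hDs, hmap]
  have h2 := unpack_pack _ hlt
  rw [lincomb_length n r _ hDs] at h2
  rw [← getD_unpack n _ j hj, h1, h2, getD_lincomb n r _ hDs hlen' j]
  apply Finset.sum_congr rfl
  intro k _
  rw [hget k j hj]

/-! ## The product of a row vector with a matrix -/

/-- the `n` lowest digits, reduced modulo `p` -/
def unpackMod (p : ℕ) : ℕ → ℕ → List ℕ
  | 0, _ => []
  | n + 1, S => (S % BB % p) :: unpackMod p n (S / BB)

theorem unpackMod_eq (p n S : ℕ) : unpackMod p n S = (unpack n S).map (· % p) := by
  induction n generalizing S with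
  | zero => rfl
  | succ n ih => rw [unpackMod, unpack, List.map_cons, ih]

/-- the product of a row vector with a matrix of packed rows, modulo `p` -/
def mulRow (p n : ℕ) (r PM : List ℕ) : List ℕ := unpackMod p n (dot r PM)

theorem mulRow_length (p n : ℕ) (r PM : List ℕ) : (mulRow p n r PM).length = n := by
  rw [mulRow, unpackMod_eq, List.length_map, unpack_length]

theorem getD_mulRow (p n : ℕ) (r PM : List ℕ) (j : ℕ) (hj : j < n) :
    (mulRow p n r PM).getD j 0 = digit (dot r PM) j % p := by
  rw [mulRow, unpackMod_eq, List.getD_eq_getElem _ _ (by rw [List.length_map, unpack_length]; exact hj),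
    List.getElem_map, ← getD_unpack n _ j hj, List.getD_eq_getElem _ _ (by rw [unpack_length]; exact hj)]

theorem getD_mulRow_lt (p n : ℕ) (hp : 0 < p) (r PM : List ℕ) (j : ℕ) :
    (mulRow p n r PM).getD j 0 < p := by
  by_cases hj : j < n
  · rw [getD_mulRow p n r PM j hj]
    exact Nat.mod_lt _ hp
  · rw [List.getD_eq_default _ _ (by rw [mulRow_length]; omega)]
    exact hp

/-- a matrix of packed rows is good: `n` rows with `n` digits, all less than `p` -/
def okMat (p n : ℕ) (PM : List ℕ) : Bool :=
  PM.length == n && PM.all (fun P => decide (P < BB ^ n) && (unpack n P).all (fun d => decide (d < p)))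

theorem okMat_length {p n : ℕ} {PM : List ℕ} (h : okMat p n PM = true) : PM.length = n := by
  simp only [okMat, Bool.and_eq_true, beq_iff_eq] at h
  exact h.1

theorem okMat_lt {p n : ℕ} {PM : List ℕ} (h : okMat p n PM = true) : ∀ P ∈ PM, P < BB ^ n := by
  simp only [okMat, Bool.and_eq_true, beq_iff_eq, List.all_eq_true, decide_eq_true_eq] at h
  exact fun P hP => (h.2 P hP).1

theorem okMat_digit {p n : ℕ} (hp : 0 < p) {PM : List ℕ} (h : okMat p n PM = true) (k j : ℕ) :
    digit (PM.getD k 0) j < p := by
  simp only [okMat, Bool.and_eq_true, beq_iff_eq, List.all_eq_true, decide_eq_true_eq] at h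
  by_cases hk : k < PM.length
  · rw [List.getD_eq_getElem _ _ hk]
    have h1 := h.2 _ (List.getElem_mem hk)
    by_cases hj : j < n
    · have h2 := h1.2 ((unpack n PM[k]).getD j 0) (by
        rw [List.getD_eq_getElem _ _ (by rw [unpack_length]; exact hj)]
        exact List.getElem_mem _)
      rwa [getD_unpack n _ j hj] at h2
    · have h3 : PM[k] / BB ^ j = 0 := by
        apply Nat.div_eq_of_lt
        exact lt_of_lt_of_le h1.1 (Nat.pow_le_pow_right BB_pos (by omega))
      rw [digit, h3]
      exact hp
  · rw [List.getD_eq_default _ _ (by omega)]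
    simpa [digit] using hp

section sem

variable (p n : ℕ)

/-- the vector with given entries -/
def toVec (r : List ℕ) : Fin n → ZMod p := fun j => ((r.getD j 0 : ℕ) : ZMod p)

/-- the matrix with given packed rows -/
def toMat (PM : List ℕ) : Matrix (Fin n) (Fin n) (ZMod p) :=
  fun i j => ((digit (PM.getD i 0) j : ℕ) : ZMod p)

/-- the product computed on packed rows is the product of the vector with the matrix -/
theorem toVec_mulRow (hp : 0 < p) (hc : n * ((p - 1) * (p - 1)) < BB) (r PM : List ℕ)
    (hr : r.length = n) (hrp : ∀ k, r.getD k 0 < p) (hPM : okMat p n PM = true) :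
    toVec p n (mulRow p n r PM) = Matrix.vecMul (toVec p n r) (toMat p n PM) := by
  funext j
  have hd := digit_dot n r PM (p - 1) (p - 1) (by rw [hr, okMat_length hPM]) (okMat_lt hPM)
    (fun k => Nat.le_sub_one_of_lt (hrp k))
    (fun k j => Nat.le_sub_one_of_lt (okMat_digit hp hPM k j)) (by rwa [hr]) j j.2
  simp only [toVec, Matrix.vecMul, dotProduct, toMat]
  rw [getD_mulRow p n r PM j j.2, ZMod.natCast_mod, hd, hr, Nat.cast_sum,
    Fin.sum_univ_eq_sum_range (fun k => ((r.getD k 0 : ℕ) : ZMod p) *
      ((digit (PM.getD k 0) j : ℕ) : ZMod p)) n]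
  apply Finset.sum_congr rfl
  intro k _
  rw [Nat.cast_mul]

/-- the image of a row vector under a word in matrices -/
def evalRow (Ms : ℕ → List ℕ) (w : List ℕ) (r : List ℕ) : List ℕ :=
  w.foldl (fun r x => mulRow p n r (Ms x)) r

theorem toVec_evalRow (hp : 0 < p) (hc : n * ((p - 1) * (p - 1)) < BB) (Ms : ℕ → List ℕ)
    (hMs : ∀ x, okMat p n (Ms x) = true) (w : List ℕ) (r : List ℕ)
    (hr : r.length = n) (hrp : ∀ k, r.getD k 0 < p) :
    toVec p n (evalRow p n Ms w r) =
      Matrix.vecMul (toVec p n r) (w.map fun x => toMat p n (Ms x)).prod := by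
  induction w generalizing r with
  | nil => simp [evalRow]
  | cons x w ih =>
    rw [evalRow, List.foldl_cons, ← evalRow, ih _ (mulRow_length ..)
      (fun k => getD_mulRow_lt p n hp _ _ k), toVec_mulRow p n hp hc r _ hr hrp (hMs x),
      List.map_cons, List.prod_cons, Matrix.vecMul_vecMul]

/-- the basis vector number `i` -/
def basisVec (i : ℕ) : List ℕ := (List.range n).map fun k => if k = i then 1 else 0

theorem basisVec_length (i : ℕ) : (basisVec n i).length = n := by
  rw [basisVec, List.length_map, List.length_range]

theorem getD_basisVec (i k : ℕ) : (basisVec n i).getD k 0 = if k < n ∧ k = i then 1 else 0 := by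
  by_cases hk : k < n
  · rw [basisVec, List.getD_eq_getElem _ _ (by rw [List.length_map, List.length_range]; exact hk),
      List.getElem_map, List.getElem_range]
    simp [hk]
  · rw [List.getD_eq_default _ _ (by rw [basisVec_length]; omega)]
    simp [hk]

theorem toVec_basisVec (i : Fin n) : toVec p n (basisVec n i) = Pi.single i 1 := by
  funext j
  rw [toVec, getD_basisVec]
  by_cases h : j = i
  · subst h
    simp
  · have : ¬ ((j : ℕ) < n ∧ (j : ℕ) = i) := fun h' => h (Fin.ext h'.2)
    rw [if_neg this, Pi.single_apply, if_neg h]
    simp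

/-- a word in the matrices that fixes all basis vectors is a relation between the matrices -/
theorem prod_eq_one_of_fixes (hp : 1 < p) (hc : n * ((p - 1) * (p - 1)) < BB) (Ms : ℕ → List ℕ)
    (hMs : ∀ x, okMat p n (Ms x) = true) (w : List ℕ)
    (h : ∀ i < n, evalRow p n Ms w (basisVec n i) = basisVec n i) :
    (w.map fun x => toMat p n (Ms x)).prod = 1 := by
  apply Matrix.ext
  intro i j
  have h1 := toVec_evalRow p n (by omega) hc Ms hMs w (basisVec n i) (basisVec_length n i) (by
    intro k
    rw [getD_basisVec]
    split_ifs <;> omega)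
  rw [h i i.2, toVec_basisVec, Matrix.single_one_vecMul] at h1
  have h2 := congrFun h1 j
  rw [Matrix.row] at h2
  rw [← h2, Matrix.one_apply, Pi.single_apply]
  simp only [eq_comm]

/-- the test that a word in the matrices fixes the basis vectors number `s`, ..., `s + m - 1` -/
def checkWB (Ms : ℕ → List ℕ) (w : List ℕ) (s m : ℕ) : Bool :=
  (List.range m).all fun i => evalRow p n Ms w (basisVec n (s + i)) == basisVec n (s + i)

theorem fixes_of_checkWB (Ms : ℕ → List ℕ) (w : List ℕ) (s m : ℕ)
    (h : checkWB p n Ms w s m = true) (i : ℕ) (h1 : s ≤ i) (h2 : i < s + m) :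
    evalRow p n Ms w (basisVec n i) = basisVec n i := by
  simp only [checkWB, List.all_eq_true, List.mem_range, beq_iff_eq] at h
  have := h (i - s) (by omega)
  rwa [show s + (i - s) = i by omega] at this

/-- the test that a word in the matrices fixes all basis vectors -/
def checkW (Ms : ℕ → List ℕ) (w : List ℕ) : Bool := checkWB p n Ms w 0 n

/-- a word that passes the test is a relation between the matrices -/
theorem prod_eq_one_of_checkW (hp : 1 < p) (hc : n * ((p - 1) * (p - 1)) < BB) (Ms : ℕ → List ℕ)
    (hMs : ∀ x, okMat p n (Ms x) = true) (w : List ℕ) (h : checkW p n Ms w = true) :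
    (w.map fun x => toMat p n (Ms x)).prod = 1 :=
  prod_eq_one_of_fixes p n hp hc Ms hMs w fun i hi =>
    fixes_of_checkWB p n Ms w 0 n h i (Nat.zero_le _) (by omega)

end sem

end Cfsg.Agent.Lib.H17.PackMat
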