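import Mathlib

set_option autoImplicit false

/-!
# Permutations of `ZMod p` preserving a small translation-invariant relation are affine

This is the polynomial argument (P. Müller) behind Burnside's theorem on transitive groups of
prime degree: if `σ` is an injective self-map of `ZMod p` and `B` is a nonempty set of nonzero
residues with `2 |B| ≤ p - 1` such that `σ (x + b) - σ x ∈ B` for all `x` and `b ∈ B`, then `σ`
is an affine map `x ↦ a x + c`.
-/

namespace Cfsg.Agent.Lib.H17.PrimeDegree

open Polynomial Finset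

variable {p : ℕ} [hp : Fact p.Prime]

/-- power sums of `B` -/
def psum (B : Finset (ZMod p)) (j : ℕ) : ZMod p := ∑ b ∈ B, b ^ j

theorem psum_zero (B : Finset (ZMod p)) : psum B 0 = (B.card : ZMod p) := by
  simp [psum]

/-- the operator `R ↦ ∑_{b ∈ B} R(X + b) - |B| R` on polynomials -/
noncomputable def Psi (B : Finset (ZMod p)) (R : (ZMod p)[X]) : (ZMod p)[X] :=
  ∑ b ∈ B, R.comp (X + C b) - C (B.card : ZMod p) * R

theorem eval_Psi (B : Finset (ZMod p)) (R : (ZMod p)[X]) (x : ZMod p) :
    (Psi B R).eval x = ∑ b ∈ B, R.eval (x + b) - (B.card : ZMod p) * R.eval x := by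
  simp [Psi, eval_finset_sum, eval_comp]

theorem coeff_Psi (B : Finset (ZMod p)) (R : (ZMod p)[X]) (hR : R.natDegree < p) (m : ℕ) :
    (Psi B R).coeff m =
      ∑ n ∈ Finset.Ico 1 p, ((n + m).choose m : ZMod p) * R.coeff (n + m) * psum B n := by
  have h1 : ∀ b : ZMod p, (R.comp (X + C b)).coeff m =
      ∑ n ∈ Finset.range p, ((n + m).choose m : ZMod p) * R.coeff (n + m) * b ^ n := by
    intro b
    rw [← taylor_apply, taylor_coeff, eval_eq_sum_range' (n := p)
      (lt_of_le_of_lt ((natDegree_hasseDeriv_le R m).trans (Nat.sub_le _ _)) hR)]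
    apply Finset.sum_congr rfl
    intro n _
    rw [hasseDeriv_coeff]
  have hp0 : 0 < p := hp.out.pos
  rw [Psi, coeff_sub, finset_sum_coeff, coeff_C_mul, Finset.sum_congr rfl (fun b _ => h1 b),
    Finset.sum_comm]
  have h2 : ∀ n ∈ Finset.range p, ∑ b ∈ B, ((n + m).choose m : ZMod p) * R.coeff (n + m) * b ^ n
      = ((n + m).choose m : ZMod p) * R.coeff (n + m) * psum B n := by
    intro n _
    rw [psum, Finset.mul_sum]
  rw [Finset.sum_congr rfl h2, Finset.range_eq_Ico, Finset.sum_eq_sum_Ico_succ_bot hp0]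
  rw [zero_add, zero_add, Nat.choose_self, Nat.cast_one, one_mul, psum_zero]
  ring

section degree
variable {B : Finset (ZMod p)} {i₀ : ℕ}

theorem Psi_eq_zero_of_lt (hmin : ∀ j, 1 ≤ j → j < i₀ → psum B j = 0) (R : (ZMod p)[X])
    (hR : R.natDegree < p) (hlt : R.natDegree < i₀) : Psi B R = 0 := by
  ext m
  rw [coeff_Psi B R hR, coeff_zero]
  apply Finset.sum_eq_zero
  intro n hn
  rw [Finset.mem_Ico] at hn
  by_cases h : n + m ≤ R.natDegree
  · rw [hmin n hn.1 (by omega), mul_zero]
  · rw [coeff_eq_zero_of_natDegree_lt (by omega), mul_zero, zero_mul]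

theorem choose_ne_zero {k m : ℕ} (hk : k < p) (hm : m ≤ k) : ((k.choose m : ℕ) : ZMod p) ≠ 0 := by
  rw [Ne, ZMod.natCast_eq_zero_iff]
  intro hdvd
  have h1 : k.choose m ∣ k.factorial := by
    rw [← Nat.choose_mul_factorial_mul_factorial hm, mul_assoc]
    exact dvd_mul_right _ _
  have h2 : p ∣ k.factorial := hdvd.trans h1
  rw [hp.out.dvd_factorial] at h2
  omega

theorem natDegree_Psi (hmin : ∀ j, 1 ≤ j → j < i₀ → psum B j = 0) (hi₀ : psum B i₀ ≠ 0)
    (hi1 : 1 ≤ i₀) (R : (ZMod p)[X]) (hR : R.natDegree < p) (hle : i₀ ≤ R.natDegree) :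
    (Psi B R).natDegree = R.natDegree - i₀ := by
  have hR0 : R ≠ 0 := by
    rintro rfl
    rw [natDegree_zero] at hle
    omega
  apply le_antisymm
  · rw [natDegree_le_iff_coeff_eq_zero]
    intro m hm
    rw [coeff_Psi B R hR]
    apply Finset.sum_eq_zero
    intro n hn
    rw [Finset.mem_Ico] at hn
    by_cases h : n + m ≤ R.natDegree
    · rw [hmin n hn.1 (by omega), mul_zero]
    · rw [coeff_eq_zero_of_natDegree_lt (by omega), mul_zero, zero_mul]
  · apply le_natDegree_of_ne_zero
    rw [coeff_Psi B R hR]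
    rw [Finset.sum_eq_single i₀]
    · have e : i₀ + (R.natDegree - i₀) = R.natDegree := by omega
      rw [e]
      apply mul_ne_zero (mul_ne_zero ?_ ?_) hi₀
      · exact choose_ne_zero hR (by omega)
      · rw [coeff_natDegree]; exact leadingCoeff_ne_zero.mpr hR0
    · intro n hn hne
      rw [Finset.mem_Ico] at hn
      by_cases h : n < i₀
      · rw [hmin n hn.1 h, mul_zero]
      · rw [coeff_eq_zero_of_natDegree_lt (by omega), mul_zero, zero_mul]
    · intro h
      exfalso
      apply h
      rw [Finset.mem_Ico]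
      omega

end degree

/-- some power sum `π_j`, `1 ≤ j ≤ |B|`, is nonzero -/
theorem exists_psum_ne_zero (B : Finset (ZMod p)) (hB0 : (0 : ZMod p) ∉ B) (hBne : B.Nonempty) :
    ∃ j, 1 ≤ j ∧ j ≤ B.card ∧ psum B j ≠ 0 := by
  classical
  obtain ⟨b₀, hb₀⟩ := hBne
  set h : (ZMod p)[X] := X * ∏ b' ∈ B.erase b₀, (X - C b') with hh
  have hdeg : h.natDegree = B.card := by
    rw [hh, natDegree_mul X_ne_zero (Finset.prod_ne_zero_iff.mpr fun b' _ => X_sub_C_ne_zero b'),
      natDegree_X, natDegree_prod _ _ (fun b' _ => X_sub_C_ne_zero b')]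
    simp only [natDegree_X_sub_C, Finset.sum_const, smul_eq_mul, mul_one]
    rw [Finset.card_erase_of_mem hb₀]
    have := Finset.card_pos.mpr ⟨b₀, hb₀⟩
    omega
  have h0 : h.coeff 0 = 0 := by rw [hh, mul_comm, coeff_mul_X_zero]
  have hev : ∀ b ∈ B, b ≠ b₀ → h.eval b = 0 := by
    intro b hb hne
    rw [hh, eval_mul, eval_prod]
    rw [Finset.prod_eq_zero (Finset.mem_erase.mpr ⟨hne, hb⟩) (by simp), mul_zero]
  have hev0 : h.eval b₀ ≠ 0 := by
    rw [hh, eval_mul, eval_prod, eval_X]
    apply mul_ne_zero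
    · intro h; exact hB0 (h ▸ hb₀)
    · rw [Finset.prod_ne_zero_iff]
      intro b' hb'
      rw [eval_sub, eval_X, eval_C, sub_ne_zero]
      exact (Finset.ne_of_mem_erase hb').symm
  have hsum : ∑ b ∈ B, h.eval b = h.eval b₀ := by
    rw [Finset.sum_eq_single b₀]
    · intro b hb hne; exact hev b hb hne
    · intro h; exact absurd hb₀ h
  by_contra hcon
  push Not at hcon
  apply hev0
  rw [← hsum]
  have h2 : ∀ b ∈ B, h.eval b = ∑ j ∈ Finset.range (B.card + 1), h.coeff j * b ^ j := by
    intro b _
    rw [eval_eq_sum_range, hdeg]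
  rw [Finset.sum_congr rfl h2, Finset.sum_comm]
  apply Finset.sum_eq_zero
  intro j hj
  rw [Finset.mem_range] at hj
  rw [← Finset.mul_sum]
  by_cases hj0 : j = 0
  · rw [hj0, h0, zero_mul]
  · have := hcon j (by omega) (by omega)
    rw [psum] at this
    rw [this, mul_zero]

/-- binomial expansion summed over `B` -/
theorem sum_add_pow (B : Finset (ZMod p)) (y : ZMod p) (a : ℕ) :
    ∑ b ∈ B, (y + b) ^ a = ∑ m ∈ Finset.range (a + 1), psum B m * y ^ (a - m) * (a.choose m : ZMod p) := by
  have h1 : ∀ b ∈ B, (y + b) ^ a =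
      ∑ m ∈ Finset.range (a + 1), b ^ m * y ^ (a - m) * (a.choose m : ZMod p) := by
    intro b _
    rw [add_comm, add_pow]
  rw [Finset.sum_congr rfl h1, Finset.sum_comm]
  apply Finset.sum_congr rfl
  intro m _
  rw [psum, Finset.sum_mul, Finset.sum_mul]

/-- **Main lemma.** -/
theorem affine_of_preserves (B : Finset (ZMod p)) (hB0 : (0 : ZMod p) ∉ B) (hBne : B.Nonempty)
    (hBcard : 2 * B.card ≤ p - 1) (σ : ZMod p → ZMod p) (hinj : Function.Injective σ)
    (hσ : ∀ x, ∀ b ∈ B, σ (x + b) - σ x ∈ B) : ∃ a c : ZMod p, ∀ x, σ x = a * x + c := by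
  classical
  have hpp := hp.out
  haveI : NeZero p := ⟨hpp.ne_zero⟩
  -- the minimal index with nonzero power sum
  have hex := exists_psum_ne_zero B hB0 hBne
  have hex' : ∃ j, 1 ≤ j ∧ psum B j ≠ 0 := by
    obtain ⟨j, h1, _, h3⟩ := hex
    exact ⟨j, h1, h3⟩
  set i₀ := Nat.find hex' with hi₀def
  obtain ⟨hi1, hi₀⟩ : 1 ≤ i₀ ∧ psum B i₀ ≠ 0 := Nat.find_spec hex'
  have hmin : ∀ j, 1 ≤ j → j < i₀ → psum B j = 0 := by
    intro j hj1 hj
    by_contra h
    exact Nat.find_min hex' hj ⟨hj1, h⟩
  have hi₀B : i₀ ≤ B.card := by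
    obtain ⟨j, h1, h2, h3⟩ := hex
    exact (Nat.find_min' hex' ⟨h1, h3⟩).trans h2
  have hi₀p : 2 * i₀ ≤ p - 1 := by omega
  -- sums over B transported by σ
  have hbij : ∀ (x : ZMod p) (F : ZMod p → ZMod p),
      ∑ b ∈ B, F (σ (x + b)) = ∑ b ∈ B, F (σ x + b) := by
    intro x F
    have himg : B.image (fun b => σ (x + b) - σ x) = B := by
      apply Finset.eq_of_subset_of_card_le
      · intro c hc
        obtain ⟨b, hb, rfl⟩ := Finset.mem_image.mp hc
        exact hσ x b hb
      · rw [Finset.card_image_of_injective]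
        intro b b' hbb
        have : σ (x + b) = σ (x + b') := by
          have := congrArg (fun t => t + σ x) hbb
          simpa using this
        exact add_left_cancel (hinj this)
    conv_rhs => rw [← himg]
    rw [Finset.sum_image]
    · apply Finset.sum_congr rfl
      intro b _
      congr 1
      ring
    · intro b _ b' _ hbb
      have : σ (x + b) = σ (x + b') := by
        have := congrArg (fun t => t + σ x) hbb
        simpa using this
      exact add_left_cancel (hinj this)
  -- the interpolating polynomial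
  set P : (ZMod p)[X] := Lagrange.interpolate Finset.univ id σ with hP
  have hinjid : Set.InjOn (id : ZMod p → ZMod p) (Finset.univ : Finset (ZMod p)) :=
    Function.injective_id.injOn
  have hPeval : ∀ x, P.eval x = σ x := by
    intro x
    exact Lagrange.eval_interpolate_at_node σ hinjid (Finset.mem_univ x)
  have hcardp : (Finset.univ : Finset (ZMod p)).card = p := by
    rw [Finset.card_univ, ZMod.card]
  have hPdeg : P.degree < p := by
    have := Lagrange.degree_interpolate_lt σ hinjid
    rwa [hcardp] at this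
  have hzero : ∀ Q : (ZMod p)[X], Q.natDegree < p → (∀ x, Q.eval x = 0) → Q = 0 := by
    intro Q hQ hev
    by_cases hQ0 : Q = 0
    · exact hQ0
    apply Polynomial.eq_zero_of_degree_lt_of_eval_finset_eq_zero (Finset.univ : Finset (ZMod p))
    · rw [hcardp, degree_eq_natDegree hQ0]
      exact_mod_cast hQ
    · intro x _; exact hev x
  have hp2 : 2 ≤ p := hpp.two_le
  have hP0 : P ≠ 0 := by
    intro h
    have h0 := hPeval 0
    have h1 := hPeval 1
    rw [h, eval_zero] at h0 h1
    have : (0 : ZMod p) = 1 := hinj (h0.symm.trans h1)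
    exact zero_ne_one this
  have hPnat : P.natDegree < p := by
    rw [degree_eq_natDegree hP0] at hPdeg
    exact_mod_cast hPdeg
  have hppos : 0 < p := hpp.pos
  have he1 : 1 ≤ P.natDegree := by
    by_contra h
    have h0 : P.natDegree = 0 := by omega
    obtain ⟨c, hc⟩ := natDegree_eq_zero.mp h0
    have e0 := hPeval 0
    have e1 := hPeval 1
    rw [← hc, eval_C] at e0 e1
    have : (0 : ZMod p) = 1 := hinj (e0.symm.trans e1)
    exact zero_ne_one this
  -- the sums over B of powers
  have hsum_small : ∀ (a : ℕ) (y : ZMod p), a < i₀ →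
      ∑ b ∈ B, (y + b) ^ a = (B.card : ZMod p) * y ^ a := by
    intro a y ha
    rw [sum_add_pow, Finset.sum_eq_single 0]
    · simp [psum_zero]
    · intro m hm hm0
      rw [Finset.mem_range] at hm
      rw [hmin m (by omega) (by omega), zero_mul, zero_mul]
    · intro h
      exfalso; apply h; simp
  have hsum_i₀ : ∀ (y : ZMod p),
      ∑ b ∈ B, (y + b) ^ i₀ = (B.card : ZMod p) * y ^ i₀ + psum B i₀ := by
    intro y
    rw [sum_add_pow, Finset.sum_eq_add (0 : ℕ) i₀ (by omega)]
    · simp [psum_zero]
    · intro m hm hne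
      rw [Finset.mem_range] at hm
      rw [hmin m (by omega) (by omega), zero_mul, zero_mul]
    · intro h
      exfalso; apply h; simp
    · intro h
      exfalso; apply h; simp
  -- values of Psi on powers of P
  have hPsi_small : ∀ a, a < i₀ → a * P.natDegree < p → Psi B (P ^ a) = 0 := by
    intro a ha hae
    apply hzero
    · by_cases h : a * P.natDegree < i₀
      · rw [Psi_eq_zero_of_lt hmin _ (by rw [natDegree_pow]; exact hae) (by rw [natDegree_pow]; exact h)]
        rw [natDegree_zero]; exact hppos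
      · rw [natDegree_Psi hmin hi₀ hi1 _ (by rw [natDegree_pow]; exact hae)
          (by rw [natDegree_pow]; omega), natDegree_pow]
        omega
    · intro x
      rw [eval_Psi]
      simp only [eval_pow, hPeval]
      rw [hbij x (fun t => t ^ a), hsum_small a (σ x) ha, sub_self]
  have hPsi_ne : ∀ a, a * P.natDegree < p → i₀ ≤ a * P.natDegree → Psi B (P ^ a) ≠ 0 := by
    intro a hae hle h0
    have hc := coeff_Psi B (P ^ a) (by rw [natDegree_pow]; exact hae) ((P ^ a).natDegree - i₀)
    rw [h0, coeff_zero] at hc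
    have hle' : i₀ ≤ (P ^ a).natDegree := by rw [natDegree_pow]; exact hle
    have hlt' : (P ^ a).natDegree < p := by rw [natDegree_pow]; exact hae
    rw [Finset.sum_eq_single i₀] at hc
    · have e' : i₀ + ((P ^ a).natDegree - i₀) = (P ^ a).natDegree := by omega
      rw [e'] at hc
      have hne : ((((P ^ a).natDegree).choose ((P ^ a).natDegree - i₀) : ℕ) : ZMod p) *
          (P ^ a).coeff (P ^ a).natDegree * psum B i₀ ≠ 0 := by
        apply mul_ne_zero (mul_ne_zero ?_ ?_) hi₀
        · exact choose_ne_zero hlt' (by omega)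
        · rw [coeff_natDegree]; exact leadingCoeff_ne_zero.mpr (pow_ne_zero a hP0)
      exact hne hc.symm
    · intro n hn hne
      rw [Finset.mem_Ico] at hn
      by_cases h : n < i₀
      · rw [hmin n hn.1 h, mul_zero]
      · rw [coeff_eq_zero_of_natDegree_lt (by omega), mul_zero, zero_mul]
    · intro h
      exfalso
      apply h
      rw [Finset.mem_Ico]
      omega
  have hsmall_deg : ∀ a, a < i₀ → a * P.natDegree < p → a * P.natDegree < i₀ := by
    intro a ha hae
    by_contra h
    exact hPsi_ne a hae (by omega) (hPsi_small a ha hae)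
  -- main dichotomy
  have hemain : P.natDegree = 1 := by
    by_cases hcase : i₀ * P.natDegree < p
    · -- Psi (P ^ i₀) is the constant π_{i₀}
      have hge : i₀ ≤ i₀ * P.natDegree := Nat.le_mul_of_pos_right i₀ he1
      have hdeg := natDegree_Psi hmin hi₀ hi1 (P ^ i₀) (by rw [natDegree_pow]; exact hcase)
        (by rw [natDegree_pow]; exact hge)
      have hconst : Psi B (P ^ i₀) - C (psum B i₀) = 0 := by
        apply hzero
        · refine lt_of_le_of_lt (natDegree_sub_le _ _) ?_
          rw [hdeg, natDegree_pow, natDegree_C]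
          have : i₀ * P.natDegree - i₀ < p := by omega
          exact max_lt this hppos
        · intro x
          rw [eval_sub, eval_C, eval_Psi]
          simp only [eval_pow, hPeval]
          rw [hbij x (fun t => t ^ i₀), hsum_i₀ (σ x)]
          ring
      have h2 : Psi B (P ^ i₀) = C (psum B i₀) := sub_eq_zero.mp hconst
      rw [h2, natDegree_C, natDegree_pow] at hdeg
      have h3 : i₀ * P.natDegree ≤ i₀ := by omega
      have h4 : i₀ * P.natDegree ≤ i₀ * 1 := by rw [mul_one]; exact h3
      have h5 := Nat.le_of_mul_le_mul_left h4 (by omega : 0 < i₀)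
      omega
    · exfalso
      have hi2 : 2 ≤ i₀ := by
        by_contra h
        have h1 : i₀ = 1 := by omega
        rw [h1, one_mul] at hcase
        exact hcase hPnat
      have he_lt : P.natDegree < i₀ := by
        have := hsmall_deg 1 (by omega) (by rw [one_mul]; exact hPnat)
        rwa [one_mul] at this
      obtain ⟨a₀, ha₀⟩ : ∃ a₀, a₀ = (p - 1) / P.natDegree := ⟨_, rfl⟩
      have ha₀e : a₀ * P.natDegree ≤ p - 1 := by rw [ha₀]; exact Nat.div_mul_le_self _ _
      have ha₀lt : p - 1 < a₀ * P.natDegree + P.natDegree := by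
        have := Nat.lt_div_mul_add (a := p - 1) (b := P.natDegree) (by omega)
        rw [ha₀]; exact this
      have ha₀i : a₀ < i₀ := by
        by_contra h
        push Not at h
        have : i₀ * P.natDegree ≤ a₀ * P.natDegree := Nat.mul_le_mul_right _ h
        omega
      have h3 := hsmall_deg a₀ ha₀i (by omega)
      omega
  -- conclusion
  have hPle : P.natDegree ≤ 1 := by rw [hemain]
  have hPform := eq_X_add_C_of_natDegree_le_one hPle
  refine ⟨P.coeff 1, P.coeff 0, fun x => ?_⟩
  rw [← hPeval x]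
  conv_lhs => rw [hPform]
  simp

end Cfsg.Agent.Lib.H17.PrimeDegree
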