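import Mathlib

set_option autoImplicit false

/-!
# Coordinates for transitive permutation groups of prime degree

For a transitive group `G ≤ Perm α` with `|α| = p` prime: order facts, Sylow `p`-subgroups have
order `p`, an element `t` of order `p` yields an identification `e : ZMod p ≃ α` with
`t (e x) = e (x + 1)`, and an involution normalising `⟨t⟩` becomes `x ↦ -x` after a suitable
choice of origin.
-/

namespace Cfsg.Agent.Lib.H17.PrimeDegreeCoord

open Equiv Function

section order

variable {α : Type*} [Fintype α] {p : ℕ} [hp : Fact p.Prime]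

/-- `p ‖ |G|` for a transitive group of prime degree `p` -/
theorem card_eq_p_mul (hα : Fintype.card α = p) (G : Subgroup (Perm α))
    [MulAction.IsPretransitive G α] : ∃ m, Nat.card G = p * m ∧ ¬ p ∣ m := by
  have hpp := hp.out
  have hαc : Nat.card α = p := by rw [Nat.card_eq_fintype_card, hα]
  obtain ⟨a₀⟩ : Nonempty α := by
    have : 0 < Fintype.card α := by rw [hα]; exact hpp.pos
    exact Fintype.card_pos_iff.1 this
  have hdvdG : Nat.card G ∣ p.factorial := by
    have := Subgroup.card_subgroup_dvd_card G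
    rwa [Nat.card_perm, hαc] at this
  have hpnd : ¬ p ∣ (p - 1).factorial := by
    rw [hpp.dvd_factorial]; have := hpp.two_le; omega
  have hfac : p.factorial = p * (p - 1).factorial := by
    conv_lhs => rw [show p = (p - 1) + 1 by have := hpp.two_le; omega, Nat.factorial_succ]
    congr 1
    have := hpp.two_le; omega
  have h1 : (MulAction.stabilizer G a₀).index = p := by
    rw [MulAction.index_stabilizer_of_transitive, hαc]
  have h2 : p ∣ Nat.card G := h1 ▸ Subgroup.index_dvd_card _
  obtain ⟨m, hm⟩ := h2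
  refine ⟨m, hm, ?_⟩
  intro hpm
  obtain ⟨m', rfl⟩ := hpm
  have h3 : Nat.card G ∣ p * (p - 1).factorial := hfac ▸ hdvdG
  rw [hm] at h3
  have h4 : p * m' ∣ (p - 1).factorial := Nat.dvd_of_mul_dvd_mul_left hpp.pos h3
  exact hpnd ((Dvd.intro _ rfl).trans h4)

/-- Sylow `p`-subgroups have order `p` -/
theorem sylow_card (hα : Fintype.card α = p) (G : Subgroup (Perm α))
    [MulAction.IsPretransitive G α] (P : Sylow p G) : Nat.card (P : Subgroup G) = p := by
  have hpp := hp.out
  obtain ⟨m, hm, hpm⟩ := card_eq_p_mul hα G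
  have hm0 : m ≠ 0 := fun h => hpm (h ▸ dvd_zero p)
  rw [Sylow.card_eq_multiplicity, hm, Nat.factorization_mul hpp.ne_zero hm0]
  simp only [Finsupp.coe_add, Pi.add_apply]
  rw [hpp.factorization_self, Nat.factorization_eq_zero_of_not_dvd hpm, add_zero, pow_one]

/-- an involution normalising an element of order `p`, from an even Sylow normaliser -/
theorem exists_normalizing_involution (hα : Fintype.card α = p) (G : Subgroup (Perm α))
    [MulAction.IsPretransitive G α] (P : Sylow p G)
    (heven : Even (Nat.card (Subgroup.normalizer ((P : Subgroup G) : Set G)))) :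
    ∃ t s : G, orderOf t = p ∧ orderOf s = 2 ∧ ∃ n : ℕ, s * t * s⁻¹ = t ^ n := by
  have hpp := hp.out
  have hcP := sylow_card hα G P
  haveI : Fact (Nat.Prime 2) := ⟨Nat.prime_two⟩
  obtain ⟨s, hs⟩ := exists_prime_orderOf_dvd_card' 2 (even_iff_two_dvd.1 heven)
  have hPne : (P : Subgroup G) ≠ ⊥ := by
    intro h
    have h1 : Nat.card (P : Subgroup G) = 1 := by rw [h]; exact Subgroup.card_bot
    rw [hcP] at h1
    exact hpp.one_lt.ne' h1
  obtain ⟨t, ht1⟩ := Subgroup.ne_bot_iff_exists_ne_one.1 hPne
  have hto : orderOf (t : G) = p := by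
    have h1 : orderOf (t : G) ∣ p := by
      have := Subgroup.orderOf_dvd_natCard (P : Subgroup G) t.2
      rwa [hcP] at this
    rcases (Nat.dvd_prime hpp).1 h1 with h | h
    · exfalso
      apply ht1
      apply Subtype.ext
      exact orderOf_eq_one_iff.1 h
    · exact h
  have hPz : Subgroup.zpowers (t : G) = (P : Subgroup G) := by
    apply Subgroup.eq_of_le_of_card_ge
    · rw [Subgroup.zpowers_le]; exact t.2
    · rw [Nat.card_zpowers, hto, hcP]
  have hst : (s : G) * t * (s : G)⁻¹ ∈ (P : Subgroup G) :=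
    (Subgroup.mem_normalizer_iff.1 s.2 t).1 t.2
  have hst' : (s : G) * t * (s : G)⁻¹ ∈ Subgroup.zpowers (t : G) := by
    have h1 : ∀ y : G, y ∈ (P : Subgroup G) → y ∈ Subgroup.zpowers (t : G) := by
      intro y hy; rw [hPz]; exact hy
    exact h1 _ hst
  rw [← mem_powers_iff_mem_zpowers, Submonoid.mem_powers_iff] at hst'
  obtain ⟨n, hn⟩ := hst'
  refine ⟨t, s, hto, ?_, n, hn.symm⟩
  rw [Subgroup.orderOf_coe]; exact hs

end order

section coords

variable {α : Type*} [Fintype α] [DecidableEq α] {p : ℕ} [hp : Fact p.Prime]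

/-- an element of order `p` of `Perm α`, `|α| = p`, is `x ↦ x + 1` in suitable coordinates -/
theorem exists_coord (hα : Fintype.card α = p) (t : Perm α) (ht : orderOf t = p) :
    ∃ e : ZMod p ≃ α, ∀ k, t (e k) = e (k + 1) := by
  classical
  have hpp : p.Prime := hp.out
  have hp_def : p = Fintype.card α := hα.symm
  have hα' : (Fintype.card α).Prime := hα ▸ hpp
  haveI : NeZero p := ⟨hpp.ne_zero⟩
  have hpos : 0 < Fintype.card α := hα'.pos
  obtain ⟨a₀⟩ : Nonempty α := Fintype.card_pos_iff.1 hpos
  have hcyc : t.IsCycle := Equiv.Perm.isCycle_of_prime_order'' hα' (ht.trans hp_def)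
  have hsupp : ∀ a, t a ≠ a := by
    have h1 := hcyc.orderOf
    rw [ht, hp_def] at h1
    have h2 : t.support = Finset.univ := Finset.eq_univ_of_card _ h1.symm
    intro a
    rw [← Equiv.Perm.mem_support, h2]; exact Finset.mem_univ a
  have hpow : ∀ n : ℕ, t ^ (n % p) = t ^ n := by
    intro n
    have := pow_mod_orderOf t n
    rwa [ht] at this
  let φ : ZMod p → α := fun k => (t ^ k.val) a₀
  have hφsurj : Function.Surjective φ := by
    intro b
    obtain ⟨i, hi⟩ := hcyc.exists_pow_eq (hsupp a₀) (hsupp b)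
    refine ⟨(i : ZMod p), ?_⟩
    show (t ^ ((i : ZMod p).val)) a₀ = b
    rw [ZMod.val_natCast, hpow, hi]
  have hφbij : Function.Bijective φ := by
    rw [Fintype.bijective_iff_surjective_and_card]
    exact ⟨hφsurj, (ZMod.card p).trans hp_def⟩
  refine ⟨Equiv.ofBijective φ hφbij, ?_⟩
  intro k
  show t ((t ^ k.val) a₀) = (t ^ (k + 1).val) a₀
  rw [ZMod.val_add, ZMod.val_one, hpow, pow_succ', Perm.mul_apply]

/-- an involution normalising `⟨t⟩` is `x ↦ -x` in suitable coordinates (for odd `p`) -/
theorem exists_coord_neg (hp2 : p ≠ 2) (hα : Fintype.card α = p) (t s : Perm α)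
    (ht : orderOf t = p) (hs : orderOf s = 2) (n : ℕ) (hn : s * t * s⁻¹ = t ^ n) :
    ∃ e : ZMod p ≃ α, (∀ k, t (e k) = e (k + 1)) ∧ (∀ k, s (e k) = e (-k)) := by
  classical
  have hpp : p.Prime := hp.out
  haveI : NeZero p := ⟨hpp.ne_zero⟩
  obtain ⟨e₀, he₀⟩ := exists_coord hα t ht
  have h2 : (2 : ZMod p) ≠ 0 := by
    intro h
    have h' : ((2 : ℕ) : ZMod p) = 0 := by exact_mod_cast h
    rw [ZMod.natCast_eq_zero_iff] at h'
    have := Nat.le_of_dvd (by norm_num) h'
    have := hpp.two_le
    omega
  -- powers of t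
  have htpow : ∀ (m : ℕ) (x : ZMod p), (t ^ m) (e₀ x) = e₀ (x + m) := by
    intro m
    induction m with
    | zero => intro x; simp
    | succ m ih =>
      intro x
      rw [pow_succ', Perm.mul_apply, ih, he₀]
      congr 1
      push_cast; ring
  -- s in coordinates
  let σ : ZMod p → ZMod p := fun x => e₀.symm (s (e₀ x))
  have hσ : ∀ x, s (e₀ x) = e₀ (σ x) := fun x => (e₀.apply_symm_apply _).symm
  have hss : ∀ y, s (s y) = y := by
    intro y
    have h1 : s ^ 2 = 1 := by rw [← hs]; exact pow_orderOf_eq_one s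
    have := congrArg (fun f : Perm α => f y) h1
    simpa [pow_two, Perm.mul_apply] using this
  have hσσ : ∀ x, σ (σ x) = x := by
    intro x
    apply e₀.injective
    rw [← hσ, ← hσ, hss]
  have hσ1 : ∀ x, σ (x + 1) = σ x + n := by
    intro x
    apply e₀.injective
    rw [← hσ, ← he₀, ← htpow, ← hσ]
    have h1 : s * t = t ^ n * s := by rw [← hn]; group
    have := congrArg (fun f : Perm α => f (e₀ x)) h1
    simpa [Perm.mul_apply] using this
  have hσlin : ∀ x, σ x = n * x + σ 0 := by
    have h1 : ∀ m : ℕ, σ (m : ZMod p) = n * m + σ 0 := by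
      intro m
      induction m with
      | zero => simp
      | succ m ih =>
        push_cast
        rw [hσ1, ih]; ring
    intro x
    have := h1 x.val
    rwa [ZMod.natCast_zmod_val] at this
  -- n = ±1
  have e0 := hσσ 0
  have e1 := hσσ 1
  rw [hσlin 0, hσlin] at e0
  rw [hσlin 1, hσlin] at e1
  have hn2 : ((n : ZMod p) - 1) * ((n : ZMod p) + 1) = 0 := by
    linear_combination e1 - e0
  have hneg : (n : ZMod p) = -1 := by
    rcases mul_eq_zero.1 hn2 with h | h
    · exfalso
      have hn1 : (n : ZMod p) = 1 := by linear_combination h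
      have hc : σ 0 = 0 := by
        have h3 : (2 : ZMod p) * σ 0 = 0 := by
          rw [hn1] at e0
          linear_combination e0
        rcases mul_eq_zero.1 h3 with h | h
        · exact absurd h h2
        · exact h
      have hs1 : s = 1 := by
        ext y
        obtain ⟨x, rfl⟩ := e₀.surjective y
        rw [hσ, hσlin, hn1, hc]
        simp
      rw [hs1, orderOf_one] at hs
      omega
    · linear_combination h
  -- new origin
  refine ⟨(Equiv.addRight (σ 0 * 2⁻¹)).trans e₀, ?_, ?_⟩
  · intro k
    simp only [Equiv.trans_apply, Equiv.coe_addRight]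
    rw [he₀]
    congr 1; ring
  · intro k
    simp only [Equiv.trans_apply, Equiv.coe_addRight]
    rw [hσ, hσlin, hneg]
    congr 1
    field_simp
    ring

end coords

end Cfsg.Agent.Lib.H17.PrimeDegreeCoord
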