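import Mathlib

/-!
# Rank-one rigidity for nonnegative combinations of rank-one Hermitian forms

If `∑ i, w i • (v i) (v i)ᴴ = κ • h hᴴ` entrywise with all `w i ≥ 0`, then every `v i` with
`w i > 0` is proportional to `h`, in the cross-multiplied form `v i a * h c = v i c * h a`.
Pure Mathlib; used for S1950 (piece RANK).
-/

set_option autoImplicit false

namespace Cfsg.Agent.Lib.H17.RK

open Finset ComplexConjugate

/-- The expansion of `|x hc - y ha|²` used below. -/
theorem cross_normSq_expand (x y ha hc : ℂ) :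
    (x * hc - y * ha) * conj (x * hc - y * ha) =
      (x * conj x) * (hc * conj hc) - (x * conj y) * (hc * conj ha)
        - (y * conj x) * (ha * conj hc) + (y * conj y) * (ha * conj ha) := by
  simp only [map_sub, map_mul]
  ring

/-- Rank-one rigidity, `Finset` form. -/
theorem rank_one_rigidity {ι A : Type*} (s : Finset ι) (w : ι → ℝ) (hw : ∀ i ∈ s, 0 ≤ w i)
    (v : ι → A → ℂ) (h : A → ℂ) (κ : ℂ)
    (hsum : ∀ a c : A,
      ∑ i ∈ s, (w i : ℂ) * (v i a * conj (v i c)) = κ * (h a * conj (h c))) :
    ∀ i ∈ s, 0 < w i → ∀ a c : A, v i a * h c = v i c * h a := by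
  intro i hi hwi a c
  -- the weighted sum of the squared norms of the cross terms vanishes
  have hzero : ∑ j ∈ s, (w j : ℂ) *
      ((v j a * h c - v j c * h a) * conj (v j a * h c - v j c * h a)) = 0 := by
    have h1 : ∀ j ∈ s, (w j : ℂ) *
        ((v j a * h c - v j c * h a) * conj (v j a * h c - v j c * h a)) =
        ((w j : ℂ) * (v j a * conj (v j a))) * (h c * conj (h c))
          - ((w j : ℂ) * (v j a * conj (v j c))) * (h c * conj (h a))
          - ((w j : ℂ) * (v j c * conj (v j a))) * (h a * conj (h c))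
          + ((w j : ℂ) * (v j c * conj (v j c))) * (h a * conj (h a)) := by
      intro j _
      rw [cross_normSq_expand]
      ring
    rw [Finset.sum_congr rfl h1, Finset.sum_add_distrib, Finset.sum_sub_distrib,
      Finset.sum_sub_distrib, ← Finset.sum_mul, ← Finset.sum_mul, ← Finset.sum_mul,
      ← Finset.sum_mul, hsum a a, hsum a c, hsum c a, hsum c c]
    ring
  -- pass to real parts: a sum of nonnegative reals
  have hre : ∀ j : ι, (w j : ℂ) *
      ((v j a * h c - v j c * h a) * conj (v j a * h c - v j c * h a)) =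
      ((w j * Complex.normSq (v j a * h c - v j c * h a) : ℝ) : ℂ) := by
    intro j
    rw [Complex.mul_conj]
    push_cast
    ring
  have hzero' : ∑ j ∈ s, w j * Complex.normSq (v j a * h c - v j c * h a) = 0 := by
    have : ((∑ j ∈ s, w j * Complex.normSq (v j a * h c - v j c * h a) : ℝ) : ℂ) = 0 := by
      rw [← hzero]
      push_cast
      refine Finset.sum_congr rfl fun j _ => ?_
      rw [hre j]
      push_cast
      ring
    exact_mod_cast this
  have hnonneg : ∀ j ∈ s, 0 ≤ w j * Complex.normSq (v j a * h c - v j c * h a) :=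
    fun j hj => mul_nonneg (hw j hj) (Complex.normSq_nonneg _)
  have hi0 := (Finset.sum_eq_zero_iff_of_nonneg hnonneg).1 hzero' i hi
  have hns : Complex.normSq (v i a * h c - v i c * h a) = 0 := by
    rcases mul_eq_zero.1 hi0 with h0 | h0
    · exact absurd h0 hwi.ne'
    · exact h0
  exact sub_eq_zero.1 (Complex.normSq_eq_zero.1 hns)

/-- Rank-one rigidity, `Fintype` form. -/
theorem rank_one_rigidity_univ {ι A : Type*} [Fintype ι] (w : ι → ℝ) (hw : ∀ i, 0 ≤ w i)
    (v : ι → A → ℂ) (h : A → ℂ) (κ : ℂ)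
    (hsum : ∀ a c : A,
      ∑ i, (w i : ℂ) * (v i a * conj (v i c)) = κ * (h a * conj (h c)))
    (i : ι) (hwi : 0 < w i) (a c : A) : v i a * h c = v i c * h a :=
  rank_one_rigidity Finset.univ w (fun i _ => hw i) v h κ hsum i (Finset.mem_univ i) hwi a c

/-- Rank-one rigidity, `finsum` over a set of a finite type. -/
theorem rank_one_rigidity_finsum {ι A : Type*} [Finite ι] (B : Set ι) (w : ι → ℝ)
    (hw : ∀ i ∈ B, 0 ≤ w i) (v : ι → A → ℂ) (h : A → ℂ) (κ : ℂ)
    (hsum : ∀ a c : A,
      ∑ᶠ i ∈ B, (w i : ℂ) * (v i a * conj (v i c)) = κ * (h a * conj (h c))) :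
    ∀ i ∈ B, 0 < w i → ∀ a c : A, v i a * h c = v i c * h a := by
  classical
  have hB : B.Finite := Set.toFinite B
  have key := rank_one_rigidity hB.toFinset w (fun i hi => hw i (hB.mem_toFinset.1 hi)) v h κ
    (fun a c => by
      rw [← hsum a c, finsum_mem_eq_finite_toFinset_sum _ hB])
  intro i hi
  exact key i (hB.mem_toFinset.2 hi)

end Cfsg.Agent.Lib.H17.RK
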