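import Mathlib
import Cfsg.Agent.Lib.H23.RVDefs
import Cfsg.Agent.Lib.H24.RVSYMA
import Cfsg.Agent.Lib.H11.RVSYMB
import Cfsg.Agent.Lib.H11.RVSYMC

set_option autoImplicit false
set_option linter.unusedSectionVars false

universe u

namespace Cfsg.Agent.Lib.H17.RV

open Cfsg Cfsg.Agent.Lib.H23 Cfsg.Agent.Lib.H23.RV
open scoped ComplexConjugate

section sym
variable {p : ℕ} [Fact p.Prime]

section core

variable {H : Type u} [Group H] [Finite H] {W : Type*} [AddCommGroup W] [Module (ZMod p) W]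
  [Finite W] (ρ : Representation (ZMod p) H W) (B : LinearMap.BilinForm (ZMod p) W)

/-- restriction of a representation to a subgroup -/
def resRep (K : Subgroup H) : Representation (ZMod p) K W := MonoidHom.comp ρ K.subtype

theorem resRep_apply (K : Subgroup H) (g : K) (x : W) : resRep ρ K g x = ρ (g : H) x := rfl

theorem gaussPsi_resRep (K : Subgroup H) (g : K) :
    gaussPsi B (resRep ρ K) g = gaussPsi B ρ (g : H) := rfl

theorem fixCardK_resRep (K : Subgroup H) : fixCardK (resRep ρ K) ⊤ = fixCardK ρ K := by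
  unfold fixCardK
  refine Nat.card_congr (Equiv.subtypeEquivRight fun w => ?_)
  constructor
  · intro h g hg
    exact h ⟨g, hg⟩ (Subgroup.mem_top _)
  · intro h g _
    exact h g.1 g.2

theorem fixCardK_ne_zero (K : Subgroup H) : fixCardK ρ K ≠ 0 := by
  unfold fixCardK
  haveI : Nonempty {w : W // ∀ g ∈ K, ρ g w = w} := ⟨⟨0, fun g _ => map_zero _⟩⟩
  exact Nat.card_pos.ne'

theorem not_dvd_card_subgroup (hcop : ¬ p ∣ Nat.card H) (K : Subgroup H) : ¬ p ∣ Nat.card K :=
  fun h => hcop (h.trans (Subgroup.card_subgroup_dvd_card K))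

/-- a vector fixed by `h` is fixed by `zpowers h` -/
theorem fixed_zpowers (h : H) (x : W) (hx : ρ h x = x) : ∀ g ∈ Subgroup.zpowers h, ρ g x = x := by
  let S : Subgroup H :=
    { carrier := {g | ρ g x = x}
      one_mem' := by simp
      mul_mem' := by
        intro a b ha hb
        simp only [Set.mem_setOf_eq] at ha hb ⊢
        rw [map_mul, Module.End.mul_apply, hb, ha]
      inv_mem' := by
        intro a ha
        simp only [Set.mem_setOf_eq] at ha ⊢
        have := Representation.inv_self_apply ρ a x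
        rwa [ha] at this }
  have hS : Subgroup.zpowers h ≤ S := (Subgroup.zpowers_le).mpr hx
  exact fun g hg => hS hg

theorem fixCardK_zpowers (h : H) : fixCardK ρ (Subgroup.zpowers h) = fixCard ρ h := by
  unfold fixCardK fixCard
  refine Nat.card_congr (Equiv.subtypeEquivRight fun w => ?_)
  constructor
  · intro hw
    exact hw h (Subgroup.mem_zpowers h)
  · intro hw
    exact fixed_zpowers ρ h w hw

/-- (O): `Ψ|_K / |C_W(K)|` is `O`-integral. -/
theorem gaussPsi_div_oInt (hcop : ¬ p ∣ Nat.card H)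
    (hinv : ∀ g x y, B (ρ g x) (ρ g y) = B x y) (hnd : ∀ x, (∀ y, B x y = 0) → x = 0)
    (K : Subgroup H) :
    OInt K (fun g : K => gaussPsi B ρ (g : H) / (fixCardK ρ K : ℂ)) := by
  obtain ⟨R, hR, -, -, -, hpsi⟩ := Cfsg.Agent.Lib.H11.RV.gaussPsi_split
    (not_dvd_card_subgroup hcop K) (resRep ρ K) B (fun g x y => hinv g.1 x y) hnd
  have h1 : (fun g : K => gaussPsi B ρ (g : H) / (fixCardK ρ K : ℂ)) =
      gaussPsi (B.domRestrict₁₂ R R) (subRep (resRep ρ K) R hR) := by
    funext g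
    have := hpsi g
    rw [gaussPsi_resRep, fixCardK_resRep] at this
    rw [this, mul_div_cancel_left₀]
    exact_mod_cast fixCardK_ne_zero ρ K
  rw [h1]
  refine Cfsg.Agent.Lib.H24.RV.gaussPsi_oInt _ _ ?_
  intro g x y
  rw [LinearMap.domRestrict₁₂_apply, LinearMap.domRestrict₁₂_apply, subRep_apply, subRep_apply]
  exact hinv g.1 x y

/-- the split for the cyclic group generated by `h` -/
theorem gaussPsi_cyclic_split (hcop : ¬ p ∣ Nat.card H)
    (hinv : ∀ g x y, B (ρ g x) (ρ g y) = B x y) (hnd : ∀ x, (∀ y, B x y = 0) → x = 0) (h : H) :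
    ∃ (R : Submodule (ZMod p) W) (hR : ∀ x ∈ R, ρ h x ∈ R),
      Nat.card W = fixCard ρ h * Nat.card R ∧
      (∀ x ∈ R, ρ h x = x → x = 0) ∧
      (∀ x ∈ R, (∀ y ∈ R, B x y = 0) → x = 0) ∧
      gaussPsi B ρ h = (fixCard ρ h : ℂ) *
        ∑ᶠ r : R, (ZMod.stdAddChar (N := p) (B (r : W) (ρ h (r : W) - (r : W))) : ℂ) := by
  obtain ⟨R, hR, hcard, hfix, hndR, hpsi⟩ := Cfsg.Agent.Lib.H11.RV.gaussPsi_split
    (not_dvd_card_subgroup hcop (Subgroup.zpowers h)) (resRep ρ (Subgroup.zpowers h)) B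
    (fun g x y => hinv g.1 x y) hnd
  rw [fixCardK_resRep, fixCardK_zpowers] at hcard
  refine ⟨R, fun x hx => hR ⟨h, Subgroup.mem_zpowers h⟩ x hx, hcard, ?_, hndR, ?_⟩
  · intro x hx hxx
    refine hfix x hx fun g => ?_
    rw [resRep_apply]
    exact fixed_zpowers ρ h x hxx g.1 g.2
  · have := hpsi ⟨h, Subgroup.mem_zpowers h⟩
    rw [gaussPsi_resRep, fixCardK_resRep, fixCardK_zpowers] at this
    rw [this]
    rfl

/-- (N) -/
theorem gaussPsi_normSq (hcop : ¬ p ∣ Nat.card H) (hsym : ∀ x y, B x y = B y x)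
    (hinv : ∀ g x y, B (ρ g x) (ρ g y) = B x y) (hnd : ∀ x, (∀ y, B x y = 0) → x = 0) (h : H) :
    ‖gaussPsi B ρ h‖ ^ 2 = (Nat.card W : ℝ) * (fixCard ρ h : ℝ) := by
  obtain ⟨R, hR, hcard, hfix, hndR, hpsi⟩ := Cfsg.Agent.Lib.H11.RV.gaussPsi_split
    (not_dvd_card_subgroup hcop (Subgroup.zpowers h)) (resRep ρ (Subgroup.zpowers h)) B
    (fun g x y => hinv g.1 x y) hnd
  rw [fixCardK_resRep, fixCardK_zpowers] at hcard
  have h1 := hpsi ⟨h, Subgroup.mem_zpowers h⟩
  rw [gaussPsi_resRep, fixCardK_resRep, fixCardK_zpowers] at h1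
  have h2 := Cfsg.Agent.Lib.H11.RV.gaussPsi_normSq_ff
    (subRep (resRep ρ (Subgroup.zpowers h)) R hR) (B.domRestrict₁₂ R R)
    (fun x y => by
      rw [LinearMap.domRestrict₁₂_apply, LinearMap.domRestrict₁₂_apply]; exact hsym _ _)
    (fun g x y => by
      rw [LinearMap.domRestrict₁₂_apply, LinearMap.domRestrict₁₂_apply, subRep_apply, subRep_apply]
      exact hinv g.1 x y)
    (fun x hx => by
      apply Subtype.ext
      refine hndR x.1 x.2 fun y hy => ?_
      have := hx ⟨y, hy⟩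
      rwa [LinearMap.domRestrict₁₂_apply] at this)
    ⟨h, Subgroup.mem_zpowers h⟩
    (fun x hx => by
      apply Subtype.ext
      refine hfix x.1 x.2 fun g => ?_
      rw [resRep_apply]
      refine fixed_zpowers ρ h x.1 ?_ g.1 g.2
      have := congrArg Subtype.val hx
      rwa [subRep_apply] at this)
  change ‖gaussPsi B ρ h‖ ^ 2 = _
  rw [h1, norm_mul, mul_pow, h2, Complex.norm_natCast, hcard]
  push_cast
  ring

/-- (T) -/
theorem gaussPsi_triv (h : H) (hh : ρ h = 1) : gaussPsi B ρ h = (Nat.card W : ℂ) := by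
  classical
  letI := Fintype.ofFinite W
  rw [gaussPsi_eq_sum, Nat.card_eq_fintype_card]
  have : ∀ w : W, (ZMod.stdAddChar (N := p) (B w (ρ h w - w)) : ℂ) = 1 := by
    intro w
    rw [hh, Module.End.one_apply, sub_self, map_zero, AddChar.map_zero_eq_one]
  rw [Finset.sum_congr rfl fun w _ => this w]
  simp

/-- (C) -/
theorem gaussPsi_conj (hinv : ∀ g x y, B (ρ g x) (ρ g y) = B x y) (h g : H) :
    gaussPsi B ρ (g * h * g⁻¹) = gaussPsi B ρ h := by
  classical
  letI := Fintype.ofFinite W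
  rw [gaussPsi_eq_sum, gaussPsi_eq_sum]
  let e : W ≃ W := ⟨ρ g, ρ g⁻¹, Representation.inv_self_apply ρ g, Representation.self_inv_apply ρ g⟩
  rw [← Equiv.sum_comp e]
  refine Finset.sum_congr rfl fun w _ => ?_
  have he : e w = ρ g w := rfl
  rw [he, map_mul, map_mul, Module.End.mul_apply, Module.End.mul_apply,
    Representation.inv_self_apply, ← map_sub, hinv]

/-- a sum of `p`-th roots of unity over a set of size divisible by `p` is in `(1-ζ)O + pO` -/
theorem sum_stdAddChar_mem {ι : Type*} [Finite ι] (a : ι → ZMod p) (hdvd : p ∣ Nat.card ι) :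
    ∃ ζ A C : ℂ, ζ ^ p = 1 ∧ IsIntegral ℤ A ∧ IsIntegral ℤ C ∧
      ∑ᶠ i : ι, (ZMod.stdAddChar (N := p) (a i) : ℂ) = (1 - ζ) * A + (p : ℂ) * C := by
  classical
  letI := Fintype.ofFinite ι
  set ζ : ℂ := ZMod.stdAddChar (N := p) (1 : ZMod p) with hζ
  have hζint : IsIntegral ℤ ζ := Cfsg.Agent.Lib.H24.RV.isIntegral_stdAddChar 1
  have hζp : ζ ^ p = 1 := by
    rw [hζ, ← AddChar.map_nsmul_eq_pow]
    have : p • (1 : ZMod p) = 0 := by rw [nsmul_eq_mul]; simp
    rw [this, AddChar.map_zero_eq_one]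
  have hval : ∀ b : ZMod p, (ZMod.stdAddChar (N := p) b : ℂ) = ζ ^ b.val := by
    intro b
    rw [hζ, ← AddChar.map_nsmul_eq_pow, nsmul_eq_mul, mul_one, ZMod.natCast_zmod_val]
  obtain ⟨c, hc⟩ := hdvd
  refine ⟨ζ, -∑ i : ι, ∑ j ∈ Finset.range (a i).val, ζ ^ j, (c : ℂ), hζp, ?_, ?_, ?_⟩
  · exact IsIntegral.neg (IsIntegral.sum _ fun i _ => IsIntegral.sum _ fun j _ => hζint.pow j)
  · exact isIntegral_algebraMap (R := ℤ) (A := ℂ) (x := (c : ℤ)) |> fun h => by simpa using h
  · rw [finsum_eq_sum_of_fintype]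
    have h1 : ∀ i : ι, (ZMod.stdAddChar (N := p) (a i) : ℂ) =
        1 - (1 - ζ) * ∑ j ∈ Finset.range (a i).val, ζ ^ j := by
      intro i
      rw [hval, ← neg_sub ζ 1, neg_mul, mul_comm, geom_sum_mul]
      ring
    rw [Finset.sum_congr rfl fun i _ => h1 i, Finset.sum_sub_distrib, ← Finset.mul_sum]
    have h2 : (∑ _i : ι, (1 : ℂ)) = (p : ℂ) * (c : ℂ) := by
      rw [Finset.sum_const, Finset.card_univ, ← Nat.card_eq_fintype_card, hc]
      simp
    rw [h2]
    ring

/-- (D) -/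
theorem gaussPsi_div (hcop : ¬ p ∣ Nat.card H)
    (hinv : ∀ g x y, B (ρ g x) (ρ g y) = B x y) (hnd : ∀ x, (∀ y, B x y = 0) → x = 0) (h : H)
    (hh : ρ h ≠ 1) :
    ∃ ζ a b : ℂ, ζ ^ p = 1 ∧ IsIntegral ℤ a ∧ IsIntegral ℤ b ∧
      gaussPsi B ρ h = (fixCard ρ h : ℂ) * ((1 - ζ) * a + (p : ℂ) * b) := by
  obtain ⟨R, hR, hcard, hfix, -, hpsi⟩ := gaussPsi_cyclic_split ρ B hcop hinv hnd h
  have hdvd : p ∣ Nat.card R := by
    have h1 : Nat.card R = Nat.card (ZMod p) ^ Module.finrank (ZMod p) R :=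
      Module.natCard_eq_pow_finrank
    rw [Nat.card_zmod] at h1
    rcases Nat.eq_zero_or_pos (Module.finrank (ZMod p) R) with h0 | hpos
    · exfalso
      rw [h0, pow_zero] at h1
      rw [h1, mul_one] at hcard
      -- all of `W` is fixed
      apply hh
      have hall : ∀ w : W, ρ h w = w := by
        have hsub : Nat.card {w : W // ρ h w = w} = Nat.card W := hcard.symm
        intro w
        by_contra hw
        have hlt : Nat.card {w : W // ρ h w = w} < Nat.card W := by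
          classical
          letI := Fintype.ofFinite W
          rw [Nat.card_eq_fintype_card, Nat.card_eq_fintype_card]
          exact Fintype.card_subtype_lt hw
        omega
      exact LinearMap.ext hall
    · rw [h1]
      exact dvd_pow_self p hpos.ne'
  obtain ⟨ζ, a, b, hζ, ha, hb, hsum⟩ :=
    sum_stdAddChar_mem (fun r : R => B (r : W) (ρ h (r : W) - (r : W))) hdvd
  refine ⟨ζ, a, b, hζ, ha, hb, ?_⟩
  rw [hpsi, hsum]

end core

/-- SYM-D. -/
theorem exists_kdata_symm (m : ℕ) [NeZero m] (hpm : p ∣ m) {H : Type u} [Group H] [Finite H]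
    (hcop : ¬ p ∣ Nat.card H) {W : Type*} [AddCommGroup W] [Module (ZMod p) W] [Finite W]
    (ρ : Representation (ZMod p) H W) (B : LinearMap.BilinForm (ZMod p) W)
    (hsym : ∀ x y, B x y = B y x) (hinv : ∀ g x y, B (ρ g x) (ρ g y) = B x y)
    (hnd : ∀ x, (∀ y, B x y = 0) → x = 0) :
    ∃ Y : H → CyclotomicField m ℚ, IsKData p m ρ Y := by
  classical
  letI := Fintype.ofFinite W
  have hp : p.Prime := Fact.out
  set e : ℂ := ZMod.stdAddChar (N := p) (1 : ZMod p) with he
  have hep : e ^ p = 1 := by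
    rw [he, ← AddChar.map_nsmul_eq_pow]
    have : p • (1 : ZMod p) = 0 := by rw [nsmul_eq_mul]; simp
    rw [this, AddChar.map_zero_eq_one]
  have hem : e ^ m = 1 := by
    obtain ⟨c, rfl⟩ := hpm
    rw [pow_mul, hep, one_pow]
  obtain ⟨z, hzm, hz⟩ := exists_cyc_preimage m e hem
  let Y : H → CyclotomicField m ℚ := fun h => ∑ w : W, z ^ (B w (ρ h w - w)).val
  have KI : ∀ (t : ℕ) (h : H), cycEmb m (∑ w : W, (z ^ t) ^ (B w (ρ h w - w)).val) =
      gaussPsi ((t : ZMod p) • B) ρ h := by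
    intro t h
    rw [gaussPsi_eq_sum, map_sum]
    refine Finset.sum_congr rfl fun w _ => ?_
    rw [map_pow, map_pow, hz, LinearMap.smul_apply, LinearMap.smul_apply, smul_eq_mul, ← pow_mul,
      he, ← AddChar.map_nsmul_eq_pow, nsmul_eq_mul, mul_one]
    congr 1
    push_cast
    rw [ZMod.natCast_zmod_val]
  have KI1 : ∀ h, cycEmb m (Y h) = gaussPsi B ρ h := by
    intro h
    have := KI 1 h
    simp only [pow_one, Nat.cast_one, one_smul] at this
    exact this
  have Kσ : ∀ (σ : Gal(CyclotomicField m ℚ/ℚ)) (h : H),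
      cycEmb m (σ (Y h)) = gaussPsi (((cycPow m σ).val : ZMod p) • B) ρ h := by
    intro σ h
    rw [← KI]
    congr 1
    simp only [Y, map_sum, map_pow]
    rw [cycAut_pow m σ z hzm]
  have hunit : ∀ σ : Gal(CyclotomicField m ℚ/ℚ), (((cycPow m σ).val : ℕ) : ZMod p) ≠ 0 := by
    intro σ h0
    have h1 : p ∣ (cycPow m σ).val := (ZMod.natCast_eq_zero_iff _ _).mp h0
    have h2 : Nat.Coprime (cycPow m σ).val m := ZMod.val_coe_unit_coprime (cycGalEquiv m σ)
    have h3 : p ∣ Nat.gcd (cycPow m σ).val m := Nat.dvd_gcd h1 hpm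
    rw [h2] at h3
    exact hp.one_lt.ne' (Nat.dvd_one.mp h3)
  refine ⟨Y, ⟨?_, ?_, ?_, ?_, ?_⟩⟩
  · intro h g
    apply cycEmb_injective m
    rw [KI1, KI1, gaussPsi_conj ρ B hinv]
  · intro σ h
    rw [Kσ]
    have hc := hunit σ
    refine gaussPsi_normSq ρ _ hcop ?_ ?_ ?_ h
    · intro x y
      rw [LinearMap.smul_apply, LinearMap.smul_apply, LinearMap.smul_apply, LinearMap.smul_apply,
        hsym]
    · intro g x y
      rw [LinearMap.smul_apply, LinearMap.smul_apply, LinearMap.smul_apply, LinearMap.smul_apply,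
        hinv]
    · intro x hx
      refine hnd x fun y => ?_
      have := hx y
      rw [LinearMap.smul_apply, LinearMap.smul_apply, smul_eq_mul] at this
      exact (mul_eq_zero.mp this).resolve_left hc
  · intro h hh
    rw [KI1]
    exact gaussPsi_triv ρ B h hh
  · intro h hh
    rw [KI1]
    exact gaussPsi_div ρ B hcop hinv hnd h hh
  · intro K
    have : (fun g : K => cycEmb m (Y (g : H)) / (fixCardK ρ K : ℂ)) =
        fun g : K => gaussPsi B ρ (g : H) / (fixCardK ρ K : ℂ) := by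
      funext g
      rw [KI1]
    rw [this]
    exact gaussPsi_div_oInt ρ B hcop hinv hnd K

end sym

end Cfsg.Agent.Lib.H17.RV
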