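import Mathlib

/-!
# Solvable subgroups of a group with TI / cyclic Sylow subgroups: generic lemmas (for S2361)
-/

set_option autoImplicit false

namespace Cfsg.Agent.Lib.H17.ReeSolv

/-- in a finite cyclic group an element killed by `p` lies in the subgroup generated by an element of order `p` -/
theorem mem_zpowers_of_cyclic {P : Type*} [Group P] [Finite P] [IsCyclic P] (p : ℕ) (hp0 : 0 < p)
    (x y : P) (hx : orderOf x = p) (hy : y ^ p = 1) : y ∈ Subgroup.zpowers x := by
  classical
  have := Fintype.ofFinite P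
  have hle : (Finset.univ.filter (fun a : P => a ^ p = 1)).card ≤ p := IsCyclic.card_pow_eq_one_le hp0
  have hsub : (Subgroup.zpowers x : Set P).toFinset ⊆ Finset.univ.filter (fun a : P => a ^ p = 1) := by
    intro a ha
    rw [Set.mem_toFinset] at ha
    obtain ⟨i, rfl⟩ := Subgroup.mem_zpowers_iff.mp ha
    rw [Finset.mem_filter]
    refine ⟨Finset.mem_univ _, ?_⟩
    rw [← zpow_natCast, ← zpow_mul, mul_comm, zpow_mul, zpow_natCast, ← hx, pow_orderOf_eq_one, one_zpow]
  have hcard : (Subgroup.zpowers x : Set P).toFinset.card = p := by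
    rw [Set.toFinset_card, ← hx, ← Nat.card_eq_fintype_card]
    exact Nat.card_zpowers x
  have heq := Finset.eq_of_subset_of_card_le hsub (by rw [hcard]; exact hle)
  have hy' : y ∈ Finset.univ.filter (fun a : P => a ^ p = 1) := by
    rw [Finset.mem_filter]; exact ⟨Finset.mem_univ _, hy⟩
  rw [← heq, Set.mem_toFinset] at hy'
  exact hy'

/-- conjugation maps `zpowers x` to `zpowers (g x g⁻¹)` -/
theorem map_conj_zpowers {G : Type*} [Group G] (g x : G) :
    (Subgroup.zpowers x).map (MulAut.conj g).toMonoidHom = Subgroup.zpowers (g * x * g⁻¹) := by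
  rw [MonoidHom.map_zpowers]
  rfl

/-- membership in the normaliser from the equality of the conjugate -/
theorem mem_normalizer_of_map_eq {G : Type*} [Group G] (H : Subgroup G) (g : G)
    (h : H.map (MulAut.conj g).toMonoidHom = H) : g ∈ Subgroup.normalizer (H : Set G) := by
  rw [Subgroup.mem_normalizer_iff]
  intro x
  constructor
  · intro hx
    rw [← h]
    exact ⟨x, hx, rfl⟩
  · intro hx
    rw [← h] at hx
    obtain ⟨y, hy, hyx⟩ := hx
    have : y = x := by
      have h1 : g * y * g⁻¹ = g * x * g⁻¹ := hyx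
      have h2 := congrArg (fun z => g⁻¹ * z * g) h1
      simpa [mul_assoc] using h2
    rwa [← this]

theorem map_eq_of_mem_normalizer {G : Type*} [Group G] (H : Subgroup G) (g : G)
    (h : g ∈ Subgroup.normalizer (H : Set G)) : H.map (MulAut.conj g).toMonoidHom = H := by
  rw [Subgroup.mem_normalizer_iff] at h
  ext x
  constructor
  · rintro ⟨y, hy, rfl⟩
    exact (h y).mp hy
  · intro hx
    refine ⟨g⁻¹ * x * g, ?_, ?_⟩
    · refine (h (g⁻¹ * x * g)).mpr ?_
      have : g * (g⁻¹ * x * g) * g⁻¹ = x := by group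
      rw [this]
      exact hx
    · show g * (g⁻¹ * x * g) * g⁻¹ = x
      group

/-- the normaliser of a conjugate -/
theorem normalizer_map_conj {G : Type*} [Group G] (H : Subgroup G) (g : G) :
    Subgroup.normalizer ((H.map (MulAut.conj g).toMonoidHom : Subgroup G) : Set G) =
      (Subgroup.normalizer (H : Set G)).map (MulAut.conj g).toMonoidHom :=
  (Subgroup.map_equiv_normalizer_eq H (MulAut.conj g)).symm

/-- **TI Sylow case**: a subgroup normalising a non-trivial `p`-subgroup normalises a Sylow `p`-subgroup,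
when distinct Sylow `p`-subgroups meet trivially -/
theorem le_normalizer_sylow_of_TI {G : Type*} [Group G] [Finite G] (p : ℕ) [Fact p.Prime]
    (hTI : ∀ P Q : Sylow p G, ∀ t : G, t ≠ 1 → t ∈ P → t ∈ Q → P = Q)
    (S M : Subgroup G) (hM1 : M ≠ ⊥) (hMp : IsPGroup p M) (hS : S ≤ Subgroup.normalizer (M : Set G)) :
    ∃ P : Sylow p G, S ≤ Subgroup.normalizer ((P : Subgroup G) : Set G) := by
  obtain ⟨P, hP⟩ := hMp.exists_le_sylow
  refine ⟨P, ?_⟩
  obtain ⟨t, htM, ht1⟩ : ∃ t : G, t ∈ M ∧ t ≠ 1 := by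
    obtain ⟨t, ht⟩ := (Subgroup.ne_bot_iff_exists_ne_one).mp hM1
    exact ⟨t.1, t.2, fun h1 => ht (Subtype.ext h1)⟩
  intro s hs
  have key : s • P = P := by
    apply hTI (s • P) P t ht1 _ (hP htM)
    -- `t = s (s⁻¹ t s) s⁻¹` with `s⁻¹ t s ∈ M ≤ P`
    have hsn := hS hs
    have h1 : s⁻¹ * t * s ∈ M := (Subgroup.mem_normalizer_iff''.mp hsn t).mp htM
    show t ∈ ((s • P : Sylow p G) : Subgroup G)
    rw [Sylow.coe_subgroup_smul, Subgroup.mem_pointwise_smul_iff_inv_smul_mem]
    have e : (MulAut.conj s)⁻¹ • t = s⁻¹ * t * s := by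
      simp [MulAut.smul_def]
    rw [e]
    exact hP h1
  exact Sylow.smul_eq_iff_mem_normalizer.mp key

/-- two elements of order `p` of a cyclic subgroup generate the same subgroup -/
theorem zpowers_eq_of_cyclic {G : Type*} [Group G] [Finite G] (p : ℕ) (hp0 : 0 < p) (P : Subgroup G)
    (hP : IsCyclic P) (x y : G) (hxP : x ∈ P) (hyP : y ∈ P) (hx : orderOf x = p) (hy : orderOf y = p) :
    Subgroup.zpowers x = Subgroup.zpowers y := by
  have key : ∀ u v : G, u ∈ P → v ∈ P → orderOf u = p → orderOf v = p → v ∈ Subgroup.zpowers u := by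
    intro u v huP hvP hu hv
    have h1 : orderOf (⟨u, huP⟩ : P) = p := by rw [← hu]; exact Subgroup.orderOf_mk u huP
    have h2 : (⟨v, hvP⟩ : P) ^ p = 1 := by
      apply Subtype.ext
      rw [Subgroup.coe_pow, Subgroup.coe_one]
      show v ^ p = 1
      rw [← hv]; exact pow_orderOf_eq_one v
    have h3 := mem_zpowers_of_cyclic p hp0 (⟨u, huP⟩ : P) ⟨v, hvP⟩ h1 h2
    obtain ⟨i, hi⟩ := Subgroup.mem_zpowers_iff.mp h3
    refine Subgroup.mem_zpowers_iff.mpr ⟨i, ?_⟩
    have := congrArg Subtype.val hi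
    simpa using this
  apply le_antisymm
  · rw [Subgroup.zpowers_le]; exact key y x hyP hxP hy hx
  · rw [Subgroup.zpowers_le]; exact key x y hxP hyP hx hy

theorem orderOf_conj' {G : Type*} [Group G] (g x : G) : orderOf (g * x * g⁻¹) = orderOf x := by
  have : g * x * g⁻¹ = MulAut.conj g x := rfl
  rw [this]
  exact orderOf_injective (MulAut.conj g).toMonoidHom (MulAut.conj g).injective x

/-- **cyclic Sylow case**: a subgroup normalising a non-trivial `p`-subgroup normalises a conjugate of `A`, when the Sylow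
`p`-subgroups are cyclic, `p` divides the order of `A` and all non-trivial subgroups of `A` have the same normaliser -/
theorem le_normalizer_conj_of_cyclic {G : Type*} [Group G] [Finite G] (p : ℕ) [hp : Fact p.Prime]
    (hcyc : ∀ P : Sylow p G, IsCyclic (P : Subgroup G))
    (A : Subgroup G) (hpA : p ∣ Nat.card A)
    (hA : ∀ A₀ : Subgroup G, A₀ ≤ A → A₀ ≠ ⊥ →
      Subgroup.normalizer (A₀ : Set G) = Subgroup.normalizer (A : Set G))
    (S M : Subgroup G) (hM1 : M ≠ ⊥) (hMp : IsPGroup p M) (hS : S ≤ Subgroup.normalizer (M : Set G)) :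
    ∃ g : G, S ≤ Subgroup.normalizer ((A.map (MulAut.conj g).toMonoidHom : Subgroup G) : Set G) := by
  have hp0 : 0 < p := hp.1.pos
  -- an element of order `p` in `M`
  have hpM : p ∣ Nat.card M := by
    obtain ⟨n, hn⟩ := IsPGroup.iff_card.mp hMp
    rcases Nat.eq_zero_or_pos n with rfl | hn0
    · rw [pow_zero] at hn
      exact absurd (Subgroup.card_eq_one.mp hn) hM1
    · rw [hn]; exact dvd_pow_self p hn0.ne'
  obtain ⟨x', hx'⟩ := exists_prime_orderOf_dvd_card' p hpM
  obtain ⟨a', ha'⟩ := exists_prime_orderOf_dvd_card' p hpA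
  set x : G := x'.1 with hxdef
  set a : G := a'.1 with hadef
  have hxM : x ∈ M := x'.2
  have haA : a ∈ A := a'.2
  have hx : orderOf x = p := by rw [← hx']; exact (Subgroup.orderOf_coe x').symm ▸ rfl
  have ha : orderOf a = p := by rw [← ha']; exact (Subgroup.orderOf_coe a').symm ▸ rfl
  -- Sylow subgroups
  obtain ⟨P', hP'⟩ := hMp.exists_le_sylow
  have hap : IsPGroup p (Subgroup.zpowers a) := by
    apply IsPGroup.of_card (n := 1)
    rw [Nat.card_zpowers, ha, pow_one]
  obtain ⟨P, hP⟩ := hap.exists_le_sylow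
  obtain ⟨g, hg⟩ := MulAction.exists_smul_eq G P P'
  have hgaP' : g * a * g⁻¹ ∈ (P' : Subgroup G) := by
    rw [← hg]
    show g * a * g⁻¹ ∈ ((g • P : Sylow p G) : Subgroup G)
    rw [Sylow.coe_subgroup_smul, Subgroup.mem_pointwise_smul_iff_inv_smul_mem]
    have e : (MulAut.conj g)⁻¹ • (g * a * g⁻¹) = a := by
      simp [MulAut.smul_def, mul_assoc]
    rw [e]
    exact hP (Subgroup.mem_zpowers a)
  have hz : Subgroup.zpowers x = (Subgroup.zpowers a).map (MulAut.conj g).toMonoidHom := by
    rw [map_conj_zpowers]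
    exact zpowers_eq_of_cyclic p hp0 P' (hcyc P') x (g * a * g⁻¹) (hP' hxM) hgaP' hx
      (by rw [orderOf_conj', ha])
  -- `S` normalises `zpowers x`
  have hSx : S ≤ Subgroup.normalizer ((Subgroup.zpowers x : Subgroup G) : Set G) := by
    intro s hs
    apply mem_normalizer_of_map_eq
    rw [map_conj_zpowers]
    have hsx : s * x * s⁻¹ ∈ M := (Subgroup.mem_normalizer_iff.mp (hS hs) x).mp hxM
    exact (zpowers_eq_of_cyclic p hp0 P' (hcyc P') x (s * x * s⁻¹) (hP' hxM) (hP' hsx) hx
      (by rw [orderOf_conj', hx])).symm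
  refine ⟨g, ?_⟩
  have ha1 : Subgroup.zpowers a ≠ ⊥ := by
    intro h
    have h1 : a = 1 := Subgroup.zpowers_eq_bot.mp h
    rw [h1, orderOf_one] at ha
    exact hp.1.one_lt.ne ha
  have hle : Subgroup.zpowers a ≤ A := by rw [Subgroup.zpowers_le]; exact haA
  rw [normalizer_map_conj, ← hA _ hle ha1, ← normalizer_map_conj, ← hz]
  exact hSx

/-- a Sylow `2`-subgroup of a group of order `8 k`, `k` odd, has order `8` -/
theorem card_sylow_two {G : Type*} [Group G] [Finite G] (k : ℕ) (hN : Nat.card G = 8 * k) (hk : ¬ 2 ∣ k)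
    (P : Sylow 2 G) : Nat.card P = 8 := by
  have : Fact (Nat.Prime 2) := ⟨Nat.prime_two⟩
  obtain ⟨n, hn⟩ := IsPGroup.iff_card.mp P.2
  have hidx := P.not_dvd_index
  have hmul := (P : Subgroup G).index_mul_card
  rw [hN, hn] at hmul
  -- `index * 2 ^ n = 8 * k` with `index`, `k` odd
  have hn3 : n = 3 := by
    rcases Nat.lt_trichotomy n 3 with h | h | h
    · exfalso
      -- `2 ^ n ∣ 4`, so `2 ∣ index`
      have h2 : (2 : ℕ) ^ n ∣ 4 := by
        have : n ≤ 2 := by omega
        calc (2 : ℕ) ^ n ∣ 2 ^ 2 := pow_dvd_pow 2 this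
          _ = 4 := by norm_num
      obtain ⟨c, hc⟩ := h2
      have h3 : (P : Subgroup G).index * 2 ^ n = (2 * c * k) * 2 ^ n := by
        rw [hmul]
        have : 8 * k = 2 * (4 * k) := by ring
        rw [this, hc]; ring
      have h4 := Nat.eq_of_mul_eq_mul_right (by positivity) h3
      exact hidx ⟨c * k, by rw [h4]; ring⟩
    · exact h
    · exfalso
      have h2 : (2 : ℕ) ^ 4 ∣ 2 ^ n := pow_dvd_pow 2 (by omega)
      have h3 : (2 : ℕ) ^ 4 ∣ 8 * k := by rw [← hmul]; exact dvd_mul_of_dvd_right h2 _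
      have h4 : (2 : ℕ) ∣ k := by
        obtain ⟨c, hc⟩ := h3
        exact ⟨c, by omega⟩
      exact hk h4
  rw [hn, hn3]; norm_num

/-- **the case `F(S) = O₂(S)`** -/
theorem two_case {G : Type*} [Group G] [Finite G] (k : ℕ) (hN : Nat.card G = 8 * k) (hk : ¬ 2 ∣ k)
    (Good : Subgroup G → Prop)
    (hfour : ∀ V : Subgroup G, Nat.card V = 4 →
      ∃ A : Subgroup G, Good A ∧ Subgroup.normalizer (V : Set G) ≤ Subgroup.normalizer (A : Set G))
    (S T : Subgroup G) (hT1 : T ≠ ⊥) (hT2 : IsPGroup 2 T)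
    (hS : S ≤ Subgroup.normalizer (T : Set G)) (hC : S ⊓ Subgroup.centralizer (T : Set G) ≤ T) :
    ∃ A : Subgroup G, S ≤ Subgroup.normalizer (A : Set G) ∧ ((∃ P : Sylow 2 G, A = P) ∨ Good A) := by
  have : Fact (Nat.Prime 2) := ⟨Nat.prime_two⟩
  obtain ⟨P, hP⟩ := hT2.exists_le_sylow
  have hP8 := card_sylow_two k hN hk P
  obtain ⟨j, hj⟩ := IsPGroup.iff_card.mp hT2
  have hdvd : Nat.card T ∣ 8 := by
    rw [← hP8]
    exact Subgroup.card_dvd_of_le hP
  have hj3 : j ≤ 3 := by
    rw [hj] at hdvd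
    have : (2 : ℕ) ^ j ≤ 8 := Nat.le_of_dvd (by norm_num) hdvd
    by_contra h
    have h4 : 4 ≤ j := by omega
    have : (2 : ℕ) ^ 4 ≤ 2 ^ j := Nat.pow_le_pow_right (by norm_num) h4
    omega
  have hj0 : j ≠ 0 := by
    rintro rfl
    rw [pow_zero] at hj
    exact hT1 (Subgroup.card_eq_one.mp hj)
  have hcases : j = 1 ∨ j = 2 ∨ j = 3 := by omega
  rcases hcases with rfl | rfl | rfl
  · -- `|T| = 2`: `S = T`
    refine ⟨P, ?_, Or.inl ⟨P, rfl⟩⟩
    have hcent : S ≤ Subgroup.centralizer (T : Set G) := by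
      intro s hs
      rw [Subgroup.mem_centralizer_iff]
      intro t ht
      by_cases ht1 : t = 1
      · rw [ht1, one_mul, mul_one]
      · -- `s t s⁻¹ ∈ T` is not `1`, so it is `t`
        have hst : s * t * s⁻¹ ∈ T := (Subgroup.mem_normalizer_iff.mp (hS hs) t).mp ht
        have hst1 : s * t * s⁻¹ ≠ 1 := by
          intro h
          apply ht1
          calc t = s⁻¹ * (s * t * s⁻¹) * s := by group
            _ = 1 := by rw [h]; group
        have h2 : Nat.card T = 2 := by rw [hj]; norm_num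
        obtain ⟨u, v, huv, huniv⟩ := Nat.card_eq_two_iff.mp h2
        have hmem : ∀ w : T, w = u ∨ w = v := by
          intro w
          have : w ∈ ({u, v} : Set T) := by rw [huniv]; trivial
          simpa using this
        have key : (⟨s * t * s⁻¹, hst⟩ : T) = ⟨t, ht⟩ := by
          have h1T : (1 : T) = u ∨ (1 : T) = v := hmem 1
          have hne1 : (⟨s * t * s⁻¹, hst⟩ : T) ≠ 1 := fun h => hst1 (congrArg Subtype.val h)
          have hne2 : (⟨t, ht⟩ : T) ≠ 1 := fun h => ht1 (congrArg Subtype.val h)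
          rcases h1T with h1 | h1
          · rcases hmem ⟨s * t * s⁻¹, hst⟩ with h3 | h3
            · exact absurd (h3.trans h1.symm) hne1
            · rcases hmem ⟨t, ht⟩ with h4 | h4
              · exact absurd (h4.trans h1.symm) hne2
              · rw [h3, h4]
          · rcases hmem ⟨s * t * s⁻¹, hst⟩ with h3 | h3
            · rcases hmem ⟨t, ht⟩ with h4 | h4
              · rw [h3, h4]
              · exact absurd (h4.trans h1.symm) hne2
            · exact absurd (h3.trans h1.symm) hne1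
        have key' : s * t * s⁻¹ = t := congrArg Subtype.val key
        calc t * s = (s * t * s⁻¹) * s := by rw [key']
          _ = s * t := by group
    have hST : S ≤ T := fun s hs => hC ⟨hs, hcent hs⟩
    exact fun s hs => Subgroup.le_normalizer (hP (hST hs))
  · -- `|T| = 4`
    obtain ⟨A, hA, hle⟩ := hfour T (by rw [hj]; norm_num)
    exact ⟨A, hS.trans hle, Or.inr hA⟩
  · -- `|T| = 8`: `T` is a Sylow subgroup
    have hTP : T = (P : Subgroup G) := by
      apply Subgroup.eq_of_le_of_card_ge hP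
      rw [hP8, hj]; norm_num
    refine ⟨P, ?_, Or.inl ⟨P, rfl⟩⟩
    rw [← hTP]
    exact hS

end Cfsg.Agent.Lib.H17.ReeSolv
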