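import Cfsg.Agent.Lib.H17.ReeSolvA
import Cfsg.Agent.Lib.H1.Fitting
import Cfsg.Agent.Lib.H7.DihedralLemma2

/-!
# Solvable subgroups of a group with TI / cyclic Sylow subgroups: the abstract theorem (for S2361)
-/

set_option autoImplicit false

namespace Cfsg.Agent.Lib.H17.ReeSolv

/-- a non-trivial finite solvable group has `O_p ≠ 1` for an odd prime `p`, or `F = O₂ ≠ 1` is self-centralising -/
theorem fitting_cases (H : Type*) [Group H] [Finite H] [Group.IsSolvable H] [Nontrivial H] :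
    (∃ p : ℕ, p.Prime ∧ p ≠ 2 ∧ Cfsg.pCore p H ≠ ⊥) ∨
      (Cfsg.pCore 2 H ≠ ⊥ ∧ Subgroup.centralizer (Cfsg.pCore 2 H : Set H) ≤ Cfsg.pCore 2 H) := by
  by_cases h : ∃ p : ℕ, p.Prime ∧ p ≠ 2 ∧ Cfsg.pCore p H ≠ ⊥
  · exact Or.inl h
  · right
    have h : ∀ p : ℕ, p.Prime → p ≠ 2 → Cfsg.pCore p H = ⊥ := by
      intro p hp hp2
      by_contra hne
      exact h ⟨p, hp, hp2, hne⟩
    have hF : Cfsg.fittingSubgroup H = Cfsg.pCore 2 H := by
      rw [Cfsg.Agent.Lib.H1.fittingSubgroup_eq_iSup_pCore]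
      apply le_antisymm
      · apply iSup_le
        intro p
        by_cases hp2 : (p : ℕ) = 2
        · rw [hp2]
        · rw [h p p.2 hp2]; exact bot_le
      · exact le_iSup (fun q : Nat.Primes => Cfsg.pCore (q : ℕ) H) ⟨2, Nat.prime_two⟩
    have hC := Cfsg.Agent.Lib.H7.centralizer_fittingSubgroup_le_of_isSolvable H
    rw [hF] at hC
    refine ⟨?_, hC⟩
    intro hbot
    rw [hbot] at hC
    have htop : (⊤ : Subgroup H) ≤ ⊥ := by
      intro x _
      apply hC
      rw [Subgroup.mem_centralizer_iff]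
      intro y hy
      rw [Subgroup.coe_bot, Set.mem_singleton_iff] at hy
      rw [hy, one_mul, mul_one]
    obtain ⟨x, hx⟩ := exists_ne (1 : H)
    exact hx (Subgroup.mem_bot.mp (htop (Subgroup.mem_top x)))

/-- a subgroup normalises the image of each of its normal subgroups -/
theorem le_normalizer_map_subtype {G : Type*} [Group G] (S : Subgroup G) (N : Subgroup S) [hN : N.Normal] :
    S ≤ Subgroup.normalizer ((N.map S.subtype : Subgroup G) : Set G) := by
  have key : ∀ s : G, s ∈ S → ∀ x : G, x ∈ N.map S.subtype → s * x * s⁻¹ ∈ N.map S.subtype := by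
    rintro s hs _ ⟨n, hn, rfl⟩
    exact ⟨⟨s, hs⟩ * n * ⟨s, hs⟩⁻¹, hN.conj_mem n hn ⟨s, hs⟩, rfl⟩
  intro s hs
  rw [Subgroup.mem_normalizer_iff]
  intro x
  constructor
  · exact key s hs x
  · intro hx
    have h := key s⁻¹ (inv_mem hs) _ hx
    have e : s⁻¹ * (s * x * s⁻¹) * s⁻¹⁻¹ = x := by group
    rwa [e] at h

theorem map_subtype_ne_bot {G : Type*} [Group G] (S : Subgroup G) (N : Subgroup S) (hN : N ≠ ⊥) :
    N.map S.subtype ≠ ⊥ := by
  intro h
  apply hN
  rw [eq_bot_iff]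
  intro n hn
  have h1 : (n : G) ∈ N.map S.subtype := ⟨n, hn, rfl⟩
  rw [h, Subgroup.mem_bot] at h1
  rw [Subgroup.mem_bot]
  exact Subtype.ext h1

/-- **the abstract theorem**: solvable subgroups of a finite group with elementary abelian Sylow `2`-subgroups of order `8`,
TI Sylow `3`-subgroups, cyclic Sylow `p`-subgroups for `p > 3`, and "tori" -/
theorem solvable_le_normalizer {G : Type*} [Group G] [Finite G] (k : ℕ) (hN : Nat.card G = 8 * k) (hk : ¬ 2 ∣ k)
    (Good : Subgroup G → Prop)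
    (hGood : ∀ (A : Subgroup G) (g : G), Good A → Good (A.map (MulAut.conj g).toMonoidHom))
    (hTI : ∀ P Q : Sylow 3 G, ∀ t : G, t ≠ 1 → t ∈ P → t ∈ Q → P = Q)
    (hcyc : ∀ (p : ℕ) [Fact p.Prime], 3 < p → ∀ P : Sylow p G, IsCyclic (P : Subgroup G))
    (htori : ∀ p : ℕ, p.Prime → 3 < p → p ∣ Nat.card G → ∃ A : Subgroup G, Good A ∧ p ∣ Nat.card A ∧
      ∀ A₀ : Subgroup G, A₀ ≤ A → A₀ ≠ ⊥ →
        Subgroup.normalizer (A₀ : Set G) = Subgroup.normalizer (A : Set G))
    (hfour : ∀ V : Subgroup G, Nat.card V = 4 →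
      ∃ A : Subgroup G, Good A ∧ Subgroup.normalizer (V : Set G) ≤ Subgroup.normalizer (A : Set G))
    (S : Subgroup G) (hS : Group.IsSolvable S) :
    ∃ A : Subgroup G, S ≤ Subgroup.normalizer (A : Set G) ∧
      ((∃ P : Sylow 2 G, A = P) ∨ (∃ P : Sylow 3 G, A = P) ∨ Good A) := by
  have : Fact (Nat.Prime 2) := ⟨Nat.prime_two⟩
  have : Fact (Nat.Prime 3) := ⟨Nat.prime_three⟩
  by_cases hS1 : S = ⊥
  · obtain ⟨P⟩ : Nonempty (Sylow 2 G) := inferInstance
    exact ⟨P, by rw [hS1]; exact bot_le, Or.inl ⟨P, rfl⟩⟩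
  have hnt : Nontrivial S := (Subgroup.nontrivial_iff_ne_bot S).mpr hS1
  rcases fitting_cases S with ⟨p, hp, hp2, hne⟩ | ⟨hne, hC⟩
  · -- `O_p(S) ≠ 1`, `p` odd
    have : Fact p.Prime := ⟨hp⟩
    have : (Cfsg.pCore p S).Normal := Cfsg.Agent.Lib.H1.pCore_normal p S
    set M : Subgroup G := (Cfsg.pCore p S).map S.subtype with hM
    have hM1 : M ≠ ⊥ := map_subtype_ne_bot S _ hne
    have hMp : IsPGroup p M := (Cfsg.Agent.Lib.H1.pCore_isPGroup p S).map S.subtype
    have hSM : S ≤ Subgroup.normalizer (M : Set G) := le_normalizer_map_subtype S _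
    by_cases hp3 : p = 3
    · subst hp3
      obtain ⟨P, hP⟩ := le_normalizer_sylow_of_TI 3 hTI S M hM1 hMp hSM
      exact ⟨P, hP, Or.inr (Or.inl ⟨P, rfl⟩)⟩
    · have hp5 : 3 < p := by
        have h2 := hp.two_le
        rcases Nat.lt_or_ge 3 p with h | h
        · exact h
        · exfalso
          interval_cases p
          · exact hp2 rfl
          · exact hp3 rfl
      have hpG : p ∣ Nat.card G := by
        obtain ⟨n, hn⟩ := IsPGroup.iff_card.mp hMp
        rcases Nat.eq_zero_or_pos n with rfl | hn0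
        · rw [pow_zero] at hn
          exact absurd (Subgroup.card_eq_one.mp hn) hM1
        · exact (dvd_pow_self p hn0.ne').trans (hn ▸ Subgroup.card_subgroup_dvd_card M)
      obtain ⟨A, hAg, hpA, hA⟩ := htori p hp hp5 hpG
      obtain ⟨g, hg⟩ := le_normalizer_conj_of_cyclic p (hcyc p hp5) A hpA hA S M hM1 hMp hSM
      exact ⟨_, hg, Or.inr (Or.inr (hGood A g hAg))⟩
  · -- `F(S) = O₂(S)`
    have : (Cfsg.pCore 2 S).Normal := Cfsg.Agent.Lib.H1.pCore_normal 2 S
    set T : Subgroup G := (Cfsg.pCore 2 S).map S.subtype with hT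
    have hT1 : T ≠ ⊥ := map_subtype_ne_bot S _ hne
    have hT2 : IsPGroup 2 T := (Cfsg.Agent.Lib.H1.pCore_isPGroup 2 S).map S.subtype
    have hST : S ≤ Subgroup.normalizer (T : Set G) := le_normalizer_map_subtype S _
    have hCT : S ⊓ Subgroup.centralizer (T : Set G) ≤ T := by
      rintro x ⟨hxS, hxC⟩
      refine ⟨⟨x, hxS⟩, ?_, rfl⟩
      apply hC
      rw [Subgroup.mem_centralizer_iff]
      intro y hy
      apply Subtype.ext
      exact Subgroup.mem_centralizer_iff.mp hxC y ⟨y, hy, rfl⟩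
    obtain ⟨A, hA, hA'⟩ := two_case k hN hk Good hfour S T hT1 hT2 hST hCT
    rcases hA' with h | h
    · exact ⟨A, hA, Or.inl h⟩
    · exact ⟨A, hA, Or.inr (Or.inr h)⟩

end Cfsg.Agent.Lib.H17.ReeSolv
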