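import Cfsg.Agent.Lib.H17.ReeSolvB
import Cfsg.Agent.Lib.H17.ReeF5
import Cfsg.Agent.Lib.H7.ReeD3b

/-!
# Solvable subgroups of the Ree groups: the Ree-specific inputs (for S2361), in the abstract Ree system
-/

set_option autoImplicit false

namespace Cfsg.Agent.Lib.H17.ReeSolv

open Cfsg.Agent.Lib.H12.ReeC Cfsg.Agent.Lib.H12.ReeC.RSys

variable {G K : Type*} [Group G] [Field K] {R : RSys G K} [Fintype K] [Finite G]

/-- `3` does not divide `(q - 1)(q³ + 1)` -/
theorem not_three_dvd_index {q : ℕ} (D : R.ReeData q) : ¬ 3 ∣ (q - 1) * (q ^ 3 + 1) := by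
  have hq3 := D.three_le
  obtain ⟨j, hj⟩ := D.h3q
  intro hd
  rcases (Nat.Prime.dvd_mul Nat.prime_three).mp hd with h | h
  · omega
  · have e : q ^ 3 = 3 * (9 * j ^ 3) := by rw [hj]; ring
    rw [e] at h
    omega

/-- `U` is a Sylow `3`-subgroup -/
theorem exists_sylow_eq_U {q : ℕ} (D : R.ReeData q) : ∃ P : Sylow 3 G, (P : Subgroup G) = R.U := by
  have : Fact (Nat.Prime 3) := ⟨Nat.prime_three⟩
  have hq3 := D.three_le
  -- `q` is a power of three
  obtain ⟨n, hn⟩ : ∃ n : ℕ, q = 3 ^ n := by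
    obtain ⟨p, hp⟩ := CharP.exists K
    have := hp
    obtain ⟨n, hpr, hn⟩ := FiniteField.card K p
    rw [D.hq] at hn
    have h3 : 3 ∣ p ^ (n : ℕ) := by rw [← hn]; exact D.h3q
    have h3p : 3 = p :=
      (Nat.prime_dvd_prime_iff_eq Nat.prime_three hpr).mp (Nat.prime_three.dvd_of_dvd_pow h3)
    subst h3p
    exact ⟨n, hn⟩
  have hU : IsPGroup 3 R.U := by
    apply IsPGroup.of_card (n := n * 3)
    rw [R.card_U, D.hq, hn, pow_mul]
  obtain ⟨P, hP⟩ := hU.exists_le_sylow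
  refine ⟨P, ?_⟩
  symm
  apply Subgroup.eq_of_le_of_card_ge hP
  obtain ⟨j, hj⟩ := IsPGroup.iff_card.mp P.2
  have hdvd : Nat.card P ∣ Nat.card G := Subgroup.card_subgroup_dvd_card _
  rw [D.hcard, hj, mul_assoc] at hdvd
  have hcop : Nat.Coprime (3 ^ j) ((q - 1) * (q ^ 3 + 1)) :=
    Nat.Coprime.pow_left j ((Nat.Prime.coprime_iff_not_dvd Nat.prime_three).mpr (not_three_dvd_index D))
  have h1 : 3 ^ j ∣ q ^ 3 := hcop.dvd_of_dvd_mul_right hdvd
  rw [R.card_U, D.hq, hj]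
  exact Nat.le_of_dvd (by positivity) h1

/-- the Sylow `3`-subgroups are TI -/
theorem sylow_three_TI {q : ℕ} (D : R.ReeData q) :
    ∀ P Q : Sylow 3 G, ∀ t : G, t ≠ 1 → t ∈ P → t ∈ Q → P = Q := by
  have : Fact (Nat.Prime 3) := ⟨Nat.prime_three⟩
  have hq1 : 1 < Fintype.card K := by rw [D.hq]; have := D.three_le; omega
  obtain ⟨P₀, hP₀⟩ := exists_sylow_eq_U D
  intro P Q t ht1 htP htQ
  obtain ⟨g, hg⟩ := MulAction.exists_smul_eq G P₀ P
  obtain ⟨h, hh⟩ := MulAction.exists_smul_eq G P₀ Q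
  have mem_smul : ∀ (c : G) (x : G), x ∈ ((c • P₀ : Sylow 3 G) : Subgroup G) → c⁻¹ * x * c ∈ R.U := by
    intro c x hx
    rw [Sylow.coe_subgroup_smul, Subgroup.mem_pointwise_smul_iff_inv_smul_mem] at hx
    have e : (MulAut.conj c)⁻¹ • x = c⁻¹ * x * c := by simp [MulAut.smul_def]
    rw [e, hP₀] at hx
    exact hx
  have h1 : g⁻¹ * t * g ∈ R.U := mem_smul g t (by rw [hg]; exact htP)
  have h2 : h⁻¹ * t * h ∈ R.U := mem_smul h t (by rw [hh]; exact htQ)
  have h11 : g⁻¹ * t * g ≠ 1 := by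
    intro h0
    apply ht1
    calc t = g * (g⁻¹ * t * g) * g⁻¹ := by group
      _ = 1 := by rw [h0]; group
  have h3 : (h⁻¹ * g) * (g⁻¹ * t * g) * (h⁻¹ * g)⁻¹ ∈ R.U := by
    have e : (h⁻¹ * g) * (g⁻¹ * t * g) * (h⁻¹ * g)⁻¹ = h⁻¹ * t * h := by group
    rw [e]; exact h2
  have hB : h⁻¹ * g ∈ R.B := R.mem_B_of_conj_mem_U _ _ h1 h11 h3
  have hN : h⁻¹ * g ∈ Subgroup.normalizer ((P₀ : Subgroup G) : Set G) := by
    rw [hP₀]; exact Cfsg.Agent.Lib.H17.Ree.B_le_normalizer_U hB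
  have h4 : (h⁻¹ * g) • P₀ = P₀ := Sylow.smul_eq_iff_mem_normalizer.mpr hN
  rw [← hg, ← hh]
  calc g • P₀ = h • ((h⁻¹ * g) • P₀) := by rw [smul_smul]; congr 1; group
    _ = h • P₀ := by rw [h4]

/-- **four-groups**: the normaliser of a four-group normalises a cyclic subgroup of order `(q+1)/4` -/
theorem four_group_normalizer {q : ℕ} (D : R.ReeData q) (hq27 : 27 ≤ q) (V : Subgroup G)
    (hV : Nat.card V = 4) :
    ∃ A : Subgroup G, (IsCyclic A ∧ Nat.card A = (q + 1) / 4) ∧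
      Subgroup.normalizer (V : Set G) ≤ Subgroup.normalizer (A : Set G) := by
  obtain ⟨k, hN, hk⟩ := D.two_part
  have hV2 : ∀ v ∈ V, v * v = 1 :=
    R.two_group_sq D.hq8' k hN hk V (IsPGroup.of_card (n := 2) (by rw [hV]; norm_num))
  have hC := Cfsg.Agent.Lib.H7.Ree.card_centralizer_four R D.hq8' k hN hk D.hZ V hV hV2
  rw [D.hq] at hC
  have he4 := D.e4
  have hodd := D.odd_e
  set e := (q + 1) / 4 with he
  have he7 : 7 ≤ e := by omega
  -- a prime divisor of `e` and an element of that order in `C(V)`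
  have hr : e.minFac.Prime := Nat.minFac_prime (by omega)
  have hre : e.minFac ∣ e := Nat.minFac_dvd e
  have : Fact e.minFac.Prime := ⟨hr⟩
  have hdvd : e.minFac ∣ Nat.card (Subgroup.centralizer (V : Set G)) := by
    rw [hC, he4]
    exact dvd_mul_of_dvd_right (dvd_mul_of_dvd_right hre 4) 2
  obtain ⟨y', hy'⟩ := exists_prime_orderOf_dvd_card' e.minFac hdvd
  set y : G := y'.1 with hydef
  have hyV : y ∈ Subgroup.centralizer (V : Set G) := y'.2
  have hyo : orderOf y = e.minFac := by rw [← hy']; exact (Subgroup.orderOf_coe y').symm ▸ rfl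
  have hy1 : y ≠ 1 := by
    intro h
    rw [h, orderOf_one] at hyo
    exact hr.one_lt.ne hyo
  have hye : y ^ e = 1 := by
    obtain ⟨c, hc⟩ := hre
    rw [hc, pow_mul, ← hyo, pow_orderOf_eq_one, one_pow]
  obtain ⟨hcy, hcomm⟩ := D.tor_centralizer y hy1 hye
  obtain ⟨A₀, hcyc, hcard, hle, hmem⟩ := D.tor_cyclic y hy1 hye
  -- `V ≤ C(y) ≤ C(V)`
  have hVy : ∀ v ∈ V, v ∈ Subgroup.centralizer ({y} : Set G) := by
    intro v hv
    rw [Subgroup.mem_centralizer_singleton_iff]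
    exact (Subgroup.mem_centralizer_iff.mp hyV v hv)
  have hyCV : Subgroup.centralizer ({y} : Set G) ≤ Subgroup.centralizer (V : Set G) := by
    intro u hu
    rw [Subgroup.mem_centralizer_iff]
    intro v hv
    exact hcomm v (hVy v hv) u hu
  -- `C(y)` has index two in `C(V)`
  have hsq : ∀ u ∈ Subgroup.centralizer (V : Set G), u * u ∈ Subgroup.centralizer ({y} : Set G) := by
    intro u hu
    have hc1 : Nat.card ((Subgroup.centralizer ({y} : Set G)).subgroupOf (Subgroup.centralizer (V : Set G))) =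
        q + 1 := by
      rw [Nat.card_congr (Subgroup.subgroupOfEquivOfLe hyCV).toEquiv, hcy]
    have hidx : ((Subgroup.centralizer ({y} : Set G)).subgroupOf (Subgroup.centralizer (V : Set G))).index = 2 := by
      have h := ((Subgroup.centralizer ({y} : Set G)).subgroupOf
        (Subgroup.centralizer (V : Set G))).card_mul_index
      rw [hc1, hC] at h
      have hpos : 0 < q + 1 := by omega
      exact Nat.eq_of_mul_eq_mul_left hpos (by rw [h]; ring)
    have h := Subgroup.mul_self_mem_of_index_two hidx (⟨u, hu⟩ : Subgroup.centralizer (V : Set G))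
    exact Subgroup.mem_subgroupOf.mp h
  -- the characterisation of `A₀`
  have hpowA : ∀ u ∈ A₀, u ^ e = 1 := by
    intro u hu
    have h : (⟨u, hu⟩ : A₀) ^ e = 1 := by rw [he, ← hcard]; exact pow_card_eq_one'
    have := congrArg Subtype.val h
    simpa using this
  have hchar : ∀ u : G, u ∈ A₀ ↔ (u ∈ Subgroup.centralizer (V : Set G) ∧ u ^ e = 1) := by
    intro u
    constructor
    · intro hu
      exact ⟨hyCV (hle hu), hpowA u hu⟩
    · rintro ⟨huV, hue⟩
      apply hmem u _ hue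
      -- `u = (u * u) ^ ((e + 1) / 2) * (u ^ e)⁻¹`
      obtain ⟨c, hc⟩ := hodd
      have h1 : (u * u) ^ (c + 1) ∈ Subgroup.centralizer ({y} : Set G) := pow_mem (hsq u huV) _
      have h2 : (u * u) ^ (c + 1) = u := by
        rw [← pow_two, ← pow_mul]
        have : 2 * (c + 1) = e + 1 := by omega
        rw [this, pow_succ, hue, one_mul]
      rwa [h2] at h1
  refine ⟨A₀, ⟨hcyc, hcard⟩, ?_⟩
  -- conjugation by an element of `N(V)` preserves `C(V)` and the equation `u ^ e = 1`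
  have key : ∀ g : G, g ∈ Subgroup.normalizer (V : Set G) → ∀ u ∈ A₀, g * u * g⁻¹ ∈ A₀ := by
    intro g hg u hu
    obtain ⟨huV, hue⟩ := (hchar u).mp hu
    rw [hchar]
    refine ⟨?_, ?_⟩
    · rw [Subgroup.mem_centralizer_iff]
      intro v hv
      have hv' : g⁻¹ * v * g ∈ V := (Subgroup.mem_normalizer_iff''.mp hg v).mp hv
      have hcm := Subgroup.mem_centralizer_iff.mp huV _ hv'
      calc v * (g * u * g⁻¹) = g * ((g⁻¹ * v * g) * u) * g⁻¹ := by group
        _ = g * (u * (g⁻¹ * v * g)) * g⁻¹ := by rw [hcm]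
        _ = g * u * g⁻¹ * v := by group
    · rw [conj_pow, hue, mul_one, mul_inv_cancel]
  intro g hg
  rw [Subgroup.mem_normalizer_iff]
  intro u
  constructor
  · exact key g hg u
  · intro hu
    have h := key g⁻¹ (inv_mem hg) _ hu
    have e1 : g⁻¹ * (g * u * g⁻¹) * g⁻¹⁻¹ = u := by group
    rwa [e1] at h

end Cfsg.Agent.Lib.H17.ReeSolv
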