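import Cfsg.Agent.Lib.H17.ReeSolvC
import Cfsg.Agent.Lib.H12.ReeT8
import Cfsg.Agent.Lib.H12.ReeR1
import Cfsg.Agent.Lib.H12.ReeU5

/-!
# Solvable subgroups of the Ree groups `²G₂(q)`: assembly (for S2361), with the tori of S1158 as a hypothesis
-/

set_option autoImplicit false

namespace Cfsg.Agent.Lib.H17.ReeSolv

/-- a prime `p > 3` dividing the order of `²G₂(q)` divides the order of one of the four tori -/
theorem prime_dvd_torus (q r p : ℕ) (hq8 : q % 8 = 3) (hr : r * r = 3 * q) (hrq : r ≤ q)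
    (hp : p.Prime) (hp3 : 3 < p) (hpq : ¬ p ∣ q) (hdvd : p ∣ q ^ 3 * (q - 1) * (q ^ 3 + 1)) :
    p ∣ (q - 1) / 2 ∨ p ∣ (q + 1) / 4 ∨ p ∣ q - r + 1 ∨ p ∣ q + r + 1 := by
  obtain ⟨a, ha⟩ : ∃ a, a + r = q + 1 := ⟨q + 1 - r, by omega⟩
  have ha' : q - r + 1 = a := by omega
  have hfac : q ^ 3 + 1 = (q + 1) * (a * (q + r + 1)) := by
    have h1 : a * (q + r + 1) + 3 * q = (q + 1) * (q + 1) := by
      have : q + r + 1 = a + 2 * r := by omega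
      rw [this, ← hr]
      have h2 : (q + 1) * (q + 1) = (a + r) * (a + r) := by rw [ha]
      rw [h2]; ring
    have h2 : a * (q + r + 1) + q = q * q + 1 := by nlinarith
    have h3 : (q + 1) * (a * (q + r + 1)) + (q + 1) * q = (q + 1) * (q * q + 1) := by
      rw [← mul_add, h2]
    nlinarith
  have h2 : q - 1 = 2 * ((q - 1) / 2) := by omega
  have h4 : q + 1 = 4 * ((q + 1) / 4) := by omega
  have hp2 : ¬ p ∣ 2 := fun h => by
    have := Nat.le_of_dvd (by norm_num) h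
    omega
  have hp4 : ¬ p ∣ 4 := fun h => by
    have := Nat.le_of_dvd (by norm_num) h
    have h4 : p = 4 := by omega
    rw [h4] at hp
    exact absurd hp (by norm_num)
  rcases (Nat.Prime.dvd_mul hp).mp hdvd with h | h
  · rcases (Nat.Prime.dvd_mul hp).mp h with h | h
    · exact absurd (hp.dvd_of_dvd_pow h) hpq
    · rw [h2] at h
      rcases (Nat.Prime.dvd_mul hp).mp h with h | h
      · exact absurd h hp2
      · exact Or.inl h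
  · rw [hfac] at h
    rcases (Nat.Prime.dvd_mul hp).mp h with h | h
    · rw [h4] at h
      rcases (Nat.Prime.dvd_mul hp).mp h with h | h
      · exact absurd h hp4
      · exact Or.inr (Or.inl h)
    · rcases (Nat.Prime.dvd_mul hp).mp h with h | h
      · exact Or.inr (Or.inr (Or.inl (ha' ▸ h)))
      · exact Or.inr (Or.inr (Or.inr h))

open Cfsg.Agent.Lib.H12.ReeC Cfsg.Agent.Lib.H12.ReeC.RSys

/-- **solvable subgroups of the Ree groups**, from the tori of S1158 -/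
theorem ree_solvable {K : Type*} [Field K] [Fintype K] {m : ℕ} (hm : 1 ≤ m)
    (hK : Fintype.card K = 3 ^ (2 * m + 1))
    (h1158 : ∀ kn ∈ ({((3 ^ (2 * m + 1) - 1) / 2, 2 * (3 ^ (2 * m + 1) - 1)),
        ((3 ^ (2 * m + 1) + 1) / 4, 6 * (3 ^ (2 * m + 1) + 1)),
        (3 ^ (2 * m + 1) - 3 ^ (m + 1) + 1, 6 * (3 ^ (2 * m + 1) - 3 ^ (m + 1) + 1)),
        (3 ^ (2 * m + 1) + 3 ^ (m + 1) + 1, 6 * (3 ^ (2 * m + 1) + 3 ^ (m + 1) + 1))} : Set (ℕ × ℕ)),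
      ∃ A : Subgroup ↥(Cfsg.Lie.twistedG2 K (3 ^ m)), IsCyclic A ∧ Nat.card A = kn.1 ∧
        Nat.card (Subgroup.normalizer (A : Set ↥(Cfsg.Lie.twistedG2 K (3 ^ m)))) = kn.2 ∧
        ∀ A₀ : Subgroup ↥(Cfsg.Lie.twistedG2 K (3 ^ m)), A₀ ≤ A → A₀ ≠ ⊥ →
          Subgroup.normalizer (A₀ : Set ↥(Cfsg.Lie.twistedG2 K (3 ^ m))) =
            Subgroup.normalizer (A : Set ↥(Cfsg.Lie.twistedG2 K (3 ^ m))))
    (S : Subgroup ↥(Cfsg.Lie.twistedG2 K (3 ^ m))) (hS : Group.IsSolvable S) :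
    ∃ A : Subgroup ↥(Cfsg.Lie.twistedG2 K (3 ^ m)),
      S ≤ Subgroup.normalizer (A : Set ↥(Cfsg.Lie.twistedG2 K (3 ^ m))) ∧
      ((∃ P : Sylow 2 ↥(Cfsg.Lie.twistedG2 K (3 ^ m)), A = P) ∨
       (∃ P : Sylow 3 ↥(Cfsg.Lie.twistedG2 K (3 ^ m)), A = P) ∨
       (IsCyclic A ∧ (Nat.card A = (3 ^ (2 * m + 1) - 1) / 2 ∨ Nat.card A = (3 ^ (2 * m + 1) + 1) / 4 ∨
          Nat.card A = 3 ^ (2 * m + 1) - 3 ^ (m + 1) + 1 ∨
          Nat.card A = 3 ^ (2 * m + 1) + 3 ^ (m + 1) + 1))) := by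
  have : CharP K 3 := Cfsg.Agent.Lib.H29.Chev.charP_of_card_pow 3 (2 * m + 1) (by norm_num) hK
  obtain ⟨ρ, hρ⟩ := Cfsg.Agent.Lib.H12.ReeR.exists_faithful7 m hm hK
  have D := reeRSys_data hm hK
  have hF := reeRSys_torusFacts m hK
  obtain ⟨k, hN, hk⟩ := D.two_part
  have hq27 : 27 ≤ 3 ^ (2 * m + 1) := by
    calc 27 = 3 ^ 3 := by norm_num
      _ ≤ 3 ^ (2 * m + 1) := Nat.pow_le_pow_right (by norm_num) (by omega)
  have hr : 3 ^ (m + 1) * 3 ^ (m + 1) = 3 * 3 ^ (2 * m + 1) := by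
    rw [← pow_add, ← pow_succ']
    congr 1
    omega
  have hrq : 3 ^ (m + 1) ≤ 3 ^ (2 * m + 1) := Nat.pow_le_pow_right (by norm_num) (by omega)
  apply solvable_le_normalizer k hN hk
    (fun A => IsCyclic A ∧ (Nat.card A = (3 ^ (2 * m + 1) - 1) / 2 ∨ Nat.card A = (3 ^ (2 * m + 1) + 1) / 4 ∨
      Nat.card A = 3 ^ (2 * m + 1) - 3 ^ (m + 1) + 1 ∨ Nat.card A = 3 ^ (2 * m + 1) + 3 ^ (m + 1) + 1))
    ?_ (sylow_three_TI D) (fun p _ hp P => D.sylow_cyclic hF ρ hρ p hp P) ?_ ?_ S hS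
  · -- conjugation
    rintro A g ⟨hcyc, hcard⟩
    refine ⟨isCyclic_of_surjective _ (MonoidHom.subgroupMap_surjective _ _), ?_⟩
    rw [Subgroup.card_map_of_injective (MulAut.conj g).injective]
    exact hcard
  · -- tori
    intro p hp hp3 hpG
    rw [D.hcard] at hpG
    have hpq : ¬ p ∣ 3 ^ (2 * m + 1) := by
      intro h
      have h3 := (Nat.prime_dvd_prime_iff_eq hp Nat.prime_three).mp (hp.dvd_of_dvd_pow h)
      omega
    rcases prime_dvd_torus _ _ p D.hq8 hr hrq hp hp3 hpq hpG with h | h | h | h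
    · obtain ⟨A, hcyc, hcard, -, hA⟩ := h1158 ((3 ^ (2 * m + 1) - 1) / 2, 2 * (3 ^ (2 * m + 1) - 1))
        (by simp)
      exact ⟨A, ⟨hcyc, Or.inl hcard⟩, by rw [hcard]; exact h, hA⟩
    · obtain ⟨A, hcyc, hcard, -, hA⟩ := h1158 ((3 ^ (2 * m + 1) + 1) / 4, 6 * (3 ^ (2 * m + 1) + 1))
        (by simp)
      exact ⟨A, ⟨hcyc, Or.inr (Or.inl hcard)⟩, by rw [hcard]; exact h, hA⟩
    · obtain ⟨A, hcyc, hcard, -, hA⟩ := h1158
        (3 ^ (2 * m + 1) - 3 ^ (m + 1) + 1, 6 * (3 ^ (2 * m + 1) - 3 ^ (m + 1) + 1)) (by simp)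
      exact ⟨A, ⟨hcyc, Or.inr (Or.inr (Or.inl hcard))⟩, by rw [hcard]; exact h, hA⟩
    · obtain ⟨A, hcyc, hcard, -, hA⟩ := h1158
        (3 ^ (2 * m + 1) + 3 ^ (m + 1) + 1, 6 * (3 ^ (2 * m + 1) + 3 ^ (m + 1) + 1)) (by simp)
      exact ⟨A, ⟨hcyc, Or.inr (Or.inr (Or.inr hcard))⟩, by rw [hcard]; exact h, hA⟩
  · -- four-groups
    intro V hV
    obtain ⟨A, ⟨hcyc, hcard⟩, hle⟩ := four_group_normalizer D hq27 V hV
    exact ⟨A, ⟨hcyc, Or.inr (Or.inl hcard)⟩, hle⟩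

end Cfsg.Agent.Lib.H17.ReeSolv
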