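import Cfsg.Agent.Lib.H9.S3571Defs

/-!
helper17: S3571 GR block, pieces (C1a1) and (C1a2).
-/

set_option autoImplicit false

namespace Cfsg.Agent.Lib.H17.S3571C1a

open Cfsg.Agent.Lib.H9.S3571 Equiv

/-- (C1a1) an intransitive group leaves a nonempty set of size `≤ m/2` invariant. -/
theorem c1a1 : C1a1Stmt := by
  intro m H hnt
  classical
  -- two points in different orbits
  have hex : ∃ x y : Fin m, ∀ h : ↥H, h • x ≠ y := by
    by_contra hcon
    push Not at hcon
    exact hnt ⟨fun x y => hcon x y⟩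
  obtain ⟨x, y, hxy⟩ := hex
  -- the orbit of x as a Finset
  let O : Finset (Fin m) := Finset.univ.filter (fun z => ∃ h : ↥H, h • x = z)
  have hxO : x ∈ O := by
    simp only [O, Finset.mem_filter, Finset.mem_univ, true_and]
    exact ⟨1, one_smul _ _⟩
  have hyO : y ∉ O := by
    simp only [O, Finset.mem_filter, Finset.mem_univ, true_and, not_exists]
    exact hxy
  have hOinv : ∀ h ∈ H, O.image h = O := by
    intro h hh
    ext z
    simp only [Finset.mem_image, O, Finset.mem_filter, Finset.mem_univ, true_and]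
    constructor
    · rintro ⟨w, ⟨k, rfl⟩, rfl⟩
      exact ⟨⟨h, hh⟩ * k, by rw [mul_smul]; rfl⟩
    · rintro ⟨k, rfl⟩
      refine ⟨h⁻¹ (k • x), ⟨⟨h, hh⟩⁻¹ * k, by rw [mul_smul]; rfl⟩, by simp⟩
  have hmem : ∀ h ∈ H, ∀ z, h z ∈ O ↔ z ∈ O := by
    intro h hh z
    constructor
    · intro hz
      have h1 : h⁻¹ (h z) ∈ O.image (h⁻¹ : Perm (Fin m)) := Finset.mem_image_of_mem _ hz
      rw [hOinv _ (H.inv_mem hh)] at h1
      simpa using h1
    · intro hz
      have h1 : h z ∈ O.image h := Finset.mem_image_of_mem _ hz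
      rw [hOinv _ hh] at h1
      exact h1
  have hOcinv : ∀ h ∈ H, (Oᶜ).image h = Oᶜ := by
    intro h hh
    ext z
    simp only [Finset.mem_image, Finset.mem_compl]
    constructor
    · rintro ⟨w, hw, rfl⟩
      exact fun hz => hw ((hmem h hh w).1 hz)
    · intro hz
      refine ⟨h⁻¹ z, ?_, by simp⟩
      intro hw
      apply hz
      have := (hmem h hh (h⁻¹ z)).2 hw
      simpa using this
  by_cases hcard : 2 * O.card ≤ m
  · exact ⟨O, Finset.card_pos.2 ⟨x, hxO⟩, hcard, hOinv⟩
  · refine ⟨Oᶜ, Finset.card_pos.2 ⟨y, Finset.mem_compl.2 hyO⟩, ?_, hOcinv⟩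
    rw [Finset.card_compl, Fintype.card_fin]
    omega

/-- (C1a2) by maximality `H` is the full stabiliser of `Δ` in `Γ`. -/
theorem c1a2 : C1a2Stmt := by
  intro m Γ H n r hP Δ hΔ1 hΔm hinv g hgΓ hgΔ
  classical
  let L : Subgroup (Perm (Fin m)) :=
    { carrier := {g | g ∈ Γ ∧ Δ.image g = Δ}
      mul_mem' := by
        rintro a b ⟨ha, ha'⟩ ⟨hb, hb'⟩
        refine ⟨Γ.mul_mem ha hb, ?_⟩
        rw [show (⇑(a * b) : Fin m → Fin m) = a ∘ b from rfl, ← Finset.image_image, hb', ha']
      one_mem' := ⟨Γ.one_mem, by simp⟩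
      inv_mem' := by
        rintro a ⟨ha, ha'⟩
        refine ⟨Γ.inv_mem ha, ?_⟩
        nth_rewrite 1 [← ha']
        rw [Finset.image_image]
        simp }
  have hHL : H ≤ L := fun h hh => ⟨hP.hHΓ hh, hinv h hh⟩
  have hLΓ : L ≤ Γ := fun g hg => hg.1
  rcases hP.hmax L hHL hLΓ with h | h
  · have : g ∈ L := ⟨hgΓ, hgΔ⟩
    rw [h] at this; exact this
  · exfalso
    obtain ⟨a, ha⟩ : ∃ a, a ∈ Δ := Finset.card_pos.1 hΔ1
    obtain ⟨c, hc⟩ : ∃ c, c ∉ Δ := by
      by_contra hcon
      push Not at hcon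
      have : Δ = Finset.univ := Finset.eq_univ_iff_forall.2 hcon
      rw [this, Finset.card_univ, Fintype.card_fin] at hΔm
      omega
    have hac : a ≠ c := by rintro rfl; exact hc ha
    obtain ⟨d, hda, hdc⟩ : ∃ d : Fin m, d ≠ a ∧ d ≠ c := by
      have h1 : 1 ≤ (({a, c} : Finset (Fin m))ᶜ).card := by
        rw [Finset.card_compl, Fintype.card_fin]
        have h2 : ({a, c} : Finset (Fin m)).card ≤ 2 := Finset.card_le_two
        have := hP.hm
        omega
      obtain ⟨d, hd⟩ := Finset.card_pos.1 h1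
      simp only [Finset.mem_compl, Finset.mem_insert, Finset.mem_singleton, not_or] at hd
      exact ⟨d, hd.1, hd.2⟩
    have h3 : (swap c a * swap c d).IsThreeCycle :=
      Equiv.Perm.isThreeCycle_swap_mul_swap_same hac.symm hdc.symm hda.symm
    have htΓ : swap c a * swap c d ∈ L := by
      rw [h]; exact hP.hA h3.mem_alternatingGroup
    have hta : (swap c a * swap c d) a = c := by
      rw [Equiv.Perm.mul_apply, swap_apply_of_ne_of_ne hac hda.symm, swap_apply_right]
    have : c ∈ Δ.image (swap c a * swap c d) := Finset.mem_image.2 ⟨a, ha, hta⟩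
    rw [htΓ.2] at this
    exact hc this

end Cfsg.Agent.Lib.H17.S3571C1a
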