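import Mathlib

/-!
helper17: S3571 GR block, sub-cases `r = 2` and `r = 5` of the `A_6` core `M6CoreStmt`.
-/

set_option autoImplicit false

namespace Cfsg.Agent.Lib.H17.S3571M6C2

open Equiv

theorem card_A6 : Nat.card ↥(alternatingGroup (Fin 6)) = 360 := by
  rw [nat_card_alternatingGroup]
  simp [Nat.factorial]

/-- `index * card = 360`. -/
theorem index_mul_card_A6 (K : Subgroup ↥(alternatingGroup (Fin 6))) :
    K.index * Nat.card ↥K = 360 := by
  rw [Subgroup.index_mul_card, card_A6]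

/-- A proper subgroup of the simple group `A_6` has index `n` with `360 ∣ n!`. -/
theorem dvd_factorial_index (K : Subgroup ↥(alternatingGroup (Fin 6))) (hK : K ≠ ⊤) :
    360 ∣ (K.index).factorial := by
  have : IsSimpleGroup ↥(alternatingGroup (Fin 6)) :=
    alternatingGroup.isSimpleGroup (by simp)
  have hcore : K.normalCore = ⊥ := by
    rcases (Subgroup.normalCore_normal K).eq_bot_or_eq_top with h | h
    · exact h
    · exfalso
      apply hK
      rw [eq_top_iff, ← h]
      exact Subgroup.normalCore_le K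
  have hinj : Function.Injective
      (MulAction.toPermHom ↥(alternatingGroup (Fin 6)) (↥(alternatingGroup (Fin 6)) ⧸ K)) := by
    rw [← MonoidHom.ker_eq_bot_iff, ← Subgroup.normalCore_eq_ker, hcore]
  have hfin : K.FiniteIndex := inferInstance
  have : Finite (↥(alternatingGroup (Fin 6)) ⧸ K) := Subgroup.finite_quotient_of_finiteIndex
  have h1 := Subgroup.card_dvd_of_injective _ hinj
  rw [card_A6, Nat.card_perm] at h1
  have : Nat.card (↥(alternatingGroup (Fin 6)) ⧸ K) = K.index := rfl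
  rw [this] at h1
  exact h1

/-- sub-case `r = 5`. -/
theorem m6c5 (K : Subgroup ↥(alternatingGroup (Fin 6))) (h5 : 5 ∣ K.index) :
    ∃ t : ↥(alternatingGroup (Fin 6)), orderOf t = 5 ∧ ∀ g, g⁻¹ * t * g ∉ K := by
  have hK5 : ¬ 5 ∣ Nat.card ↥K := by
    intro h
    have := index_mul_card_A6 K
    have h25 : 25 ∣ K.index * Nat.card ↥K := Nat.mul_dvd_mul h5 h
    rw [this] at h25
    omega
  have : Fact (Nat.Prime 5) := ⟨by norm_num⟩
  have h5A : 5 ∣ Nat.card ↥(alternatingGroup (Fin 6)) := by rw [card_A6]; norm_num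
  obtain ⟨t, ht⟩ := exists_prime_orderOf_dvd_card' 5 h5A
  refine ⟨t, ht, ?_⟩
  intro g hg
  apply hK5
  have ho : orderOf (g⁻¹ * t * g) = 5 := by
    have : g⁻¹ * t * g = MulAut.conj g⁻¹ t := by rw [MulAut.conj_apply, inv_inv]
    rw [this, MulEquiv.orderOf_eq]
    exact ht
  have := Subgroup.orderOf_dvd_natCard K hg
  rw [ho] at this
  exact this

/-- sub-case `r = 2`. -/
theorem m6c2 (K : Subgroup ↥(alternatingGroup (Fin 6))) (hK : K ≠ ⊤) (h2 : 2 ∣ K.index)
    (hmax : ∀ s : ℕ, s.Prime → s ∣ K.index → s ≤ 2) :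
    ∃ t : ↥(alternatingGroup (Fin 6)), orderOf t = 2 ∧ ∀ g, g⁻¹ * t * g ∉ K := by
  have hmul := index_mul_card_A6 K
  have hfact := dvd_factorial_index K hK
  have hidx : K.index ∣ 8 * 45 := ⟨_, hmul.symm⟩
  have h3 : ¬ 3 ∣ K.index := fun h => by
    have := hmax 3 (by norm_num) h
    omega
  have h5 : ¬ 5 ∣ K.index := fun h => by
    have := hmax 5 (by norm_num) h
    omega
  have hc3 : Nat.Coprime K.index 3 :=
    (Nat.Coprime.symm ((Nat.Prime.coprime_iff_not_dvd (by norm_num)).2 h3))
  have hc5 : Nat.Coprime K.index 5 :=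
    (Nat.Coprime.symm ((Nat.Prime.coprime_iff_not_dvd (by norm_num)).2 h5))
  have hc45 : Nat.Coprime K.index 45 := by
    have : Nat.Coprime K.index (3 * 3 * 5) := (hc3.mul_right hc3).mul_right hc5
    simpa using this
  have hd8 : K.index ∣ 8 := hc45.dvd_of_dvd_mul_right hidx
  have hle : K.index ≤ 8 := Nat.le_of_dvd (by norm_num) hd8
  have h8 : K.index = 8 := by
    have hne1 : K.index ≠ 1 := fun h => hK (Subgroup.index_eq_one.1 h)
    interval_cases h : K.index
    · simp at hd8
    · exact absurd rfl hne1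
    · exfalso; revert hfact; decide
    · omega
    · exfalso; revert hfact; decide
    · omega
    · omega
    · omega
    · rfl
  have hcard : Nat.card ↥K = 45 := by
    rw [h8] at hmul
    omega
  -- the involution (01)(23)
  have hmem : (swap (0 : Fin 6) 1 * swap 2 3) ∈ alternatingGroup (Fin 6) := by
    rw [Equiv.Perm.mem_alternatingGroup]
    decide
  refine ⟨⟨swap (0 : Fin 6) 1 * swap 2 3, hmem⟩, ?_, ?_⟩
  · have : Fact (Nat.Prime 2) := ⟨Nat.prime_two⟩
    apply orderOf_eq_prime
    · apply Subtype.ext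
      show (swap (0 : Fin 6) 1 * swap 2 3) ^ 2 = 1
      decide
    · intro h
      have h0 : (swap (0 : Fin 6) 1 * swap 2 3 : Perm (Fin 6)) 0 = (1 : Perm (Fin 6)) 0 :=
        congrArg (fun x : ↥(alternatingGroup (Fin 6)) => (x : Perm (Fin 6)) 0) h
      revert h0
      decide
  · intro g hg
    have ho : orderOf (g⁻¹ * (⟨swap (0 : Fin 6) 1 * swap 2 3, hmem⟩ :
        ↥(alternatingGroup (Fin 6))) * g) = 2 := by
      have e : g⁻¹ * (⟨swap (0 : Fin 6) 1 * swap 2 3, hmem⟩ : ↥(alternatingGroup (Fin 6))) * g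
          = MulAut.conj g⁻¹ ⟨swap (0 : Fin 6) 1 * swap 2 3, hmem⟩ := by
        rw [MulAut.conj_apply, inv_inv]
      rw [e, MulEquiv.orderOf_eq]
      have : Fact (Nat.Prime 2) := ⟨Nat.prime_two⟩
      apply orderOf_eq_prime
      · apply Subtype.ext
        show (swap (0 : Fin 6) 1 * swap 2 3) ^ 2 = 1
        decide
      · intro h
        have h0 : (swap (0 : Fin 6) 1 * swap 2 3 : Perm (Fin 6)) 0 = (1 : Perm (Fin 6)) 0 :=
          congrArg (fun x : ↥(alternatingGroup (Fin 6)) => (x : Perm (Fin 6)) 0) h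
        revert h0
        decide
    have := Subgroup.orderOf_dvd_natCard K hg
    rw [ho, hcard] at this
    omega

end Cfsg.Agent.Lib.H17.S3571M6C2
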