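import Cfsg.Agent.Lib.H9.S3571Defs
import Cfsg.Agent.Lib.H17.S3571M6C2

/-!
helper17: S3571 GR block: assembly of `M6CoreStmt` from the three sub-cases
(`r = 2`, `r = 5` from `S3571M6C2`, `r = 3` as a hypothesis).
-/

set_option autoImplicit false

namespace Cfsg.Agent.Lib.H17.S3571M6CA

open Cfsg.Agent.Lib.H9.S3571 Cfsg.Agent.Lib.H17.S3571M6C2

/-- `M6CoreStmt` from the sub-case `r = 3`. -/
theorem m6core_of
    (h3 : ∀ K : Subgroup ↥(alternatingGroup (Fin 6)), K ≠ ⊤ → 3 ∣ K.index →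
      ∃ t : ↥(alternatingGroup (Fin 6)), orderOf t = 3 ∧ ∀ g, g⁻¹ * t * g ∉ K) :
    M6CoreStmt := by
  intro K r hK hr hrd hmax
  have hidx : K.index ∣ 360 := ⟨_, (index_mul_card_A6 K).symm⟩
  have hr360 : r ∣ 360 := hrd.trans hidx
  have h360 : (360 : ℕ) = 2 ^ 3 * 3 ^ 2 * 5 := by norm_num
  have hcases : r = 2 ∨ r = 3 ∨ r = 5 := by
    rw [h360] at hr360
    rcases (Nat.Prime.dvd_mul hr).1 hr360 with h | h
    · rcases (Nat.Prime.dvd_mul hr).1 h with h | h
      · left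
        exact (Nat.prime_dvd_prime_iff_eq hr Nat.prime_two).1 (hr.dvd_of_dvd_pow h)
      · right; left
        exact (Nat.prime_dvd_prime_iff_eq hr Nat.prime_three).1 (hr.dvd_of_dvd_pow h)
    · right; right
      exact (Nat.prime_dvd_prime_iff_eq hr Nat.prime_five).1 h
  rcases hcases with rfl | rfl | rfl
  · exact m6c2 K hK hrd hmax
  · exact h3 K hK hrd
  · exact m6c5 K hrd

end Cfsg.Agent.Lib.H17.S3571M6CA
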