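import Cfsg.Agent.Lib.H1.Hall

/-!
# S3776, Hall reduction (helper17)

A solvable group `Y` of automorphisms of a nontrivial 2-group `G` that is transitive on the involutions
of `G` contains a subgroup `E` of odd order (a Hall 2'-subgroup) that is still transitive: the number of
involutions is odd, so a point stabiliser has odd index.
-/

set_option autoImplicit false

namespace Cfsg.Agent.Lib.H17.S3776HallRed

universe u

open MulAction

/-- the set of involutions -/
def Invol (G : Type u) [Group G] : Set G := {w : G | w ≠ 1 ∧ w ^ 2 = 1}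

/-- in a nontrivial finite 2-group the number of involutions is odd -/
theorem odd_ncard_invol {G : Type u} [Group G] [Finite G] (hG : IsPGroup 2 G) (hnt : Nontrivial G) :
    Odd (Invol G).ncard := by
  classical
  have : Fintype G := Fintype.ofFinite G
  have : Fact (Nat.Prime 2) := ⟨Nat.prime_two⟩
  let σ : Equiv.Perm G := Equiv.inv G
  have hσ : σ ^ 2 = 1 := by
    ext x
    simp [σ, pow_two]
  have h2 : 2 ∣ σ.support.card := Equiv.Perm.two_dvd_card_support hσ
  have hsplit : (Finset.univ.filter (fun x : G => σ x ≠ x)).card +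
      (Finset.univ.filter (fun x : G => ¬ σ x ≠ x)).card = (Finset.univ : Finset G).card :=
    Finset.card_filter_add_card_filter_not (s := (Finset.univ : Finset G)) (fun x : G => σ x ≠ x)
  have hsupp : σ.support = Finset.univ.filter (fun x : G => σ x ≠ x) := by
    ext x; simp [Equiv.Perm.mem_support]
  -- the fixed points are `1` and the involutions
  have hfix : (Finset.univ.filter (fun x : G => ¬ σ x ≠ x)) =
      insert (1 : G) (Finset.univ.filter (fun w : G => w ≠ 1 ∧ w ^ 2 = 1)) := by
    ext x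
    simp only [Finset.mem_filter, Finset.mem_univ, true_and, Finset.mem_insert, not_not, σ,
      Equiv.inv_apply]
    constructor
    · intro h
      by_cases hx : x = 1
      · exact Or.inl hx
      · refine Or.inr ⟨hx, ?_⟩
        rw [pow_two]
        calc x * x = x⁻¹ * x := by rw [h]
          _ = 1 := inv_mul_cancel x
    · rintro (rfl | ⟨-, h⟩)
      · simp
      · rw [pow_two] at h
        exact inv_eq_of_mul_eq_one_left h
  have hnotmem : (1 : G) ∉ Finset.univ.filter (fun w : G => w ≠ 1 ∧ w ^ 2 = 1) := by simp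
  have hcardG : (Finset.univ : Finset G).card = Nat.card G := by
    rw [Finset.card_univ, Nat.card_eq_fintype_card]
  obtain ⟨b, hb⟩ := hG.exists_card_eq
  have hb0 : b ≠ 0 := by
    rintro rfl
    rw [pow_zero] at hb
    have : Subsingleton G := (Nat.card_eq_one_iff_unique.1 hb).1
    exact not_subsingleton G this
  have hev : 2 ∣ Nat.card G := by rw [hb]; exact dvd_pow_self 2 hb0
  have hinv : (Invol G).ncard = (Finset.univ.filter (fun w : G => w ≠ 1 ∧ w ^ 2 = 1)).card := by
    rw [Set.ncard_eq_toFinset_card']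
    congr 1
    ext w
    rw [Set.mem_toFinset]
    simp [Invol]
  rw [hinv]
  rw [← hsupp, hfix, Finset.card_insert_of_notMem hnotmem, hcardG] at hsplit
  obtain ⟨c, hc⟩ := h2
  obtain ⟨d, hd⟩ := hev
  rw [Nat.odd_iff]
  omega

/-- automorphisms permute the involutions -/
theorem orbit_subset_invol {G : Type u} [Group G] (H : Subgroup (MulAut G)) {x : G}
    (hx : x ∈ Invol G) : orbit ↥H x ⊆ Invol G := by
  rintro w ⟨a, rfl⟩
  obtain ⟨hx1, hx2⟩ := hx
  have hax : a • x = (a : MulAut G) x := rfl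
  refine ⟨?_, ?_⟩
  · change a • x ≠ 1
    rw [hax]
    intro h
    exact hx1 ((map_eq_one_iff (a : MulAut G) (a : MulAut G).injective).1 h)
  · change (a • x) ^ 2 = 1
    rw [hax, ← map_pow, hx2, map_one]

theorem hall_red {G : Type u} [Group G] [Finite G] (hG : IsPGroup 2 G) (hnt : Nontrivial G)
    (Y : Subgroup (MulAut G)) (hYs : Group.IsSolvable Y)
    (htr : ∀ x y : G, x ≠ 1 → x ^ 2 = 1 → y ≠ 1 → y ^ 2 = 1 → ∃ a ∈ Y, a x = y) :
    ∃ E : Subgroup (MulAut G), E ≤ Y ∧ Odd (Nat.card E) ∧ Group.IsSolvable E ∧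
      ∀ x y : G, x ≠ 1 → x ^ 2 = 1 → y ≠ 1 → y ^ 2 = 1 → ∃ a ∈ E, a x = y := by
  classical
  obtain ⟨a, m, hm, hcard⟩ := Nat.exists_eq_two_pow_mul_odd (n := Nat.card Y) Nat.card_pos.ne'
  have hcop : m.Coprime (2 ^ a) := Nat.Coprime.pow_right a (Nat.coprime_two_right.2 hm)
  obtain ⟨H', hH'⟩ := Cfsg.Agent.Lib.H1.hall_exists (G := ↥Y) (m := m) (n := 2 ^ a)
    (by rw [hcard, mul_comm]) hcop
  obtain ⟨E, hEdef⟩ : ∃ E : Subgroup (MulAut G), E = H'.map Y.subtype := ⟨_, rfl⟩
  have hEY : E ≤ Y := by rw [hEdef]; exact Subgroup.map_subtype_le H'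
  have hEcard : Nat.card E = m := by
    rw [hEdef, Subgroup.card_map_of_injective Y.subtype_injective, hH']
  refine ⟨E, hEY, by rw [hEcard]; exact hm, ?_, ?_⟩
  · exact Group.isSolvable_of_isSolvable_injective (f := Subgroup.inclusion hEY)
      (Subgroup.inclusion_injective hEY)
  · intro x y hx1 hx2 hy1 hy2
    have hxI : x ∈ Invol G := ⟨hx1, hx2⟩
    have hyI : y ∈ Invol G := ⟨hy1, hy2⟩
    -- the `Y`-orbit of `x` is the set of involutions
    have hΩY : orbit ↥Y x = Invol G := by
      apply Set.Subset.antisymm (orbit_subset_invol Y hxI)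
      rintro w ⟨hw1, hw2⟩
      obtain ⟨b, hb, hbx⟩ := htr x w hx1 hx2 hw1 hw2
      exact ⟨⟨b, hb⟩, hbx⟩
    have hΩE : orbit ↥E x ⊆ Invol G := orbit_subset_invol E hxI
    have hodd : Odd (Invol G).ncard := odd_ncard_invol hG hnt
    -- orbit-stabiliser for `Y` and `E`
    have hiY : (stabilizer ↥Y x).index = (Invol G).ncard := by
      rw [index_stabilizer, hΩY]
    have hiE : (stabilizer ↥E x).index = (orbit ↥E x).ncard := index_stabilizer ↥E x
    have hcY : Nat.card (stabilizer ↥Y x) * (stabilizer ↥Y x).index = 2 ^ a * m := by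
      rw [Subgroup.card_mul_index, hcard]
    have hcE : Nat.card (stabilizer ↥E x) * (stabilizer ↥E x).index = m := by
      rw [Subgroup.card_mul_index, hEcard]
    -- the stabiliser in `E` embeds in the stabiliser in `Y`
    have hdvd : Nat.card (stabilizer ↥E x) ∣ Nat.card (stabilizer ↥Y x) := by
      let f : ↥(stabilizer ↥E x) →* ↥(stabilizer ↥Y x) :=
        ((Subgroup.inclusion hEY).comp (stabilizer ↥E x).subtype).codRestrict (stabilizer ↥Y x)
          (fun s => by
            rw [mem_stabilizer_iff]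
            have := s.2
            rw [mem_stabilizer_iff] at this
            exact this)
      apply Subgroup.card_dvd_of_injective f
      intro s t hst
      have h1 := congrArg (fun z : ↥(stabilizer ↥Y x) => ((z : ↥Y) : MulAut G)) hst
      exact Subtype.ext (Subtype.ext h1)
    obtain ⟨s, hs⟩ : ∃ s, s = Nat.card (stabilizer ↥E x) := ⟨_, rfl⟩
    obtain ⟨cY, hcYdef⟩ : ∃ c, c = Nat.card (stabilizer ↥Y x) := ⟨_, rfl⟩
    obtain ⟨NE, hNE⟩ : ∃ n, n = (stabilizer ↥E x).index := ⟨_, rfl⟩
    obtain ⟨NY, hNY⟩ : ∃ n, n = (Invol G).ncard := ⟨_, rfl⟩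
    rw [hiY, ← hcYdef, ← hNY] at hcY
    rw [← hs, ← hNE] at hcE
    rw [← hs, ← hcYdef] at hdvd
    rw [← hNY] at hodd
    have hspos : 0 < s := by rw [hs]; exact Nat.card_pos
    have hsm : s ∣ m := Dvd.intro _ hcE
    have hsodd : Odd s := by
      rcases hsm with ⟨r, hr⟩
      rw [hr] at hm
      exact (Nat.odd_mul.1 hm).1
    have h1 : s * NY ∣ 2 ^ a * m := by
      rw [← hcY]; exact Nat.mul_dvd_mul_right hdvd NY
    have hcop2 : (s * NY).Coprime (2 ^ a) :=
      Nat.Coprime.pow_right a (Nat.coprime_two_right.2 (hsodd.mul hodd))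
    have h2 : s * NY ∣ m := hcop2.dvd_of_dvd_mul_left h1
    have hmpos : 0 < m := by
      rcases Nat.eq_zero_or_pos m with h | h
      · rw [h] at hm; exact absurd hm (by decide)
      · exact h
    have h3 : s * NY ≤ s * NE := by rw [hcE]; exact Nat.le_of_dvd hmpos h2
    have h4 : NY ≤ NE := Nat.le_of_mul_le_mul_left h3 hspos
    rw [hNE, hiE, hNY] at h4
    have hfin : (Invol G).Finite := Set.toFinite _
    have heq : orbit ↥E x = Invol G := Set.eq_of_subset_of_ncard_le hΩE h4 hfin
    have hy : y ∈ orbit ↥E x := by rw [heq]; exact hyI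
    obtain ⟨e, he⟩ := hy
    exact ⟨e.1, e.2, he⟩

end Cfsg.Agent.Lib.H17.S3776HallRed
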