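import Mathlib

/-!
# S3776, Lemma N / claim NC (helper17 twin): the number theory of the blocks `F σ^i`

`nc`: `k ∣ n`, `m * k = 2 ^ n - 1`, `i, j, t < n` and `2 ^ (i + t) + 1 ≡ 2 ^ j + 2 ^ t [MOD m]` force `i = j`.

Proof: rotate the four exponents `(i+t) mod n, 0, j, t` on the cycle of length `n` so that a largest cyclic
gap comes last; for `n ≥ 24` (or `k = 1`, `n ≥ 8`) both sides are then smaller than `m`, so they are equal in `ℕ`,
and binary uniqueness gives the claim.  The finitely many remaining `(n, m)` are checked by `decide`.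
-/

set_option autoImplicit false

namespace Cfsg.Agent.Lib.H17.S3776NC

/-- `(e - c) mod n` for `e < n`, `c ≤ n`, without `%` -/
def rot (n e c : ℕ) : ℕ := if e < c then e + n - c else e - c

theorem rot_inj {n e e' c : ℕ} (_he : e < n) (he' : e' < n) (hc : c ≤ n)
    (h : rot n e c = rot n e' c) : e = e' := by
  unfold rot at h
  split_ifs at h <;> omega

theorem two_pow_modEq_one {n m k : ℕ} (hm : m * k = 2 ^ n - 1) : 2 ^ n ≡ 1 [MOD m] := by
  have h1 : 1 ≤ 2 ^ n := Nat.one_le_two_pow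
  have h2 : 2 ^ n = 1 + m * k := by omega
  rw [h2]
  exact Nat.add_mul_mod_self_left 1 m k

theorem rot_modEq {n m e c : ℕ} (h1 : 2 ^ n ≡ 1 [MOD m]) (_he : e < n) (hc : c ≤ n) :
    2 ^ rot n e c * 2 ^ c ≡ 2 ^ e [MOD m] := by
  unfold rot
  split_ifs with h
  · have h2 : 2 ^ (e + n - c) * 2 ^ c = 2 ^ e * 2 ^ n := by
      rw [← pow_add, ← pow_add]; congr 1; omega
    rw [h2]
    calc 2 ^ e * 2 ^ n ≡ 2 ^ e * 1 [MOD m] := Nat.ModEq.mul_left _ h1
      _ = 2 ^ e := mul_one _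
  · have h2 : 2 ^ (e - c) * 2 ^ c = 2 ^ e := by rw [← pow_add]; congr 1; omega
    rw [h2]

theorem rot_congr {n m a j t c : ℕ} (h1 : 2 ^ n ≡ 1 [MOD m]) (hcop : Nat.gcd m (2 ^ c) = 1)
    (hn : 0 < n) (ha : a < n) (hj : j < n) (ht : t < n) (hc : c ≤ n)
    (h : 2 ^ a + 1 ≡ 2 ^ j + 2 ^ t [MOD m]) :
    2 ^ rot n a c + 2 ^ rot n 0 c ≡ 2 ^ rot n j c + 2 ^ rot n t c [MOD m] := by
  have e1 : (2 ^ rot n a c + 2 ^ rot n 0 c) * 2 ^ c ≡ 2 ^ a + 1 [MOD m] := by
    rw [add_mul]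
    have h0 := (rot_modEq h1 ha hc).add (rot_modEq h1 hn hc)
    rwa [pow_zero] at h0
  have e2 : (2 ^ rot n j c + 2 ^ rot n t c) * 2 ^ c ≡ 2 ^ j + 2 ^ t [MOD m] := by
    rw [add_mul]; exact (rot_modEq h1 hj hc).add (rot_modEq h1 ht hc)
  exact Nat.ModEq.cancel_right_of_coprime hcop ((e1.trans h).trans e2.symm)

/-! ### binary uniqueness -/

theorem pow_add_unique_sorted {A Z J T : ℕ} (hAZ : A ≤ Z) (hJT : J ≤ T)
    (h : 2 ^ A + 2 ^ Z = 2 ^ J + 2 ^ T) : A = J ∧ Z = T := by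
  have hZT : Z = T := by
    rcases lt_trichotomy Z T with hlt | heq | hgt
    · exfalso
      have h1 : 2 ^ A ≤ 2 ^ Z := Nat.pow_le_pow_right (by norm_num) hAZ
      have h2 : 2 ^ (Z + 1) ≤ 2 ^ T := Nat.pow_le_pow_right (by norm_num) hlt
      have h3 : 0 < 2 ^ J := Nat.two_pow_pos J
      rw [pow_succ] at h2
      omega
    · exact heq
    · exfalso
      have h1 : 2 ^ J ≤ 2 ^ T := Nat.pow_le_pow_right (by norm_num) hJT
      have h2 : 2 ^ (T + 1) ≤ 2 ^ Z := Nat.pow_le_pow_right (by norm_num) hgt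
      have h3 : 0 < 2 ^ A := Nat.two_pow_pos A
      rw [pow_succ] at h2
      omega
  subst hZT
  have h4 : 2 ^ A = 2 ^ J := by omega
  exact ⟨Nat.pow_right_injective (le_refl 2) h4, rfl⟩

theorem pow_add_unique {A Z J T : ℕ} (h : 2 ^ A + 2 ^ Z = 2 ^ J + 2 ^ T) :
    (A = J ∧ Z = T) ∨ (A = T ∧ Z = J) := by
  rcases le_total A Z with h1 | h1 <;> rcases le_total J T with h2 | h2
  · exact Or.inl (pow_add_unique_sorted h1 h2 h)
  · exact Or.inr (pow_add_unique_sorted h1 h2 (by rw [h, add_comm]))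
  · have h3 := pow_add_unique_sorted h1 h2 (by rw [add_comm, h])
    exact Or.inr ⟨h3.2, h3.1⟩
  · have h3 := pow_add_unique_sorted h1 h2 (by rw [add_comm, h, add_comm])
    exact Or.inl ⟨h3.2, h3.1⟩

/-! ### a rotation after a largest gap -/

theorem exists_good_sorted {n e1 e2 e3 g : ℕ} (h12 : e1 ≤ e2) (h23 : e2 ≤ e3) (h3 : e3 < n)
    (hg : 4 * g ≤ n) :
    ∃ c, c ≤ n ∧ rot n 0 c ≤ n - g ∧ rot n e1 c ≤ n - g ∧ rot n e2 c ≤ n - g ∧
      rot n e3 c ≤ n - g := by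
  have hgap : g ≤ e1 ∨ g ≤ e2 - e1 ∨ g ≤ e3 - e2 ∨ g ≤ n - e3 := by omega
  rcases hgap with h | h | h | h
  · refine ⟨e1, by omega, ?_, ?_, ?_, ?_⟩ <;> (unfold rot; split_ifs <;> omega)
  · refine ⟨e2, by omega, ?_, ?_, ?_, ?_⟩ <;> (unfold rot; split_ifs <;> omega)
  · refine ⟨e3, by omega, ?_, ?_, ?_, ?_⟩ <;> (unfold rot; split_ifs <;> omega)
  · refine ⟨0, by omega, ?_, ?_, ?_, ?_⟩ <;> (unfold rot; split_ifs <;> omega)

theorem exists_good {n a j t g : ℕ} (ha : a < n) (hj : j < n) (ht : t < n) (hg : 4 * g ≤ n) :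
    ∃ c, c ≤ n ∧ rot n a c ≤ n - g ∧ rot n 0 c ≤ n - g ∧ rot n j c ≤ n - g ∧
      rot n t c ≤ n - g := by
  rcases le_total a j with h1 | h1 <;> rcases le_total j t with h2 | h2 <;>
    rcases le_total a t with h3 | h3
  · obtain ⟨c, hc, r0, r1, r2, r3⟩ := exists_good_sorted h1 h2 ht hg
    exact ⟨c, hc, r1, r0, r2, r3⟩
  · obtain ⟨c, hc, r0, r1, r2, r3⟩ := exists_good_sorted h1 h2 ht hg
    exact ⟨c, hc, r1, r0, r2, r3⟩
  · -- a ≤ j, t ≤ j, a ≤ t : a ≤ t ≤ j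
    obtain ⟨c, hc, r0, r1, r2, r3⟩ := exists_good_sorted h3 h2 hj hg
    exact ⟨c, hc, r1, r0, r3, r2⟩
  · -- a ≤ j, t ≤ j, t ≤ a : t ≤ a ≤ j
    obtain ⟨c, hc, r0, r1, r2, r3⟩ := exists_good_sorted h3 h1 hj hg
    exact ⟨c, hc, r2, r0, r3, r1⟩
  · -- j ≤ a, j ≤ t, a ≤ t : j ≤ a ≤ t
    obtain ⟨c, hc, r0, r1, r2, r3⟩ := exists_good_sorted h1 h3 ht hg
    exact ⟨c, hc, r2, r0, r1, r3⟩
  · -- j ≤ a, j ≤ t, t ≤ a : j ≤ t ≤ a
    obtain ⟨c, hc, r0, r1, r2, r3⟩ := exists_good_sorted h2 h3 ha hg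
    exact ⟨c, hc, r3, r0, r1, r2⟩
  · -- j ≤ a, t ≤ j, a ≤ t : all equal
    obtain ⟨c, hc, r0, r1, r2, r3⟩ := exists_good_sorted h2 h1 ha hg
    exact ⟨c, hc, r3, r0, r2, r1⟩
  · -- j ≤ a, t ≤ j, t ≤ a : t ≤ j ≤ a
    obtain ⟨c, hc, r0, r1, r2, r3⟩ := exists_good_sorted h2 h1 ha hg
    exact ⟨c, hc, r3, r0, r2, r1⟩

/-! ### the size argument -/

theorem gap_case {n m i j t g : ℕ} (hn : 0 < n) (h1 : 2 ^ n ≡ 1 [MOD m]) (hodd : Odd m)
    (hi : i < n) (hj : j < n) (ht : t < n) (hg : 4 * g ≤ n) (_hg1 : 1 ≤ g)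
    (hsize : 2 ^ (n - g + 1) < m)
    (h : 2 ^ (i + t) + 1 ≡ 2 ^ j + 2 ^ t [MOD m]) : i = j := by
  -- reduce the exponent `i + t`
  obtain ⟨a, hadef⟩ : ∃ a, a = if i + t < n then i + t else i + t - n := ⟨_, rfl⟩
  have ha : a < n := by rw [hadef]; split_ifs <;> omega
  have hpa : 2 ^ (i + t) ≡ 2 ^ a [MOD m] := by
    rw [hadef]
    split_ifs with hlt
    · exact Nat.ModEq.refl _
    · have e : 2 ^ (i + t) = 2 ^ (i + t - n) * 2 ^ n := by
        rw [← pow_add]; congr 1; omega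
      rw [e]
      calc 2 ^ (i + t - n) * 2 ^ n ≡ 2 ^ (i + t - n) * 1 [MOD m] := Nat.ModEq.mul_left _ h1
        _ = 2 ^ (i + t - n) := mul_one _
  have h' : 2 ^ a + 1 ≡ 2 ^ j + 2 ^ t [MOD m] := (hpa.symm.add_right 1).trans h
  obtain ⟨c, hc, ra, r0, rj, rt⟩ := exists_good ha hj ht hg
  have hcop : Nat.gcd m (2 ^ c) = 1 :=
    (Nat.Coprime.pow_left c (Nat.coprime_two_left.2 hodd)).symm
  have hcong := rot_congr h1 hcop hn ha hj ht hc h'
  have hle : ∀ x, x ≤ n - g → 2 ^ x ≤ 2 ^ (n - g) := fun x hx =>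
    Nat.pow_le_pow_right (by norm_num) hx
  have hsz : 2 ^ (n - g + 1) = 2 ^ (n - g) + 2 ^ (n - g) := by rw [pow_succ]; ring
  have hlt1 : 2 ^ rot n a c + 2 ^ rot n 0 c < m := by
    have := hle _ ra; have := hle _ r0; omega
  have hlt2 : 2 ^ rot n j c + 2 ^ rot n t c < m := by
    have := hle _ rj; have := hle _ rt; omega
  have heq := Nat.ModEq.eq_of_lt_of_lt hcong hlt1 hlt2
  rcases pow_add_unique heq with ⟨e1, e2⟩ | ⟨e1, e2⟩
  · have e1' := rot_inj ha hj hc e1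
    have e2' := rot_inj hn ht hc e2
    rw [hadef] at e1'
    split_ifs at e1' <;> omega
  · have e1' := rot_inj ha ht hc e1
    have e2' := rot_inj hn hj hc e2
    rw [hadef] at e1'
    split_ifs at e1' <;> omega

theorem four_mul_add_le : ∀ g : ℕ, 6 ≤ g → 4 * g + 4 ≤ 2 ^ (g - 1) := by
  intro g hg
  induction g, hg using Nat.le_induction with
  | base => norm_num
  | succ g hg ih =>
    have e : 2 ^ (g + 1 - 1) = 2 * 2 ^ (g - 1) := by
      have : g + 1 - 1 = (g - 1) + 1 := by omega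
      rw [this, pow_succ]; ring
    rw [e]; omega

/-! ### the finitely many small cases -/

/-- Bool checker of the claim for fixed `n`, `m` -/
def chk (n m : ℕ) : Bool :=
  (List.range n).all fun i => (List.range n).all fun j => (List.range n).all fun t =>
    decide ((2 ^ (i + t) + 1) % m = (2 ^ j + 2 ^ t) % m → i = j)

theorem chk_sound {n m i j t : ℕ} (h : chk n m = true) (hi : i < n) (hj : j < n) (ht : t < n)
    (hmod : 2 ^ (i + t) + 1 ≡ 2 ^ j + 2 ^ t [MOD m]) : i = j := by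
  unfold chk at h
  rw [List.all_eq_true] at h
  have h1 := h i (List.mem_range.2 hi)
  rw [List.all_eq_true] at h1
  have h2 := h1 j (List.mem_range.2 hj)
  rw [List.all_eq_true] at h2
  have h3 := h2 t (List.mem_range.2 ht)
  exact (of_decide_eq_true h3) hmod

set_option maxRecDepth 1000000 in
theorem chk_6 : chk 6 21 = true := by decide
set_option maxRecDepth 1000000 in
theorem chk_12 : chk 12 1365 = true := by decide
set_option maxRecDepth 1000000 in
theorem chk_18a : chk 18 87381 = true := by decide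
set_option maxRecDepth 1000000 in
theorem chk_18b : chk 18 29127 = true := by decide
set_option maxRecDepth 1000000 in
theorem chk_20 : chk 20 209715 = true := by decide
set_option maxRecDepth 1000000 in
theorem chk_21 : chk 21 299593 = true := by decide
set_option maxRecDepth 1000000 in
theorem chk_small : ∀ n < 8, chk n (2 ^ n - 1) = true := by decide

/-- Bool checker: the pairs `(n, k)`, `n < 24`, `2 ≤ k`, `k ∣ n`, `k ∣ 2 ^ n - 1` -/
def pairsOk : Bool :=
  (List.range 24).all fun n => (List.range 24).all fun k =>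
    decide ((1 ≤ n ∧ 2 ≤ k ∧ n % k = 0 ∧ (2 ^ n - 1) % k = 0) →
      ((n = 6 ∧ k = 3) ∨ (n = 12 ∧ k = 3) ∨ (n = 18 ∧ k = 3) ∨ (n = 18 ∧ k = 9) ∨
        (n = 20 ∧ k = 5) ∨ (n = 21 ∧ k = 7)))

set_option maxRecDepth 1000000 in
theorem pairsOk_true : pairsOk = true := by decide

theorem small_pairs (n : ℕ) (hn0 : 1 ≤ n) (hn : n < 24) (k : ℕ) (hk : k < 24) (h2 : 2 ≤ k) (h3 : n % k = 0)
    (h4 : (2 ^ n - 1) % k = 0) :
    (n = 6 ∧ k = 3) ∨ (n = 12 ∧ k = 3) ∨ (n = 18 ∧ k = 3) ∨ (n = 18 ∧ k = 9) ∨ (n = 20 ∧ k = 5) ∨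
      (n = 21 ∧ k = 7) := by
  have h := pairsOk_true
  unfold pairsOk at h
  rw [List.all_eq_true] at h
  have h1 := h n (List.mem_range.2 hn)
  rw [List.all_eq_true] at h1
  have h5 := h1 k (List.mem_range.2 hk)
  exact (of_decide_eq_true h5) ⟨hn0, h2, h3, h4⟩

/-! ### the claim -/

theorem nc {n k m i j t : ℕ} (hk : k ∣ n) (hm : m * k = 2 ^ n - 1) (hi : i < n) (hj : j < n)
    (ht : t < n) (h : 2 ^ (i + t) + 1 ≡ 2 ^ j + 2 ^ t [MOD m]) : i = j := by
  have hn : 0 < n := by omega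
  have h1 : 2 ^ n ≡ 1 [MOD m] := two_pow_modEq_one hm
  -- `m * k` is odd
  have hmk : Odd (m * k) := by
    rw [hm]
    obtain ⟨n', rfl⟩ : ∃ n', n = n' + 1 := ⟨n - 1, by omega⟩
    rw [pow_succ, Nat.odd_iff]
    have : 0 < 2 ^ n' := Nat.two_pow_pos n'
    omega
  have hodd : Odd m := (Nat.odd_mul.1 hmk).1
  have hkpos : 0 < k := by
    rcases Nat.eq_zero_or_pos k with h0 | h0
    · rw [h0, mul_zero] at hmk; exact absurd hmk (by decide)
    · exact h0
  have hkn : k ≤ n := Nat.le_of_dvd hn hk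
  have hpow : 2 ≤ 2 ^ n := by
    calc 2 = 2 ^ 1 := (pow_one 2).symm
      _ ≤ 2 ^ n := Nat.pow_le_pow_right (by norm_num) hn
  rcases Nat.lt_or_ge k 2 with hk1 | hk2
  · -- `k = 1`
    have hk' : k = 1 := by omega
    rw [hk', mul_one] at hm
    rcases Nat.lt_or_ge n 8 with hn8 | hn8
    · have := chk_small n hn8
      rw [← hm] at this
      exact chk_sound this hi hj ht h
    · apply gap_case (g := 2) hn h1 hodd hi hj ht (by omega) (by norm_num) _ h
      have e : 2 ^ n = 2 * 2 ^ (n - 2 + 1) := by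
        have : n = (n - 2 + 1) + 1 := by omega
        conv_lhs => rw [this, pow_succ]
        ring
      have : 2 ≤ 2 ^ (n - 2 + 1) := by
        calc 2 = 2 ^ 1 := (pow_one 2).symm
          _ ≤ 2 ^ (n - 2 + 1) := Nat.pow_le_pow_right (by norm_num) (by omega)
      omega
  · rcases Nat.lt_or_ge n 24 with hn24 | hn24
    · -- the six small pairs
      have hk24 : k < 24 := by omega
      have hnk : n % k = 0 := Nat.mod_eq_zero_of_dvd hk
      have h2k : (2 ^ n - 1) % k = 0 := by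
        rw [← hm]; exact Nat.mul_mod_left m k
      rcases small_pairs n hn hn24 k hk24 hk2 hnk h2k with
        ⟨rfl, rfl⟩ | ⟨rfl, rfl⟩ | ⟨rfl, rfl⟩ | ⟨rfl, rfl⟩ | ⟨rfl, rfl⟩ | ⟨rfl, rfl⟩
      · have : m = 21 := by norm_num at hm; omega
        subst this; exact chk_sound chk_6 hi hj ht h
      · have : m = 1365 := by norm_num at hm; omega
        subst this; exact chk_sound chk_12 hi hj ht h
      · have : m = 87381 := by norm_num at hm; omega
        subst this; exact chk_sound chk_18a hi hj ht h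
      · have : m = 29127 := by norm_num at hm; omega
        subst this; exact chk_sound chk_18b hi hj ht h
      · have : m = 209715 := by norm_num at hm; omega
        subst this; exact chk_sound chk_20 hi hj ht h
      · have : m = 299593 := by norm_num at hm; omega
        subst this; exact chk_sound chk_21 hi hj ht h
    · -- `n ≥ 24`: the gap `g = n / 4 ≥ 6`
      have hg6 : 6 ≤ n / 4 := by omega
      apply gap_case (g := n / 4) hn h1 hodd hi hj ht (by omega) (by omega) _ h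
      -- `2 ^ (n - g + 1) < m`
      have hg := four_mul_add_le (n / 4) hg6
      have hn1 : n + 1 ≤ 2 ^ (n / 4 - 1) := by omega
      have e : 2 ^ n = 2 ^ (n / 4 - 1) * 2 ^ (n - n / 4 + 1) := by
        rw [← pow_add]; congr 1; omega
      by_contra hcon
      push Not at hcon
      -- `m * k ≤ 2 ^ (n - g + 1) * n < 2 ^ n - 1`
      have h3 : m * k ≤ 2 ^ (n - n / 4 + 1) * n := Nat.mul_le_mul hcon hkn
      have h4 : (n + 1) * 2 ^ (n - n / 4 + 1) ≤ 2 ^ n := by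
        rw [e]; exact Nat.mul_le_mul_right _ hn1
      have h5 : 2 ≤ 2 ^ (n - n / 4 + 1) := by
        calc 2 = 2 ^ 1 := (pow_one 2).symm
          _ ≤ 2 ^ (n - n / 4 + 1) := Nat.pow_le_pow_right (by norm_num) (by omega)
      have h6 : (n + 1) * 2 ^ (n - n / 4 + 1) = 2 ^ (n - n / 4 + 1) * n + 2 ^ (n - n / 4 + 1) := by
        ring
      omega

end Cfsg.Agent.Lib.H17.S3776NC
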