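import Cfsg.Agent.Lib.H25.S3777P2Defs

/-!
# S3777, P2 step: the piece `GeoStmt` (helper17, twin)

A non-abelian finite `p`-group with a subgroup `M` of index `p` has two further normal subgroups
`K0 ≠ K1` of index `p` with `K0 ⊓ M = K1 ⊓ M`, `K0 ⊔ K1 = ⊤`, and `M` is cyclic over `K0 ⊓ M`.
-/

set_option autoImplicit false

namespace Cfsg.Agent.Lib.H17.S3777Geo

universe u

variable {G : Type u} [Group G]

/-- a normal subgroup of prime index has relative index `p` in any subgroup not inside it -/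
theorem relIndex_eq_of_not_le {p : ℕ} (hp : p.Prime) (H K : Subgroup G) [H.Normal]
    (hH : H.index = p) (hK : ¬ K ≤ H) : H.relIndex K = p := by
  have h1 : H.relIndex K ∣ p := hH ▸ Subgroup.relIndex_dvd_index_of_normal H K
  rcases (Nat.dvd_prime hp).1 h1 with h | h
  · exact absurd (Subgroup.relIndex_eq_one.1 h) hK
  · exact h

/-- two subgroups of the same prime index, one inside the other, are equal -/
theorem eq_of_le_of_index_eq_prime {p : ℕ} (hp : p.Prime) (A B : Subgroup G) (hA : A.index = p)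
    (hB : B.index = p) (hAB : A ≤ B) : A = B := by
  have h := Subgroup.relIndex_mul_index hAB
  rw [hA, hB] at h
  have h1 : A.relIndex B = 1 :=
    Nat.eq_of_mul_eq_mul_right hp.pos (by rw [h, one_mul])
  exact le_antisymm hAB (Subgroup.relIndex_eq_one.1 h1)

/-- a subgroup of prime index together with anything outside it generates the group -/
theorem sup_eq_top_of_index_prime {p : ℕ} (hp : p.Prime) (A B : Subgroup G) (hA : A.index = p)
    (hB : ¬ B ≤ A) : A ⊔ B = ⊤ := by
  have h := Subgroup.relIndex_mul_index (le_sup_left : A ≤ A ⊔ B)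
  rw [hA] at h
  have h1 : A.relIndex (A ⊔ B) ≠ 1 := fun h1 =>
    hB (le_trans le_sup_right (Subgroup.relIndex_eq_one.1 h1))
  have h2 : A.relIndex (A ⊔ B) ∣ p := ⟨_, h.symm⟩
  have h3 : A.relIndex (A ⊔ B) = p := ((Nat.dvd_prime hp).1 h2).resolve_left h1
  rw [h3] at h
  have h4 : (A ⊔ B).index = 1 :=
    Nat.eq_of_mul_eq_mul_left hp.pos (by rw [h, mul_one])
  exact Subgroup.index_eq_one.1 h4

/-- in a finite `p`-group a subgroup of index `p` is normal -/
theorem normal_of_index_eq_prime [Finite G] {p : ℕ} [hp : Fact p.Prime] (hG : IsPGroup p G)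
    (H : Subgroup G) (hH : H.index = p) : H.Normal := by
  obtain ⟨n, hn⟩ := IsPGroup.iff_card.1 hG
  have hn0 : n ≠ 0 := by
    rintro rfl
    have h1 : H.index ∣ Nat.card G := Subgroup.index_dvd_card H
    rw [hH, hn, pow_zero] at h1
    exact hp.out.one_lt.ne' (Nat.dvd_one.1 h1)
  apply Subgroup.normal_of_index_eq_minFac_card
  rw [hH, hn, hp.out.pow_minFac hn0]

/-- if `A ≤ B ≤ C`, `A` has prime relative index in `C` and `B ⊄ A`, then `C ≤ B` -/
theorem le_of_relIndex_prime {p : ℕ} (hp : p.Prime) (A B C : Subgroup G) (hAB : A ≤ B)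
    (hBC : B ≤ C) (hAC : A.relIndex C = p) (hBA : ¬ B ≤ A) : C ≤ B := by
  have h := Subgroup.relIndex_mul_relIndex A B C hAB hBC
  rw [hAC] at h
  have h1 : A.relIndex B ≠ 1 := fun h1 => hBA (Subgroup.relIndex_eq_one.1 h1)
  have h2 : A.relIndex B ∣ p := ⟨_, h.symm⟩
  have h3 : A.relIndex B = p := ((Nat.dvd_prime hp).1 h2).resolve_left h1
  rw [h3] at h
  have h4 : B.relIndex C = 1 :=
    Nat.eq_of_mul_eq_mul_left hp.pos (by rw [h, mul_one])
  exact Subgroup.relIndex_eq_one.1 h4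

/-- if `A ≤ B ≤ C`, and both `A`, `B` have the same prime relative index in `C`, then `B ≤ A` -/
theorem le_of_relIndex_eq {p : ℕ} (hp : p.Prime) (A B C : Subgroup G) (hAB : A ≤ B)
    (hBC : B ≤ C) (hAC : A.relIndex C = p) (hB : B.relIndex C = p) : B ≤ A := by
  have h := Subgroup.relIndex_mul_relIndex A B C hAB hBC
  rw [hAC, hB] at h
  have h1 : A.relIndex B = 1 :=
    Nat.eq_of_mul_eq_mul_right hp.pos (by rw [h, one_mul])
  exact Subgroup.relIndex_eq_one.1 h1

theorem geo : Cfsg.Agent.Lib.H25.S3777P2.GeoStmt.{u} := by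
  intro p hp G _ _ hG M hM hcomm
  have hpp : p.Prime := hp.out
  have hMn : M.Normal := normal_of_index_eq_prime hG M hM
  -- an element outside `M`
  have hMtop : M ≠ ⊤ := by
    intro h
    rw [h, Subgroup.index_top] at hM
    exact hpp.one_lt.ne hM
  obtain ⟨y, hy⟩ : ∃ y, y ∉ M := by
    by_contra h
    push Not at h
    exact hMtop (eq_top_iff.2 fun x _ => h x)
  -- `G` is not cyclic
  have hz : Subgroup.zpowers y ≠ ⊤ := by
    intro h
    apply hcomm
    rw [commutator_def, Subgroup.commutator_eq_bot_iff_le_centralizer]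
    intro a _
    rw [Subgroup.mem_centralizer_iff]
    intro b _
    have ha : a ∈ Subgroup.zpowers y := h ▸ Subgroup.mem_top a
    have hb : b ∈ Subgroup.zpowers y := h ▸ Subgroup.mem_top b
    obtain ⟨i, rfl⟩ := ha
    obtain ⟨j, rfl⟩ := hb
    exact zpow_mul_comm y j i
  -- orders
  obtain ⟨n, hn⟩ := IsPGroup.iff_card.1 hG
  obtain ⟨k, hk⟩ := IsPGroup.iff_card.1 (hG.to_subgroup (Subgroup.zpowers y))
  have hn0 : n ≠ 0 := by
    rintro rfl
    have h1 : M.index ∣ Nat.card G := Subgroup.index_dvd_card M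
    rw [hM, hn, pow_zero] at h1
    exact hpp.one_lt.ne' (Nat.dvd_one.1 h1)
  have hkn : k ≤ n - 1 := by
    by_contra hcon
    have hnk : n ≤ k := by omega
    have h1 : Nat.card G ≤ Nat.card (Subgroup.zpowers y) := by
      rw [hn, hk]; exact Nat.pow_le_pow_right hpp.pos hnk
    have h2 := Subgroup.card_le_card_group (Subgroup.zpowers y)
    exact hz (Subgroup.eq_top_of_card_eq _ (le_antisymm h2 h1))
  -- `K0`: index `p`, contains `y`
  obtain ⟨K0, hK0c, hyK0⟩ := Sylow.exists_subgroup_card_pow_prime_le p (m := n - 1)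
    (by rw [hn]; exact pow_dvd_pow p (Nat.sub_le n 1)) (Subgroup.zpowers y) hk hkn
  have hK0i : K0.index = p := by
    have h := Subgroup.card_mul_index K0
    rw [hK0c, hn] at h
    have h' : p ^ (n - 1) * K0.index = p ^ (n - 1) * p := by
      rw [h, ← pow_succ, Nat.sub_add_cancel (Nat.one_le_iff_ne_zero.2 hn0)]
    exact Nat.eq_of_mul_eq_mul_left (pow_pos hpp.pos _) h'
  have hK0n : K0.Normal := normal_of_index_eq_prime hG K0 hK0i
  have hyK0' : y ∈ K0 := hyK0 (Subgroup.mem_zpowers y)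
  have hK0M : K0 ≠ M := fun h => hy (h ▸ hyK0')
  have hMK0 : ¬ M ≤ K0 := fun h =>
    hK0M (eq_of_le_of_index_eq_prime hpp M K0 hM hK0i h).symm
  obtain ⟨m, hmM, hmK0⟩ : ∃ m, m ∈ M ∧ m ∉ K0 := by
    by_contra h
    push Not at h
    exact hMK0 fun x hx => h x hx
  -- `M0`
  have hM0rel : (K0 ⊓ M).relIndex M = p := by
    rw [Subgroup.inf_relIndex_right]
    exact relIndex_eq_of_not_le hpp K0 M hK0i hMK0
  have hM0i : (K0 ⊓ M).index = p * p := by
    rw [← Subgroup.relIndex_mul_index (inf_le_right : K0 ⊓ M ≤ M), hM0rel, hM]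
  have hM0n : (K0 ⊓ M).Normal := inferInstance
  -- `g := y * m`
  have hgM : y * m ∉ M := fun h => hy (by simpa using M.mul_mem h (M.inv_mem hmM))
  have hgK0 : y * m ∉ K0 := fun h =>
    hmK0 (by simpa using K0.mul_mem (K0.inv_mem hyK0') h)
  have hgp : (y * m) ^ p ∈ K0 ⊓ M := by
    refine ⟨?_, ?_⟩
    · have := Subgroup.pow_index_mem K0 (y * m); rwa [hK0i] at this
    · have := Subgroup.pow_index_mem M (y * m); rwa [hM] at this
  -- the quotient by `M0`
  set gb : G ⧸ (K0 ⊓ M) := QuotientGroup.mk' (K0 ⊓ M) (y * m) with hgb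
  have hgb1 : gb ≠ 1 := by
    intro h
    have : y * m ∈ K0 ⊓ M := (QuotientGroup.eq_one_iff _).1 h
    exact hgM this.2
  have hgbp : gb ^ p = 1 := by
    rw [hgb, ← map_pow]
    exact (QuotientGroup.eq_one_iff _).2 hgp
  have hord : orderOf gb = p := orderOf_eq_prime hgbp hgb1
  have hcz : Nat.card (Subgroup.zpowers gb) = p := by rw [Nat.card_zpowers, hord]
  have hcQ : Nat.card (G ⧸ (K0 ⊓ M)) = p * p := by rw [← Subgroup.index_eq_card, hM0i]
  have hiz : (Subgroup.zpowers gb).index = p := by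
    have h := Subgroup.card_mul_index (Subgroup.zpowers gb)
    rw [hcz, hcQ] at h
    exact Nat.eq_of_mul_eq_mul_left hpp.pos h
  -- `K1`
  set K1 : Subgroup G := (Subgroup.zpowers gb).comap (QuotientGroup.mk' (K0 ⊓ M)) with hK1
  have hK1i : K1.index = p := by
    rw [hK1, Subgroup.index_comap_of_surjective _ (QuotientGroup.mk'_surjective _), hiz]
  have hK1n : K1.Normal := normal_of_index_eq_prime hG K1 hK1i
  have hgK1 : y * m ∈ K1 := by
    rw [hK1, Subgroup.mem_comap]
    exact Subgroup.mem_zpowers gb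
  have hM0K1 : K0 ⊓ M ≤ K1 := by
    intro x hx
    rw [hK1, Subgroup.mem_comap]
    have : QuotientGroup.mk' (K0 ⊓ M) x = 1 := (QuotientGroup.eq_one_iff _).2 hx
    rw [this]
    exact Subgroup.one_mem _
  have hK1M : K1 ≠ M := fun h => hgM (h ▸ hgK1)
  have hMK1 : ¬ M ≤ K1 := fun h =>
    hK1M (eq_of_le_of_index_eq_prime hpp M K1 hM hK1i h).symm
  have hK1rel : (K1 ⊓ M).relIndex M = p := by
    rw [Subgroup.inf_relIndex_right]
    exact relIndex_eq_of_not_le hpp K1 M hK1i hMK1
  have hinf : K0 ⊓ M = K1 ⊓ M := by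
    apply le_antisymm
    · exact le_inf hM0K1 inf_le_right
    · exact le_of_relIndex_eq hpp (K0 ⊓ M) (K1 ⊓ M) M (le_inf hM0K1 inf_le_right) inf_le_right
        hM0rel hK1rel
  have hsup : K0 ⊔ K1 = ⊤ :=
    sup_eq_top_of_index_prime hpp K0 K1 hK0i fun h => hgK0 (h hgK1)
  refine ⟨K0, K1, hK0n, hK1n, hK0i, hK1i, hK0M, hK1M, hsup, hinf, hM0n, m, hmM, ?_⟩
  apply le_antisymm
  · apply le_of_relIndex_prime hpp (K0 ⊓ M) ((K0 ⊓ M) ⊔ Subgroup.zpowers m) M le_sup_left
      (sup_le inf_le_right (by rw [Subgroup.zpowers_le]; exact hmM)) hM0rel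
    intro h
    have : m ∈ K0 ⊓ M := h (le_sup_right (a := K0 ⊓ M) (Subgroup.mem_zpowers m))
    exact hmK0 this.1
  · exact sup_le inf_le_right (by rw [Subgroup.zpowers_le]; exact hmM)

end Cfsg.Agent.Lib.H17.S3777Geo
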