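import Cfsg.Agent.Lib.H19.S3797Defs
import Cfsg.Agent.Lib.H1.SchurZassenhaus

/-!
# S3797, second half of piece DESC (helper17): the case `Q = S ∩ G₁`

`Frame Q V`, `G₁ ⊴ G` of index 2, `Q ≤ G₁` with `|G₁ : Q|` odd is contradictory (board #9612, step (2)).
Complement `H` of `Q` in `G₁`, Frattini `G = Q N_G(H)` by Schur–Zassenhaus conjugacy, a 2-element `s` of
`N_G(H)` outside `G₁`, `s² ∈ C_Q(H)`, the involution of `⟨s⟩` lies in `C_V(H)`, which is `G`-invariant, hence
`H` and `G₁` centralise `V`, and the orbit of an involution has at most 2 points.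
-/

set_option autoImplicit false

namespace Cfsg.Agent.Lib.H17.S3797DescB

open Cfsg.Agent.Lib.H19.S3797
open Cfsg.Agent.Lib.H1
open scoped Pointwise

universe u

/-- an element killed by a power of two and by an odd number is trivial -/
theorem eq_one_of_two_pow_of_odd {G : Type u} [Group G] (z : G) (k n : ℕ) (hn : Odd n)
    (h1 : z ^ (2 ^ k) = 1) (h2 : z ^ n = 1) : z = 1 := by
  have d1 : orderOf z ∣ 2 ^ k := orderOf_dvd_of_pow_eq_one h1
  have d2 : orderOf z ∣ n := orderOf_dvd_of_pow_eq_one h2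
  have hc : Nat.Coprime (2 ^ k) n := Nat.Coprime.pow_left k (Nat.coprime_two_left.2 hn)
  have d3 : orderOf z ∣ 1 := by
    have := Nat.dvd_gcd d1 d2
    rwa [hc.gcd_eq_one] at this
  exact orderOf_eq_one_iff.1 (Nat.dvd_one.1 d3)

/-- elements of a subgroup are killed by its order -/
theorem pow_card_of_mem {G : Type u} [Group G] (N : Subgroup G) {z : G} (hz : z ∈ N) :
    z ^ Nat.card N = 1 := by
  have h : (⟨z, hz⟩ : N) ^ Nat.card N = 1 := pow_card_eq_one'
  have h2 := Subtype.ext_iff.1 h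
  rw [Subgroup.coe_pow, Subgroup.coe_one] at h2
  exact h2

/-- a normal subgroup is fixed by conjugation -/
theorem conj_smul_of_normal {G : Type u} [Group G] (N : Subgroup G) (hN : N.Normal) (g : G) :
    MulAut.conj g • N = N := by
  ext x
  rw [mem_conj_smul_iff]
  constructor
  · intro h
    have := hN.conj_mem _ h g
    simpa [mul_assoc] using this
  · intro h
    have := hN.conj_mem _ h g⁻¹
    simpa [mul_assoc] using this

/-- `conj x • H = H` puts `x` in the normaliser -/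
theorem mem_normalizer_of_conj_smul {G : Type u} [Group G] (H : Subgroup G) (x : G)
    (hx : MulAut.conj x • H = H) : x ∈ Subgroup.normalizer (H : Set G) := by
  rw [Subgroup.mem_normalizer_iff]
  intro h
  have e : x⁻¹ * (x * h * x⁻¹) * x = h := by group
  constructor
  · intro hh
    have : x * h * x⁻¹ ∈ MulAut.conj x • H := by
      rw [mem_conj_smul_iff, e]; exact hh
    rwa [hx] at this
  · intro hh
    have : x * h * x⁻¹ ∈ MulAut.conj x • H := by rw [hx]; exact hh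
    rwa [mem_conj_smul_iff, e] at this

theorem descB {G : Type u} [Group G] [Finite G] (Q V : Subgroup G) (hF : Frame Q V)
    (G1 : Subgroup G) (hG1n : G1.Normal) (hG1 : G1.index = 2) (hQG1 : Q ≤ G1)
    (hodd : Odd (Q.relIndex G1)) : False := by
  have hQn : Q.Normal := hF.Qn
  have hVn : V.Normal := hF.Vn
  have : Fact (Nat.Prime 2) := ⟨Nat.prime_two⟩
  obtain ⟨k, hk⟩ := hF.Q2.exists_card_eq
  -- a complement of `Q` in `G1`
  have hQ1n : (Q.subgroupOf G1).Normal := hQn.subgroupOf G1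
  have hcardQ1 : Nat.card (Q.subgroupOf G1) = 2 ^ k := by
    rw [card_subgroupOf_of_le hQG1, hk]
  have hcop1 : (Nat.card (Q.subgroupOf G1)).Coprime (Q.subgroupOf G1).index := by
    rw [hcardQ1]; exact Nat.Coprime.pow_left k (Nat.coprime_two_left.2 hodd)
  obtain ⟨H', hH'⟩ := Subgroup.exists_right_complement'_of_coprime hcop1
  obtain ⟨H, hHdef⟩ : ∃ H : Subgroup G, H = H'.map G1.subtype := ⟨_, rfl⟩
  have hHG1 : H ≤ G1 := by rw [hHdef]; exact Subgroup.map_subtype_le H'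
  have hcardH : Nat.card H = Q.relIndex G1 := by
    rw [hHdef, Subgroup.card_map_of_injective G1.subtype_injective]
    exact hH'.symm.index_eq_card.symm
  have hHodd : Odd (Nat.card H) := by rw [hcardH]; exact hodd
  have hcop : (Nat.card Q).Coprime (Nat.card H) := by
    rw [hk]; exact Nat.Coprime.pow_left k (Nat.coprime_two_left.2 hHodd)
  have hdisj : Disjoint Q H := Subgroup.disjoint_of_coprime_natCard hcop
  have hsup : Q ⊔ H = G1 := by
    have h1 := congrArg (Subgroup.map G1.subtype) hH'.sup_eq_top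
    rw [Subgroup.map_sup, Subgroup.subgroupOf_map_subtype, inf_eq_left.2 hQG1, ← hHdef] at h1
    rw [h1, ← MonoidHom.range_eq_map, Subgroup.range_subtype]
  have hsolv : Group.IsSolvable Q := by
    have : Group.IsNilpotent Q := hF.Q2.isNilpotent
    exact inferInstance
  have hnorm : ∀ X : Subgroup G, X ≤ Subgroup.normalizer (Q : Set G) := by
    intro X
    have : Subgroup.normalizer (Q : Set G) = ⊤ := Subgroup.normalizer_eq_top Q
    rw [this]; exact le_top
  -- Frattini: `G = Q N_G(H)`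
  have hfrat : ∀ g : G, ∃ n ∈ Q, MulAut.conj (n⁻¹ * g) • H = H := by
    intro g
    have hcardK : Nat.card (MulAut.conj g • H : Subgroup G) = Nat.card H := card_conj_smul H g
    have hdisjK : Disjoint Q (MulAut.conj g • H) :=
      Subgroup.disjoint_of_coprime_natCard (by rw [hcardK]; exact hcop)
    have hsupK : Q ⊔ MulAut.conj g • H = G1 := by
      have := congrArg (fun X : Subgroup G => MulAut.conj g • X) hsup
      simp only [Subgroup.smul_sup, conj_smul_of_normal Q hQn g, conj_smul_of_normal G1 hG1n g] at this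
      exact this
    obtain ⟨n, hn, hconj⟩ := sz_conj_internal (hnorm H) (hnorm _) hcop hdisj hdisjK
      (hsup.trans hsupK.symm) (Or.inl hsolv)
    refine ⟨n, hn, ?_⟩
    rw [← conj_smul_conj_smul, ← hconj, conj_smul_conj_smul, inv_mul_cancel]
    simp
  obtain ⟨Nm, hNm⟩ : ∃ Nm : Subgroup G, Nm = Subgroup.normalizer (H : Set G) := ⟨_, rfl⟩
  have hmemNm : ∀ x : G, MulAut.conj x • H = H → x ∈ Nm := by
    intro x hx; rw [hNm]; exact mem_normalizer_of_conj_smul H x hx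
  have hNmconj : ∀ x ∈ Nm, ∀ h ∈ H, x * h * x⁻¹ ∈ H := by
    intro x hx h hh
    rw [hNm] at hx
    exact (Subgroup.mem_normalizer_iff.1 hx h).1 hh
  have hHNm : H ≤ Nm := by rw [hNm]; exact Subgroup.le_normalizer
  -- an element of `N_G(H)` outside `G1`
  obtain ⟨g0, hg0⟩ : ∃ g : G, g ∉ G1 := by
    by_contra hcon
    push Not at hcon
    have : G1 = ⊤ := (Subgroup.eq_top_iff' G1).2 hcon
    rw [this, Subgroup.index_top] at hG1
    omega
  obtain ⟨n0, hn0, hxN⟩ := hfrat g0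
  obtain ⟨x, hxdef⟩ : ∃ x, x = n0⁻¹ * g0 := ⟨_, rfl⟩
  rw [← hxdef] at hxN
  have hxNm : x ∈ Nm := hmemNm x hxN
  have hxG1 : x ∉ G1 := by
    intro h
    apply hg0
    have := G1.mul_mem (hQG1 hn0) h
    rw [hxdef, mul_inv_cancel_left] at this
    exact this
  -- its 2-part
  have hox : orderOf x ≠ 0 := (orderOf_pos x).ne'
  obtain ⟨a, m, hm, hord⟩ := Nat.exists_eq_two_pow_mul_odd hox
  obtain ⟨s, hsdef⟩ : ∃ s, s = x ^ m := ⟨_, rfl⟩
  have hs2a : s ^ (2 ^ a) = 1 := by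
    rw [hsdef, ← pow_mul, mul_comm, ← hord, pow_orderOf_eq_one]
  have hsNm : s ∈ Nm := by rw [hsdef]; exact Nm.pow_mem hxNm m
  have hsG1 : s ∉ G1 := by
    obtain ⟨j, hj⟩ := hm
    intro h
    have h1 : s = (x ^ 2) ^ j * x := by rw [hsdef, ← pow_mul, ← pow_succ, ← hj]
    rw [h1] at h
    have h2 : (x ^ 2) ^ j ∈ G1 := G1.pow_mem (Subgroup.sq_mem_of_index_two hG1 x) j
    exact hxG1 ((G1.mul_mem_cancel_left h2).1 h)
  have hs2G1 : s ^ 2 ∈ G1 := Subgroup.sq_mem_of_index_two hG1 s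
  have hs2Nm : s ^ 2 ∈ Nm := Nm.pow_mem hsNm 2
  -- `s² = q h`
  have hmemQH : s ^ 2 ∈ ((Q ⊔ H : Subgroup G) : Set G) := by rw [hsup]; exact hs2G1
  rw [Subgroup.normal_mul Q H] at hmemQH
  obtain ⟨q, hq, h, hh, hqh⟩ := Set.mem_mul.1 hmemQH
  have hq' : q ∈ Q := hq
  have hh' : h ∈ H := hh
  have hqNm : q ∈ Nm := by
    have : q = s ^ 2 * h⁻¹ := by rw [← hqh]; group
    rw [this]; exact Nm.mul_mem hs2Nm (Nm.inv_mem (hHNm hh'))
  have hqc : ∀ h1 ∈ H, q * h1 = h1 * q := by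
    intro h1 hh1
    have e1 : q * h1 * q⁻¹ * h1⁻¹ ∈ H := H.mul_mem (hNmconj q hqNm h1 hh1) (H.inv_mem hh1)
    have e2 : q * h1 * q⁻¹ * h1⁻¹ ∈ Q := by
      have : q * h1 * q⁻¹ * h1⁻¹ = q * (h1 * q⁻¹ * h1⁻¹) := by group
      rw [this]; exact Q.mul_mem hq' (hQn.conj_mem _ (Q.inv_mem hq') h1)
    have e3 : q * h1 * q⁻¹ * h1⁻¹ = 1 := Subgroup.disjoint_def.1 hdisj e2 e1
    have : q * h1 = (q * h1 * q⁻¹ * h1⁻¹) * (h1 * q) := by group
    rw [this, e3, one_mul]
  have hcomm : Commute q h := hqc h hh'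
  have hq2k : q ^ (2 ^ k) = 1 := by rw [← hk]; exact pow_card_of_mem Q hq'
  have hh1 : h = 1 := by
    apply eq_one_of_two_pow_of_odd h (a + k) (Nat.card H) hHodd _ (pow_card_of_mem H hh')
    have e1 : (s ^ 2) ^ (2 ^ (a + k)) = 1 := by
      have : 2 * 2 ^ (a + k) = 2 ^ a * (2 * 2 ^ k) := by ring
      rw [← pow_mul, this, pow_mul, hs2a, one_pow]
    have e2 : q ^ (2 ^ (a + k)) = 1 := by
      rw [pow_add, mul_comm, pow_mul, hq2k, one_pow]
    have e3 : (q * h) ^ (2 ^ (a + k)) = 1 := by rw [hqh]; exact e1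
    rw [hcomm.mul_pow, e2, one_mul] at e3
    exact e3
  have hs2q : s ^ 2 = q := by rw [← hqh, hh1, mul_one]
  have hs2ne : s ^ 2 ≠ 1 := by
    intro h1
    exact hsG1 (hQG1 (hF.VQ ((hF.Vmem s).2 h1)))
  -- the involution of `⟨s⟩`
  have hdvd : orderOf (s ^ 2) ∣ 2 ^ a :=
    orderOf_dvd_of_pow_eq_one (by rw [← pow_mul, mul_comm, pow_mul, hs2a, one_pow])
  obtain ⟨b, hba, hb⟩ := (Nat.dvd_prime_pow Nat.prime_two).1 hdvd
  have hb0 : b ≠ 0 := by
    rintro rfl
    rw [pow_zero, orderOf_eq_one_iff] at hb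
    exact hs2ne hb
  obtain ⟨t, ht⟩ : ∃ t, t = (s ^ 2) ^ (2 ^ (b - 1)) := ⟨_, rfl⟩
  have ht1 : t ≠ 1 := by
    rw [ht]
    apply pow_ne_one_of_lt_orderOf (by positivity)
    rw [hb]; exact Nat.pow_lt_pow_right (by norm_num) (by omega)
  have ht2 : t ^ 2 = 1 := by
    rw [ht, ← pow_mul, ← pow_succ, Nat.sub_add_cancel (Nat.one_le_iff_ne_zero.2 hb0), ← hb,
      pow_orderOf_eq_one]
  have htV : t ∈ V := (hF.Vmem t).2 ht2
  have htc : ∀ h1 ∈ H, h1 * t = t * h1 := by
    intro h1 hh1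
    rw [ht, hs2q]
    exact (Commute.pow_right (show Commute h1 q from (hqc h1 hh1).symm) _).eq
  -- `C_V(H)` is `G`-invariant
  have hinv : ∀ g : G, ∀ w ∈ V, (∀ h1 ∈ H, h1 * w = w * h1) →
      ∀ h1 ∈ H, h1 * (g * w * g⁻¹) = (g * w * g⁻¹) * h1 := by
    intro g w hw hcw h1 hh1
    obtain ⟨n, hn, hy⟩ := hfrat g
    obtain ⟨y, hydef⟩ : ∃ y, y = n⁻¹ * g := ⟨_, rfl⟩
    rw [← hydef] at hy
    have hyNm : y ∈ Nm := hmemNm y hy
    have hg : g = n * y := by rw [hydef]; group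
    have hyw : y * w * y⁻¹ ∈ V := hVn.conj_mem w hw y
    have e1 : g * w * g⁻¹ = y * w * y⁻¹ := by
      have hc := hF.Vcen _ hyw n hn
      have e : g * w * g⁻¹ = n * (y * w * y⁻¹) * n⁻¹ := by rw [hg]; group
      rw [e, hc]; group
    rw [e1]
    have hy' : y⁻¹ * h1 * y ∈ H := by
      have := hNmconj y⁻¹ (Nm.inv_mem hyNm) h1 hh1
      simpa using this
    have e2 := hcw _ hy'
    calc h1 * (y * w * y⁻¹) = y * ((y⁻¹ * h1 * y) * w) * y⁻¹ := by group
      _ = y * (w * (y⁻¹ * h1 * y)) * y⁻¹ := by rw [e2]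
      _ = y * w * y⁻¹ * h1 := by group
  have hHV : ∀ w ∈ V, ∀ h1 ∈ H, h1 * w = w * h1 := by
    intro w hw h1 hh1
    by_cases hw1 : w = 1
    · rw [hw1]; simp
    · obtain ⟨g, hg⟩ := hF.trans t w htV hw ht1 hw1
      rw [← hg]; exact hinv g t htV htc h1 hh1
  have hG1V : ∀ g ∈ G1, ∀ w ∈ V, g * w = w * g := by
    intro g hg w hw
    have hmem : g ∈ ((Q ⊔ H : Subgroup G) : Set G) := by rw [hsup]; exact hg
    rw [Subgroup.normal_mul Q H] at hmem
    obtain ⟨q1, hq1, h1, hh1, rfl⟩ := Set.mem_mul.1 hmem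
    rw [mul_assoc, hHV w hw h1 hh1, ← mul_assoc, hF.Vcen w hw q1 hq1, mul_assoc]
  -- the orbit of an involution has at most two points
  obtain ⟨x1, y1, hxy, hx1, hx2, hy1, hy2⟩ := hF.four
  have hxV : x1 ∈ V := (hF.Vmem x1).2 hx2
  have hyV : y1 ∈ V := (hF.Vmem y1).2 hy2
  obtain ⟨z, hz⟩ : ∃ z, z = x1 * y1 := ⟨_, rfl⟩
  have hzV : z ∈ V := by rw [hz]; exact V.mul_mem hxV hyV
  have hz1 : z ≠ 1 := by
    intro h; apply hxy
    have e : y1⁻¹ = y1 := by
      have : y1 * y1 = 1 := by rw [← pow_two]; exact hy2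
      exact inv_eq_of_mul_eq_one_left this
    rw [hz] at h
    have := eq_inv_of_mul_eq_one_left h
    rw [this, e]
  have hzx : z ≠ x1 := by
    intro h; apply hy1
    rw [hz] at h
    exact mul_left_cancel (a := x1) (by rw [h, mul_one])
  obtain ⟨gy, hgy⟩ := hF.trans x1 y1 hxV hyV hx1 hy1
  obtain ⟨gz, hgz⟩ := hF.trans x1 z hxV hzV hx1 hz1
  have fix : ∀ g ∈ G1, g * x1 * g⁻¹ = x1 := by
    intro g hg; rw [hG1V g hg x1 hxV]; group
  have hgy1 : gy ∉ G1 := fun h => hxy (by rw [← hgy, fix gy h])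
  have hgz1 : gz ∉ G1 := fun h => hzx (by rw [← hgz, fix gz h])
  have hc : gy⁻¹ * gz ∈ G1 := by
    rw [Subgroup.mul_mem_iff_of_index_two hG1]
    constructor
    · intro h; exact absurd (G1.inv_mem_iff.1 h) hgy1
    · intro h; exact absurd h hgz1
  have e : z = y1 := by
    rw [← hgz, ← hgy]
    have : gz * x1 * gz⁻¹ = gy * ((gy⁻¹ * gz) * x1 * (gy⁻¹ * gz)⁻¹) * gy⁻¹ := by group
    rw [this, fix _ hc]
  apply hx1
  rw [hz] at e
  exact mul_right_cancel (b := y1) (by rw [e, one_mul])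

/-- the form with a Sylow 2-subgroup: `Q = S ∩ G₁` is impossible -/
theorem descB_sylow {G : Type u} [Group G] [Finite G] (Q V : Subgroup G) (hF : Frame Q V)
    (G1 : Subgroup G) (hG1n : G1.Normal) (hG1 : G1.index = 2) (S : Sylow 2 G)
    (hQ : Q = (S : Subgroup G) ⊓ G1) : False := by
  have : Fact (Nat.Prime 2) := ⟨Nat.prime_two⟩
  apply descB Q V hF G1 hG1n hG1 (by rw [hQ]; exact inf_le_right)
  rw [hQ, Subgroup.inf_relIndex_right]
  have h2 : ¬ 2 ∣ (S : Subgroup G).index := S.not_dvd_index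
  have hr : G1.relIndex (S : Subgroup G) ∣ 2 := by
    have h0 := Subgroup.relIndex_dvd_index_of_normal G1 (S : Subgroup G)
    rwa [hG1] at h0
  have e1 : (S : Subgroup G).relIndex G1 * G1.index = ((S : Subgroup G) ⊓ G1).index := by
    have := Subgroup.relIndex_inf_mul_relIndex (S : Subgroup G) G1 (⊤ : Subgroup G)
    simpa using this
  have e2 : G1.relIndex (S : Subgroup G) * (S : Subgroup G).index = (G1 ⊓ (S : Subgroup G)).index := by
    have := Subgroup.relIndex_inf_mul_relIndex G1 (S : Subgroup G) (⊤ : Subgroup G)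
    simpa using this
  rw [inf_comm] at e2
  rw [hG1] at e1
  have heq : (S : Subgroup G).relIndex G1 * 2 = G1.relIndex (S : Subgroup G) * (S : Subgroup G).index :=
    e1.trans e2.symm
  rw [← Nat.not_even_iff_odd, even_iff_two_dvd]
  rintro ⟨c, hc⟩
  obtain ⟨r', hr'⟩ := hr
  apply h2
  have h3 : (S : Subgroup G).index * 2 = (2 * (c * r')) * 2 := by
    calc (S : Subgroup G).index * 2 = (S : Subgroup G).index * (G1.relIndex (S : Subgroup G) * r') := by
          rw [← hr']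
      _ = (G1.relIndex (S : Subgroup G) * (S : Subgroup G).index) * r' := by ring
      _ = ((S : Subgroup G).relIndex G1 * 2) * r' := by rw [heq]
      _ = (2 * (c * r')) * 2 := by rw [hc]; ring
  exact ⟨c * r', Nat.eq_of_mul_eq_mul_right (by norm_num) h3⟩

end Cfsg.Agent.Lib.H17.S3797DescB
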