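import Cfsg.Agent.Lib.H19.S3797Defs

/-!
# S3797, piece REDA (helper17): pass to `G ⧸ N`, `N` a normal subgroup of odd order of maximal order

`reda : Cfsg.Agent.Lib.H19.S3797.RedAStmt`.
-/

set_option autoImplicit false

namespace Cfsg.Agent.Lib.H17.S3797RedA

universe u

/-- an element killed by a power of two and by an odd number is trivial -/
theorem eq_one_of_pow_two_pow_of_pow_odd {G : Type u} [Group G] (z : G) (k n : ℕ) (hn : Odd n)
    (h1 : z ^ (2 ^ k) = 1) (h2 : z ^ n = 1) : z = 1 := by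
  have d1 : orderOf z ∣ 2 ^ k := orderOf_dvd_of_pow_eq_one h1
  have d2 : orderOf z ∣ n := orderOf_dvd_of_pow_eq_one h2
  have hc : Nat.Coprime (2 ^ k) n := Nat.Coprime.pow_left k (Nat.coprime_two_left.2 hn)
  have d3 : orderOf z ∣ 1 := by
    have := Nat.dvd_gcd d1 d2
    rwa [hc.gcd_eq_one] at this
  exact orderOf_eq_one_iff.1 (Nat.dvd_one.1 d3)

/-- elements of a subgroup are killed by its order -/
theorem pow_card_eq_one_of_mem {G : Type u} [Group G] (N : Subgroup G) {z : G} (hz : z ∈ N) :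
    z ^ Nat.card N = 1 := by
  have h : (⟨z, hz⟩ : N) ^ Nat.card N = 1 := pow_card_eq_one'
  have h2 := Subtype.ext_iff.1 h
  rw [Subgroup.coe_pow, Subgroup.coe_one] at h2
  exact h2

/-- involutions of `G ⧸ N` lift to involutions of `G` when `N` has odd order -/
theorem lift_invol {G : Type u} [Group G] (N : Subgroup G) [N.Normal] (hN : Odd (Nat.card N))
    (X : G ⧸ N) (hX1 : X ≠ 1) (hX2 : X ^ 2 = 1) :
    ∃ t : G, t ≠ 1 ∧ t ^ 2 = 1 ∧ (t : G ⧸ N) = X := by
  obtain ⟨x, rfl⟩ := QuotientGroup.mk_surjective X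
  have hx2 : x ^ 2 ∈ N := by
    have : ((x ^ 2 : G) : G ⧸ N) = 1 := by
      rw [QuotientGroup.mk_pow]; exact hX2
    exact (QuotientGroup.eq_one_iff _).1 this
  obtain ⟨m, hm⟩ := hN
  have hval : ((x ^ Nat.card N : G) : G ⧸ N) = (x : G ⧸ N) := by
    rw [QuotientGroup.mk_pow, hm, pow_succ, pow_mul, hX2, one_pow, one_mul]
  refine ⟨x ^ Nat.card N, ?_, ?_, hval⟩
  · intro h
    apply hX1
    rw [← hval, h]; rfl
  · rw [← pow_mul, mul_comm, pow_mul]
    exact pow_card_eq_one_of_mem N hx2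

theorem reda : Cfsg.Agent.Lib.H19.S3797.RedAStmt.{u} := by
  intro G _ _ hsol S htwo hconj
  classical
  -- choose `N` normal of odd order with maximal order
  let T := {N : Subgroup G // N.Normal ∧ Odd (Nat.card N)}
  have : Nonempty T := ⟨⟨⊥, inferInstance, by simp⟩⟩
  obtain ⟨⟨N, hNn, hNodd⟩, hmax⟩ := Finite.exists_max (fun N : T => Nat.card N.1)
  have hmax' : ∀ M : Subgroup G, M.Normal → Odd (Nat.card M) → Nat.card M ≤ Nat.card N :=
    fun M h1 h2 => hmax ⟨M, h1, h2⟩
  refine ⟨N, hNn, hNodd, ?_, ?_, ?_, ?_⟩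
  · -- solvable
    exact inferInstance
  · -- no normal odd subgroup
    intro M hMn hModd
    let f := QuotientGroup.mk' N
    have hf : Function.Surjective f := QuotientGroup.mk'_surjective N
    let M' := M.comap f
    have hM'n : M'.Normal := hMn.comap f
    have hNM' : N ≤ M' := by
      intro z hz
      change f z ∈ M
      have : f z = 1 := (QuotientGroup.eq_one_iff z).2 hz
      rw [this]; exact M.one_mem
    have hker : (⊥ : Subgroup (G ⧸ N)).comap f = N := by
      rw [MonoidHom.comap_bot, QuotientGroup.ker_mk']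
    have hrel : N.relIndex M' = Nat.card M := by
      have h1 := Subgroup.relIndex_comap (H := (⊥ : Subgroup (G ⧸ N))) f M'
      rw [hker, Subgroup.map_comap_eq_self_of_surjective hf, Subgroup.relIndex_bot_left] at h1
      exact h1
    have hcard : Nat.card N * Nat.card M = Nat.card M' := by
      have h2 := Subgroup.relIndex_mul_relIndex (⊥ : Subgroup G) N M' bot_le hNM'
      rw [Subgroup.relIndex_bot_left, Subgroup.relIndex_bot_left, hrel] at h2
      exact h2
    have hM'odd : Odd (Nat.card M') := by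
      rw [← hcard]; exact hNodd.mul hModd
    have hle : Nat.card M' ≤ Nat.card N := hmax' M' hM'n hM'odd
    have heq : N = M' := Subgroup.eq_of_le_of_card_ge hNM' hle
    have : M = M'.map f := (Subgroup.map_comap_eq_self_of_surjective hf M).symm
    rw [this, ← heq]
    exact QuotientGroup.map_mk'_self N
  · -- one class of involutions
    intro X Y hX1 hX2 hY1 hY2
    obtain ⟨t, ht1, ht2, rfl⟩ := lift_invol N hNodd X hX1 hX2
    obtain ⟨s, hs1, hs2, rfl⟩ := lift_invol N hNodd Y hY1 hY2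
    exact (QuotientGroup.mk' N).map_isConj (hconj t s ht1 ht2 hs1 hs2)
  · -- at least two involutions
    obtain ⟨x, y, hxS, hyS, hxy, hx1, hx2, hy1, hy2⟩ := htwo
    have hne : ∀ z : G, z ≠ 1 → z ^ 2 = 1 → (z : G ⧸ N) ≠ 1 := by
      intro z hz1 hz2 h
      have hzN : z ∈ N := (QuotientGroup.eq_one_iff z).1 h
      exact hz1 (eq_one_of_pow_two_pow_of_pow_odd z 1 (Nat.card N) hNodd (by simpa using hz2)
        (pow_card_eq_one_of_mem N hzN))
    refine ⟨(x : G ⧸ N), (y : G ⧸ N), ?_, hne x hx1 hx2, ?_, hne y hy1 hy2, ?_⟩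
    · intro h
      have hmem : x⁻¹ * y ∈ N := QuotientGroup.eq.1 h
      have hS : x⁻¹ * y ∈ (S : Subgroup G) := (S : Subgroup G).mul_mem ((S : Subgroup G).inv_mem hxS) hyS
      obtain ⟨k, hk⟩ := S.isPGroup' ⟨x⁻¹ * y, hS⟩
      have hk' : (x⁻¹ * y) ^ (2 ^ k) = 1 := by
        have := congrArg (fun t : (S : Subgroup G) => (t : G)) hk
        simpa using this
      have := eq_one_of_pow_two_pow_of_pow_odd (x⁻¹ * y) k (Nat.card N) hNodd hk'
        (pow_card_eq_one_of_mem N hmem)
      apply hxy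
      have h3 : x * (x⁻¹ * y) = x * 1 := by rw [this]
      simpa using h3.symm
    · rw [← QuotientGroup.mk_pow, hx2]; rfl
    · rw [← QuotientGroup.mk_pow, hy2]; rfl

example : Cfsg.Agent.Lib.H19.S3797.RedAStmt.{0} := reda

end Cfsg.Agent.Lib.H17.S3797RedA
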