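import Cfsg.Agent.Lib.H24.S4415GD
import Cfsg.Agent.Lib.H10.S4415BadAsm

/-!
helper17: S4415 GOOD block, `n = 4`, part (c) of `FourStmt` (twin): the sign cocycle of a monomial
frame, the product of signs is `1` on `R = [R,b]`, two-transitivity of `φ(R<b>)` on `Fin 4`, the
diagonal elements `d_{ij} ∈ R` and `z = -1 ∈ R`.
-/

set_option autoImplicit false

namespace Cfsg.Agent.Lib.H17.S4415G5c

open Cfsg.Agent.Lib.H10.S4415 Cfsg.Agent.Lib.H24.S4415G
open scoped commutatorElement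

variable {S E : Type*} [Group S] [AddCommGroup E] [Module (ZMod 3) E]
variable {ρ : Representation (ZMod 3) S E} {R : Subgroup S} {b : S} {W : Submodule (ZMod 3) E}
  {n : ℕ} {f : Fin n → E} {φ : ↥(RB R b) → Equiv.Perm (Fin n)}

/-- The sign of `g` at the frame vector `f i`. -/
noncomputable def sgn (ρ : Representation (ZMod 3) S E) (f : Fin n → E)
    (φ : ↥(RB R b) → Equiv.Perm (Fin n)) (g : ↥(RB R b)) (i : Fin n) : ZMod 3 := by
  classical exact if ρ (g : S) (f i) = f (φ g i) then 1 else -1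

theorem sgn_pm (g : ↥(RB R b)) (i : Fin n) : sgn ρ f φ g i = 1 ∨ sgn ρ f φ g i = -1 := by
  unfold sgn
  split_ifs
  · exact Or.inl rfl
  · exact Or.inr rfl

theorem sgn_sq (g : ↥(RB R b)) (i : Fin n) : sgn ρ f φ g i * sgn ρ f φ g i = 1 := by
  rcases sgn_pm (ρ := ρ) (f := f) (φ := φ) g i with h | h <;> rw [h] <;> decide

theorem sgn_spec (hM : MonoFrame ρ R b W f φ) (g : ↥(RB R b)) (i : Fin n) :
    ρ (g : S) (f i) = sgn ρ f φ g i • f (φ g i) := by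
  unfold sgn
  split_ifs with h
  · rw [h, one_smul]
  · rcases hM.mono g i with h' | h'
    · exact absurd h' h
    · rw [h', neg_smul, one_smul]

theorem smul_f_inj (hM : MonoFrame ρ R b W f φ) {i : Fin n} {c c' : ZMod 3}
    (h : c • f i = c' • f i) : c = c' := by
  have h0 : (c - c') • f i = 0 := by rw [sub_smul, h, sub_self]
  rcases smul_eq_zero.1 h0 with h1 | h1
  · exact sub_eq_zero.1 h1
  · exact absurd h1 (f_ne_zero hM i)

theorem sgn_unique (hM : MonoFrame ρ R b W f φ) (g : ↥(RB R b)) (i : Fin n) (c : ZMod 3)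
    (h : ρ (g : S) (f i) = c • f (φ g i)) : c = sgn ρ f φ g i := by
  rw [sgn_spec hM g i] at h
  exact (smul_f_inj hM h).symm

theorem sgn_mul (hM : MonoFrame ρ R b W f φ) (g h : ↥(RB R b)) (i : Fin n) :
    sgn ρ f φ (g * h) i = sgn ρ f φ h i * sgn ρ f φ g (φ h i) := by
  symm
  apply sgn_unique hM
  rw [Subgroup.coe_mul, rho_mul_apply, sgn_spec hM h i, map_smul, sgn_spec hM g (φ h i), smul_smul,
    phi_mul hM g h, Equiv.Perm.mul_apply]

theorem sgn_one (hM : MonoFrame ρ R b W f φ) (i : Fin n) : sgn ρ f φ 1 i = 1 := by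
  symm
  apply sgn_unique hM
  rw [phi_one hM, Subgroup.coe_one, map_one, one_smul]
  rfl

/-- The product of the signs. -/
noncomputable def prodSgn (ρ : Representation (ZMod 3) S E) (f : Fin n → E)
    (φ : ↥(RB R b) → Equiv.Perm (Fin n)) (g : ↥(RB R b)) : ZMod 3 := ∏ i, sgn ρ f φ g i

theorem prodSgn_mul (hM : MonoFrame ρ R b W f φ) (g h : ↥(RB R b)) :
    prodSgn ρ f φ (g * h) = prodSgn ρ f φ g * prodSgn ρ f φ h := by
  unfold prodSgn
  simp_rw [sgn_mul hM g h]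
  rw [Finset.prod_mul_distrib, Equiv.prod_comp (φ h) (fun j => sgn ρ f φ g j), mul_comm]

theorem prodSgn_one (hM : MonoFrame ρ R b W f φ) : prodSgn ρ f φ 1 = 1 := by
  unfold prodSgn
  simp_rw [sgn_one hM]
  simp

/-- `prodSgn` as a monoid hom. -/
noncomputable def prodHom (hM : MonoFrame ρ R b W f φ) : ↥(RB R b) →* ZMod 3 where
  toFun := prodSgn ρ f φ
  map_one' := prodSgn_one hM
  map_mul' := prodSgn_mul hM

/-- The product of the signs is `1` on `R = [R,b]`. -/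
theorem prodSgn_R (hL : LinCtx ρ R b W) (hM : MonoFrame ρ R b W f φ) (r : ↥(RB R b))
    (hr : (r : S) ∈ R) : prodSgn ρ f φ r = 1 := by
  have hle : ⁅R, Subgroup.zpowers b⁆ ≤ (prodHom hM).ker.map (RB R b).subtype := by
    rw [Subgroup.commutator_le]
    intro x hx y hy
    have hx' : x ∈ RB R b := Cfsg.Agent.Lib.H10.S4415.R_le_RB hx
    have hy' : y ∈ RB R b := (le_sup_right : Subgroup.zpowers b ≤ R ⊔ Subgroup.zpowers b) hy
    refine ⟨⁅(⟨x, hx'⟩ : ↥(RB R b)), ⟨y, hy'⟩⁆, ?_, rfl⟩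
    rw [SetLike.mem_coe, MonoidHom.mem_ker, commutatorElement_def, map_mul, map_mul, map_mul]
    have e1 : prodHom hM ⟨x, hx'⟩ * prodHom hM (⟨x, hx'⟩ : ↥(RB R b))⁻¹ = 1 := by
      rw [← map_mul, mul_inv_cancel, map_one]
    have e2 : prodHom hM ⟨y, hy'⟩ * prodHom hM (⟨y, hy'⟩ : ↥(RB R b))⁻¹ = 1 := by
      rw [← map_mul, mul_inv_cancel, map_one]
    calc prodHom hM ⟨x, hx'⟩ * prodHom hM ⟨y, hy'⟩ * prodHom hM (⟨x, hx'⟩ : ↥(RB R b))⁻¹ *
          prodHom hM (⟨y, hy'⟩ : ↥(RB R b))⁻¹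
        = (prodHom hM ⟨x, hx'⟩ * prodHom hM (⟨x, hx'⟩ : ↥(RB R b))⁻¹) *
          (prodHom hM ⟨y, hy'⟩ * prodHom hM (⟨y, hy'⟩ : ↥(RB R b))⁻¹) := by ring
      _ = 1 := by rw [e1, e2, mul_one]
  rw [hL.R_comm] at hle
  obtain ⟨y, hy, hyr⟩ := hle hr
  have : y = r := Subtype.ext hyr
  rw [← this]
  exact hy

/-- helper12's `hP` shape. -/
theorem prod_sign_eq_one (hL : LinCtx ρ R b W) (hM : MonoFrame ρ R b W f φ) :
    ∀ r : ↥(RB R b), (r : S) ∈ R → ∀ c : Fin n → ZMod 3,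
      (∀ i, ρ (r : S) (f i) = c i • f (φ r i)) → ∏ i, c i = 1 := by
  intro r hr c hc
  have : ∀ i, c i = sgn ρ f φ r i := fun i => sgn_unique hM r i (c i) (hc i)
  simp_rw [this]
  exact prodSgn_R hL hM r hr

section four

variable {f : Fin 4 → E} {φ : ↥(RB R b) → Equiv.Perm (Fin 4)}

/-- A `3`-cycle on `Fin 4` has a fixed point, and moves every other point. -/
theorem three_cycle_fix (c : Equiv.Perm (Fin 4)) (hc : c.IsThreeCycle) :
    ∃ p, c p = p ∧ ∀ x, x ≠ p → c x ≠ x := by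
  have hcard := hc.card_support
  have hex : ∃ p, p ∉ c.support := by
    by_contra hne
    push Not at hne
    have : c.support = Finset.univ := Finset.eq_univ_iff_forall.2 hne
    rw [this, Finset.card_univ, Fintype.card_fin] at hcard
    omega
  obtain ⟨p, hp⟩ := hex
  refine ⟨p, Equiv.Perm.notMem_support.1 hp, ?_⟩
  intro x hxp hx
  have hx' : x ∉ c.support := Equiv.Perm.notMem_support.2 hx
  have hsub : c.support ⊆ (Finset.univ.erase p).erase x := by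
    intro y hy
    rw [Finset.mem_erase, Finset.mem_erase]
    refine ⟨?_, ?_, Finset.mem_univ _⟩
    · rintro rfl; exact hx' hy
    · rintro rfl; exact hp hy
  have h1 := Finset.card_le_card hsub
  rw [Finset.card_erase_of_mem (by rw [Finset.mem_erase]; exact ⟨hxp, Finset.mem_univ _⟩),
    Finset.card_erase_of_mem (Finset.mem_univ _), Finset.card_univ, Fintype.card_fin, hcard] at h1
  omega

/-- `φ(R<b>)` is `2`-transitive on `Fin 4`. -/
theorem two_trans (hM : MonoFrame ρ R b W f φ) :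
    ∀ i j k l : Fin 4, i ≠ j → k ≠ l → ∃ g : ↥(RB R b), φ g i = k ∧ φ g j = l := by
  intro i j k l hij hkl
  obtain ⟨p, hp, hmove⟩ := three_cycle_fix _ hM.three
  obtain ⟨g₁, hg₁⟩ := hM.trans i p
  obtain ⟨g₂, hg₂⟩ := hM.trans k p
  have hx : φ g₁ j ≠ p := by
    intro h; rw [← hg₁] at h; exact hij ((φ g₁).injective h).symm
  have hy : φ g₂ l ≠ p := by
    intro h; rw [← hg₂] at h; exact hkl ((φ g₂).injective h).symm
  obtain ⟨t, ht⟩ := hM.three.isCycle.exists_zpow_eq (hmove _ hx) (hmove _ hy)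
  refine ⟨g₂⁻¹ * bRB R b ^ t * g₁, ?_, ?_⟩
  · have e : φ (g₂⁻¹ * bRB R b ^ t * g₁) = (φ g₂)⁻¹ * (φ (bRB R b)) ^ t * φ g₁ := by
      show phiHom hM (g₂⁻¹ * bRB R b ^ t * g₁) =
        (phiHom hM g₂)⁻¹ * (phiHom hM (bRB R b)) ^ t * phiHom hM g₁
      rw [map_mul, map_mul, map_inv, map_zpow]
    rw [e, Equiv.Perm.mul_apply, Equiv.Perm.mul_apply, hg₁,
      Equiv.Perm.zpow_apply_eq_self_of_apply_eq_self hp, Equiv.Perm.inv_eq_iff_eq, hg₂]
  · have e : φ (g₂⁻¹ * bRB R b ^ t * g₁) = (φ g₂)⁻¹ * (φ (bRB R b)) ^ t * φ g₁ := by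
      show phiHom hM (g₂⁻¹ * bRB R b ^ t * g₁) =
        (phiHom hM g₂)⁻¹ * (phiHom hM (bRB R b)) ^ t * phiHom hM g₁
      rw [map_mul, map_mul, map_inv, map_zpow]
    rw [e, Equiv.Perm.mul_apply, Equiv.Perm.mul_apply, ht, Equiv.Perm.inv_eq_iff_eq]

theorem sign_pattern : ∀ c : Fin 4 → ZMod 3, (∀ k, c k = 1 ∨ c k = -1) → ∏ k, c k = 1 →
    ∀ i₀ j₀ : Fin 4, c i₀ = 1 → c j₀ = -1 →
      ∃ j₁, j₁ ≠ j₀ ∧ c j₁ = -1 ∧ ∀ k, k ≠ j₀ → k ≠ j₁ → c k = 1 := by
  decide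

/-- Conjugation formula for the signs: `g a g⁻¹` has at `φ g k` the sign of `a` at `k`
(for `a` with `φ a = 1`). -/
theorem conj_sign (hM : MonoFrame ρ R b W f φ) (g a : ↥(RB R b)) (hφa : φ a = 1) (k : Fin 4) :
    ρ ((g * a * g⁻¹ : ↥(RB R b)) : S) (f (φ g k)) = sgn ρ f φ a k • f (φ g k) := by
  have h1 : f (φ g k) = ρ (g : S) (sgn ρ f φ g k • f k) := by
    rw [map_smul, sgn_spec hM g k, smul_smul, sgn_sq, one_smul]
  have h2 : ρ ((g⁻¹ : ↥(RB R b)) : S) (f (φ g k)) = sgn ρ f φ g k • f k := by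
    rw [h1, Subgroup.coe_inv, rho_inv_apply]
  have h3 : ρ (a : S) (f k) = sgn ρ f φ a k • f k := by
    have := sgn_spec hM a k
    rw [hφa, Equiv.Perm.one_apply] at this
    exact this
  rw [Subgroup.coe_mul, Subgroup.coe_mul, rho_mul_apply, rho_mul_apply, h2, map_smul, h3, map_smul,
    map_smul, sgn_spec hM g k, smul_smul, smul_smul]
  congr 1
  calc sgn ρ f φ g k * sgn ρ f φ a k * sgn ρ f φ g k
      = sgn ρ f φ a k * (sgn ρ f φ g k * sgn ρ f φ g k) := by ring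
    _ = sgn ρ f φ a k := by rw [sgn_sq, mul_one]

/-- Part (c): the six diagonal elements of weight two lie in `R` (helper12's `hD` shape). -/
theorem diag_pairs [Finite S] (hL : LinCtx ρ R b W) (hM : MonoFrame ρ R b W f φ) :
    ∀ i j : Fin 4, i ≠ j → ∃ r : ↥(RB R b), (r : S) ∈ R ∧ φ r = 1 ∧
      ρ (r : S) (f i) = -f i ∧ ρ (r : S) (f j) = -f j ∧
      ∀ k, k ≠ i → k ≠ j → ρ (r : S) (f k) = f k := by
  intro i j hij
  obtain ⟨a, haR, hφa, i₀, j₀, h1, h2⟩ := hM.nonscalar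
  have hc1 : sgn ρ f φ a i₀ = 1 := by
    symm; apply sgn_unique hM
    rw [hφa, Equiv.Perm.one_apply, one_smul]; exact h1
  have hc2 : sgn ρ f φ a j₀ = -1 := by
    symm; apply sgn_unique hM
    rw [hφa, Equiv.Perm.one_apply, neg_smul, one_smul]; exact h2
  obtain ⟨j₁, hj₁, hc3, hc4⟩ := sign_pattern (fun k => sgn ρ f φ a k) (fun k => sgn_pm a k)
    (prodSgn_R hL hM a haR) i₀ j₀ hc1 hc2
  obtain ⟨g, hg1, hg2⟩ := two_trans hM j₀ j₁ i j (Ne.symm hj₁) hij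
  refine ⟨g * a * g⁻¹, ?_, ?_, ?_, ?_, ?_⟩
  · have := normBy_R hL.b_norm (g : S) g.2 (a : S) haR
    simpa using this
  · show phiHom hM (g * a * g⁻¹) = 1
    rw [map_mul, map_mul, map_inv, phiHom_apply, phiHom_apply, hφa, mul_one, mul_inv_cancel]
  · rw [← hg1, conj_sign hM g a hφa j₀, hc2, neg_smul, one_smul]
  · rw [← hg2, conj_sign hM g a hφa j₁, hc3, neg_smul, one_smul]
  · intro k hki hkj
    obtain ⟨k', rfl⟩ : ∃ k', k = φ g k' := ⟨(φ g).symm k, by simp⟩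
    have hk0 : k' ≠ j₀ := by rintro rfl; exact hki hg1
    have hk1 : k' ≠ j₁ := by rintro rfl; exact hkj hg2
    rw [conj_sign hM g a hφa k', hc4 k' hk0 hk1, one_smul]

/-- `z = -1` lies in `R`. -/
theorem exists_neg [Finite S] (hL : LinCtx ρ R b W) (hM : MonoFrame ρ R b W f φ) :
    ∃ z ∈ R, IsNeg ρ W z := by
  obtain ⟨r₁, hr₁R, -, a0, a1, a2⟩ := diag_pairs hL hM 0 1 (by decide)
  obtain ⟨r₂, hr₂R, -, b2, b3, b4⟩ := diag_pairs hL hM 2 3 (by decide)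
  refine ⟨(r₁ : S) * (r₂ : S), R.mul_mem hr₁R hr₂R, ?_⟩
  have hf : ∀ k : Fin 4, ρ ((r₁ : S) * (r₂ : S)) (f k) = -f k := by
    intro k
    rw [rho_mul_apply]
    fin_cases k
    · show ρ (r₁ : S) (ρ (r₂ : S) (f 0)) = -f 0
      rw [b4 0 (by decide) (by decide)]; exact a0
    · show ρ (r₁ : S) (ρ (r₂ : S) (f 1)) = -f 1
      rw [b4 1 (by decide) (by decide)]; exact a1
    · show ρ (r₁ : S) (ρ (r₂ : S) (f 2)) = -f 2
      rw [b2, map_neg, a2 2 (by decide) (by decide)]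
    · show ρ (r₁ : S) (ρ (r₂ : S) (f 3)) = -f 3
      rw [b3, map_neg, a2 3 (by decide) (by decide)]
  intro w hw
  have hspan := hM.span w hw
  have heq : Set.EqOn (ρ ((r₁ : S) * (r₂ : S))) (-LinearMap.id : E →ₗ[ZMod 3] E)
      (Submodule.span (ZMod 3) (Set.range f)) := by
    apply LinearMap.eqOn_span
    rintro _ ⟨k, rfl⟩
    rw [hf k]; rfl
  have := heq hspan
  rw [this]; rfl

/-- helper16's `hdiag` shape: a diagonal element of `R` with sign `-1` at `i` and `+1` at `j`. -/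
theorem diag_pm [Finite S] (hL : LinCtx ρ R b W) (hM : MonoFrame ρ R b W f φ) :
    ∀ i j : Fin 4, i ≠ j → ∃ a : ↥(RB R b), (a : S) ∈ R ∧ φ a = 1 ∧
      ρ (a : S) (f i) = -f i ∧ ρ (a : S) (f j) = f j := by
  intro i j hij
  obtain ⟨k, hki, hkj⟩ : ∃ k : Fin 4, k ≠ i ∧ k ≠ j := by
    revert i j; decide
  obtain ⟨r, hrR, hφr, h1, -, h3⟩ := diag_pairs hL hM i k (Ne.symm hki)
  exact ⟨r, hrR, hφr, h1, h3 j (Ne.symm hij) (Ne.symm hkj)⟩

end four

end Cfsg.Agent.Lib.H17.S4415G5c
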