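import Mathlib

set_option autoImplicit false

/-!
# An explicit fixed-point-free embedding `SL(2,5) → M₂(𝔽₁₁)`

Every element of `SL(2,5)` is given a word in the generators `S = [[0,-1],[1,0]]`, `T = [[1,1],[0,1]]`
(table `tab`, found by breadth-first search); the word is evaluated in `M₂(𝔽₁₁)` at
`S' = [[10,1],[9,1]]`, `T' = diag(3,4)`.  All checks are done on 4-tuples by kernel `decide`.
-/

namespace Cfsg.Agent.Lib.H17.SL25

open Matrix

/-- 2×2 matrices as 4-tuples -/
abbrev Q4 (R : Type) := R × R × R × R

def mul4 {R : Type} [Mul R] [Add R] (x y : Q4 R) : Q4 R :=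
  (x.1 * y.1 + x.2.1 * y.2.2.1, x.1 * y.2.1 + x.2.1 * y.2.2.2,
   x.2.2.1 * y.1 + x.2.2.2 * y.2.2.1, x.2.2.1 * y.2.1 + x.2.2.2 * y.2.2.2)

def det4 {R : Type} [Mul R] [Sub R] (x : Q4 R) : R := x.1 * x.2.2.2 - x.2.1 * x.2.2.1

theorem mul4_assoc {R : Type} [CommRing R] (x y z : Q4 R) : mul4 (mul4 x y) z = mul4 x (mul4 y z) := by
  simp only [mul4]
  refine Prod.ext ?_ (Prod.ext ?_ (Prod.ext ?_ ?_)) <;> simp only <;> ring

theorem det4_mul4 {R : Type} [CommRing R] (x y : Q4 R) : det4 (mul4 x y) = det4 x * det4 y := by
  simp only [mul4, det4]; ring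

def toMat {R : Type} (x : Q4 R) : Matrix (Fin 2) (Fin 2) R := !![x.1, x.2.1; x.2.2.1, x.2.2.2]

theorem toMat_mul4 {R : Type} [CommRing R] (x y : Q4 R) : toMat (mul4 x y) = toMat x * toMat y := by
  simp only [toMat, mul4, Matrix.mul_fin_two]

/-- generators in `SL(2,5)` -/
def gen5 : Bool → Q4 (ZMod 5)
  | false => (0, -1, 1, 0)
  | true => (1, 1, 0, 1)

/-- generators in `SL(2,11)` -/
def gen11 : Bool → Q4 (ZMod 11)
  | false => (10, 1, 9, 1)
  | true => (3, 0, 0, 4)

def ev5 : List Bool → Q4 (ZMod 5)
  | [] => (1, 0, 0, 1)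
  | b :: l => mul4 (gen5 b) (ev5 l)

def ev11 : List Bool → Q4 (ZMod 11)
  | [] => (1, 0, 0, 1)
  | b :: l => mul4 (gen11 b) (ev11 l)

/-- table of words, indexed by `125 a + 25 b + 5 c + d` -/
def tab : List (List Bool) := [
  [],
  [],
  [],
  [],
  [],
  [],
  [],
  [],
  [],
  [],
  [],
  [],
  [],
  [],
  [],
  [],
  [],
  [],
  [],
  [],
  [],
  [],
  [],
  [],
  [],
  [],
  [],
  [],
  [],
  [],
  [],
  [],
  [],
  [],
  [],
  [],
  [],
  [],
  [],
  [],
  [],
  [],
  [],
  [],
  [],
  [false,false,false],
  [false,false,true,false,true,false],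
  [false,false,false,true,true,true],
  [false,false,false,true,true],
  [false,false,false,true],
  [],
  [],
  [],
  [],
  [],
  [],
  [],
  [],
  [],
  [],
  [true,true,true,false,true,true,false,true,true,true],
  [true,true,true,false,true,true,false,true],
  [true,true,true,false,true,true,true,false,true,false],
  [true,true,true,false,true,true,false,true,true],
  [true,true,true,false,true,true,false],
  [],
  [],
  [],
  [],
  [],
  [],
  [],
  [],
  [],
  [],
  [],
  [],
  [],
  [],
  [],
  [],
  [],
  [],
  [],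
  [],
  [],
  [],
  [],
  [],
  [],
  [true,true,false,true,true,true,false,true,true],
  [false,false,true,true,true,false,true,true,false],
  [true,true,false,true,true,true,false,true],
  [false,true,false,true,true,true,false,true,true,false],
  [true,true,false,true,true,true,false],
  [],
  [],
  [],
  [],
  [],
  [],
  [],
  [],
  [],
  [],
  [false],
  [false,true],
  [false,true,true],
  [false,true,true,true],
  [true,false,true,false],
  [],
  [],
  [],
  [],
  [],
  [],
  [],
  [],
  [],
  [],
  [],
  [],
  [],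
  [],
  [],
  [],
  [],
  [],
  [],
  [],
  [],
  [true,false,true],
  [],
  [],
  [],
  [],
  [true,false,true,true,false,true],
  [],
  [],
  [],
  [],
  [false,false,false,true,true,false],
  [],
  [],
  [],
  [],
  [false,false,false,true,false],
  [],
  [],
  [],
  [],
  [true],
  [],
  [],
  [],
  [],
  [],
  [true,false,true,true],
  [],
  [],
  [],
  [],
  [],
  [true,false,true,true,false,true,true],
  [],
  [],
  [],
  [],
  [],
  [false,false,false,true,true,false,true],
  [false,false,false,true,false,true],
  [],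
  [],
  [],
  [],
  [],
  [true,true],
  [],
  [],
  [],
  [],
  [],
  [],
  [true,false,true,true,true],
  [],
  [true,false,true,true,false,true,true,true],
  [],
  [],
  [],
  [],
  [],
  [],
  [false,false,false,true,true,false,true,true],
  [],
  [],
  [],
  [],
  [],
  [],
  [false,false,false,true,false,true,true],
  [],
  [true,true,true],
  [],
  [],
  [],
  [],
  [],
  [],
  [],
  [true,true,false,true,false],
  [],
  [],
  [true,false,true,true,true,false,true,false],
  [],
  [],
  [false,false,false,true,true,false,true,true,true],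
  [],
  [],
  [],
  [],
  [],
  [],
  [],
  [false,false,false,true,false,true,true,true],
  [],
  [],
  [true,true,true,true],
  [],
  [],
  [],
  [true,false],
  [],
  [],
  [],
  [],
  [],
  [],
  [],
  [],
  [true,false,true,true,false],
  [],
  [],
  [],
  [true,false,true,true,false,true,true,false],
  [],
  [],
  [],
  [false,false,false,true,true,false,true,false],
  [],
  [],
  [],
  [],
  [],
  [false,true,true,false,true,true,true,false,true,true],
  [],
  [],
  [],
  [],
  [true,true,false,true,true,true],
  [],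
  [],
  [],
  [],
  [false,true,false,true,true,true,false,true,true],
  [],
  [],
  [],
  [],
  [true,false,true,true,true,false,true,true,true],
  [],
  [],
  [],
  [],
  [false,false,true,true,true,false,true,true],
  [],
  [],
  [],
  [],
  [false,true,true,false,true,true,true,false],
  [],
  [],
  [true,true,false,true],
  [],
  [],
  [],
  [],
  [],
  [],
  [],
  [false,true,false,true,true,true,false],
  [],
  [],
  [true,false,true,true,true,false,true],
  [],
  [],
  [false,false,true,true,true,false],
  [],
  [],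
  [],
  [],
  [],
  [],
  [],
  [true,true,false,true,true,false,true,true,true,false],
  [],
  [],
  [],
  [],
  [],
  [true,true,true,false,true,false],
  [false,true,false,true,true,true,false,true,true,true],
  [],
  [],
  [],
  [],
  [],
  [false,false,true,true,false,true,true,false],
  [],
  [],
  [],
  [],
  [],
  [false,false,true,true,true,false,true,true,true],
  [],
  [],
  [],
  [],
  [],
  [false,true,true,false,true,true,true,false,true],
  [],
  [],
  [],
  [true,true,false,true,true],
  [],
  [],
  [],
  [false,true,false,true,true,true,false,true],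
  [],
  [],
  [],
  [true,false,true,true,true,false,true,true],
  [],
  [],
  [],
  [],
  [],
  [],
  [],
  [],
  [false,false,true,true,true,false,true],
  [],
  [],
  [],
  [true,false,true,true,false,true,true,true,false],
  [],
  [true,true,false],
  [],
  [],
  [],
  [],
  [],
  [],
  [false,false,false,true,true,false,true,true,false],
  [],
  [],
  [],
  [],
  [],
  [],
  [true,false,true,true,true,false],
  [],
  [false,false,false,true,false,true,true,false],
  [],
  [],
  [],
  [],
  [],
  [true,true,false,true,true,true,false,true,true,false],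
  [],
  [],
  [],
  [],
  [true,true,true,false,true,true],
  [],
  [],
  [],
  [],
  [true,true,false,true,true,true,false,true,false],
  [],
  [],
  [],
  [],
  [true,true,true,false,true,true,true,false,true],
  [],
  [],
  [],
  [],
  [false,false,true,true,false,true,true,true],
  [],
  [],
  [],
  [],
  [false,true,true,true,false,true,true,false],
  [],
  [],
  [],
  [],
  [],
  [],
  [false,true,false,true,true,false],
  [],
  [true,true,false,true,true,false,true],
  [],
  [],
  [],
  [],
  [],
  [],
  [false,true,true,false,true,true,false],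
  [],
  [false,false,true,true,false],
  [],
  [],
  [],
  [],
  [],
  [],
  [false,true,true,true,false,true,true,false,true,true],
  [],
  [],
  [],
  [true,true,true,false,true],
  [],
  [],
  [],
  [true,true,false,true,true,false,true,true,true],
  [],
  [],
  [],
  [],
  [],
  [],
  [],
  [],
  [true,true,true,false,true,true,true,false],
  [],
  [],
  [],
  [false,false,true,true,false,true,true],
  [],
  [],
  [],
  [true,false,true,true,true,false,true,true,false],
  [],
  [],
  [],
  [],
  [],
  [true,true,true,false,true,true,true],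
  [],
  [],
  [],
  [],
  [],
  [true,true,false,true,true,false],
  [false,true,true,false,true,true,true,false,true,false],
  [],
  [],
  [],
  [],
  [],
  [false,false,true,true,true,false,true,false],
  [],
  [],
  [],
  [],
  [],
  [false,true,true,true,false,true,true,false,true],
  [],
  [],
  [true,true,true,false],
  [],
  [],
  [],
  [],
  [],
  [],
  [],
  [true,true,false,true,true,false,true,true],
  [],
  [],
  [false,true,true,false,true,true,false,true],
  [],
  [],
  [],
  [],
  [],
  [],
  [],
  [false,false,true,true,false,true],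
  [],
  [],
  [],
  [],
  [false,false],
  [],
  [],
  [],
  [],
  [false,true,false],
  [],
  [],
  [],
  [],
  [false,true,true,false],
  [],
  [],
  [],
  [],
  [false,true,true,true,false],
  [],
  [],
  [],
  [],
  [false,false,true,false,true],
  [],
  [],
  [],
  [],
  [false,true,false,true,false],
  [],
  [],
  [],
  [false,true,true,false,true,false],
  [],
  [],
  [],
  [false,true,true,true,false,true,false],
  [],
  [],
  [],
  [false,false,true,false,true,true,false],
  [],
  [],
  [],
  [false,false,true,false],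
  [],
  [],
  [],
  [],
  [],
  [],
  [],
  [],
  [false,false,true,true,true],
  [],
  [],
  [false,true,false,true,true,true],
  [],
  [],
  [false,true,true,false,true,true,true],
  [],
  [],
  [],
  [],
  [],
  [],
  [],
  [false,true,true,true,false,true,true,true],
  [],
  [],
  [false,false,true,true,false,true,false],
  [],
  [],
  [],
  [],
  [],
  [],
  [],
  [false,false,true,true],
  [],
  [false,true,false,true,true],
  [],
  [],
  [],
  [],
  [],
  [],
  [false,true,true,false,true,true],
  [],
  [false,true,true,true,false,true,true],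
  [],
  [],
  [],
  [],
  [],
  [],
  [false,false,true,false,true,true,true],
  [],
  [],
  [],
  [],
  [],
  [],
  [false,false,true],
  [false,true,false,true],
  [],
  [],
  [],
  [],
  [],
  [false,true,true,false,true],
  [],
  [],
  [],
  [],
  [],
  [false,true,true,true,false,true],
  [],
  [],
  [],
  [],
  [],
  [false,false,true,false,true,true],
  []]

def wordOf (a b c d : ZMod 5) : List Bool :=
  tab.getD (a.val * 125 + b.val * 25 + c.val * 5 + d.val) []

/-- the map on 4-tuples -/
def phi4 (x : Q4 (ZMod 5)) : Q4 (ZMod 11) := ev11 (wordOf x.1 x.2.1 x.2.2.1 x.2.2.2)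

set_option maxRecDepth 100000 in
theorem fact_word : ∀ a b c d : ZMod 5, a * d - b * c = 1 → ev5 (wordOf a b c d) = (a, b, c, d) := by
  decide

set_option maxRecDepth 100000 in
theorem fact_gen : ∀ a b c d : ZMod 5, a * d - b * c = 1 → ∀ s : Bool,
    phi4 (mul4 (a, b, c, d) (gen5 s)) = mul4 (phi4 (a, b, c, d)) (gen11 s) := by
  decide

set_option maxRecDepth 100000 in
theorem fact_fpf : ∀ a b c d : ZMod 5, a * d - b * c = 1 → (a, b, c, d) ≠ ((1, 0, 0, 1) : Q4 (ZMod 5)) →
    ((phi4 (a, b, c, d)).1 - 1) * ((phi4 (a, b, c, d)).2.2.2 - 1) -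
      (phi4 (a, b, c, d)).2.1 * (phi4 (a, b, c, d)).2.2.1 ≠ 0 := by
  decide

theorem phi4_one : phi4 (1, 0, 0, 1) = (1, 0, 0, 1) := by decide

/-- entries of an element of `SL(2,5)` -/
def ofSL (g : SpecialLinearGroup (Fin 2) (ZMod 5)) : Q4 (ZMod 5) := (g.1 0 0, g.1 0 1, g.1 1 0, g.1 1 1)

theorem det4_ofSL (g : SpecialLinearGroup (Fin 2) (ZMod 5)) : det4 (ofSL g) = 1 := by
  have := g.2
  rw [Matrix.det_fin_two] at this
  exact this

theorem ofSL_mul (g h : SpecialLinearGroup (Fin 2) (ZMod 5)) : ofSL (g * h) = mul4 (ofSL g) (ofSL h) := by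
  simp [ofSL, mul4, Matrix.mul_apply, Fin.sum_univ_two]

theorem det4_gen5 (b : Bool) : det4 (gen5 b) = 1 := by
  cases b <;> decide

theorem phi4_mul_ev (l : List Bool) : ∀ x : Q4 (ZMod 5), det4 x = 1 →
    phi4 (mul4 x (ev5 l)) = mul4 (phi4 x) (ev11 l) := by
  induction l with
  | nil =>
    intro x _
    have h1 : mul4 x (ev5 []) = x := by
      simp [mul4, ev5]
    have h2 : mul4 (phi4 x) (ev11 []) = phi4 x := by
      simp [mul4, ev11]
    rw [h1, h2]
  | cons b l ih =>
    intro x hx
    have hx' : det4 (mul4 x (gen5 b)) = 1 := by rw [det4_mul4, hx, det4_gen5, one_mul]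
    have h1 : mul4 x (ev5 (b :: l)) = mul4 (mul4 x (gen5 b)) (ev5 l) := by
      rw [mul4_assoc]; rfl
    rw [h1, ih _ hx']
    have h2 := fact_gen x.1 x.2.1 x.2.2.1 x.2.2.2 hx b
    have h3 : mul4 (phi4 x) (ev11 (b :: l)) = mul4 (mul4 (phi4 x) (gen11 b)) (ev11 l) := by
      rw [mul4_assoc]; rfl
    rw [h3]
    exact congrArg (fun y => mul4 y (ev11 l)) h2

theorem phi4_mul (x y : Q4 (ZMod 5)) (hx : det4 x = 1) (hy : det4 y = 1) :
    phi4 (mul4 x y) = mul4 (phi4 x) (phi4 y) := by
  have h1 := fact_word y.1 y.2.1 y.2.2.1 y.2.2.2 hy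
  have h2 := phi4_mul_ev (wordOf y.1 y.2.1 y.2.2.1 y.2.2.2) x hx
  rw [h1] at h2
  exact h2

/-- the homomorphism `SL(2,5) → M₂(𝔽₁₁)` -/
def psi : SpecialLinearGroup (Fin 2) (ZMod 5) →* Matrix (Fin 2) (Fin 2) (ZMod 11) where
  toFun g := toMat (phi4 (ofSL g))
  map_one' := by
    have h1 : ofSL 1 = (1, 0, 0, 1) := by simp [ofSL]
    rw [h1, phi4_one, Matrix.one_fin_two]
    rfl
  map_mul' g h := by
    rw [ofSL_mul, phi4_mul _ _ (det4_ofSL g) (det4_ofSL h), toMat_mul4]

theorem psi_apply (g : SpecialLinearGroup (Fin 2) (ZMod 5)) : psi g = toMat (phi4 (ofSL g)) := rfl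

theorem ofSL_ne (g : SpecialLinearGroup (Fin 2) (ZMod 5)) (hg : g ≠ 1) : ofSL g ≠ (1, 0, 0, 1) := by
  intro h
  apply hg
  apply Subtype.ext
  simp only [ofSL, Prod.mk.injEq] at h
  obtain ⟨h00, h01, h10, h11⟩ := h
  ext i j
  fin_cases i <;> fin_cases j <;> simp [h00, h01, h10, h11]

/-- `psi g - 1` is invertible for `g ≠ 1` -/
theorem det_psi_sub_one (g : SpecialLinearGroup (Fin 2) (ZMod 5)) (hg : g ≠ 1) :
    (psi g - 1).det ≠ 0 := by
  have h := fact_fpf (ofSL g).1 (ofSL g).2.1 (ofSL g).2.2.1 (ofSL g).2.2.2 (det4_ofSL g) (ofSL_ne g hg)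
  rw [Matrix.det_fin_two, psi_apply]
  simpa [toMat] using h

/-- nonidentity elements fix only `0` -/
theorem psi_fpf (g : SpecialLinearGroup (Fin 2) (ZMod 5)) (hg : g ≠ 1) (v : Fin 2 → ZMod 11)
    (hv : (psi g).mulVec v = v) : v = 0 := by
  haveI : Fact (Nat.Prime 11) := ⟨by norm_num⟩
  apply Matrix.eq_zero_of_mulVec_eq_zero (det_psi_sub_one g hg)
  rw [Matrix.sub_mulVec, hv, Matrix.one_mulVec, sub_self]

/-- the action of `SL(2,5)` on `𝔽₁₁²` -/
@[reducible] def act : DistribMulAction (SpecialLinearGroup (Fin 2) (ZMod 5)) (Fin 2 → ZMod 11) where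
  smul g v := (psi g).mulVec v
  one_smul v := by
    show (psi 1).mulVec v = v
    rw [map_one, Matrix.one_mulVec]
  mul_smul g h v := by
    show (psi (g * h)).mulVec v = (psi g).mulVec ((psi h).mulVec v)
    rw [map_mul, Matrix.mulVec_mulVec]
  smul_zero g := by
    show (psi g).mulVec 0 = 0
    rw [Matrix.mulVec_zero]
  smul_add g v w := by
    show (psi g).mulVec (v + w) = (psi g).mulVec v + (psi g).mulVec w
    rw [Matrix.mulVec_add]

theorem act_fpf : letI := act
    ∀ g : SpecialLinearGroup (Fin 2) (ZMod 5), g ≠ 1 → ∀ v : Fin 2 → ZMod 11, g • v = v → v = 0 :=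
  fun g hg v hv => psi_fpf g hg v hv

theorem psi_injective : Function.Injective psi := by
  rw [injective_iff_map_eq_one]
  intro g hg
  by_contra hne
  have := psi_fpf g hne (fun _ => 1) (by rw [hg, Matrix.one_mulVec])
  have h0 : (1 : ZMod 11) = 0 := congrFun this 0
  exact absurd h0 (by decide)

end Cfsg.Agent.Lib.H17.SL25
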