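import Cfsg.Prelude.Def_SporCoxeter

set_option autoImplicit false

/-! # A presentation of the symplectic group `Sp(4, 4)`

The group of order 979200 on five involutions `c, d, e, f, w`:
Coxeter graph c –10– d, d –3– e, d –3– f, d –5– w, e –3– w, f –4– w with the further relations
`cdcdedcdcedcede = 1`, `cdcdfdcedfcdfecdcdfde = 1` and `dewfdfewdf = 1`. -/

namespace Cfsg.Agent.Lib.H17.SpNPres

/-- The generators c, d, e, f, w. -/
inductive Gen
  | c
  | d
  | e
  | f
  | w
  deriving DecidableEq

/-- the generator c as a word -/ abbrev c : FreeGroup Gen := FreeGroup.of Gen.c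
/-- the generator d as a word -/ abbrev d : FreeGroup Gen := FreeGroup.of Gen.d
/-- the generator e as a word -/ abbrev e : FreeGroup Gen := FreeGroup.of Gen.e
/-- the generator f as a word -/ abbrev f : FreeGroup Gen := FreeGroup.of Gen.f
/-- the generator w as a word -/ abbrev w : FreeGroup Gen := FreeGroup.of Gen.w

/-- The Coxeter graph: c10d, d3e, d3f, d5w, e3w, f4w. -/
def edges : List (Gen × ℕ × Gen) :=
  [(.c, 10, .d), (.d, 3, .e), (.d, 3, .f), (.d, 5, .w), (.e, 3, .w), (.f, 4, .w)]

/-- The further relators. -/
def extra : List (FreeGroup Gen) := [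
  c * d * c * d * e * d * c * d * c * e * d * c * e * d * e,
  c * d * c * d * f * d * c * e * d * f * c * d * f * e * c * d * c * d * f * d * e,
  d * e * w * f * d * f * e * w * d * f ]

/-- The presented group. -/
abbrev Grp : Type := Cfsg.Spor.CoxPresented Gen edges extra

end Cfsg.Agent.Lib.H17.SpNPres
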