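import Cfsg.Agent.Lib.H17.CoxGlue
import Cfsg.Agent.Lib.H17.SpNPres

set_option autoImplicit false
set_option maxRecDepth 100000

/-! # Relator words of the presentation of SpN (generated) -/

namespace Cfsg.Agent.Lib.H17.SpNGlue

open Cfsg.Spor Cfsg.Agent.Lib.H17.CosetCert Cfsg.Agent.Lib.H17.CoxGlue

/-- the generators -/
abbrev Gen := Cfsg.Agent.Lib.H17.SpNPres.Gen

/-- the relators -/
abbrev rels : Set (FreeGroup Gen) :=
  coxRelators Cfsg.Agent.Lib.H17.SpNPres.edges ∪ {r | r ∈ Cfsg.Agent.Lib.H17.SpNPres.extra}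

/-- the generator with a given index -/
def gen : ℕ → Gen
  | 0 => .c
  | 1 => .d
  | 2 => .e
  | 3 => .f
  | _ => .w

/-- the index of a generator -/
def idx : Gen → ℕ
  | .c => 0
  | .d => 1
  | .e => 2
  | .f => 3
  | .w => 4

theorem gen_idx (u : Gen) : gen (idx u) = u := by cases u <;> rfl

theorem idx_lt (u : Gen) : idx u < 5 := by cases u <;> decide

theorem mem_nodes (u : Gen) : u ∈ coxNodes Cfsg.Agent.Lib.H17.SpNPres.edges := by cases u <;> decide

/-- the relator words: Coxeter pairs, further relators, squares, the empty word -/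
def relW : List (List ℕ) := [
  [0, 1, 0, 1, 0, 1, 0, 1, 0, 1, 0, 1, 0, 1, 0, 1, 0, 1, 0, 1],
  [0, 2, 0, 2],
  [0, 3, 0, 3],
  [0, 4, 0, 4],
  [1, 2, 1, 2, 1, 2],
  [1, 3, 1, 3, 1, 3],
  [1, 4, 1, 4, 1, 4, 1, 4, 1, 4],
  [2, 3, 2, 3],
  [2, 4, 2, 4, 2, 4],
  [3, 4, 3, 4, 3, 4, 3, 4],
  [0, 1, 0, 1, 2, 1, 0, 1, 0, 2, 1, 0, 2, 1, 2],
  [0, 1, 0, 1, 3, 1, 0, 2, 1, 3, 0, 1, 3, 2, 0, 1, 0, 1, 3, 1, 2],
  [1, 2, 4, 3, 1, 3, 2, 4, 1, 3],
  [0, 0],
  [1, 1],
  [2, 2],
  [3, 3],
  [4, 4],
  []]

theorem relW_length : relW.length = 19 := by decide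

/-- the letters of the further relator number 0 -/
def extraL0 : List (Gen × Bool) := [(.c, true), (.d, true), (.c, true), (.d, true), (.e, true), (.d, true), (.c, true), (.d, true), (.c, true), (.e, true), (.d, true), (.c, true), (.e, true), (.d, true), (.e, true)]

theorem extra0_eq : Cfsg.Agent.Lib.H17.SpNPres.extra[0] = FreeGroup.mk extraL0 := by rfl

/-- the letters of the further relator number 1 -/
def extraL1 : List (Gen × Bool) := [(.c, true), (.d, true), (.c, true), (.d, true), (.f, true), (.d, true), (.c, true), (.e, true), (.d, true), (.f, true), (.c, true), (.d, true), (.f, true), (.e, true), (.c, true), (.d, true), (.c, true), (.d, true), (.f, true), (.d, true), (.e, true)]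

theorem extra1_eq : Cfsg.Agent.Lib.H17.SpNPres.extra[1] = FreeGroup.mk extraL1 := by rfl

/-- the letters of the further relator number 2 -/
def extraL2 : List (Gen × Bool) := [(.d, true), (.e, true), (.w, true), (.f, true), (.d, true), (.f, true), (.e, true), (.w, true), (.d, true), (.f, true)]

theorem extra2_eq : Cfsg.Agent.Lib.H17.SpNPres.extra[2] = FreeGroup.mk extraL2 := by rfl

theorem mem_of_getElem {β : Type*} (l : List β) (t : ℕ) (h : t < l.length) (x : β)
    (hx : l[t] = x) : x ∈ l := hx ▸ List.getElem_mem h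

section lift

variable {K : Type*} [Group K] (f : Gen → K)

theorem lift_of_mk (hinv : ∀ u, f u * f u = 1) (r : FreeGroup Gen) (L : List (Gen × Bool))
    (hr : r = FreeGroup.mk L) (h : ((L.map Prod.fst).map f).prod = 1) :
    FreeGroup.lift f r = 1 := by
  rw [hr, lift_mk_of_invol f hinv]
  exact h

/-- an involutory assignment killing the relator words kills the relators -/
theorem lift_rels (hinv : ∀ u, f u * f u = 1)
    (hW : ∀ w ∈ relW, ((w.map gen).map f).prod = 1) : ∀ r ∈ rels, FreeGroup.lift f r = 1 := by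
  have hWt : ∀ (t : ℕ) (h : t < relW.length), ((relW[t].map gen).map f).prod = 1 :=
    fun t h => hW _ (List.getElem_mem h)
  intro r hr
  rcases hr with ⟨x, -, y, -, rfl⟩ | hr
  · cases x <;> cases y
    · exact cox_diag _ f hinv _
    · exact cox_lt _ f .c .d 10 (by decide) (hWt 0 (by decide))
    · exact cox_lt _ f .c .e 2 (by decide) (hWt 1 (by decide))
    · exact cox_lt _ f .c .f 2 (by decide) (hWt 2 (by decide))
    · exact cox_lt _ f .c .w 2 (by decide) (hWt 3 (by decide))
    · exact cox_gt _ f .d .c 10 (by decide) (hWt 0 (by decide))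
    · exact cox_diag _ f hinv _
    · exact cox_lt _ f .d .e 3 (by decide) (hWt 4 (by decide))
    · exact cox_lt _ f .d .f 3 (by decide) (hWt 5 (by decide))
    · exact cox_lt _ f .d .w 5 (by decide) (hWt 6 (by decide))
    · exact cox_gt _ f .e .c 2 (by decide) (hWt 1 (by decide))
    · exact cox_gt _ f .e .d 3 (by decide) (hWt 4 (by decide))
    · exact cox_diag _ f hinv _
    · exact cox_lt _ f .e .f 2 (by decide) (hWt 7 (by decide))
    · exact cox_lt _ f .e .w 3 (by decide) (hWt 8 (by decide))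
    · exact cox_gt _ f .f .c 2 (by decide) (hWt 2 (by decide))
    · exact cox_gt _ f .f .d 3 (by decide) (hWt 5 (by decide))
    · exact cox_gt _ f .f .e 2 (by decide) (hWt 7 (by decide))
    · exact cox_diag _ f hinv _
    · exact cox_lt _ f .f .w 4 (by decide) (hWt 9 (by decide))
    · exact cox_gt _ f .w .c 2 (by decide) (hWt 3 (by decide))
    · exact cox_gt _ f .w .d 5 (by decide) (hWt 6 (by decide))
    · exact cox_gt _ f .w .e 3 (by decide) (hWt 8 (by decide))
    · exact cox_gt _ f .w .f 4 (by decide) (hWt 9 (by decide))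
    · exact cox_diag _ f hinv _
  · obtain ⟨t, ht, rfl⟩ := List.getElem_of_mem hr
    have ht' : t < 3 := ht
    interval_cases t
    · exact lift_of_mk f hinv _ _ extra0_eq (hWt 10 (by decide))
    · exact lift_of_mk f hinv _ _ extra1_eq (hWt 11 (by decide))
    · exact lift_of_mk f hinv _ _ extra2_eq (hWt 12 (by decide))

end lift

theorem of_mul_self (u : Gen) :
    (PresentedGroup.of u : PresentedGroup rels) * PresentedGroup.of u = 1 :=
  cox_of_mul_self _ _ u (mem_nodes u)

/-- the relator words are trivial in the presented group -/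
theorem relW_trivial : ∀ w ∈ relW,
    ((w.map gen).map (PresentedGroup.of (rels := rels))).prod = 1 := by
  intro w hw
  obtain ⟨t, ht, rfl⟩ := List.getElem_of_mem hw
  have ht' : t < 19 := by rw [relW_length] at ht; exact ht
  interval_cases t
  · exact pres_pair rels .c .d 10 (Or.inl ⟨.c, mem_nodes _, .d, mem_nodes _, rfl⟩)
  · exact pres_pair rels .c .e 2 (Or.inl ⟨.c, mem_nodes _, .e, mem_nodes _, rfl⟩)
  · exact pres_pair rels .c .f 2 (Or.inl ⟨.c, mem_nodes _, .f, mem_nodes _, rfl⟩)
  · exact pres_pair rels .c .w 2 (Or.inl ⟨.c, mem_nodes _, .w, mem_nodes _, rfl⟩)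
  · exact pres_pair rels .d .e 3 (Or.inl ⟨.d, mem_nodes _, .e, mem_nodes _, rfl⟩)
  · exact pres_pair rels .d .f 3 (Or.inl ⟨.d, mem_nodes _, .f, mem_nodes _, rfl⟩)
  · exact pres_pair rels .d .w 5 (Or.inl ⟨.d, mem_nodes _, .w, mem_nodes _, rfl⟩)
  · exact pres_pair rels .e .f 2 (Or.inl ⟨.e, mem_nodes _, .f, mem_nodes _, rfl⟩)
  · exact pres_pair rels .e .w 3 (Or.inl ⟨.e, mem_nodes _, .w, mem_nodes _, rfl⟩)
  · exact pres_pair rels .f .w 4 (Or.inl ⟨.f, mem_nodes _, .w, mem_nodes _, rfl⟩)
  · exact pres_word rels of_mul_self extraL0 (Or.inr (mem_of_getElem _ 0 (by decide) _ extra0_eq))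
  · exact pres_word rels of_mul_self extraL1 (Or.inr (mem_of_getElem _ 1 (by decide) _ extra1_eq))
  · exact pres_word rels of_mul_self extraL2 (Or.inr (mem_of_getElem _ 2 (by decide) _ extra2_eq))
  · show PresentedGroup.of (gen 0) * (PresentedGroup.of (gen 0) * 1) = 1
    rw [mul_one]
    exact of_mul_self _
  · show PresentedGroup.of (gen 1) * (PresentedGroup.of (gen 1) * 1) = 1
    rw [mul_one]
    exact of_mul_self _
  · show PresentedGroup.of (gen 2) * (PresentedGroup.of (gen 2) * 1) = 1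
    rw [mul_one]
    exact of_mul_self _
  · show PresentedGroup.of (gen 3) * (PresentedGroup.of (gen 3) * 1) = 1
    rw [mul_one]
    exact of_mul_self _
  · show PresentedGroup.of (gen 4) * (PresentedGroup.of (gen 4) * 1) = 1
    rw [mul_one]
    exact of_mul_self _
  · rfl

/-- the generators generate -/
theorem closure_gens : Subgroup.closure {g : PresentedGroup rels |
    ∃ x < 5, g = PresentedGroup.of (gen x)} = ⊤ := by
  rw [eq_top_iff, ← PresentedGroup.closure_range_of]
  apply Subgroup.closure_mono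
  rintro _ ⟨u, rfl⟩
  exact ⟨idx u, idx_lt u, by rw [gen_idx]⟩

end Cfsg.Agent.Lib.H17.SpNGlue
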