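import Cfsg.Agent.Lib.H17.SpNMat

set_option autoImplicit false
set_option maxRecDepth 100000

/-! # The presented group of order 979200 is the symplectic group `Sp(4, 4)`

A chain of stabilisers of the vectors of a symplectic basis bounds the order of the symplectic
group by 979200, so that the injective homomorphism of `SpNMat` is an isomorphism. -/

namespace Cfsg.Agent.Lib.H17.SpNIso

open Matrix Cfsg.Agent.Lib.H17.CosetCert Cfsg.Agent.Lib.H17.Sgs Cfsg.Agent.Lib.H17.SgsCent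
  Cfsg.Agent.Lib.H17.SpNMat

/-- the alternating form -/
def B (v w : V) : F4 :=
  v (.inl 0) * w (.inr 0) + v (.inl 1) * w (.inr 1) + v (.inr 0) * w (.inl 0) +
    v (.inr 1) * w (.inl 1)

theorem B_eq (v w : V) : B v w = v ⬝ᵥ (J (Fin 2) F4 *ᵥ w) := by
  rw [J, fromBlocks_mulVec]
  simp only [zero_mulVec, neg_mulVec, one_mulVec, zero_add, add_zero, dotProduct,
    Fintype.sum_sum_type, Sum.elim_inl, Sum.elim_inr, Fin.sum_univ_two, Pi.neg_apply,
    Function.comp_apply, F4.neg_eq, B]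
  ring

theorem B_mulVec (M : Sp) (v w : V) : B (M.1 *ᵥ v) (M.1 *ᵥ w) = B v w := by
  have hM := SymplecticGroup.mem_iff'.mp M.2
  rw [B_eq, B_eq]
  calc (M.1 *ᵥ v) ⬝ᵥ (J (Fin 2) F4 *ᵥ (M.1 *ᵥ w))
      = (v ᵥ* M.1ᵀ) ⬝ᵥ (J (Fin 2) F4 *ᵥ (M.1 *ᵥ w)) := by rw [vecMul_transpose]
    _ = v ⬝ᵥ (M.1ᵀ *ᵥ (J (Fin 2) F4 *ᵥ (M.1 *ᵥ w))) := (dotProduct_mulVec v M.1ᵀ _).symm
    _ = v ⬝ᵥ ((M.1ᵀ * J (Fin 2) F4 * M.1) *ᵥ w) := by
        rw [mulVec_mulVec, mulVec_mulVec, Matrix.mul_assoc]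
    _ = v ⬝ᵥ (J (Fin 2) F4 *ᵥ w) := by rw [hM]

/-- the symplectic basis -/
def e1 : V := Pi.single (.inl 0) 1
/-- the symplectic basis -/
def e2 : V := Pi.single (.inl 1) 1
/-- the symplectic basis -/
def f1 : V := Pi.single (.inr 0) 1
/-- the symplectic basis -/
def f2 : V := Pi.single (.inr 1) 1

theorem dec1 : dec ⟨1, by decide⟩ = e1 := by decide
theorem dec16 : dec ⟨16, by decide⟩ = f1 := by decide
theorem dec4 : dec ⟨4, by decide⟩ = e2 := by decide
theorem dec64 : dec ⟨64, by decide⟩ = f2 := by decide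

theorem mulVec_inj (M : Sp) (v w : V) (h : M.1 *ᵥ v = M.1 *ᵥ w) : v = w :=
  (ρV M).injective h

theorem in_M1 : ∀ w : V, w ≠ 0 → tb mmask1 (enc w).val = true := by decide
theorem in_M2 : ∀ w : V, B e1 w = 1 → tb mmask2 (enc w).val = true := by decide
theorem in_M3 : ∀ w : V, w ≠ 0 → B e1 w = 0 → B f1 w = 0 → tb mmask3 (enc w).val = true := by
  decide
theorem in_M4 : ∀ w : V, B e1 w = 0 → B f1 w = 0 → B e2 w = 1 → tb mmask4 (enc w).val = true := by
  decide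

theorem fix_of_stab (M : Sp) (bs : List ℕ) (hM : M ∈ stabL ρ bs) (c : ℕ) (hc : c < 256)
    (hcm : c ∈ bs) (v : V) (hv : dec ⟨c, hc⟩ = v) : M.1 *ᵥ v = v := by
  have h := hM c hcm hc
  rw [ρ_apply, hv] at h
  have h2 := congrArg dec h
  rw [dec_enc, hv] at h2
  exact h2

theorem e1_ne : e1 ≠ 0 := by decide
theorem e2_ne : e2 ≠ 0 := by decide
theorem B_e1_f1 : B e1 f1 = 1 := by decide
theorem B_e1_e2 : B e1 e2 = 0 := by decide
theorem B_f1_e2 : B f1 e2 = 0 := by decide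
theorem B_e1_f2 : B e1 f2 = 0 := by decide
theorem B_f1_f2 : B f1 f2 = 0 := by decide
theorem B_e2_f2 : B e2 f2 = 1 := by decide

theorem finite_Sp : Finite Sp := inferInstance

attribute [local instance] finite_Sp

theorem ne_zero_of (M : Sp) (v : V) (hv : v ≠ 0) : M.1 *ᵥ v ≠ 0 := by
  intro h
  apply hv
  apply mulVec_inj M
  rw [h, mulVec_zero]

theorem bound1 : Nat.card ↥((⊤ : Subgroup Sp) ⊓ stabL ρ ([] : List ℕ)) ≤
    255 * Nat.card ↥((⊤ : Subgroup Sp) ⊓ stabL ρ ([1] : List ℕ)) := by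
  have h := card_inf_le ρ (⊤ : Subgroup Sp) ([] : List ℕ) 1 (by decide)
    {j : Fin 256 | tb mmask1 j = true} (by
    intro M _
    change tb mmask1 (ρ M ⟨1, by decide⟩ : Fin 256) = true
    rw [ρ_apply, dec1]
    exact in_M1 _ (ne_zero_of M e1 e1_ne))
  rw [ncard_mask, mcount1] at h
  exact h

theorem bound2 : Nat.card ↥((⊤ : Subgroup Sp) ⊓ stabL ρ ([1] : List ℕ)) ≤
    64 * Nat.card ↥((⊤ : Subgroup Sp) ⊓ stabL ρ ([16, 1] : List ℕ)) := by
  have h := card_inf_le ρ (⊤ : Subgroup Sp) ([1] : List ℕ) 16 (by decide)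
    {j : Fin 256 | tb mmask2 j = true} (by
    intro M hM
    have hM' := Subgroup.mem_inf.mp hM
    have hf1 : M.1 *ᵥ e1 = e1 := fix_of_stab M _ hM'.2 1 (by decide) (by decide) e1 dec1
    change tb mmask2 (ρ M ⟨16, by decide⟩ : Fin 256) = true
    rw [ρ_apply, dec16]
    apply in_M2
    rw [← B_e1_f1, ← B_mulVec M e1 f1, hf1])
  rw [ncard_mask, mcount2] at h
  exact h

theorem bound3 : Nat.card ↥((⊤ : Subgroup Sp) ⊓ stabL ρ ([16, 1] : List ℕ)) ≤
    15 * Nat.card ↥((⊤ : Subgroup Sp) ⊓ stabL ρ ([4, 16, 1] : List ℕ)) := by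
  have h := card_inf_le ρ (⊤ : Subgroup Sp) ([16, 1] : List ℕ) 4 (by decide)
    {j : Fin 256 | tb mmask3 j = true} (by
    intro M hM
    have hM' := Subgroup.mem_inf.mp hM
    have hf1 : M.1 *ᵥ e1 = e1 := fix_of_stab M _ hM'.2 1 (by decide) (by decide) e1 dec1
    have hf2 : M.1 *ᵥ f1 = f1 := fix_of_stab M _ hM'.2 16 (by decide) (by decide) f1 dec16
    change tb mmask3 (ρ M ⟨4, by decide⟩ : Fin 256) = true
    rw [ρ_apply, dec4]
    apply in_M3
    · exact ne_zero_of M e2 e2_ne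
    · rw [← B_e1_e2, ← B_mulVec M e1 e2, hf1]
    · rw [← B_f1_e2, ← B_mulVec M f1 e2, hf2])
  rw [ncard_mask, mcount3] at h
  exact h

theorem bound4 : Nat.card ↥((⊤ : Subgroup Sp) ⊓ stabL ρ ([4, 16, 1] : List ℕ)) ≤
    4 * Nat.card ↥((⊤ : Subgroup Sp) ⊓ stabL ρ ([64, 4, 16, 1] : List ℕ)) := by
  have h := card_inf_le ρ (⊤ : Subgroup Sp) ([4, 16, 1] : List ℕ) 64 (by decide)
    {j : Fin 256 | tb mmask4 j = true} (by
    intro M hM
    have hM' := Subgroup.mem_inf.mp hM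
    have hf1 : M.1 *ᵥ e1 = e1 := fix_of_stab M _ hM'.2 1 (by decide) (by decide) e1 dec1
    have hf2 : M.1 *ᵥ f1 = f1 := fix_of_stab M _ hM'.2 16 (by decide) (by decide) f1 dec16
    have hf3 : M.1 *ᵥ e2 = e2 := fix_of_stab M _ hM'.2 4 (by decide) (by decide) e2 dec4
    change tb mmask4 (ρ M ⟨64, by decide⟩ : Fin 256) = true
    rw [ρ_apply, dec64]
    apply in_M4
    · rw [← B_e1_f2, ← B_mulVec M e1 f2, hf1]
    · rw [← B_f1_f2, ← B_mulVec M f1 f2, hf2]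
    · rw [← B_e2_f2, ← B_mulVec M e2 f2, hf3])
  rw [ncard_mask, mcount4] at h
  exact h

theorem vec_eq : ∀ v : V, v = v (.inl 0) • e1 + v (.inr 0) • f1 + v (.inl 1) • e2 + v (.inr 1) • f2 := by
  decide

theorem last_trivial : (⊤ : Subgroup Sp) ⊓ stabL ρ ([64, 4, 16, 1] : List ℕ) = ⊥ := by
  rw [eq_bot_iff]
  intro M hM
  have hM' := Subgroup.mem_inf.mp hM
  have hf1 : M.1 *ᵥ e1 = e1 := fix_of_stab M _ hM'.2 1 (by decide) (by decide) e1 dec1
  have hf2 : M.1 *ᵥ f1 = f1 := fix_of_stab M _ hM'.2 16 (by decide) (by decide) f1 dec16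
  have hf3 : M.1 *ᵥ e2 = e2 := fix_of_stab M _ hM'.2 4 (by decide) (by decide) e2 dec4
  have hf4 : M.1 *ᵥ f2 = f2 := fix_of_stab M _ hM'.2 64 (by decide) (by decide) f2 dec64
  rw [Subgroup.mem_bot]
  apply ρ_injective
  ext x
  rw [ρ_apply, map_one, Equiv.Perm.one_apply]
  have hv : M.1 *ᵥ dec x = dec x := by
    conv_lhs => rw [vec_eq (dec x)]
    rw [mulVec_add, mulVec_add, mulVec_add, mulVec_smul, mulVec_smul, mulVec_smul, mulVec_smul,
      hf1, hf2, hf3, hf4]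
    exact (vec_eq (dec x)).symm
  rw [hv, enc_dec]

theorem card_Sp : Nat.card Sp ≤ 979200 := by
  have h0 : Nat.card Sp = Nat.card ↥((⊤ : Subgroup Sp) ⊓ stabL ρ ([] : List ℕ)) := by
    rw [stabL_nil, inf_top_eq]
    exact (Nat.card_congr Subgroup.topEquiv.toEquiv).symm
  have h5 : Nat.card ↥((⊤ : Subgroup Sp) ⊓ stabL ρ ([64, 4, 16, 1] : List ℕ)) = 1 := by
    rw [last_trivial]
    exact Subgroup.card_bot
  have b1 := bound1
  have b2 := bound2
  have b3 := bound3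
  have b4 := bound4
  omega

theorem g_bijective : Function.Bijective g := by
  apply Function.Injective.bijective_of_nat_card_le g_injective
  rw [Cfsg.Agent.Lib.H17.SpNEmb.card_X]
  exact card_Sp

/-- the presented group of order 979200 is the symplectic group -/
noncomputable def equivSp : X ≃* Sp := MulEquiv.ofBijective g g_bijective

end Cfsg.Agent.Lib.H17.SpNIso
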