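import Cfsg.Agent.Lib.H17.SpNIso
import Cfsg.Agent.Lib.H17.HeCBound
import Cfsg.Agent.Lib.H17.HeOrd.Simple

set_option autoImplicit false
set_option maxRecDepth 100000

/-! # The subgroup `Sp(4, 4)` of index 2 in the point stabiliser of the Held group -/

namespace Cfsg.Agent.Lib.H17.SpNMain

open Cfsg.Spor Cfsg.Agent.Lib.H17.CosetCert Cfsg.Agent.Lib.H17.Sgs Cfsg.Agent.Lib.H17.HeSp44
  Cfsg.Agent.Lib.H17.SpNEmb

/-- the symplectic group -/
abbrev Sp : Type := Matrix.symplecticGroup (Fin 2) F4

theorem finite_He : Finite He' := Cfsg.Agent.Lib.H17.HeOrd.finite_G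

attribute [local instance] finite_He

/-- the image of the presented group of order 979200 -/
noncomputable def N0 : Subgroup He' := f.range

theorem fix_gen : ∀ x < 5,
    applyT 12 4096 ((m x).map fun y => tabOf (Cfsg.Agent.Lib.H17.HeGlue.gen y)) 0 = 0 := by
  decide +kernel

theorem φ1_fix (y : X) : φ1 y z = z := by
  have hy : y ∈ (⊤ : Subgroup X) := trivial
  rw [← Cfsg.Agent.Lib.H17.SpNGlue.closure_gens] at hy
  induction hy using Subgroup.closure_induction with
  | mem g hg =>
    obtain ⟨x, hx, rfl⟩ := hg
    rw [φ1_of]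
    apply fix_of_apply _ (good_map _)
    rw [Cfsg.Agent.Lib.H17.SpNEmb.idx_gen x hx]
    exact fix_gen x hx
  | one => simp
  | mul a b _ _ iha ihb => rw [map_mul, Equiv.Perm.mul_apply, ihb, iha]
  | inv a _ iha =>
    rw [map_inv]
    exact Equiv.Perm.inv_eq_iff_eq.mpr iha.symm

theorem N0_le : N0 ≤ H := by
  rintro _ ⟨y, rfl⟩
  exact index_and_stab.2 _ (φ1_fix y)

theorem card_N0 : Nat.card N0 = 979200 := by
  rw [← card_X]
  exact (Nat.card_congr (MonoidHom.ofInjective f_injective).toEquiv).symm

theorem card_H : Nat.card H = 1958400 := by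
  have h := Subgroup.index_mul_card H
  rw [index_eq, Cfsg.Agent.Lib.H17.HeOrd.card_eq] at h
  omega

/-- the subgroup of index 2 of the point stabiliser -/
noncomputable def N : Subgroup H := N0.subgroupOf H

/-- the subgroup is the presented group of order 979200 -/
noncomputable def equivN : N ≃* Sp :=
  (Subgroup.subgroupOfEquivOfLe N0_le).trans
    ((MonoidHom.ofInjective f_injective).symm.trans Cfsg.Agent.Lib.H17.SpNIso.equivSp)

theorem card_N : Nat.card N = 979200 := by
  rw [← card_N0]
  exact Nat.card_congr (Subgroup.subgroupOfEquivOfLe N0_le).toEquiv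

theorem index_N : N.index = 2 := by
  have h := Subgroup.card_mul_index N
  rw [card_N, card_H] at h
  omega

theorem normal_N : N.Normal := Subgroup.normal_of_index_eq_two index_N

/-! ## The permutation group -/

theorem simple_P : IsSimpleGroup P := by
  haveI := Cfsg.Agent.Lib.H17.HeSimple.simple
  exact (MonoidHom.ofInjective Cfsg.Agent.Lib.H17.HeCBound.φ_injective).symm.isSimpleGroup

theorem smul_P (g : P) (i : Fin 2058) : g • i = (g : Equiv.Perm (Fin 2058)) i := rfl

theorem trans_P : MulAction.IsPretransitive P (Fin 2058) := by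
  constructor
  intro i j
  obtain ⟨gi, hgi⟩ := φ_trans i
  obtain ⟨gj, hgj⟩ := φ_trans j
  refine ⟨⟨φ (gj * gi⁻¹), ⟨_, rfl⟩⟩, ?_⟩
  rw [smul_P]
  change φ (gj * gi⁻¹) i = j
  rw [map_mul, map_inv, Equiv.Perm.mul_apply, ← hgi]
  simp [hgj]

theorem zero_eq : (0 : Fin 2058) = z := rfl

/-- the point stabiliser of the presented group is the point stabiliser of the permutation group -/
noncomputable def toStab : H →* MulAction.stabilizer P (0 : Fin 2058) where
  toFun h := ⟨⟨φ h.1, ⟨_, rfl⟩⟩, by
    rw [MulAction.mem_stabilizer_iff, smul_P, zero_eq]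
    exact φ_H h.1 h.2⟩
  map_one' := by
    apply Subtype.ext
    apply Subtype.ext
    change φ ((1 : H) : He') = 1
    rw [Subgroup.coe_one, map_one]
  map_mul' a b := by
    apply Subtype.ext
    apply Subtype.ext
    change φ ((a * b : H) : He') = φ a.1 * φ b.1
    rw [Subgroup.coe_mul, map_mul]

theorem toStab_bijective : Function.Bijective toStab := by
  constructor
  · intro a b hab
    have h1 : φ a.1 = φ b.1 := congrArg (fun x : MulAction.stabilizer P (0 : Fin 2058) =>
      ((x : P) : Equiv.Perm (Fin 2058))) hab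
    exact Subtype.ext (Cfsg.Agent.Lib.H17.HeCBound.φ_injective h1)
  · rintro ⟨⟨p, ⟨g, rfl⟩⟩, hp⟩
    rw [MulAction.mem_stabilizer_iff, smul_P, zero_eq] at hp
    exact ⟨⟨g, index_and_stab.2 g hp⟩, rfl⟩

/-- the point stabiliser of the presented group is the point stabiliser of the permutation group -/
noncomputable def equivStab : H ≃* MulAction.stabilizer P (0 : Fin 2058) :=
  MulEquiv.ofBijective toStab toStab_bijective

/-- the subgroup of index 2 of the point stabiliser of the permutation group -/
noncomputable def N' : Subgroup (MulAction.stabilizer P (0 : Fin 2058)) :=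
  N.map (equivStab : H →* MulAction.stabilizer P (0 : Fin 2058))

theorem index_N' : N'.index = 2 := by
  rw [N', Subgroup.index_map_equiv, index_N]

/-- the subgroup is the symplectic group -/
noncomputable def equivN' : N' ≃* Sp :=
  (equivStab.subgroupMap N).symm.trans equivN

end Cfsg.Agent.Lib.H17.SpNMain
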