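import Cfsg.Agent.Lib.H17.SpNEmb
import Cfsg.Agent.Lib.H17.F4

set_option autoImplicit false
set_option maxRecDepth 100000

/-! # The presented group of order 979200 embeds in the symplectic group `Sp(4, 4)` (generated)

The letters go to explicit symplectic matrices over the field with four elements; the action on the
256 vectors shows that the homomorphism is injective. -/

namespace Cfsg.Agent.Lib.H17.SpNMat

open Matrix Cfsg.Spor Cfsg.Agent.Lib.H17.CosetCert Cfsg.Agent.Lib.H17.Sgs Cfsg.Agent.Lib.H17.SgsCent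

/-- the index set -/
abbrev I4 : Type := Fin 2 ⊕ Fin 2

/-- the vectors -/
abbrev V : Type := I4 → F4

/-- the symplectic group -/
abbrev Sp : Type := Matrix.symplecticGroup (Fin 2) F4

/-- the number of an element of the field -/
def code : F4 → ℕ
  | .z => 0
  | .o => 1
  | .w => 2
  | .w2 => 3

/-- the element of the field of a number -/
def uncode (n : ℕ) : F4 :=
  if n % 4 = 0 then .z else if n % 4 = 1 then .o else if n % 4 = 2 then .w else .w2

/-- the number of a vector -/
def encN (v : V) : ℕ :=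
  code (v (.inl 0)) + 4 * code (v (.inl 1)) + 16 * code (v (.inr 0)) + 64 * code (v (.inr 1))

/-- the number of a vector -/
def enc (v : V) : Fin 256 := ⟨encN v % 256, Nat.mod_lt _ (by norm_num)⟩

/-- the vector of a number -/
def decN (x : ℕ) : V :=
  Sum.elim ![uncode x, uncode (x / 4)] ![uncode (x / 16), uncode (x / 64)]

/-- the vector of a number -/
def dec (x : Fin 256) : V := decN x.val

theorem dec_enc : ∀ v : V, dec (enc v) = v := by decide

theorem enc_dec : ∀ x : Fin 256, enc (dec x) = x := by decide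

/-- the numbering of the vectors -/
def encE : V ≃ Fin 256 := ⟨enc, dec, dec_enc, enc_dec⟩

/-- the action on the vectors -/
noncomputable def ρV : Sp →* Equiv.Perm V where
  toFun M :=
    { toFun := fun v => M.1 *ᵥ v
      invFun := fun v => (M⁻¹).1 *ᵥ v
      left_inv := fun v => by
        change (M⁻¹).1 *ᵥ (M.1 *ᵥ v) = v
        rw [mulVec_mulVec, ← Submonoid.coe_mul, inv_mul_cancel, Submonoid.coe_one, one_mulVec]
      right_inv := fun v => by
        change M.1 *ᵥ ((M⁻¹).1 *ᵥ v) = v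
        rw [mulVec_mulVec, ← Submonoid.coe_mul, mul_inv_cancel, Submonoid.coe_one, one_mulVec] }
  map_one' := by
    ext v : 1
    change (1 : Sp).1 *ᵥ v = v
    rw [Submonoid.coe_one, one_mulVec]
  map_mul' M N := by
    ext v : 1
    change (M * N).1 *ᵥ v = M.1 *ᵥ (N.1 *ᵥ v)
    rw [mulVec_mulVec, Submonoid.coe_mul]

theorem ρV_apply (M : Sp) (v : V) : ρV M v = M.1 *ᵥ v := rfl

/-- the action on the numbers of the vectors -/
noncomputable def ρ : Sp →* Equiv.Perm (Fin 256) :=
  (encE.permCongrHom : Equiv.Perm V →* Equiv.Perm (Fin 256)).comp ρV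

theorem ρ_apply (M : Sp) (x : Fin 256) : ρ M x = enc (M.1 *ᵥ dec x) := rfl

theorem ρ_injective : Function.Injective ρ := by
  intro M N hMN
  apply Subtype.ext
  apply Matrix.toLin'.injective
  apply LinearMap.ext
  intro v
  have h := congrArg (fun p : Equiv.Perm (Fin 256) => dec (p (enc v))) hMN
  simp only [ρ_apply, dec_enc] at h
  rw [Matrix.toLin'_apply, Matrix.toLin'_apply]
  exact h

theorem mulVec_eq (M : Matrix I4 I4 F4) (v : V) : M *ᵥ v = fun i =>
    M i (.inl 0) * v (.inl 0) + M i (.inl 1) * v (.inl 1) + M i (.inr 0) * v (.inr 0) +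
      M i (.inr 1) * v (.inr 1) := by
  ext i
  simp only [mulVec, dotProduct, Fintype.sum_sum_type, Fin.sum_univ_two]
  ring

/-- the matrix with given columns -/
def matC (c0 c1 c2 c3 : ℕ) : Matrix I4 I4 F4 :=
  Matrix.of fun i j => decN (Sum.elim ![c0, c1] ![c2, c3] j) i

theorem ρ_mat (M : Sp) (T : ℕ) (hT : Good 8 256 256 T)
    (h : ∀ x : Fin 256, (enc (fun i => M.1 i (.inl 0) * dec x (.inl 0) +
      M.1 i (.inl 1) * dec x (.inl 1) + M.1 i (.inr 0) * dec x (.inr 0) +
      M.1 i (.inr 1) * dec x (.inr 1))).val = lk 8 256 T x) :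
    ρ M = σ 8 256 256 T := by
  ext x
  rw [ρ_apply, mulVec_eq, σ_apply 8 256 256 T hT]
  exact h x

/-! ## The images of the letters -/

/-- the image of the letter `c` -/
def M0 : Matrix I4 I4 F4 := matC 1 4 17 64

theorem mem0 : M0 ∈ Matrix.symplecticGroup (Fin 2) F4 := by
  rw [SymplecticGroup.mem_iff]
  decide +kernel

/-- its table -/
def mt0 : ℕ := 0xfcfdfefff8f9fafbf4f5f6f7f0f1f2f3edecefeee9e8ebeae5e4e7e6e1e0e3e2dedfdcdddadbd8d9d6d7d4d5d2d3d0d1cfcecdcccbcac9c8c7c6c5c4c3c2c1c0bcbdbebfb8b9babbb4b5b6b7b0b1b2b3adacafaea9a8abaaa5a4a7a6a1a0a3a29e9f9c9d9a9b989996979495929390918f8e8d8c8b8a898887868584838281807c7d7e7f78797a7b74757677707172736d6c6f6e69686b6a65646766616063625e5f5c5d5a5b585956575455525350514f4e4d4c4b4a494847464544434241403c3d3e3f38393a3b34353637303132332d2c2f2e29282b2a25242726212023221e1f1c1d1a1b181916171415121310110f0e0d0c0b0a09080706050403020100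

theorem good_mt0 : Good 8 256 256 mt0 :=
  good_of_checks 8 256 256 mt0 (by decide +kernel) (by decide +kernel)

theorem ρ0 : ρ ⟨M0, mem0⟩ = σ 8 256 256 mt0 := ρ_mat _ mt0 good_mt0 (by decide +kernel)

/-- the image of the letter `d` -/
def M1 : Matrix I4 I4 F4 := matC 226 117 108 75

theorem mem1 : M1 ∈ Matrix.symplecticGroup (Fin 2) F4 := by
  rw [SymplecticGroup.mem_iff]
  decide +kernel

/-- its table -/
def mt1 : ℕ := 0x608213f115f76684fa18896b8f6dfc1e0cee7f9d799b0ae89674e507e3019072d436a745a143d2304eac3ddf3bd948aab85acb29cd2fbe5c22c051b357b524c62bc958ba5ebc2dcfb153c220c426b75547a534d632d041a3dd3fae4ca84adb399f7dec0eea08997b05e77694709203e1f31180628664f517698b1af81cfe6f8ded0f9e7c987aeb09779504e602e071938163f210f41687651bf9688a6e8c1dff59bb2ac82cce5fbdc321b052b654c52735d746a440a233d1af4ddc3eda38a94ba644d537d331a0423cde4fad49ab3ad8ca28b95bbf5dcc2e50b223c125c756b412f06183678514f6886afb19fd1f8e6c7e9c0def0be9789ae40697759173e200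

theorem good_mt1 : Good 8 256 256 mt1 :=
  good_of_checks 8 256 256 mt1 (by decide +kernel) (by decide +kernel)

theorem ρ1 : ρ ⟨M1, mem1⟩ = σ 8 256 256 mt1 := ρ_mat _ mt1 good_mt1 (by decide +kernel)

/-- the image of the letter `e` -/
def M2 : Matrix I4 I4 F4 := matC 1 4 30 75

theorem mem2 : M2 ∈ Matrix.symplecticGroup (Fin 2) F4 := by
  rw [SymplecticGroup.mem_iff]
  decide +kernel

/-- its table -/
def mt2 : ℕ := 0xf0f1f2f3f4f5f6f7f8f9fafbfcfdfeffeeefecedeaebe8e9e6e7e4e5e2e3e0e1d7d6d5d4d3d2d1d0dfdedddcdbdad9d8c9c8cbcacdcccfcec1c0c3c2c5c4c7c6bbbab9b8bfbebdbcb3b2b1b0b7b6b5b4a5a4a7a6a1a0a3a2adacafaea9a8abaa9c9d9e9f98999a9b949596979091929382838081868784858a8b88898e8f8c8d7d7c7f7e79787b7a757477767170737263626160676665646b6a69686f6e6d6c5a5b58595e5f5c5d525350515657545544454647404142434c4d4e4f48494a4b36373435323330313e3f3c3d3a3b383928292a2b2c2d2e2f2021222324252627111013121514171619181b1a1d1c1f1e0f0e0d0c0b0a09080706050403020100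

theorem good_mt2 : Good 8 256 256 mt2 :=
  good_of_checks 8 256 256 mt2 (by decide +kernel) (by decide +kernel)

theorem ρ2 : ρ ⟨M2, mem2⟩ = σ 8 256 256 mt2 := ρ_mat _ mt2 good_mt2 (by decide +kernel)

/-- the image of the letter `f` -/
def M3 : Matrix I4 I4 F4 := matC 1 4 23 65

theorem mem3 : M3 ∈ Matrix.symplecticGroup (Fin 2) F4 := by
  rw [SymplecticGroup.mem_iff]
  decide +kernel

/-- its table -/
def mt3 : ℕ := 0xf2f3f0f1f6f7f4f5fafbf8f9fefffcfde5e4e7e6e1e0e3e2edecefeee9e8ebeadbdad9d8dfdedddcd3d2d1d0d7d6d5d4cccdcecfc8c9cacbc4c5c6c7c0c1c2c3b3b2b1b0b7b6b5b4bbbab9b8bfbebdbca4a5a6a7a0a1a2a3acadaeafa8a9aaab9a9b98999e9f9c9d92939091969794958d8c8f8e89888b8a8584878681808382707172737475767778797a7b7c7d7e7f67666564636261606f6e6d6c6b6a696859585b5a5d5c5f5e51505352555457564e4f4c4d4a4b48494647444542434041313033323534373639383b3a3d3c3f3e26272425222320212e2f2c2d2a2b282918191a1b1c1d1e1f10111213141516170f0e0d0c0b0a09080706050403020100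

theorem good_mt3 : Good 8 256 256 mt3 :=
  good_of_checks 8 256 256 mt3 (by decide +kernel) (by decide +kernel)

theorem ρ3 : ρ ⟨M3, mem3⟩ = σ 8 256 256 mt3 := ρ_mat _ mt3 good_mt3 (by decide +kernel)

/-- the image of the letter `w` -/
def M4 : Matrix I4 I4 F4 := matC 1 202 154 142

theorem mem4 : M4 ∈ Matrix.symplecticGroup (Fin 2) F4 := by
  rw [SymplecticGroup.mem_iff]
  decide +kernel

/-- its table -/
def mt4 : ℕ := 0xbabbb8b970717273f5f4f7f63f3e3d3c20212223eaebe8e96f6e6d6ca5a4a7a6555457569f9e9d9c1a1b1819d0d1d2d3cfcecdcc05040706808182834a4b484934353637fefffcfd7b7a7978b1b0b3b2aeafacad64656667e1e0e3e22b2a2928dbdad9d811101312949596975e5f5c5d414043428b8a89880e0f0c0dc4c5c6c77d7c7f7eb7b6b5b432333031f8f9fafbe7e6e5e42d2c2f2ea8a9aaab626360619293909158595a5bdddcdfde1716151408090a0bc2c3c0c1474645448d8c8f8ef3f2f1f039383b3abcbdbebf7677747569686b6aa3a2a1a026272425ecedeeef1c1d1e1fd6d7d4d55352515099989b9a868784854c4d4e4fc9c8cbca03020100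

theorem good_mt4 : Good 8 256 256 mt4 :=
  good_of_checks 8 256 256 mt4 (by decide +kernel) (by decide +kernel)

theorem ρ4 : ρ ⟨M4, mem4⟩ = σ 8 256 256 mt4 := ρ_mat _ mt4 good_mt4 (by decide +kernel)

/-- the tables of the letters -/
def mtabs : List ℕ := [mt0, mt1, mt2, mt3, mt4]

theorem good_mtabs : ∀ t ∈ mtabs, Good 8 256 256 t := by
  intro t ht
  simp only [mtabs, List.mem_cons, List.not_mem_nil, or_false] at ht
  rcases ht with rfl | rfl | rfl | rfl | rfl
  · exact good_mt0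
  · exact good_mt1
  · exact good_mt2
  · exact good_mt3
  · exact good_mt4

/-- the table of a letter -/
def mtOf : ℕ → ℕ
  | 0 => mt0
  | 1 => mt1
  | 2 => mt2
  | 3 => mt3
  | _ => mt4

theorem mtOf_mem (x : ℕ) : mtOf x ∈ mtabs := by
  match x with
  | 0 => decide
  | 1 => decide
  | 2 => decide
  | 3 => decide
  | (k + 4) => exact List.mem_cons_of_mem _ (List.mem_cons_of_mem _ (List.mem_cons_of_mem _
      (List.mem_cons_of_mem _ List.mem_cons_self)))

/-- an element whose action is a trivial word in the tables is trivial -/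
theorem eq_one_of_tables (M : Sp) (ts : List ℕ) (hts : ∀ t ∈ ts, t ∈ mtabs)
    (hρ : ρ M = (ts.map (σ 8 256 256)).prod) (hchk : checkWord 8 256 ts 256 = true) : M = 1 := by
  apply ρ_injective
  rw [hρ, map_one]
  exact prod_eq_one_of_check 8 256 256 ts (fun t ht => good_mtabs t (hts t ht)) hchk

/-- the images of the letters -/
noncomputable def gg : Cfsg.Agent.Lib.H17.SpNGlue.Gen → Sp
  | .c => ⟨M0, mem0⟩
  | .d => ⟨M1, mem1⟩
  | .e => ⟨M2, mem2⟩
  | .f => ⟨M3, mem3⟩
  | .w => ⟨M4, mem4⟩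

theorem ρ_gg (u : Cfsg.Agent.Lib.H17.SpNGlue.Gen) :
    ρ (gg u) = σ 8 256 256 (mtOf (Cfsg.Agent.Lib.H17.SpNGlue.idx u)) := by
  cases u
  · exact ρ0
  · exact ρ1
  · exact ρ2
  · exact ρ3
  · exact ρ4

theorem idx_gen : ∀ x < 5, Cfsg.Agent.Lib.H17.SpNGlue.idx (Cfsg.Agent.Lib.H17.SpNGlue.gen x) = x := by
  decide

theorem ρ_prod (L : List ℕ) (hL : ∀ x ∈ L, x < 5) :
    ρ ((L.map Cfsg.Agent.Lib.H17.SpNGlue.gen).map gg).prod = ((L.map mtOf).map (σ 8 256 256)).prod := by
  induction L with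
  | nil => simp
  | cons x L ih =>
    rw [List.map_cons, List.map_cons, List.prod_cons, map_mul,
      ih (fun y hy => hL y (List.mem_cons_of_mem _ hy)), ρ_gg,
      idx_gen x (hL x List.mem_cons_self), List.map_cons, List.map_cons, List.prod_cons]

theorem map_mem (L : List ℕ) : ∀ t ∈ L.map mtOf, t ∈ mtabs := by
  intro t ht
  obtain ⟨x, -, rfl⟩ := List.mem_map.mp ht
  exact mtOf_mem x

theorem sq_check : ∀ x < 5, checkWord 8 256 [mtOf x, mtOf x] 256 = true := by
  decide +kernel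

theorem gg_mul_self (u : Cfsg.Agent.Lib.H17.SpNGlue.Gen) : gg u * gg u = 1 := by
  have hx := Cfsg.Agent.Lib.H17.SpNGlue.idx_lt u
  apply eq_one_of_tables _ [mtOf (Cfsg.Agent.Lib.H17.SpNGlue.idx u), mtOf (Cfsg.Agent.Lib.H17.SpNGlue.idx u)]
  · intro t ht
    simp only [List.mem_cons, List.not_mem_nil, or_false] at ht
    rcases ht with rfl | rfl <;> exact mtOf_mem _
  · rw [map_mul, ρ_gg]
    simp only [List.map_cons, List.map_nil, List.prod_cons, List.prod_nil, mul_one]
  · exact sq_check _ hx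

theorem relW_lt : ∀ w ∈ Cfsg.Agent.Lib.H17.SpNGlue.relW, ∀ x ∈ w, x < 5 := by
  decide

theorem rel_check : ∀ w ∈ Cfsg.Agent.Lib.H17.SpNGlue.relW, checkWord 8 256 (w.map mtOf) 256 = true := by
  decide +kernel

theorem hW : ∀ w ∈ Cfsg.Agent.Lib.H17.SpNGlue.relW, ((w.map Cfsg.Agent.Lib.H17.SpNGlue.gen).map gg).prod = 1 := by
  intro w hw
  exact eq_one_of_tables _ (w.map mtOf) (map_mem w)
    (ρ_prod w (relW_lt w hw)) (rel_check w hw)

/-- the presented group of order 979200 -/
abbrev X : Type := Cfsg.Agent.Lib.H17.SpNEmb.X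

/-- the homomorphism into the symplectic group -/
noncomputable def g : X →* Sp :=
  PresentedGroup.toGroup (f := gg) (Cfsg.Agent.Lib.H17.SpNGlue.lift_rels gg gg_mul_self hW)

theorem g_of (u : Cfsg.Agent.Lib.H17.SpNGlue.Gen) : g (PresentedGroup.of u) = gg u :=
  PresentedGroup.toGroup.of _

/-- the action on the 256 vectors -/
noncomputable def ρX : X →* Equiv.Perm (Fin 256) := ρ.comp g

theorem ρX_of (u : Cfsg.Agent.Lib.H17.SpNGlue.Gen) : ρX (PresentedGroup.of u) =
    σ 8 256 256 (mtOf (Cfsg.Agent.Lib.H17.SpNGlue.idx u)) := by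
  change ρ (g (PresentedGroup.of u)) = _
  rw [g_of, ρ_gg]

theorem mtabs_rep : ∀ t ∈ mtabs, ∃ y : X, ρX y = σ 8 256 256 t := by
  intro t ht
  simp only [mtabs, List.mem_cons, List.not_mem_nil, or_false] at ht
  rcases ht with rfl | rfl | rfl | rfl | rfl
  · exact ⟨PresentedGroup.of .c, ρX_of _⟩
  · exact ⟨PresentedGroup.of .d, ρX_of _⟩
  · exact ⟨PresentedGroup.of .e, ρX_of _⟩
  · exact ⟨PresentedGroup.of .f, ρX_of _⟩
  · exact ⟨PresentedGroup.of .w, ρX_of _⟩

attribute [local instance] Cfsg.Agent.Lib.H17.SpNEmb.finite_X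

/-! ## level 1: base point 1, orbit size 255, 5 words, total length 5 -/

/-- the words of level 1 -/
def mw1 : List (List ℕ) := [[mt0], [mt1], [mt2], [mt3], [mt4]]

/-- the orbit of level 1 -/
def mmask1 : ℕ := 0xfffffffffffffffffffffffffffffffffffffffffffffffffffffffffffffffe

/-- the ranks of level 1 -/
def mrank1 : ℕ := 0xb16bb26a232012393b263c2733eeb86378c5407914080a047687c1d303010702b3642c557e44579e6c34569dba6da0eaf6dafdfedbfbf08fc7f8cae6a199e7eb70af66ad77e59bc3989754e2bde49aef0e0d191883f948d715090b05898accd44224437d162d5a2e743e294c213d2813695db7a9bf8073cfce72f371a8b6edf2221f113853522b96b04e92681e060f10c247f5824a468c818d25d0458684d5d1753f2a4d51919050589ff1b4e3a27cc9a3b91c0ce8d6dfcd1b369ce97fb588aa17ab6f30ae67ac6560316135936232ded8d28e85bc4ff494f7fcc8d9957ae0c65ea5eca76ebb8b49a65f417ba45c2f5b3acbbec41d1ae159fadcc0dd4b370000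

theorem mletters1 : ∀ ts ∈ mw1, ∀ t ∈ ts, t ∈ mtabs := by
  decide +kernel

theorem mfix1 : ∀ ts ∈ mw1, ∀ c ∈ ([] : List ℕ), applyT 8 256 ts c = c := by
  decide +kernel

theorem mbase1 : tb mmask1 1 = true := by
  decide +kernel

theorem mconn1 : checkOrbConn 8 256 mmask1 mrank1 1 mw1 256 = true := by
  decide +kernel

theorem mcount1 : countBits mmask1 256 0 = 255 := by
  decide +kernel

theorem mlevel1 : 255 * Nat.card (stabL ρX ([1] : List ℕ)) ≤ Nat.card (stabL ρX ([] : List ℕ)) :=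
  step 8 256 ρX mtabs good_mtabs mtabs_rep [] 1 (by decide) mmask1 mrank1 mw1 255 mletters1 mfix1 mbase1 mconn1 mcount1

/-! ## level 2: base point 16, orbit size 64, 4 words, total length 10 -/

/-- the words of level 2 -/
def mw2 : List (List ℕ) := [[mt2], [mt3], [mt4], [mt1, mt4, mt1, mt0, mt1, mt4, mt1]]

/-- the orbit of level 2 -/
def mmask2 : ℕ := 0xffff000000000000ffff000000000000ffff000000000000ffff0000

/-- the ranks of level 2 -/
def mrank2 : ℕ := 0x2f1128201c2b25332706100c341229210000000000000000000000000000000000000000000000000000000000000000000000000000000000000000000000000a230d1a16030924393c3d3f312c38320000000000000000000000000000000000000000000000000000000000000000000000000000000000000000000000003a17183e08353b191d14151e070b1b2e00000000000000000000000000000000000000000000000000000000000000000000000000000000000000000000000037010522130f042a021f2d260e36300000000000000000000000000000000000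

theorem mletters2 : ∀ ts ∈ mw2, ∀ t ∈ ts, t ∈ mtabs := by
  decide +kernel

theorem mfix2 : ∀ ts ∈ mw2, ∀ c ∈ ([1] : List ℕ), applyT 8 256 ts c = c := by
  decide +kernel

theorem mbase2 : tb mmask2 16 = true := by
  decide +kernel

theorem mconn2 : checkOrbConn 8 256 mmask2 mrank2 16 mw2 256 = true := by
  decide +kernel

theorem mcount2 : countBits mmask2 256 0 = 64 := by
  decide +kernel

theorem mlevel2 : 64 * Nat.card (stabL ρX ([16, 1] : List ℕ)) ≤ Nat.card (stabL ρX ([1] : List ℕ)) :=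
  step 8 256 ρX mtabs good_mtabs mtabs_rep [1] 16 (by decide) mmask2 mrank2 mw2 64 mletters2 mfix2 mbase2 mconn2 mcount2

/-! ## level 3: base point 4, orbit size 15, 3 words, total length 55 -/

/-- the words of level 3 -/
def mw3 : List (List ℕ) := [[mt2, mt1, mt4, mt1, mt0, mt1, mt4, mt1, mt4, mt1, mt4, mt1, mt0, mt1, mt4, mt1, mt3, mt4], [mt4, mt3, mt1, mt4, mt1, mt0, mt1, mt4, mt1, mt4, mt1, mt4, mt1, mt0, mt1, mt4, mt1, mt2], [mt3, mt4, mt2, mt1, mt4, mt1, mt0, mt1, mt4, mt1, mt3, mt1, mt4, mt1, mt0, mt1, mt4, mt1, mt2]]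

/-- the orbit of level 3 -/
def mmask3 : ℕ := 0x1111000000000000111100000000000011110000000000001110

/-- the ranks of level 3 -/
def mrank3 : ℕ := 0xd00000003000000070000000c000000000000000000000000000000000000000000000000000000000000000000000000000000000000000000000000000000040000000e000000050000000b00000000000000000000000000000000000000000000000000000000000000000000000000000000000000000000000000000006000000080000000100000002000000000000000000000000000000000000000000000000000000000000000000000000000000000000000000000000000000090000000a0000000000000000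

theorem mletters3 : ∀ ts ∈ mw3, ∀ t ∈ ts, t ∈ mtabs := by
  decide +kernel

theorem mfix3 : ∀ ts ∈ mw3, ∀ c ∈ ([16, 1] : List ℕ), applyT 8 256 ts c = c := by
  decide +kernel

theorem mbase3 : tb mmask3 4 = true := by
  decide +kernel

theorem mconn3 : checkOrbConn 8 256 mmask3 mrank3 4 mw3 256 = true := by
  decide +kernel

theorem mcount3 : countBits mmask3 256 0 = 15 := by
  decide +kernel

theorem mlevel3 : 15 * Nat.card (stabL ρX ([4, 16, 1] : List ℕ)) ≤ Nat.card (stabL ρX ([16, 1] : List ℕ)) :=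
  step 8 256 ρX mtabs good_mtabs mtabs_rep [16, 1] 4 (by decide) mmask3 mrank3 mw3 15 mletters3 mfix3 mbase3 mconn3 mcount3

/-! ## level 4: base point 64, orbit size 4, 2 words, total length 158 -/

/-- the words of level 4 -/
def mw4 : List (List ℕ) := [[mt2, mt1, mt4, mt1, mt0, mt1, mt4, mt1, mt4, mt1, mt4, mt1, mt0, mt1, mt4, mt1, mt3, mt4, mt3, mt4, mt2, mt1, mt4, mt1, mt0, mt1, mt4, mt1, mt3, mt1, mt4, mt1, mt0, mt1, mt4, mt1, mt2, mt4, mt3, mt1, mt4, mt1, mt0, mt1, mt4, mt1, mt4, mt1, mt4, mt1, mt0, mt1, mt4, mt1, mt2], [mt3, mt4, mt2, mt1, mt4, mt1, mt0, mt1, mt4, mt1, mt3, mt4, mt1, mt4, mt1, mt0, mt1, mt4, mt1, mt3, mt4, mt3, mt4, mt2, mt1, mt4, mt1, mt0, mt1, mt4, mt1, mt3, mt4, mt1, mt4, mt1, mt0, mt1, mt4, mt1, mt3, mt4, mt3, mt4, mt2, mt1, mt4, mt1, mt0, mt1, mt4, mt1, mt3, mt1, mt4, mt1, mt0, mt1, mt4, mt1, mt2, mt4, mt3, mt1, mt4, mt1, mt0, mt1, mt4, mt1, mt4, mt3, mt1, mt4, mt1, mt0, mt1, mt4, mt1, mt2, mt4, mt3, mt4, mt3, mt1, mt4, mt1, mt0,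 mt1, mt4, mt1, mt4, mt3, mt1, mt4, mt1, mt0, mt1, mt4, mt1, mt2, mt4, mt3]]

/-- the orbit of level 4 -/
def mmask4 : ℕ := 0x11110000000000000000

/-- the ranks of level 4 -/
def mrank4 : ℕ := 0x100000002000000030000000000000000000000000000000000000000000000000000000000000000000000000000000000000000000000000000000000000000000000000000000000000000

theorem mletters4 : ∀ ts ∈ mw4, ∀ t ∈ ts, t ∈ mtabs := by
  decide +kernel

theorem mfix4 : ∀ ts ∈ mw4, ∀ c ∈ ([4, 16, 1] : List ℕ), applyT 8 256 ts c = c := by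
  decide +kernel

theorem mbase4 : tb mmask4 64 = true := by
  decide +kernel

theorem mconn4 : checkOrbConn 8 256 mmask4 mrank4 64 mw4 256 = true := by
  decide +kernel

theorem mcount4 : countBits mmask4 256 0 = 4 := by
  decide +kernel

theorem mlevel4 : 4 * Nat.card (stabL ρX ([64, 4, 16, 1] : List ℕ)) ≤ Nat.card (stabL ρX ([4, 16, 1] : List ℕ)) :=
  step 8 256 ρX mtabs good_mtabs mtabs_rep [4, 16, 1] 64 (by decide) mmask4 mrank4 mw4 4 mletters4 mfix4 mbase4 mconn4 mcount4

/-- the lower bound for the order, with the stabiliser of the base -/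
theorem mcard_ge_stab : 979200 * Nat.card (stabL ρX ([64, 4, 16, 1] : List ℕ)) ≤ Nat.card (stabL ρX ([] : List ℕ)) := by
  have h4 := mlevel4
  have h3 := mlevel3
  have h2 := mlevel2
  have h1 := mlevel1
  have e4 := h4
  have e3 := le_trans (Nat.mul_le_mul_left 15 e4) h3
  have e2 := le_trans (Nat.mul_le_mul_left 64 e3) h2
  have e1 := le_trans (Nat.mul_le_mul_left 255 e2) h1
  calc 979200 * Nat.card (stabL ρX ([64, 4, 16, 1] : List ℕ))
      = 255 * (64 * (15 * (4 * Nat.card (stabL ρX ([64, 4, 16, 1] : List ℕ))))) := by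
        simp only [← Nat.mul_assoc]
    _ ≤ Nat.card (stabL ρX ([] : List ℕ)) := e1

/-- the base -/
def mbase : List ℕ := [64, 4, 16, 1]

theorem ρX_injective : Function.Injective ρX := by
  have h1 : 979200 * Nat.card (stabL ρX mbase) ≤ Nat.card (stabL ρX ([] : List ℕ)) := mcard_ge_stab
  rw [card_stabL_nil] at h1
  have h2 : Nat.card X = 979200 := Cfsg.Agent.Lib.H17.SpNEmb.card_X
  have h4 : Nat.card (stabL ρX mbase) ≤ 1 := by
    by_contra hcon
    rw [not_le] at hcon
    have : 979200 * 2 ≤ 979200 * Nat.card (stabL ρX mbase) := Nat.mul_le_mul_left _ hcon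
    omega
  have h5 := (Subgroup.card_le_one_iff_eq_bot _).mp h4
  rw [injective_iff_map_eq_one]
  intro y hy
  have hmem : y ∈ stabL ρX mbase := by
    intro c _ hc
    rw [hy]
    rfl
  rw [h5, Subgroup.mem_bot] at hmem
  exact hmem

theorem g_injective : Function.Injective g := by
  intro x y hxy
  apply ρX_injective
  change ρ (g x) = ρ (g y)
  rw [hxy]

end Cfsg.Agent.Lib.H17.SpNMat
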