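import Mathlib

set_option autoImplicit false

namespace Cfsg.Agent.Lib.H17

set_option maxRecDepth 100000 in
theorem a5_pow : ∀ g : alternatingGroup (Fin 5), g ^ 2 = 1 ∨ g ^ 3 = 1 ∨ g ^ 5 = 1 := by
  decide

set_option maxRecDepth 100000 in
theorem a5_exists (p : ℕ) (hp : p = 2 ∨ p = 3 ∨ p = 5) :
    ∃ g : alternatingGroup (Fin 5), g ^ p = 1 ∧ g ≠ 1 := by
  rcases hp with rfl | rfl | rfl <;> decide

theorem orderOf_mem_of_pow_prime {G : Type*} [Group G] {g : G} {p : ℕ} (hp : p.Prime)
    (h : g ^ p = 1) : orderOf g = 1 ∨ orderOf g = p :=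
  (Nat.dvd_prime hp).1 (orderOf_dvd_of_pow_eq_one h)

theorem a5_orderOf (g : alternatingGroup (Fin 5)) :
    orderOf g = 1 ∨ orderOf g = 2 ∨ orderOf g = 3 ∨ orderOf g = 5 := by
  rcases a5_pow g with h | h | h
  · rcases orderOf_mem_of_pow_prime Nat.prime_two h with h | h <;> simp [h]
  · rcases orderOf_mem_of_pow_prime Nat.prime_three h with h | h <;> simp [h]
  · rcases orderOf_mem_of_pow_prime Nat.prime_five h with h | h <;> simp [h]

theorem a5_exists_orderOf (p : ℕ) (hp : p = 1 ∨ p = 2 ∨ p = 3 ∨ p = 5) :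
    ∃ g : alternatingGroup (Fin 5), orderOf g = p := by
  rcases hp with rfl | hp
  · exact ⟨1, orderOf_one⟩
  · obtain ⟨g, hg, hg1⟩ := a5_exists p hp
    have hpp : p.Prime := by
      rcases hp with rfl | rfl | rfl
      · exact Nat.prime_two
      · exact Nat.prime_three
      · exact Nat.prime_five
    have := Fact.mk hpp
    exact ⟨g, orderOf_eq_prime hg hg1⟩

theorem a5_spectrum :
    Set.range (orderOf : alternatingGroup (Fin 5) → ℕ) = {1, 2, 3, 5} := by
  ext n
  constructor
  · rintro ⟨g, rfl⟩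
    rcases a5_orderOf g with h | h | h | h <;> simp [h]
  · intro hn
    simp only [Set.mem_insert_iff, Set.mem_singleton_iff] at hn
    exact a5_exists_orderOf n hn

end Cfsg.Agent.Lib.H17
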