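import Mathlib
import Cfsg.Agent.Lib.H12.CycleType

set_option autoImplicit false

namespace Cfsg.Agent.Lib.H17

open Cfsg.Agent.Lib.H12

/-- The spectrum of the alternating group of degree six. -/
theorem a6_spectrum :
    Set.range (orderOf : alternatingGroup (Fin 6) → ℕ) = {1, 2, 3, 4, 5} := by
  ext m
  rw [mem_range_orderOf_alt_iff]
  constructor
  · rintro ⟨c, hsum, h2, hev, rfl⟩
    have hcard : 2 * Multiset.card c ≤ c.sum := card_mul_le_sum h2
    have hc3 : Multiset.card c ≤ 3 := by omega
    simp only [Set.mem_insert_iff, Set.mem_singleton_iff]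
    obtain hc | hc | hc | hc : Multiset.card c = 0 ∨ Multiset.card c = 1 ∨ Multiset.card c = 2 ∨
        Multiset.card c = 3 := by omega
    · rw [Multiset.card_eq_zero] at hc
      subst hc
      simp
    · rw [Multiset.card_eq_one] at hc
      obtain ⟨a, rfl⟩ := hc
      have ha2 : 2 ≤ a := h2 a (by simp)
      simp only [Multiset.sum_singleton, Multiset.card_singleton] at hsum hev
      simp only [Multiset.lcm_singleton, normalize_eq]
      have : a ≤ 6 := hsum
      interval_cases a <;> simp_all <;> contradiction
    · rw [Multiset.card_eq_two] at hc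
      obtain ⟨a, b, rfl⟩ := hc
      have ha2 : 2 ≤ a := h2 a (by simp)
      have hb2 : 2 ≤ b := h2 b (by simp)
      simp only [Multiset.insert_eq_cons, Multiset.sum_cons, Multiset.sum_singleton,
        Multiset.card_cons, Multiset.card_singleton] at hsum hev
      simp only [Multiset.insert_eq_cons, Multiset.lcm_cons, Multiset.lcm_singleton, normalize_eq]
      have ha4 : a ≤ 4 := by omega
      have hb4 : b ≤ 4 := by omega
      have hev' : (a + (b + 0) + (1 + 1)) % 2 = 0 ∨ True := Or.inr trivial
      rw [Nat.even_iff] at hev
      clear h2 hcard hc3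
      interval_cases a <;> interval_cases b <;> first | omega | decide
    · rw [Multiset.card_eq_three] at hc
      obtain ⟨a, b, d, rfl⟩ := hc
      have ha2 : 2 ≤ a := h2 a (by simp)
      have hb2 : 2 ≤ b := h2 b (by simp)
      have hd2 : 2 ≤ d := h2 d (by simp)
      simp only [Multiset.insert_eq_cons, Multiset.sum_cons, Multiset.sum_singleton,
        Multiset.card_cons, Multiset.card_singleton] at hsum hev
      exfalso
      have ha : a = 2 := by omega
      have hb : b = 2 := by omega
      have hd : d = 2 := by omega
      subst ha hb hd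
      revert hev
      decide
  · intro hm
    simp only [Set.mem_insert_iff, Set.mem_singleton_iff] at hm
    rcases hm with rfl | rfl | rfl | rfl | rfl
    · exact ⟨0, by simp, by simp, by simp, by simp⟩
    · exact ⟨{2, 2}, by simp, by simp, by decide, by decide⟩
    · exact ⟨{3}, by simp, by simp, by decide, by simp⟩
    · exact ⟨{4, 2}, by simp, by simp, by decide, by decide⟩
    · exact ⟨{5}, by simp, by simp, by decide, by simp⟩

end Cfsg.Agent.Lib.H17
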