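import Mathlib
import Cfsg.Prelude.Def_LieTwisted
import Cfsg.Agent.Lib.H29.TwAutE6
import Cfsg.Agent.Lib.H29.TwGenCOMME6
import Cfsg.Agent.Lib.H29.D4Inv5
import Cfsg.Agent.Lib.H12.InvCell5
import Cfsg.Agent.Lib.H6.InvWord

/-!
# The twisted group of type `E₆` in characteristic two: tools for the fusion of involutions

Membership of the `σ`-fixed root elements in the twisted group, conjugation rules for root elements in
characteristic two, conjugation of words in the `x_r(1)` by the elements `n_w`.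
-/

set_option autoImplicit false
set_option linter.unusedSectionVars false
set_option linter.unusedSimpArgs false
set_option linter.unusedVariables false

namespace Cfsg.Agent.Lib.H17.TwE6

open Cfsg Cfsg.Lie Matrix Cfsg.Agent.Lib.H29.Chev Cfsg.Agent.Lib.H29.TwGen Cfsg.Agent.Lib.H6.Inv

variable {K : Type*} [Field K]

local notation "xe" => cert12_E6.c6.c2.xA

/-- the product of the `x_r(1)`, `r` in a list -/
noncomputable abbrev ye (K : Type*) [Field K] (L : List ℕ) : GL chevE6.Idx K := wordG cert12_E6.c6.c2 K L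

theorem ye_nil : ye K [] = 1 := by simp [ye, wordG]

theorem ye_cons (r : ℕ) (L : List ℕ) : ye K (r :: L) = xe r 1 * ye K L := by simp [ye, wordG]

theorem ye_one (r : ℕ) : ye K [r] = xe r 1 := by simp [ye, wordG]

theorem ye_append (L L' : List ℕ) : ye K (L ++ L') = ye K L * ye K L' := wordG_append _ L L'

section Mem

variable {φ : K →+* K} {q : ℕ} (W : TwPack cert12_E6 gaE6a 2 φ rlE6a srE6a fqE6a q)
include W

/-- the twisted root elements lie in the twisted group -/
theorem xS_mem_G1 (r : ℕ) (hr : r < 72) (t : K) (ht : t ∈ Kr fdE6 gaE6a φ r) :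
    cert12_E6.xS gaE6a 2 φ r t ∈ cert12_E6.G1 gaE6a 2 φ srE6a := by
  have hfix : cert12_E6.xS gaE6a 2 φ r t ∈ fixS (cert12_E6.c6.c2.sigma W.T.ginv φ) := by
    rw [mem_fixS]
    exact cert12_E6.sigma_xS W.T φ W.hk W.hφk r hr t ht
  by_cases hpos : 36 ≤ r
  · apply cert12_E6.fixU_le_G1 W
    exact Subgroup.mem_inf.mpr ⟨hfix, cert12_E6.xS_pos_mem W r hr hpos t⟩
  · apply cert12_E6.fixV_le_G1 W
    exact Subgroup.mem_inf.mpr ⟨hfix, cert12_E6.xS_neg_mem W r hr (by
      have : fdE6.n / 2 = 36 := rfl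
      omega) t⟩

/-- root elements at fixed roots with fixed parameters -/
theorem xe_mem_of_fixed (r : ℕ) (hr : r < 72) (hf : fdE6.gRoot gaE6a r = r) (t : K) (ht : φ t = t) :
    xe r t ∈ cert12_E6.G1 gaE6a 2 φ srE6a := by
  have := xS_mem_G1 W r hr t (fun _ => ht)
  rwa [cert12_E6.xS_of_fixed W.T W.T2 φ r hf t] at this

theorem xe_one_mem_of_fixed (r : ℕ) (hr : r < 72) (hf : fdE6.gRoot gaE6a r = r) :
    xe r (1 : K) ∈ cert12_E6.G1 gaE6a 2 φ srE6a :=
  xe_mem_of_fixed W r hr hf 1 (map_one φ)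

/-- the twisted root elements at an orbit of size two, in characteristic two -/
theorem xe_pair_mem [CharP K 2] (r r' : ℕ) (hr : r < 72) (hos : fdE6.os gaE6a 2 r = 2)
    (hg : fdE6.gIt gaE6a 1 r = r') (t : K) :
    xe r t * xe r' (φ t) ∈ cert12_E6.G1 gaE6a 2 φ srE6a := by
  have hne : fdE6.gRoot gaE6a r ≠ r := by
    intro h
    unfold FD.os at hos
    rw [if_pos h] at hos
    omega
  have h1 := xS_mem_G1 W r hr t (fun h => absurd h hne)
  have he : ((fdE6.eProd gaE6a r 1 : ℤ) : K) = 1 := by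
    have hsq := fdE6.eProd_sq gaE6a r 1
    have : fdE6.eProd gaE6a r 1 = 1 ∨ fdE6.eProd gaE6a r 1 = -1 := by
      have h0 : (fdE6.eProd gaE6a r 1 - 1) * (fdE6.eProd gaE6a r 1 + 1) = 0 := by linear_combination hsq
      rcases mul_eq_zero.mp h0 with h | h
      · left; linarith
      · right; linarith
    rcases this with h | h
    · rw [h, Int.cast_one]
    · rw [h, Int.cast_neg, Int.cast_one, CharTwo.neg_eq]
  rw [xS_two cert12_E6 gaE6a φ r r' (fdE6.eProd gaE6a r 1) hos hg rfl rfl t, he, one_mul] at h1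
  exact h1

/-- the elements `n_w` of expanded twisted words lie in the twisted group -/
theorem wordN_mem_G1 (u : List ℕ) (hu : ∀ i ∈ u, i ∈ srE6a) :
    cert12_E6.wordN K (u.flatMap (orbW gaE6a 2)) ∈ cert12_E6.G1 gaE6a 2 φ srE6a := by
  induction u with
  | nil => simp [Cert12.wordN]
  | cons i u ih =>
    rw [List.flatMap_cons, cert12_E6.wordN_append]
    exact mul_mem (cert12_E6.nS_mem_G1 W i (hu i List.mem_cons_self))
      (ih fun j hj => hu j (List.mem_cons_of_mem _ hj))

end Mem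

section Rules

variable [CharP K 2]

/-- commuting root elements -/
theorem xe_comm0 (r s : ℕ) (hr : r < 72) (hs : s < 72) (h1 : s ≠ r) (h2 : s ≠ 71 - r)
    (hct : fdE6.commT r s = []) (t u : K) : xe s u * xe r t = xe r t * xe s u :=
  xA_comm_of cert12_E6 r s hr hs h1 h2 hct t u

/-- conjugation of a root element by a commuting one -/
theorem cj0 (r s : ℕ) (hr : r < 72) (hs : s < 72) (h1 : s ≠ r) (h2 : s ≠ 71 - r)
    (hct : fdE6.commT r s = []) (t u : K) : xe s u * xe r t * (xe s u)⁻¹ = xe r t := by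
  rw [xe_comm0 r s hr hs h1 h2 hct t u]
  group

/-- conjugation of a root element by another one, the sum being a root, in characteristic two -/
theorem cj1 (r s γ : ℕ) (ε : ℤ) (hε : ε = 1 ∨ ε = -1) (hr : r < 72) (hs : s < 72) (hγ : γ < 72) (h1 : s ≠ r)
    (h2 : s ≠ 71 - r) (hct : fdE6.commT r s = [(γ, ε, 1, 1)]) (h1' : s ≠ γ) (h2' : s ≠ 71 - γ)
    (hct' : fdE6.commT γ s = []) (t u : K) :
    xe s u * xe r t * (xe s u)⁻¹ = xe r t * xe γ (t * u) := by
  have h := xA_comm1_of (F := K) cert12_E6 r s γ ε hr hs h1 h2 hct t u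
  have e : ((ε : ℤ) : K) * (-t) * u = t * u := by
    rcases hε with rfl | rfl
    · rw [Int.cast_one, one_mul, CharTwo.neg_eq]
    · rw [Int.cast_neg, Int.cast_one]; ring
  rw [e] at h
  have hc := xe_comm0 γ s hγ hs h1' h2' hct' (t * u) u
  rw [h, mul_assoc (xe r t), hc]
  group

theorem xe_sq (r : ℕ) (t : K) : xe r t * xe r t = 1 := by
  rw [cert12_E6.c6.c2.xA_mul, CharTwo.add_self_eq_zero, cert12_E6.c6.c2.xA_zero]

theorem xe_inv (r : ℕ) (t : K) : (xe r t)⁻¹ = xe r t := inv_eq_of_mul_eq_one_right (xe_sq r t)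

/-- conjugation of a word in the `x_r(1)` by `n_w` -/
theorem wmove (w : List ℕ) (hw : IsWd 6 w) (L : List ℕ) (hL : ∀ r ∈ L, r < 72) :
    cert12_E6.wordN K w * ye K L * (cert12_E6.wordN K w)⁻¹ = ye K (L.map (fdE6.wordP fxE6 w)) := by
  induction L with
  | nil => simp [ye_nil]
  | cons r L ih =>
    rw [List.map_cons, ye_cons, ye_cons, ← ih (fun s hs => hL s (List.mem_cons_of_mem _ hs)),
      ← cert12_E6.wordN_conj_char2 w hw r (hL r List.mem_cons_self) 1]
    group

end Rules

end Cfsg.Agent.Lib.H17.TwE6
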