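import Mathlib
import Cfsg.Prelude.Def_LieTwisted
import Cfsg.Agent.Lib.H17.TwE6A

/-!
# The twisted group of type `E₆` in characteristic two: the fusion `long · long ∼ short`

With `λ + μ = 1` (later `μ = λ^q`) and `g = x₂₃(λ) x₂₁(μ) x₄₈(1) x₅₀(1)`:
`g x₆₀(1) x₇₁(1) g⁻¹ = x₆₆(1) x₆₈(1)`, and `g` commutes with `x₃₉`, `x₄₄`.
-/

set_option autoImplicit false
set_option linter.unusedSectionVars false
set_option linter.unusedSimpArgs false
set_option linter.unusedVariables false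

namespace Cfsg.Agent.Lib.H17.TwE6

open Cfsg Cfsg.Lie Matrix Cfsg.Agent.Lib.H29.Chev Cfsg.Agent.Lib.H29.TwGen Cfsg.Agent.Lib.H6.Inv

variable {K : Type*} [Field K] [CharP K 2]

local notation "xe" => cert12_E6.c6.c2.xA

theorem cjm {G : Type*} [Group G] (g a b : G) : g * (a * b) * g⁻¹ = g * a * g⁻¹ * (g * b * g⁻¹) := by group

set_option maxRecDepth 100000 in
theorem c50_60 (t u : K) : xe 50 u * xe 60 t * (xe 50 u)⁻¹ = xe 60 t * xe 68 (t * u) :=
  cj1 60 50 68 (-1) (Or.inr rfl) (by decide) (by decide) (by decide) (by decide) (by decide) (by decide +kernel)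
    (by decide) (by decide) (by decide +kernel) t u

set_option maxRecDepth 100000 in
theorem c50_71 (t u : K) : xe 50 u * xe 71 t * (xe 50 u)⁻¹ = xe 71 t :=
  cj0 71 50 (by decide) (by decide) (by decide) (by decide) (by decide +kernel) t u

set_option maxRecDepth 100000 in
theorem c48_60 (t u : K) : xe 48 u * xe 60 t * (xe 48 u)⁻¹ = xe 60 t * xe 66 (t * u) :=
  cj1 60 48 66 (-1) (Or.inr rfl) (by decide) (by decide) (by decide) (by decide) (by decide) (by decide +kernel)
    (by decide) (by decide) (by decide +kernel) t u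

set_option maxRecDepth 100000 in
theorem c48_68 (t u : K) : xe 48 u * xe 68 t * (xe 48 u)⁻¹ = xe 68 t * xe 71 (t * u) :=
  cj1 68 48 71 (-1) (Or.inr rfl) (by decide) (by decide) (by decide) (by decide) (by decide) (by decide +kernel)
    (by decide) (by decide) (by decide +kernel) t u

set_option maxRecDepth 100000 in
theorem c48_71 (t u : K) : xe 48 u * xe 71 t * (xe 48 u)⁻¹ = xe 71 t :=
  cj0 71 48 (by decide) (by decide) (by decide) (by decide) (by decide +kernel) t u

set_option maxRecDepth 100000 in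
theorem c21_60 (t u : K) : xe 21 u * xe 60 t * (xe 21 u)⁻¹ = xe 60 t :=
  cj0 60 21 (by decide) (by decide) (by decide) (by decide) (by decide +kernel) t u

set_option maxRecDepth 100000 in
theorem c21_66 (t u : K) : xe 21 u * xe 66 t * (xe 21 u)⁻¹ = xe 66 t :=
  cj0 66 21 (by decide) (by decide) (by decide) (by decide) (by decide +kernel) t u

set_option maxRecDepth 100000 in
theorem c21_68 (t u : K) : xe 21 u * xe 68 t * (xe 21 u)⁻¹ = xe 68 t * xe 60 (t * u) :=
  cj1 68 21 60 (-1) (Or.inr rfl) (by decide) (by decide) (by decide) (by decide) (by decide) (by decide +kernel)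
    (by decide) (by decide) (by decide +kernel) t u

set_option maxRecDepth 100000 in
theorem c23_60 (t u : K) : xe 23 u * xe 60 t * (xe 23 u)⁻¹ = xe 60 t :=
  cj0 60 23 (by decide) (by decide) (by decide) (by decide) (by decide +kernel) t u

set_option maxRecDepth 100000 in
theorem c23_66 (t u : K) : xe 23 u * xe 66 t * (xe 23 u)⁻¹ = xe 66 t * xe 60 (t * u) :=
  cj1 66 23 60 (-1) (Or.inr rfl) (by decide) (by decide) (by decide) (by decide) (by decide) (by decide +kernel)
    (by decide) (by decide) (by decide +kernel) t u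

set_option maxRecDepth 100000 in
theorem c23_68 (t u : K) : xe 23 u * xe 68 t * (xe 23 u)⁻¹ = xe 68 t :=
  cj0 68 23 (by decide) (by decide) (by decide) (by decide) (by decide +kernel) t u

set_option maxRecDepth 100000 in
theorem k60_66 (t u : K) : xe 66 u * xe 60 t = xe 60 t * xe 66 u :=
  xe_comm0 60 66 (by decide) (by decide) (by decide) (by decide) (by decide +kernel) t u

set_option maxRecDepth 100000 in
theorem k60_68 (t u : K) : xe 68 u * xe 60 t = xe 60 t * xe 68 u :=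
  xe_comm0 60 68 (by decide) (by decide) (by decide) (by decide) (by decide +kernel) t u

/-- the fusion `(60, 71) ∼ (66, 68)` -/
theorem fusA (lam mu : K) (h : lam + mu = 1) :
    (xe 23 lam * xe 21 mu * xe 48 1 * xe 50 1) * (xe 60 (1 : K) * xe 71 1) *
      (xe 23 lam * xe 21 mu * xe 48 1 * xe 50 1)⁻¹ = xe 66 1 * xe 68 1 := by
  have s1 : xe 50 (1 : K) * (xe 60 (1 : K) * xe 71 1) * (xe 50 (1 : K))⁻¹ = xe 60 1 * xe 68 1 * xe 71 1 := by
    rw [cjm, c50_60, c50_71, mul_one]
  have s2 : xe 48 (1 : K) * (xe 60 (1 : K) * xe 68 1 * xe 71 1) * (xe 48 (1 : K))⁻¹ =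
      xe 60 1 * xe 66 1 * xe 68 1 := by
    rw [cjm, cjm, c48_60, c48_68, c48_71, mul_one]
    have : xe 60 (1 : K) * xe 66 1 * (xe 68 1 * xe 71 1) * xe 71 1 =
        xe 60 (1 : K) * xe 66 1 * xe 68 1 * (xe 71 1 * xe 71 1) := by group
    rw [this, xe_sq, mul_one]
  have s3 : xe 21 mu * (xe 60 (1 : K) * xe 66 1 * xe 68 1) * (xe 21 mu)⁻¹ =
      xe 60 1 * xe 66 1 * (xe 68 1 * xe 60 mu) := by
    rw [cjm, cjm, c21_60, c21_66, c21_68, one_mul]
  have s4 : xe 23 lam * (xe 60 (1 : K) * xe 66 1 * (xe 68 1 * xe 60 mu)) * (xe 23 lam)⁻¹ =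
      xe 60 1 * (xe 66 1 * xe 60 lam) * (xe 68 1 * xe 60 mu) := by
    rw [cjm, cjm, cjm, c23_60, c23_66, c23_68, c23_60, one_mul]
  have e : (xe 23 lam * xe 21 mu * xe 48 1 * xe 50 1) * (xe 60 (1 : K) * xe 71 1) *
      (xe 23 lam * xe 21 mu * xe 48 1 * xe 50 1)⁻¹ =
      xe 23 lam * (xe 21 mu * (xe 48 1 * (xe 50 1 * (xe 60 (1 : K) * xe 71 1) * (xe 50 1)⁻¹) * (xe 48 1)⁻¹) *
        (xe 21 mu)⁻¹) * (xe 23 lam)⁻¹ := by group
  rw [e, s1, s2, s3, s4]
  -- collect the `x₆₀`
  have f1 : xe 60 (1 : K) * (xe 66 1 * xe 60 lam) * (xe 68 1 * xe 60 mu) =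
      xe 60 1 * xe 60 lam * xe 60 mu * (xe 66 1 * xe 68 1) := by
    rw [k60_66 lam 1, k60_68 mu 1]
    have : xe 60 (1 : K) * (xe 60 lam * xe 66 1) * (xe 60 mu * xe 68 1) =
        xe 60 (1 : K) * xe 60 lam * (xe 66 1 * xe 60 mu) * xe 68 1 := by group
    rw [this, k60_66 mu 1]
    group
  rw [f1, cert12_E6.c6.c2.xA_mul, cert12_E6.c6.c2.xA_mul]
  have : (1 : K) + lam + mu = 0 := by
    rw [add_assoc, h]
    exact CharTwo.add_self_eq_zero 1
  rw [this, cert12_E6.c6.c2.xA_zero, one_mul]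

end Cfsg.Agent.Lib.H17.TwE6
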