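import Mathlib
import Cfsg.Prelude.Def_LieTwisted
import Cfsg.Agent.Lib.H17.TwE6A

/-!
# The twisted group of type `E₆` in characteristic two: products of reflections in orthogonal roots

* `ye_mem_G1`: a word in the `x_r(1)` made of fixed roots and adjacent pairs `r, ρ r` lies in the twisted group;
* `ye_perm`: words in pairwise commuting root elements only depend on the multiset;
* `refl_conj`: `n_{r_1} ⋯ n_{r_k} = c (x_{r_1}(1) ⋯ x_{r_k}(1)) c⁻¹` with `c = x_{-r_1}(1) ⋯ x_{-r_k}(1)` for pairwise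
  orthogonal roots.
-/

set_option autoImplicit false
set_option linter.unusedSectionVars false
set_option linter.unusedSimpArgs false
set_option linter.unusedVariables false

namespace Cfsg.Agent.Lib.H17.TwE6

open Cfsg Cfsg.Lie Matrix Cfsg.Agent.Lib.H29.Chev Cfsg.Agent.Lib.H29.TwGen Cfsg.Agent.Lib.H6.Inv
open Cfsg.Agent.Lib.H12.InvCell

variable {K : Type*} [Field K] [CharP K 2]

local notation "xe" => cert12_E6.c6.c2.xA

/-- the list consists of fixed roots and of adjacent pairs `r, ρ r` -/
def okL : List ℕ → Bool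
  | [] => true
  | [r] => decide (r < 72 ∧ fdE6.gRoot gaE6a r = r)
  | r :: s :: L =>
      (decide (r < 72 ∧ fdE6.gRoot gaE6a r = r) && okL (s :: L)) ||
        (decide (r < 72 ∧ fdE6.os gaE6a 2 r = 2 ∧ fdE6.gIt gaE6a 1 r = s) && okL L)

section Mem

variable {φ : K →+* K} {q : ℕ} (W : TwPack cert12_E6 gaE6a 2 φ rlE6a srE6a fqE6a q)
include W

theorem ye_mem_G1 : ∀ (L : List ℕ), okL L = true → ye K L ∈ cert12_E6.G1 gaE6a 2 φ srE6a
  | [], _ => by rw [ye_nil]; exact one_mem _
  | [r], h => by
    simp only [okL, decide_eq_true_eq] at h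
    rw [ye_one]
    exact xe_one_mem_of_fixed W r h.1 h.2
  | r :: s :: L, h => by
    simp only [okL, Bool.or_eq_true, Bool.and_eq_true, decide_eq_true_eq] at h
    rcases h with ⟨h1, h2⟩ | ⟨h1, h2⟩
    · rw [ye_cons]
      exact mul_mem (xe_one_mem_of_fixed W r h1.1 h1.2) (ye_mem_G1 (s :: L) h2)
    · rw [ye_cons, ye_cons, ← mul_assoc]
      have := xe_pair_mem W r s h1.1 h1.2.1 h1.2.2 1
      rw [map_one] at this
      exact mul_mem this (ye_mem_G1 L h2)

end Mem

/-- the four root elements at `±r`, `±s` commute pairwise -/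
def orth2 (r s : ℕ) : Bool :=
  decide (r < 72 ∧ s < 72 ∧ s ≠ r ∧ s ≠ 71 - r ∧ fdE6.commT r s = [] ∧ fdE6.commT r (71 - s) = [] ∧
    fdE6.commT (71 - r) s = [] ∧ fdE6.commT (71 - r) (71 - s) = [])

theorem orth2_spec {r s : ℕ} (h : orth2 r s = true) (t u : K) :
    Commute (xe r t) (xe s u) ∧ Commute (xe r t) (xe (71 - s) u) ∧ Commute (xe (71 - r) t) (xe s u) ∧
      Commute (xe (71 - r) t) (xe (71 - s) u) := by
  simp only [orth2, decide_eq_true_eq] at h
  obtain ⟨hr, hs, h1, h2, c1, c2, c3, c4⟩ := h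
  refine ⟨?_, ?_, ?_, ?_⟩
  · exact (xe_comm0 r s hr hs h1 h2 c1 t u).symm
  · exact (xe_comm0 r (71 - s) hr (by omega) (by omega) (by omega) c2 t u).symm
  · exact (xe_comm0 (71 - r) s (by omega) hs (by omega) (by omega) c3 t u).symm
  · exact (xe_comm0 (71 - r) (71 - s) (by omega) (by omega) (by omega) (by omega) c4 t u).symm

/-- pairwise orthogonality of a list of roots -/
def orthL : List ℕ → Bool
  | [] => true
  | r :: L => L.all (fun s => orth2 r s) && orthL L

theorem commute_ye {x : GL chevE6.Idx K} (L : List ℕ) (h : ∀ s ∈ L, Commute x (xe s 1)) : Commute x (ye K L) := by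
  induction L with
  | nil => rw [ye_nil]; exact Commute.one_right x
  | cons s L ih =>
    rw [ye_cons]
    exact (h s List.mem_cons_self).mul_right (ih fun s' hs' => h s' (List.mem_cons_of_mem _ hs'))

/-- words in pairwise commuting root elements only depend on the multiset -/
theorem ye_perm (L L' : List ℕ) (hp : L.Perm L') (ho : orthL L = true) : ye K L = ye K L' := by
  unfold ye wordG
  apply List.Perm.prod_eq' (hp.map _)
  rw [List.pairwise_map]
  induction L generalizing L' with
  | nil => exact List.Pairwise.nil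
  | cons r L ih =>
    simp only [orthL, Bool.and_eq_true, List.all_eq_true] at ho
    rw [List.pairwise_cons]
    refine ⟨fun s hs => (orth2_spec (ho.1 s hs) 1 1).1, ih L (List.Perm.refl L) ho.2⟩

/-- the word of the reflections in a list of roots given by words -/
def reflW (Ws : List (List ℕ × ℕ)) : List ℕ := Ws.flatMap fun p => reflWord p.1 p.2

/-- the roots of a list of words -/
def rootsW (Ws : List (List ℕ × ℕ)) : List ℕ := Ws.map fun p => fdE6.wordP fxE6 p.1 (fdE6.simples.getD p.2 0)

theorem reflW_isWd (Ws : List (List ℕ × ℕ)) (hW : ∀ p ∈ Ws, IsWd 6 p.1 ∧ p.2 < 6) : IsWd 6 (reflW Ws) := by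
  intro i hi
  simp only [reflW, List.mem_flatMap] at hi
  obtain ⟨p, hp, hi⟩ := hi
  exact reflWord_isWd p.1 p.2 (hW p hp).1 (hW p hp).2 i hi

/-- a product of reflections in pairwise orthogonal roots is conjugate to the product of the root elements, by the
product of the opposite root elements -/
theorem refl_conj (Ws : List (List ℕ × ℕ)) (hW : ∀ p ∈ Ws, IsWd 6 p.1 ∧ p.2 < 6)
    (ho : orthL (rootsW Ws) = true) :
    cert12_E6.wordN K (reflW Ws) =
      ye K ((rootsW Ws).map fun r => 71 - r) * ye K (rootsW Ws) * (ye K ((rootsW Ws).map fun r => 71 - r))⁻¹ := by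
  induction Ws with
  | nil => simp [reflW, rootsW, ye_nil, Cert12.wordN]
  | cons p Ws ih =>
    have hW' : ∀ q ∈ Ws, IsWd 6 q.1 ∧ q.2 < 6 := fun q hq => hW q (List.mem_cons_of_mem _ hq)
    obtain ⟨hu, hi⟩ := hW p List.mem_cons_self
    have ho' : orthL (rootsW (p :: Ws)) = true := ho
    simp only [rootsW, List.map_cons, orthL, Bool.and_eq_true, List.all_eq_true] at ho
    obtain ⟨ho1, ho2⟩ := ho
    have e := ih hW' ho2
    have hrw : reflW (p :: Ws) = reflWord p.1 p.2 ++ reflW Ws := by simp [reflW]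
    rw [hrw, cert12_E6.wordN_append, e, wordN_reflWord cert12_E6 p.1 p.2 hu hi]
    simp only [rootsW, List.map_cons, ye_cons]
    have h71 : fdE6.n - 1 = 71 := rfl
    rw [h71]
    set r := fdE6.wordP fxE6 p.1 (fdE6.simples.getD p.2 0) with hr
    set R := List.map (fun p : List ℕ × ℕ => fdE6.wordP fxE6 p.1 (fdE6.simples.getD p.2 0)) Ws with hR
    set a := xe r (1 : K) with ha
    set b := xe (71 - r) (1 : K) with hb
    set A := ye K R with hA
    set c := ye K (R.map fun r => 71 - r) with hc
    have hbc : Commute b c := by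
      apply commute_ye
      intro s hs
      obtain ⟨s', hs', rfl⟩ := List.mem_map.mp hs
      exact (orth2_spec (ho1 s' hs') 1 1).2.2.2
    have hac : Commute a c := by
      apply commute_ye
      intro s hs
      obtain ⟨s', hs', rfl⟩ := List.mem_map.mp hs
      exact (orth2_spec (ho1 s' hs') 1 1).2.1
    have hbA : Commute b A := by
      apply commute_ye
      intro s hs
      exact (orth2_spec (ho1 s hs) 1 1).2.2.1
    have hbc' : Commute b⁻¹ c := hbc.inv_left
    have hbA' : Commute b⁻¹ A := hbA.inv_left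
    have hbci : Commute b⁻¹ c⁻¹ := hbc'.inv_right
    calc b * a * b⁻¹ * (c * A * c⁻¹) = b * a * (b⁻¹ * c) * A * c⁻¹ := by group
      _ = b * a * (c * b⁻¹) * A * c⁻¹ := by rw [hbc'.eq]
      _ = b * (a * c) * (b⁻¹ * A) * c⁻¹ := by group
      _ = b * (c * a) * (A * b⁻¹) * c⁻¹ := by rw [hac.eq, hbA'.eq]
      _ = b * c * (a * A) * (b⁻¹ * c⁻¹) := by group
      _ = b * c * (a * A) * (c⁻¹ * b⁻¹) := by rw [hbci.eq]
      _ = b * c * (a * A) * (b * c)⁻¹ := by group

end Cfsg.Agent.Lib.H17.TwE6
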