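import Mathlib
import Cfsg.Prelude.Def_LieTwisted
import Cfsg.Agent.Lib.H17.TwE6B
import Cfsg.Agent.Lib.H17.TwE6C

/-!
# The twisted group of type `E₆` in characteristic two: the fusion steps as conjugacy in the twisted group

* `conjS_wmove`: conjugation by `n_w`, `w` an expanded twisted word;
* `conjS_perm`: reordering;
* `conjS_A0`, `conjS_A1`, `conjS_A2`: `long · long ∼ short` (needs an element of trace one);
* `conjS_D`: four long root elements are conjugate to three.
-/

set_option autoImplicit false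
set_option linter.unusedSectionVars false
set_option linter.unusedSimpArgs false
set_option linter.unusedVariables false

namespace Cfsg.Agent.Lib.H17.TwE6

open Cfsg Cfsg.Lie Matrix Cfsg.Agent.Lib.H29.Chev Cfsg.Agent.Lib.H29.TwGen Cfsg.Agent.Lib.H6.Inv
open Cfsg.Agent.Lib.H12.InvCell

variable {K : Type*} [Field K] [CharP K 2]

local notation "xe" => cert12_E6.c6.c2.xA

section Steps

variable {φ : K →+* K} {q : ℕ} (W : TwPack cert12_E6 gaE6a 2 φ rlE6a srE6a fqE6a q)
include W

/-- conjugation by `n_w`, `w` an expanded twisted word -/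
theorem conjS_wmove (tw : List ℕ) (htw : ∀ i ∈ tw, i ∈ srE6a) (hw : IsWd 6 (tw.flatMap (orbW gaE6a 2)))
    (L L' : List ℕ) (hL : ∀ r ∈ L, r < 72)
    (hmap : L.map (fdE6.wordP fxE6 (tw.flatMap (orbW gaE6a 2))) = L') :
    ConjS (cert12_E6.G1 gaE6a 2 φ srE6a) (ye K L) (ye K L') :=
  ⟨_, wordN_mem_G1 W tw htw, by rw [wmove _ hw L hL, hmap]⟩

omit W in
/-- reordering -/
theorem conjS_perm (H : Subgroup (GL chevE6.Idx K)) (L L' : List ℕ) (hp : L.Perm L') (ho : orthL L = true) :
    ConjS H (ye K L) (ye K L') :=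
  ConjS.of_eq (ye_perm L L' hp ho)

/-- an element of trace one -/
theorem exists_lam [Finite K] : ∃ lam : K, lam + φ lam = 1 := by
  have hσσ : ∀ t, φ (φ t) = t := fun t => W.hφk t
  suffices hne : ∃ a, φ a ≠ a by
    obtain ⟨a, ha⟩ := hne
    have hb : a + φ a ≠ 0 := by
      intro h
      apply ha
      have h' : φ a = a + (a + φ a) := by
        rw [← add_assoc, CharTwo.add_self_eq_zero, zero_add]
      rw [h', h, add_zero]
    have hσb : φ (a + φ a) = a + φ a := by rw [map_add, hσσ, add_comm]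
    refine ⟨a / (a + φ a), ?_⟩
    rw [map_div₀, hσb, ← add_div, div_self hb]
  by_contra hcon
  push Not at hcon
  have h1 := card_Kr (fd := fdE6) (F := K) gaE6a 2 q (by norm_num) W.hq W.hF φ W.hφ 71
  have hos : fdE6.os gaE6a 2 71 = 1 := by decide +kernel
  rw [hos, pow_one] at h1
  have huniv : Kr fdE6 gaE6a φ 71 = Set.univ := by
    ext t
    simp only [Set.mem_univ, iff_true]
    intro _
    exact hcon t
  rw [huniv, Nat.card_congr (Equiv.Set.univ K), W.hF] at h1
  have hq1 : q = 1 := by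
    have hq := W.hq
    nlinarith
  have hK := W.hF
  rw [hq1, one_pow] at hK
  have := Finite.one_lt_card (α := K)
  omega

omit W in
theorem ye2 (a b : ℕ) : ye K [a, b] = xe a 1 * xe b 1 := by simp [ye, wordG]

set_option maxRecDepth 100000 in
/-- the conjugating element of the fusion `long · long ∼ short` -/
theorem gA_mem (lam : K) :
    xe 23 lam * xe 21 (φ lam) * xe 48 1 * xe 50 1 ∈ cert12_E6.G1 gaE6a 2 φ srE6a := by
  have h1 := xe_pair_mem W 23 21 (by norm_num) (by decide +kernel) (by decide +kernel) lam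
  have h2 := xe_pair_mem W 48 50 (by norm_num) (by decide +kernel) (by decide +kernel) 1
  rw [map_one] at h2
  have := mul_mem h1 h2
  rwa [← mul_assoc] at this

/-- `(60, 71) ∼ (66, 68)` -/
theorem conjS_A0 [Finite K] : ConjS (cert12_E6.G1 gaE6a 2 φ srE6a) (ye K [60, 71]) (ye K [66, 68]) := by
  obtain ⟨lam, hlam⟩ := exists_lam W
  refine ⟨_, gA_mem W lam, ?_⟩
  rw [ye2, ye2]
  exact fusA lam (φ lam) hlam

omit W in
set_option maxRecDepth 100000 in
/-- the conjugating element commutes with `x₄₄(1)` -/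
theorem gA_comm44 (lam mu : K) :
    Commute (xe 23 lam * xe 21 mu * xe 48 1 * xe 50 1) (xe 44 (1 : K)) := by
  have h1 : Commute (xe 23 lam) (xe 44 (1 : K)) :=
    xe_comm0 44 23 (by decide) (by decide) (by decide) (by decide) (by decide +kernel) 1 lam
  have h2 : Commute (xe 21 mu) (xe 44 (1 : K)) :=
    xe_comm0 44 21 (by decide) (by decide) (by decide) (by decide) (by decide +kernel) 1 mu
  have h3 : Commute (xe 48 (1 : K)) (xe 44 (1 : K)) :=
    xe_comm0 44 48 (by decide) (by decide) (by decide) (by decide) (by decide +kernel) 1 1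
  have h4 : Commute (xe 50 (1 : K)) (xe 44 (1 : K)) :=
    xe_comm0 44 50 (by decide) (by decide) (by decide) (by decide) (by decide +kernel) 1 1
  exact ((h1.mul_left h2).mul_left h3).mul_left h4

omit W in
set_option maxRecDepth 100000 in
/-- the conjugating element commutes with `x₃₉(1)` -/
theorem gA_comm39 (lam mu : K) :
    Commute (xe 23 lam * xe 21 mu * xe 48 1 * xe 50 1) (xe 39 (1 : K)) := by
  have h1 : Commute (xe 23 lam) (xe 39 (1 : K)) :=
    xe_comm0 39 23 (by decide) (by decide) (by decide) (by decide) (by decide +kernel) 1 lam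
  have h2 : Commute (xe 21 mu) (xe 39 (1 : K)) :=
    xe_comm0 39 21 (by decide) (by decide) (by decide) (by decide) (by decide +kernel) 1 mu
  have h3 : Commute (xe 48 (1 : K)) (xe 39 (1 : K)) :=
    xe_comm0 39 48 (by decide) (by decide) (by decide) (by decide) (by decide +kernel) 1 1
  have h4 : Commute (xe 50 (1 : K)) (xe 39 (1 : K)) :=
    xe_comm0 39 50 (by decide) (by decide) (by decide) (by decide) (by decide +kernel) 1 1
  exact ((h1.mul_left h2).mul_left h3).mul_left h4

omit W in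
theorem conj_cons_of_commute {g a y y' : GL chevE6.Idx K} (hc : Commute g a) (h : g * y * g⁻¹ = y') :
    g * (a * y) * g⁻¹ = a * y' := by
  rw [← h]
  have : g * (a * y) * g⁻¹ = (g * a) * y * g⁻¹ := by group
  rw [this, hc.eq]
  group

/-- `(44, 60, 71) ∼ (44, 66, 68)` -/
theorem conjS_A1 [Finite K] : ConjS (cert12_E6.G1 gaE6a 2 φ srE6a) (ye K [44, 60, 71]) (ye K [44, 66, 68]) := by
  obtain ⟨lam, hlam⟩ := exists_lam W
  refine ⟨_, gA_mem W lam, ?_⟩
  rw [ye_cons, ye_cons 44, ye2, ye2]
  exact conj_cons_of_commute (gA_comm44 lam (φ lam)) (fusA lam (φ lam) hlam)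

/-- `(39, 44, 60, 71) ∼ (39, 44, 66, 68)` -/
theorem conjS_A2 [Finite K] :
    ConjS (cert12_E6.G1 gaE6a 2 φ srE6a) (ye K [39, 44, 60, 71]) (ye K [39, 44, 66, 68]) := by
  obtain ⟨lam, hlam⟩ := exists_lam W
  refine ⟨_, gA_mem W lam, ?_⟩
  rw [ye_cons, ye_cons 39, ye_cons, ye_cons 44, ye2, ye2]
  exact conj_cons_of_commute (gA_comm39 lam (φ lam))
    (conj_cons_of_commute (gA_comm44 lam (φ lam)) (fusA lam (φ lam) hlam))

set_option maxRecDepth 1000000 in
set_option maxHeartbeats 0 in
omit W in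
theorem chkD : chkWord fdE6 2 [8, 20, 44, 47, 39, 44, 60, 71] [44, 60, 71, 8, 20, 44, 47] = true := by
  decide +kernel

set_option maxRecDepth 100000 in
/-- four long root elements are conjugate to three: `(39, 44, 60, 71) ∼ (44, 60, 71)` -/
theorem conjS_D : ConjS (cert12_E6.G1 gaE6a 2 φ srE6a) (ye K [39, 44, 60, 71]) (ye K [44, 60, 71]) := by
  refine ⟨ye K [8, 20, 44, 47], ye_mem_G1 W _ (by decide +kernel), ?_⟩
  have h := word_eq (F := K) 2 cert12_E6.c6.c2 [8, 20, 44, 47, 39, 44, 60, 71] [44, 60, 71, 8, 20, 44, 47]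
    (by decide) (by decide) chkD
  have e1 : ye K [8, 20, 44, 47, 39, 44, 60, 71] = ye K [8, 20, 44, 47] * ye K [39, 44, 60, 71] :=
    ye_append [8, 20, 44, 47] [39, 44, 60, 71]
  have e2 : ye K [44, 60, 71, 8, 20, 44, 47] = ye K [44, 60, 71] * ye K [8, 20, 44, 47] :=
    ye_append [44, 60, 71] [8, 20, 44, 47]
  have h' : ye K [8, 20, 44, 47] * ye K [39, 44, 60, 71] = ye K [44, 60, 71] * ye K [8, 20, 44, 47] := by
    rw [← e1, ← e2]; exact h
  rw [h']
  group

end Steps

end Cfsg.Agent.Lib.H17.TwE6
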