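import Mathlib
import Cfsg.Prelude.Def_LieTwisted
import Cfsg.Agent.Lib.H17.TwE6D

/-!
# The twisted group of type `E₆` in characteristic two: the eleven involutions of `N` and their classes

For each of the eleven admissible subsets `J` of the twisted fundamental reflections (indices `0, 1, 2, 3` for the orbits
`{p₁, p₆}`, `{p₂}`, `{p₃, p₅}`, `{p₄}`) a frame of pairwise orthogonal roots, stable under the graph automorphism, the
product of whose reflections is `w₀ w_J`; the element `n_J = wordN (reflW ws)` lies in the twisted group and is conjugate in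
it to one of `x₇₁(1)`, `x₆₈(1) x₆₆(1)`, `x₅₅(1) x₆₅(1) x₆₇(1)`.
-/

set_option autoImplicit false
set_option linter.unusedSectionVars false
set_option linter.unusedSimpArgs false
set_option linter.unusedVariables false

namespace Cfsg.Agent.Lib.H17.TwE6

open Cfsg Cfsg.Lie Matrix Cfsg.Agent.Lib.H29.Chev Cfsg.Agent.Lib.H29.TwGen Cfsg.Agent.Lib.H6.Inv
open Cfsg.Agent.Lib.H12.InvCell

variable {K : Type*} [Field K] [CharP K 2]

local notation "xe" => cert12_E6.c6.c2.xA

/-- the words are words in the six fundamental reflections -/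
def chkWs (Ws : List (List ℕ × ℕ)) : Bool := Ws.all fun p => p.1.all (fun i => decide (i < 6)) && decide (p.2 < 6)

theorem chkWs_spec {Ws : List (List ℕ × ℕ)} (h : chkWs Ws = true) : ∀ p ∈ Ws, IsWd 6 p.1 ∧ p.2 < 6 := by
  intro p hp
  simp only [chkWs, List.all_eq_true, Bool.and_eq_true, decide_eq_true_eq] at h
  exact ⟨fun i hi => (h p hp).1 i hi, (h p hp).2⟩

section Frame

variable {φ : K →+* K} {q : ℕ} (W : TwPack cert12_E6 gaE6a 2 φ rlE6a srE6a fqE6a q)
include W

/-- the involution of `N` of a frame lies in the twisted group and is conjugate in it to the product of the root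
elements -/
theorem frame_conj (Ws : List (List ℕ × ℕ)) (hW : chkWs Ws = true) (S : List ℕ) (hS : rootsW Ws = S)
    (ho : orthL S = true) (h1 : okL S = true) (h2 : okL (S.map fun r => 71 - r) = true) :
    cert12_E6.wordN K (reflW Ws) ∈ cert12_E6.G1 gaE6a 2 φ srE6a ∧
      ConjS (cert12_E6.G1 gaE6a 2 φ srE6a) (cert12_E6.wordN K (reflW Ws)) (ye K S) := by
  subst hS
  have e := refl_conj (K := K) Ws (chkWs_spec hW) ho
  have hc := ye_mem_G1 W _ h2
  have hy := ye_mem_G1 W _ h1
  rw [e]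
  refine ⟨mul_mem (mul_mem hc hy) (inv_mem hc), ⟨_, inv_mem hc, by group⟩⟩

end Frame

/-- the frame of `J = ∅`: roots [39, 44, 60, 71] -/
def wsJe : List (List ℕ × ℕ) := [([], 3), ([2, 3], 4), ([0, 2, 3, 4], 5), ([1, 3, 2, 0, 4, 3, 1, 2, 3, 4], 5)]

set_option maxRecDepth 1000000 in
theorem wsJe_roots : rootsW wsJe = [39, 44, 60, 71] := by decide +kernel

set_option maxRecDepth 1000000 in
theorem wsJe_tab : (fdE6.simples.map (fdE6.wordP fxE6 (reflW wsJe))) = [35, 25, 34, 32, 29, 15] := by decide +kernel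

/-- the frame of `J = {0}`: roots [39, 45, 59, 71] -/
def wsJ0 : List (List ℕ × ℕ) := [([], 3), ([2, 3, 4], 5), ([0, 2, 3], 4), ([1, 3, 2, 0, 4, 3, 1, 2, 3, 4], 5)]

set_option maxRecDepth 1000000 in
theorem wsJ0_roots : rootsW wsJ0 = [39, 45, 59, 71] := by decide +kernel

set_option maxRecDepth 1000000 in
theorem wsJ0_tab : (fdE6.simples.map (fdE6.wordP fxE6 (reflW wsJ0))) = [36, 25, 33, 32, 14, 56] := by decide +kernel

/-- the frame of `J = {1}`: roots [53, 65, 69] -/
def wsJ1 : List (List ℕ × ℕ) := [([3, 1, 2, 3], 4), ([0, 3, 1, 2, 3, 4], 5), ([2, 0, 4, 3, 1, 2, 3, 4], 5)]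

set_option maxRecDepth 1000000 in
theorem wsJ1_roots : rootsW wsJ1 = [53, 65, 69] := by decide +kernel

set_option maxRecDepth 1000000 in
theorem wsJ1_tab : (fdE6.simples.map (fdE6.wordP fxE6 (reflW wsJ1))) = [35, 46, 34, 24, 29, 15] := by decide +kernel

/-- the frame of `J = {2}`: roots [40, 43, 60, 71] -/
def wsJ2 : List (List ℕ × ℕ) := [([3], 4), ([2], 3), ([0, 2, 3, 4], 5), ([1, 3, 2, 0, 4, 3, 1, 2, 3, 4], 5)]

set_option maxRecDepth 1000000 in
theorem wsJ2_roots : rootsW wsJ2 = [40, 43, 60, 71] := by decide +kernel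

set_option maxRecDepth 1000000 in
theorem wsJ2_tab : (fdE6.simples.map (fdE6.wordP fxE6 (reflW wsJ2))) = [33, 25, 37, 27, 42, 14] := by decide +kernel

/-- the frame of `J = {3}`: roots [44, 60, 71] -/
def wsJ3 : List (List ℕ × ℕ) := [([2, 3], 4), ([0, 2, 3, 4], 5), ([1, 3, 2, 0, 4, 3, 1, 2, 3, 4], 5)]

set_option maxRecDepth 1000000 in
theorem wsJ3_roots : rootsW wsJ3 = [44, 60, 71] := by decide +kernel

set_option maxRecDepth 1000000 in
theorem wsJ3_tab : (fdE6.simples.map (fdE6.wordP fxE6 (reflW wsJ3))) = [35, 24, 31, 39, 28, 15] := by decide +kernel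

/-- the frame of `J = {0, 1}`: roots [54, 64, 69] -/
def wsJ01 : List (List ℕ × ℕ) := [([3, 1, 2, 3, 4], 5), ([0, 3, 1, 2, 3], 4), ([2, 0, 4, 3, 1, 2, 3, 4], 5)]

set_option maxRecDepth 1000000 in
theorem wsJ01_roots : rootsW wsJ01 = [54, 64, 69] := by decide +kernel

set_option maxRecDepth 1000000 in
theorem wsJ01_tab : (fdE6.simples.map (fdE6.wordP fxE6 (reflW wsJ01))) = [36, 46, 33, 24, 14, 56] := by decide +kernel

/-- the frame of `J = {0, 3}`: roots [45, 59, 71] -/
def wsJ03 : List (List ℕ × ℕ) := [([2, 3, 4], 5), ([0, 2, 3], 4), ([1, 3, 2, 0, 4, 3, 1, 2, 3, 4], 5)]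

set_option maxRecDepth 1000000 in
theorem wsJ03_roots : rootsW wsJ03 = [45, 59, 71] := by decide +kernel

set_option maxRecDepth 1000000 in
theorem wsJ03_tab : (fdE6.simples.map (fdE6.wordP fxE6 (reflW wsJ03))) = [36, 24, 30, 39, 13, 56] := by decide +kernel

/-- the frame of `J = {1, 2}`: roots [53, 66, 68] -/
def wsJ12 : List (List ℕ × ℕ) := [([3, 1, 2, 3], 4), ([0, 4, 3, 1, 2, 3, 4], 5), ([2, 0, 3, 1, 2, 3, 4], 5)]

set_option maxRecDepth 1000000 in
theorem wsJ12_roots : rootsW wsJ12 = [53, 66, 68] := by decide +kernel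

set_option maxRecDepth 1000000 in
theorem wsJ12_tab : (fdE6.simples.map (fdE6.wordP fxE6 (reflW wsJ12))) = [33, 46, 37, 20, 42, 14] := by decide +kernel

/-- the frame of `J = {2, 3}`: roots [60, 71] -/
def wsJ23 : List (List ℕ × ℕ) := [([0, 2, 3, 4], 5), ([1, 3, 2, 0, 4, 3, 1, 2, 3, 4], 5)]

set_option maxRecDepth 1000000 in
theorem wsJ23_roots : rootsW wsJ23 = [60, 71] := by decide +kernel

set_option maxRecDepth 1000000 in
theorem wsJ23_tab : (fdE6.simples.map (fdE6.wordP fxE6 (reflW wsJ23))) = [26, 18, 42, 39, 37, 12] := by decide +kernel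

/-- the frame of `J = {0, 2, 3}`: roots [71] -/
def wsJ023 : List (List ℕ × ℕ) := [([1, 3, 2, 0, 4, 3, 1, 2, 3, 4], 5)]

set_option maxRecDepth 1000000 in
theorem wsJ023_roots : rootsW wsJ023 = [71] := by decide +kernel

set_option maxRecDepth 1000000 in
theorem wsJ023_tab : (fdE6.simples.map (fdE6.wordP fxE6 (reflW wsJ023))) = [56, 1, 42, 39, 37, 36] := by decide +kernel

/-- the frame of `J = {1, 2, 3}`: roots [66, 68] -/
def wsJ123 : List (List ℕ × ℕ) := [([0, 4, 3, 1, 2, 3, 4], 5), ([2, 0, 3, 1, 2, 3, 4], 5)]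

set_option maxRecDepth 1000000 in
theorem wsJ123_roots : rootsW wsJ123 = [66, 68] := by decide +kernel

set_option maxRecDepth 1000000 in
theorem wsJ123_tab : (fdE6.simples.map (fdE6.wordP fxE6 (reflW wsJ123))) = [16, 46, 37, 39, 42, 4] := by decide +kernel


end Cfsg.Agent.Lib.H17.TwE6
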