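import Mathlib
import Cfsg.Prelude.Def_LieTwisted
import Cfsg.Agent.Lib.H17.TwE6E

/-!
# The twisted group of type `E₆` in characteristic two: the classes of the eleven involutions of `N`

`z₁ = x₇₁(1)`, `z₂ = x₆₈(1) x₆₆(1)`, `z₃ = x₅₅(1) x₆₅(1) x₆₇(1)`.
-/

set_option autoImplicit false
set_option linter.unusedSectionVars false
set_option linter.unusedSimpArgs false
set_option linter.unusedVariables false

namespace Cfsg.Agent.Lib.H17.TwE6

open Cfsg Cfsg.Lie Matrix Cfsg.Agent.Lib.H29.Chev Cfsg.Agent.Lib.H29.TwGen Cfsg.Agent.Lib.H6.Inv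
open Cfsg.Agent.Lib.H12.InvCell

variable {K : Type*} [Field K] [CharP K 2] [Finite K]

variable {φ : K →+* K} {q : ℕ} (W : TwPack cert12_E6 gaE6a 2 φ rlE6a srE6a fqE6a q)
include W

set_option maxRecDepth 1000000 in
/-- `(44, 60, 71) ∼ z₃` -/
theorem tail3 : ConjS (cert12_E6.G1 gaE6a 2 φ srE6a) (ye K [44, 60, 71]) (ye K [55, 65, 67]) :=
  (conjS_A1 W).trans
    ((conjS_wmove W [3, 1, 0] (by decide) (by unfold IsWd; decide +kernel) [44, 66, 68] [65, 55, 67] (by decide)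
      (by decide +kernel)).trans
      (conjS_perm _ [65, 55, 67] [55, 65, 67] (by decide) (by decide +kernel)))

set_option maxRecDepth 1000000 in
/-- `(39, 44, 60, 71) ∼ z₃` -/
theorem tail4 : ConjS (cert12_E6.G1 gaE6a 2 φ srE6a) (ye K [39, 44, 60, 71]) (ye K [55, 65, 67]) :=
  (conjS_D W).trans (tail3 W)

set_option maxRecDepth 1000000 in
/-- `(39, 44, 66, 68) ∼ z₃` -/
theorem tail4' : ConjS (cert12_E6.G1 gaE6a 2 φ srE6a) (ye K [39, 44, 66, 68]) (ye K [55, 65, 67]) :=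
  (conjS_A2 W).symm.trans (tail4 W)

set_option maxRecDepth 1000000 in
theorem nJ023 : cert12_E6.wordN K (reflW wsJ023) ∈ cert12_E6.G1 gaE6a 2 φ srE6a ∧
    ConjS (cert12_E6.G1 gaE6a 2 φ srE6a) (cert12_E6.wordN K (reflW wsJ023)) (ye K [71]) :=
  frame_conj W wsJ023 (by decide) [71] wsJ023_roots (by decide +kernel) (by decide +kernel) (by decide +kernel)

set_option maxRecDepth 1000000 in
theorem nJ123 : cert12_E6.wordN K (reflW wsJ123) ∈ cert12_E6.G1 gaE6a 2 φ srE6a ∧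
    ConjS (cert12_E6.G1 gaE6a 2 φ srE6a) (cert12_E6.wordN K (reflW wsJ123)) (ye K [68, 66]) := by
  obtain ⟨h1, h2⟩ := frame_conj W wsJ123 (by decide) [66, 68] wsJ123_roots (by decide +kernel) (by decide +kernel)
    (by decide +kernel)
  exact ⟨h1, h2.trans (conjS_perm _ [66, 68] [68, 66] (by decide) (by decide +kernel))⟩

set_option maxRecDepth 1000000 in
theorem nJ23 : cert12_E6.wordN K (reflW wsJ23) ∈ cert12_E6.G1 gaE6a 2 φ srE6a ∧
    ConjS (cert12_E6.G1 gaE6a 2 φ srE6a) (cert12_E6.wordN K (reflW wsJ23)) (ye K [68, 66]) := by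
  obtain ⟨h1, h2⟩ := frame_conj W wsJ23 (by decide) [60, 71] wsJ23_roots (by decide +kernel) (by decide +kernel)
    (by decide +kernel)
  exact ⟨h1, h2.trans ((conjS_A0 W).trans (conjS_perm _ [66, 68] [68, 66] (by decide) (by decide +kernel)))⟩

set_option maxRecDepth 1000000 in
theorem nJ3 : cert12_E6.wordN K (reflW wsJ3) ∈ cert12_E6.G1 gaE6a 2 φ srE6a ∧
    ConjS (cert12_E6.G1 gaE6a 2 φ srE6a) (cert12_E6.wordN K (reflW wsJ3)) (ye K [55, 65, 67]) := by
  obtain ⟨h1, h2⟩ := frame_conj W wsJ3 (by decide) [44, 60, 71] wsJ3_roots (by decide +kernel) (by decide +kernel)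
    (by decide +kernel)
  exact ⟨h1, h2.trans (tail3 W)⟩

set_option maxRecDepth 1000000 in
theorem nJ1 : cert12_E6.wordN K (reflW wsJ1) ∈ cert12_E6.G1 gaE6a 2 φ srE6a ∧
    ConjS (cert12_E6.G1 gaE6a 2 φ srE6a) (cert12_E6.wordN K (reflW wsJ1)) (ye K [55, 65, 67]) := by
  obtain ⟨h1, h2⟩ := frame_conj W wsJ1 (by decide) [53, 65, 69] wsJ1_roots (by decide +kernel) (by decide +kernel)
    (by decide +kernel)
  exact ⟨h1, h2.trans ((conjS_wmove W [1, 3] (by decide) (by unfold IsWd; decide +kernel) [53, 65, 69] [44, 60, 71]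
    (by decide) (by decide +kernel)).trans (tail3 W))⟩

set_option maxRecDepth 1000000 in
theorem nJ01 : cert12_E6.wordN K (reflW wsJ01) ∈ cert12_E6.G1 gaE6a 2 φ srE6a ∧
    ConjS (cert12_E6.G1 gaE6a 2 φ srE6a) (cert12_E6.wordN K (reflW wsJ01)) (ye K [55, 65, 67]) := by
  obtain ⟨h1, h2⟩ := frame_conj W wsJ01 (by decide) [54, 64, 69] wsJ01_roots (by decide +kernel) (by decide +kernel)
    (by decide +kernel)
  exact ⟨h1, h2.trans ((conjS_wmove W [2] (by decide) (by unfold IsWd; decide +kernel) [54, 64, 69] [55, 67, 65]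
    (by decide) (by decide +kernel)).trans
    (conjS_perm _ [55, 67, 65] [55, 65, 67] (by decide) (by decide +kernel)))⟩

set_option maxRecDepth 1000000 in
theorem nJ03 : cert12_E6.wordN K (reflW wsJ03) ∈ cert12_E6.G1 gaE6a 2 φ srE6a ∧
    ConjS (cert12_E6.G1 gaE6a 2 φ srE6a) (cert12_E6.wordN K (reflW wsJ03)) (ye K [55, 65, 67]) := by
  obtain ⟨h1, h2⟩ := frame_conj W wsJ03 (by decide) [45, 59, 71] wsJ03_roots (by decide +kernel) (by decide +kernel)
    (by decide +kernel)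
  exact ⟨h1, h2.trans ((conjS_wmove W [2, 3, 1] (by decide) (by unfold IsWd; decide +kernel) [45, 59, 71] [55, 67, 65]
    (by decide) (by decide +kernel)).trans
    (conjS_perm _ [55, 67, 65] [55, 65, 67] (by decide) (by decide +kernel)))⟩

set_option maxRecDepth 1000000 in
theorem nJ12 : cert12_E6.wordN K (reflW wsJ12) ∈ cert12_E6.G1 gaE6a 2 φ srE6a ∧
    ConjS (cert12_E6.G1 gaE6a 2 φ srE6a) (cert12_E6.wordN K (reflW wsJ12)) (ye K [55, 65, 67]) := by
  obtain ⟨h1, h2⟩ := frame_conj W wsJ12 (by decide) [53, 66, 68] wsJ12_roots (by decide +kernel) (by decide +kernel)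
    (by decide +kernel)
  exact ⟨h1, h2.trans ((conjS_wmove W [0] (by decide) (by unfold IsWd; decide +kernel) [53, 66, 68] [65, 55, 67]
    (by decide) (by decide +kernel)).trans
    (conjS_perm _ [65, 55, 67] [55, 65, 67] (by decide) (by decide +kernel)))⟩

set_option maxRecDepth 1000000 in
theorem nJe : cert12_E6.wordN K (reflW wsJe) ∈ cert12_E6.G1 gaE6a 2 φ srE6a ∧
    ConjS (cert12_E6.G1 gaE6a 2 φ srE6a) (cert12_E6.wordN K (reflW wsJe)) (ye K [55, 65, 67]) := by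
  obtain ⟨h1, h2⟩ := frame_conj W wsJe (by decide) [39, 44, 60, 71] wsJe_roots (by decide +kernel) (by decide +kernel)
    (by decide +kernel)
  exact ⟨h1, h2.trans (tail4 W)⟩

set_option maxRecDepth 1000000 in
theorem nJ0 : cert12_E6.wordN K (reflW wsJ0) ∈ cert12_E6.G1 gaE6a 2 φ srE6a ∧
    ConjS (cert12_E6.G1 gaE6a 2 φ srE6a) (cert12_E6.wordN K (reflW wsJ0)) (ye K [55, 65, 67]) := by
  obtain ⟨h1, h2⟩ := frame_conj W wsJ0 (by decide) [39, 45, 59, 71] wsJ0_roots (by decide +kernel) (by decide +kernel)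
    (by decide +kernel)
  exact ⟨h1, h2.trans ((conjS_wmove W [1, 3, 0, 2, 3, 1] (by decide) (by unfold IsWd; decide +kernel) [39, 45, 59, 71]
    [39, 66, 68, 44] (by decide) (by decide +kernel)).trans
    ((conjS_perm _ [39, 66, 68, 44] [39, 44, 66, 68] (by decide) (by decide +kernel)).trans (tail4' W)))⟩

set_option maxRecDepth 1000000 in
theorem nJ2 : cert12_E6.wordN K (reflW wsJ2) ∈ cert12_E6.G1 gaE6a 2 φ srE6a ∧
    ConjS (cert12_E6.G1 gaE6a 2 φ srE6a) (cert12_E6.wordN K (reflW wsJ2)) (ye K [55, 65, 67]) := by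
  obtain ⟨h1, h2⟩ := frame_conj W wsJ2 (by decide) [40, 43, 60, 71] wsJ2_roots (by decide +kernel) (by decide +kernel)
    (by decide +kernel)
  exact ⟨h1, h2.trans ((conjS_wmove W [1, 3, 0, 2, 3, 2, 1, 0] (by decide) (by unfold IsWd; decide +kernel)
    [40, 43, 60, 71] [66, 68, 39, 44] (by decide) (by decide +kernel)).trans
    ((conjS_perm _ [66, 68, 39, 44] [39, 44, 66, 68] (by decide) (by decide +kernel)).trans (tail4' W)))⟩

end Cfsg.Agent.Lib.H17.TwE6
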