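import Mathlib
import Cfsg.Prelude.Def_LieTwisted
import Cfsg.Agent.Lib.H17.TwE6C
import Cfsg.Agent.Lib.H6.E6InvRank

/-!
# The twisted group of type `E₆` in characteristic two: the three representatives

`z₁ = x₇₁(1)`, `z₂ = x₆₈(1) x₆₆(1)`, `z₃ = x₅₅(1) x₆₅(1) x₆₇(1)` lie in the twisted group, square to `1`, and the ranks
of `z - 1` are `22`, `32`, `38` (helper6's certificates), so they are pairwise non-conjugate even in `GL₇₈`.
-/

set_option autoImplicit false
set_option linter.unusedSectionVars false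
set_option linter.unusedSimpArgs false
set_option linter.unusedVariables false

namespace Cfsg.Agent.Lib.H17.TwE6

open Cfsg Cfsg.Lie Matrix Cfsg.Agent.Lib.H29.Chev Cfsg.Agent.Lib.H29.TwGen Cfsg.Agent.Lib.H6.Inv

variable {K : Type*} [Field K] [CharP K 2]

local notation "xe" => cert12_E6.c6.c2.xA

/-- a word in pairwise commuting root elements squares to one -/
theorem ye_sq (L : List ℕ) (ho : orthL L = true) : ye K L * ye K L = 1 := by
  induction L with
  | nil => simp [ye_nil]
  | cons r L ih =>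
    simp only [orthL, Bool.and_eq_true, List.all_eq_true] at ho
    rw [ye_cons]
    have hc : Commute (xe r (1 : K)) (ye K L) := commute_ye L fun s hs => (orth2_spec (ho.1 s hs) 1 1).1
    calc xe r (1 : K) * ye K L * (xe r 1 * ye K L) = xe r 1 * (ye K L * xe r 1) * ye K L := by group
      _ = xe r 1 * (xe r 1 * ye K L) * ye K L := by rw [hc.eq]
      _ = (xe r 1 * xe r 1) * (ye K L * ye K L) := by group
      _ = 1 := by rw [xe_sq, ih ho.2, mul_one]

theorem ye_val (L : List ℕ) :
    ((ye K L : GL chevE6.Idx K) : Matrix chevE6.Idx chevE6.Idx K) = (L.map fun r => chevE6.x K r 1).prod :=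
  wordG_val _ L

theorem rank_z1 : (((ye K [71] : GL chevE6.Idx K) : Matrix chevE6.Idx chevE6.Idx K) - 1).rank = 22 := by
  rw [ye_val]
  have h1 := e6_rank_y1_le (F := K)
  have h2 := e6_le_rank_y1 (F := K)
  omega

theorem rank_z2 : (((ye K [68, 66] : GL chevE6.Idx K) : Matrix chevE6.Idx chevE6.Idx K) - 1).rank = 32 := by
  rw [ye_val]
  have h1 := e6_rank_y2_le (F := K)
  have h2 := e6_le_rank_y2 (F := K)
  omega

theorem rank_z3 : (((ye K [55, 65, 67] : GL chevE6.Idx K) : Matrix chevE6.Idx chevE6.Idx K) - 1).rank = 38 := by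
  rw [ye_val]
  have h1 := e6_rank_y3_le (F := K)
  have h2 := e6_le_rank_y3 (F := K)
  omega

/-- conjugate elements of `GL` have the same rank of `g - 1` -/
theorem rank_eq_of_conj {g g' : GL chevE6.Idx K} (h : ∃ c : GL chevE6.Idx K, c * g * c⁻¹ = g') :
    ((g' : Matrix chevE6.Idx chevE6.Idx K) - 1).rank = ((g : Matrix chevE6.Idx chevE6.Idx K) - 1).rank := by
  obtain ⟨c, rfl⟩ := h
  exact rank_sub_one_conj c g

theorem z1_ne_one : ye K [71] ≠ 1 := by
  intro h
  have := rank_z1 (K := K)
  rw [h, Units.val_one, sub_self, Matrix.rank_zero] at this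
  omega

theorem z2_ne_one : ye K [68, 66] ≠ 1 := by
  intro h
  have := rank_z2 (K := K)
  rw [h, Units.val_one, sub_self, Matrix.rank_zero] at this
  omega

theorem z3_ne_one : ye K [55, 65, 67] ≠ 1 := by
  intro h
  have := rank_z3 (K := K)
  rw [h, Units.val_one, sub_self, Matrix.rank_zero] at this
  omega

theorem z12_not_conj : ¬ ∃ c : GL chevE6.Idx K, c * ye K [71] * c⁻¹ = ye K [68, 66] := by
  intro h
  have := rank_eq_of_conj h
  rw [rank_z1, rank_z2] at this
  omega

theorem z13_not_conj : ¬ ∃ c : GL chevE6.Idx K, c * ye K [71] * c⁻¹ = ye K [55, 65, 67] := by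
  intro h
  have := rank_eq_of_conj h
  rw [rank_z1, rank_z3] at this
  omega

theorem z23_not_conj : ¬ ∃ c : GL chevE6.Idx K, c * ye K [68, 66] * c⁻¹ = ye K [55, 65, 67] := by
  intro h
  have := rank_eq_of_conj h
  rw [rank_z2, rank_z3] at this
  omega

set_option maxRecDepth 1000000 in
theorem z1_sq : ye K [71] * ye K [71] = 1 := ye_sq _ (by decide +kernel)

set_option maxRecDepth 1000000 in
theorem z2_sq : ye K [68, 66] * ye K [68, 66] = 1 := ye_sq _ (by decide +kernel)

set_option maxRecDepth 1000000 in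
theorem z3_sq : ye K [55, 65, 67] * ye K [55, 65, 67] = 1 := ye_sq _ (by decide +kernel)

section Mem

variable {φ : K →+* K} {q : ℕ} (W : TwPack cert12_E6 gaE6a 2 φ rlE6a srE6a fqE6a q)
include W

set_option maxRecDepth 1000000 in
theorem z1_mem : ye K [71] ∈ cert12_E6.G1 gaE6a 2 φ srE6a := ye_mem_G1 W _ (by decide +kernel)

set_option maxRecDepth 1000000 in
theorem z2_mem : ye K [68, 66] ∈ cert12_E6.G1 gaE6a 2 φ srE6a := ye_mem_G1 W _ (by decide +kernel)

set_option maxRecDepth 1000000 in
theorem z3_mem : ye K [55, 65, 67] ∈ cert12_E6.G1 gaE6a 2 φ srE6a := by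
  rw [ye_perm [55, 65, 67] [55, 67, 65] (by decide) (by decide +kernel)]
  exact ye_mem_G1 W _ (by decide +kernel)

end Mem

end Cfsg.Agent.Lib.H17.TwE6
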