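import Mathlib
import Cfsg.Prelude.Def_LieTwisted
import Cfsg.Agent.Lib.H10.ICCOMB
import Cfsg.Agent.Lib.H12.InvCell5

/-!
# Involutive linear permutations of the roots that keep or make negative the fundamental roots, twisted version

`twcomb`: if every fundamental root is made negative or sent to a fundamental root, a positive root kept positive has
zero coordinates at the fundamental roots made negative.  `mem_diag_of_table'`: helper12's identification of an element
of `N` from a table, with the weaker hypothesis.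
-/

set_option autoImplicit false
set_option linter.unusedSectionVars false
set_option linter.unusedSimpArgs false
set_option linter.unusedVariables false

namespace Cfsg.Agent.Lib.H17.TwE6

open Cfsg Cfsg.Lie Matrix Cfsg.Agent.Lib.H29.Chev Cfsg.Agent.Lib.H10.IC Cfsg.Agent.Lib.H12.InvCell

variable {D : ChevalleyDatum} {fd : FD} {fx : FX} {fc : FC} {fz : FZ} {F : Type*} [Field F]

section Gen

variable (C : Cert12 D fd fx fc fz)
include C

/-- the twisted version of helper10's `comb` -/
theorem twcomb (π : ℕ → ℕ) (hlin : fd.LinP fx π) (hlt : ∀ s < fd.n, π s < fd.n)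
    (hneg : ∀ s < fd.n, π (fd.n - 1 - s) = fd.n - 1 - π s) (hinv : ∀ s < fd.n, π (π s) = s)
    (hJ : ∀ i < fd.l, π (fd.simples.getD i 0) < fd.n / 2 ∨
      ∃ k < fd.l, π (fd.simples.getD i 0) = fd.simples.getD k 0)
    (r : ℕ) (hr : r < fd.n) (hpos : fd.n / 2 ≤ r) (hπr : fd.n / 2 ≤ π r) :
    ∀ j < fd.l, π (fd.simples.getD j 0) < fd.n / 2 → fd.rcZ fx r j = 0 := by
  have hev := C.c6.c2.heven
  set ind : ℕ → ℤ := fun j => if π (fd.simples.getD j 0) < fd.n / 2 then 1 else 0 with hind
  have ind_nonneg : ∀ j, 0 ≤ ind j := fun j => by simp only [hind]; split_ifs <;> norm_num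
  set A : ℕ → ℤ := fun k => ∑ j ∈ Finset.range fd.l, ind j * fd.rcZ fx (π (fd.simples.getD k 0)) j with hA
  -- linearity of the `N`-height
  have hlinN : ∀ s < fd.n, ∑ j ∈ Finset.range fd.l, ind j * fd.rcZ fx (π s) j =
      ∑ k ∈ Finset.range fd.l, fd.rcZ fx s k * A k := by
    intro s hs
    have h1 : ∀ j ∈ Finset.range fd.l, ind j * fd.rcZ fx (π s) j =
        ∑ k ∈ Finset.range fd.l, fd.rcZ fx s k * (ind j * fd.rcZ fx (π (fd.simples.getD k 0)) j) := by
      intro j hj
      rw [comb_lin C π hlin s hs j (Finset.mem_range.mp hj), Finset.mul_sum]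
      apply Finset.sum_congr rfl
      intro k _
      ring
    rw [Finset.sum_congr rfl h1, Finset.sum_comm]
    apply Finset.sum_congr rfl
    intro k _
    rw [hA, Finset.mul_sum]
  -- fundamental roots sent to fundamental roots
  have hA0 : ∀ k < fd.l, ¬ π (fd.simples.getD k 0) < fd.n / 2 → A k = 0 := by
    intro k hk hnn
    rcases hJ k hk with h | ⟨k', hk', e⟩
    · exact absurd h hnn
    · have hk'pos : ¬ π (fd.simples.getD k' 0) < fd.n / 2 := by
        rw [← e, hinv _ (C.c6.c2.simple_lt k hk)]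
        have := C.c6.simple_pos k hk
        omega
      simp only [hA]
      apply Finset.sum_eq_zero
      intro j hj
      rw [e, C.rcZ_simple k' j hk' (Finset.mem_range.mp hj)]
      by_cases hkj : k' = j
      · subst hkj
        simp only [hind, if_neg hk'pos, zero_mul]
      · rw [if_neg hkj, mul_zero]
  -- fundamental roots made negative
  have hA1 : ∀ k < fd.l, π (fd.simples.getD k 0) < fd.n / 2 → A k ≤ -1 := by
    intro k hk hnk
    have hs := hlt _ (C.c6.c2.simple_lt k hk)
    set s := π (fd.simples.getD k 0) with hsdef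
    have hterm : ∀ j ∈ Finset.range fd.l, ind j * fd.rcZ fx s j ≤ 0 := fun j hj =>
      mul_nonpos_of_nonneg_of_nonpos (ind_nonneg j) (C.rcZ_nonpos s hs hnk j (Finset.mem_range.mp hj))
    have hle : A k ≤ 0 := Finset.sum_nonpos hterm
    by_contra hcon
    have h0 : A k = 0 := by omega
    have hz : ∀ j ∈ Finset.range fd.l, ind j * fd.rcZ fx s j = 0 :=
      (Finset.sum_eq_zero_iff_of_nonpos hterm).mp h0
    -- the opposite root
    have hs' : fd.n - 1 - s < fd.n := by omega
    have hπs' : π (fd.n - 1 - s) = fd.n - 1 - fd.simples.getD k 0 := by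
      rw [hneg s hs, hsdef, hinv _ (C.c6.c2.simple_lt k hk)]
    have h1 := comb_lin C π hlin (fd.n - 1 - s) hs' k hk
    rw [hπs', C.rcZ_neg _ k (C.c6.c2.simple_lt k hk) hk, C.rcZ_simple k k hk hk, if_pos rfl] at h1
    have h2 : 0 ≤ ∑ i ∈ Finset.range fd.l,
        fd.rcZ fx (fd.n - 1 - s) i * fd.rcZ fx (π (fd.simples.getD i 0)) k := by
      apply Finset.sum_nonneg
      intro i hi
      have hi' := Finset.mem_range.mp hi
      rw [C.rcZ_neg s i hs hi']
      by_cases hni : π (fd.simples.getD i 0) < fd.n / 2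
      · have := hz i hi
        simp only [hind, if_pos hni, one_mul] at this
        rw [this, neg_zero, zero_mul]
      · rcases hJ i hi' with h | ⟨i', hi'', e⟩
        · exact absurd h hni
        · rw [e, C.rcZ_simple i' k hi'' hk]
          have := C.rcZ_nonpos s hs hnk i hi'
          split_ifs
          · linarith
          · linarith
    linarith
  -- conclusion
  have hc : ∀ k < fd.l, 0 ≤ fd.rcZ fx r k := C.rcZ_nonneg r hr hpos
  have h0 : 0 ≤ ∑ j ∈ Finset.range fd.l, ind j * fd.rcZ fx (π r) j := by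
    apply Finset.sum_nonneg
    intro j hj
    exact mul_nonneg (ind_nonneg j) (C.rcZ_nonneg (π r) (hlt r hr) hπr j (Finset.mem_range.mp hj))
  rw [hlinN r hr] at h0
  have h1 : ∑ k ∈ Finset.range fd.l, fd.rcZ fx r k * A k ≤
      ∑ k ∈ Finset.range fd.l, -(ind k * fd.rcZ fx r k) := by
    apply Finset.sum_le_sum
    intro k hk
    have hk' := Finset.mem_range.mp hk
    by_cases hnk : π (fd.simples.getD k 0) < fd.n / 2
    · have := hA1 k hk' hnk
      simp only [hind, if_pos hnk, one_mul]
      nlinarith [hc k hk']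
    · rw [hA0 k hk' hnk]
      simp only [hind, if_neg hnk, zero_mul, mul_zero, neg_zero, le_refl]
  rw [Finset.sum_neg_distrib] at h1
  have h2 : ∑ k ∈ Finset.range fd.l, ind k * fd.rcZ fx r k = 0 := by
    have : 0 ≤ ∑ k ∈ Finset.range fd.l, ind k * fd.rcZ fx r k :=
      Finset.sum_nonneg fun k hk => mul_nonneg (ind_nonneg k) (hc k (Finset.mem_range.mp hk))
    linarith
  have h3 := (Finset.sum_eq_zero_iff_of_nonneg
    (fun k hk => mul_nonneg (ind_nonneg k) (hc k (Finset.mem_range.mp hk)))).mp h2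
  intro j hj hnj
  have := h3 j (Finset.mem_range.mpr hj)
  simpa only [hind, if_pos hnj, one_mul] using this

/-- helper12's identification of an element of `N` from a table, only using that the kept fundamental roots stay
positive -/
theorem mem_diag_of_table' (m : GL D.Idx F) (hm : m ∈ D.monomialSubgroup F) (π : ℕ → ℕ)
    (hπ : C.c6.c2.Perm m π)
    (hcomb : ∀ r, r < fd.n → fd.n / 2 ≤ r → fd.n / 2 ≤ π r →
      ∀ j < fd.l, π (fd.simples.getD j 0) < fd.n / 2 → fd.rcZ fx r j = 0)
    (w : List ℕ) (hw : IsWd fd.l w) (Jb : ℕ → Bool)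
    (hJ : ∀ k < fd.l, (Jb k = true → fd.n / 2 ≤ π (fd.simples.getD k 0)) ∧
      (Jb k = false → π (fd.simples.getD k 0) < fd.n / 2))
    (htab : ∀ i < fd.l, (∃ k < fd.l, Jb k = true ∧ fd.wordP fx w.reverse (fd.simples.getD i 0) = fd.simples.getD k 0) ∨
      (fd.wordP fx w.reverse (fd.simples.getD i 0) < fd.n / 2 ∧
        ∃ j < fd.l, Jb j = false ∧ fd.rcZ fx (fd.n - 1 - fd.wordP fx w.reverse (fd.simples.getD i 0)) j ≠ 0)) :
    m * (C.wordN F w)⁻¹ ∈ D.diagonalSubgroup F ∧ ∀ s < fd.n, π s = fd.wordP fx w s := by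
  have hev := C.c6.c2.heven
  have hρ' := perm_wordN_inv C (F := F) w hw
  have hWp := C.perm_wordN (F := F) w hw
  have hP : C.c6.c2.Perm (m * (C.wordN F w)⁻¹) (π ∘ fd.wordP fx w.reverse) := C.c6.perm_mul hπ hρ'
  have hd : m * (C.wordN F w)⁻¹ ∈ D.diagonalSubgroup F := by
    apply C.mem_diag_of_pos _ (mul_mem hm (inv_mem (C.wordN_mem w))) _ hP
    intro i hi
    simp only [Function.comp]
    rcases htab i hi with ⟨k, hk, hJk, e⟩ | ⟨hneg, j, hj, hJj, hne⟩
    · rw [e]
      exact (hJ k hk).1 hJk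
    · have hβ : fd.wordP fx w.reverse (fd.simples.getD i 0) < fd.n :=
        C.wordP_lt _ hw.reverse _ (C.c6.c2.simple_lt i hi)
      set β := fd.wordP fx w.reverse (fd.simples.getD i 0) with hβdef
      have hγ : fd.n - 1 - β < fd.n := by omega
      have hγpos : fd.n / 2 ≤ fd.n - 1 - β := by omega
      have hπγ : π (fd.n - 1 - β) < fd.n / 2 := by
        by_contra hc
        exact hne (hcomb _ hγ hγpos (not_lt.mp hc) j hj ((hJ j hj).2 hJj))
      have h1 := (hπ _ hγ).2.1
      have e : fd.n - 1 - (fd.n - 1 - β) = β := by omega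
      rw [e] at h1
      rw [h1]
      have := (hπ _ hγ).1
      omega
  refine ⟨hd, ?_⟩
  have h1 : C.c6.c2.Perm (m * (C.wordN F w)⁻¹ * C.wordN F w) (id ∘ fd.wordP fx w) :=
    C.c6.perm_mul (C.c6.perm_diag _ hd) hWp
  have e : m * (C.wordN F w)⁻¹ * C.wordN F w = m := by group
  rw [e] at h1
  exact fun s hs => C.perm_unique m _ _ hπ h1 s hs

end Gen

end Cfsg.Agent.Lib.H17.TwE6
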