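import Mathlib
import Cfsg.Prelude.Def_LieTwisted
import Cfsg.Agent.Lib.H17.TwE6H
import Cfsg.Agent.Lib.H17.TwE6E

/-!
# The twisted group of type `E₆`: identification of the involutions of `N` given by the maximal cell argument

An element `m` of `N` whose permutation `π` of the roots is involutive and, for each orbit of fundamental roots
(`{p₁, p₆}`, `{p₂}`, `{p₃, p₅}`, `{p₄}`, i.e. the roots `{56, 36}`, `{46}`, `{42, 37}`, `{39}`), either makes the orbit negative
or maps it to itself, is `h · n_J` with `h` diagonal, `n_J` one of the eleven elements of `TwE6E` or `1`.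
-/

set_option autoImplicit false
set_option linter.unusedSectionVars false
set_option linter.unusedSimpArgs false
set_option linter.unusedVariables false

namespace Cfsg.Agent.Lib.H17.TwE6

open Cfsg Cfsg.Lie Matrix Cfsg.Agent.Lib.H29.Chev Cfsg.Agent.Lib.H10.IC Cfsg.Agent.Lib.H12.InvCell

variable {D : ChevalleyDatum} {fd : FD} {fx : FX} {fc : FC} {fz : FZ} {F : Type*} [Field F]

/-- the table check of `mem_diag_of_table'` -/
def htabB (fd : FD) (fx : FX) (Jb : ℕ → Bool) (w : List ℕ) : Bool :=
  (List.range fd.l).all fun i =>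
    ((List.range fd.l).any fun k =>
      Jb k && decide (fd.wordP fx w.reverse (fd.simples.getD i 0) = fd.simples.getD k 0)) ||
    (decide (fd.wordP fx w.reverse (fd.simples.getD i 0) < fd.n / 2) &&
      (List.range fd.l).any fun j =>
        !Jb j && decide (fd.rcZ fx (fd.n - 1 - fd.wordP fx w.reverse (fd.simples.getD i 0)) j ≠ 0))

/-- identification of an element of `N` from a table -/
theorem ident_of_table (C : Cert12 D fd fx fc fz) (m : GL D.Idx F) (hm : m ∈ D.monomialSubgroup F) (π : ℕ → ℕ)
    (hπ : C.c6.c2.Perm m π) (hinv : ∀ s < fd.n, π (π s) = s) (Jb : ℕ → Bool)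
    (hK : ∀ k < fd.l, (Jb k = true → ∃ k' < fd.l, π (fd.simples.getD k 0) = fd.simples.getD k' 0) ∧
      (Jb k = false → π (fd.simples.getD k 0) < fd.n / 2))
    (w : List ℕ) (hw : IsWd fd.l w) (htab : htabB fd fx Jb w = true) :
    m * (C.wordN F w)⁻¹ ∈ D.diagonalSubgroup F ∧ ∀ s < fd.n, π s = fd.wordP fx w s := by
  have hlin : fd.LinP fx π := by
    obtain ⟨⟨π', hπ', M, hM⟩, _⟩ := C.perm_lin m hm
    refine ⟨M, fun s hs j hj => ?_⟩
    rw [C.perm_unique m π π' hπ hπ' s hs]
    exact hM s hs j hj
  have hlt : ∀ s < fd.n, π s < fd.n := fun s hs => (hπ s hs).1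
  have hneg : ∀ s < fd.n, π (fd.n - 1 - s) = fd.n - 1 - π s := fun s hs => (hπ s hs).2.1
  have hJ : ∀ i < fd.l, π (fd.simples.getD i 0) < fd.n / 2 ∨
      ∃ k < fd.l, π (fd.simples.getD i 0) = fd.simples.getD k 0 := by
    intro i hi
    cases hb : Jb i with
    | true => exact Or.inr ((hK i hi).1 hb)
    | false => exact Or.inl ((hK i hi).2 hb)
  apply mem_diag_of_table' C m hm π hπ (fun r hr hpos hπr => twcomb C π hlin hlt hneg hinv hJ r hr hpos hπr) w hw Jb
  · intro k hk
    refine ⟨fun hb => ?_, (hK k hk).2⟩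
    obtain ⟨k', hk', e⟩ := (hK k hk).1 hb
    rw [e]
    exact C.c6.simple_pos k' hk'
  · intro i hi
    simp only [htabB, List.all_eq_true, List.mem_range, Bool.or_eq_true, List.any_eq_true, Bool.and_eq_true,
      decide_eq_true_eq, Bool.not_eq_true'] at htab
    rcases htab i hi with ⟨k, hk, hJk, e⟩ | ⟨hn, j, hj, hJj, hne⟩
    · exact Or.inl ⟨k, hk, hJk, e⟩
    · exact Or.inr ⟨hn, j, hj, hJj, hne⟩

section E6

variable {K : Type*} [Field K]

/-- the pattern of the kept orbits, on the six fundamental roots -/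
def jbOf (b0 b1 b2 b3 : Bool) (k : ℕ) : Bool :=
  match k with
  | 0 => b0
  | 1 => b1
  | 2 => b2
  | 3 => b3
  | 4 => b2
  | 5 => b0
  | _ => false

/-- the words of `w₀ w_J` for the four non admissible subsets -/
def wNA02 : List ℕ :=
  [1, 3, 1, 2, 4, 0, 5, 3, 1, 2, 4, 0, 5, 3, 1, 2, 4, 0, 5, 3, 1, 2, 4, 0, 5, 3, 1, 2, 4, 3]

def wNA13 : List ℕ :=
  [0, 5, 2, 4, 0, 5, 3, 1, 2, 4, 0, 5, 3, 1, 2, 4, 0, 5, 3, 1, 2, 4, 0, 5, 3, 1, 2, 4, 0, 5, 3, 2, 4]

def wNA012 : List ℕ :=
  [3, 1, 2, 4, 0, 5, 3, 1, 2, 4, 0, 5, 3, 1, 2, 4, 0, 5, 3, 1, 2, 4, 0, 5, 3, 1, 2, 4, 3]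

def wNA013 : List ℕ :=
  [2, 4, 0, 5, 3, 1, 2, 4, 0, 5, 3, 1, 2, 4, 0, 5, 3, 1, 2, 4, 0, 5, 3, 1, 2, 4, 0, 5, 3, 2, 4]

set_option maxRecDepth 1000000 in
theorem tabJe : htabB fdE6 fxE6 (jbOf false false false false) (reflW wsJe) = true := by decide +kernel
set_option maxRecDepth 1000000 in
theorem tabJ0 : htabB fdE6 fxE6 (jbOf true false false false) (reflW wsJ0) = true := by decide +kernel
set_option maxRecDepth 1000000 in
theorem tabJ1 : htabB fdE6 fxE6 (jbOf false true false false) (reflW wsJ1) = true := by decide +kernel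
set_option maxRecDepth 1000000 in
theorem tabJ2 : htabB fdE6 fxE6 (jbOf false false true false) (reflW wsJ2) = true := by decide +kernel
set_option maxRecDepth 1000000 in
theorem tabJ3 : htabB fdE6 fxE6 (jbOf false false false true) (reflW wsJ3) = true := by decide +kernel
set_option maxRecDepth 1000000 in
theorem tabJ01 : htabB fdE6 fxE6 (jbOf true true false false) (reflW wsJ01) = true := by decide +kernel
set_option maxRecDepth 1000000 in
theorem tabJ03 : htabB fdE6 fxE6 (jbOf true false false true) (reflW wsJ03) = true := by decide +kernel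
set_option maxRecDepth 1000000 in
theorem tabJ12 : htabB fdE6 fxE6 (jbOf false true true false) (reflW wsJ12) = true := by decide +kernel
set_option maxRecDepth 1000000 in
theorem tabJ23 : htabB fdE6 fxE6 (jbOf false false true true) (reflW wsJ23) = true := by decide +kernel
set_option maxRecDepth 1000000 in
theorem tabJ023 : htabB fdE6 fxE6 (jbOf true false true true) (reflW wsJ023) = true := by decide +kernel
set_option maxRecDepth 1000000 in
theorem tabJ123 : htabB fdE6 fxE6 (jbOf false true true true) (reflW wsJ123) = true := by decide +kernel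
set_option maxRecDepth 1000000 in
theorem tabJ0123 : htabB fdE6 fxE6 (jbOf true true true true) (reflW []) = true := by decide +kernel
set_option maxRecDepth 1000000 in
theorem tabNA02 : htabB fdE6 fxE6 (jbOf true false true false) wNA02 = true := by decide +kernel
set_option maxRecDepth 1000000 in
theorem tabNA13 : htabB fdE6 fxE6 (jbOf false true false true) wNA13 = true := by decide +kernel
set_option maxRecDepth 1000000 in
theorem tabNA012 : htabB fdE6 fxE6 (jbOf true true true false) wNA012 = true := by decide +kernel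
set_option maxRecDepth 1000000 in
theorem tabNA013 : htabB fdE6 fxE6 (jbOf true true false true) wNA013 = true := by decide +kernel

end E6

end Cfsg.Agent.Lib.H17.TwE6
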