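import Mathlib
import Cfsg.Prelude.Def_LieTwisted
import Cfsg.Agent.Lib.H17.TwE6I

/-!
# The twisted group of type `E₆`: identification of the involutions of `N` given by the maximal cell argument, II
-/

set_option autoImplicit false
set_option linter.unusedSectionVars false
set_option linter.unusedSimpArgs false
set_option linter.unusedVariables false

namespace Cfsg.Agent.Lib.H17.TwE6

open Cfsg Cfsg.Lie Matrix Cfsg.Agent.Lib.H29.Chev Cfsg.Agent.Lib.H10.IC Cfsg.Agent.Lib.H12.InvCell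

variable {K : Type*} [Field K]

theorem e6_simples : fdE6.simples.getD 0 0 = 56 ∧ fdE6.simples.getD 1 0 = 46 ∧ fdE6.simples.getD 2 0 = 42 ∧
    fdE6.simples.getD 3 0 = 39 ∧ fdE6.simples.getD 4 0 = 37 ∧ fdE6.simples.getD 5 0 = 36 := by decide

/-- the hypotheses of `ident_of_table` from the pattern of the orbits -/
theorem hK_of (π : ℕ → ℕ) (b0 b1 b2 b3 : Bool)
    (H0 : if b0 = true then ((π 56 = 56 ∨ π 56 = 36) ∧ (π 36 = 56 ∨ π 36 = 36)) else (π 56 < 36 ∧ π 36 < 36))
    (H1 : if b1 = true then π 46 = 46 else π 46 < 36)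
    (H2 : if b2 = true then ((π 42 = 42 ∨ π 42 = 37) ∧ (π 37 = 42 ∨ π 37 = 37)) else (π 42 < 36 ∧ π 37 < 36))
    (H3 : if b3 = true then π 39 = 39 else π 39 < 36) :
    ∀ k < fdE6.l, (jbOf b0 b1 b2 b3 k = true →
        ∃ k' < fdE6.l, π (fdE6.simples.getD k 0) = fdE6.simples.getD k' 0) ∧
      (jbOf b0 b1 b2 b3 k = false → π (fdE6.simples.getD k 0) < fdE6.n / 2) := by
  obtain ⟨s0, s1, s2, s3, s4, s5⟩ := e6_simples
  have hl : fdE6.l = 6 := rfl
  have hn : fdE6.n / 2 = 36 := rfl
  intro k hk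
  rw [hl] at hk
  rw [hn, hl]
  interval_cases k
  · rw [s0]
    refine ⟨fun hb => ?_, fun hb => ?_⟩
    · have hb' : b0 = true := hb
      rw [if_pos hb'] at H0
      rcases H0.1 with h | h
      · exact ⟨0, by norm_num, by rw [h, s0]⟩
      · exact ⟨5, by norm_num, by rw [h, s5]⟩
    · have hb' : b0 = false := hb
      rw [hb'] at H0
      exact H0.1
  · rw [s1]
    refine ⟨fun hb => ?_, fun hb => ?_⟩
    · have hb' : b1 = true := hb
      rw [if_pos hb'] at H1
      exact ⟨1, by norm_num, by rw [H1, s1]⟩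
    · have hb' : b1 = false := hb
      rw [hb'] at H1
      exact H1
  · rw [s2]
    refine ⟨fun hb => ?_, fun hb => ?_⟩
    · have hb' : b2 = true := hb
      rw [if_pos hb'] at H2
      rcases H2.1 with h | h
      · exact ⟨2, by norm_num, by rw [h, s2]⟩
      · exact ⟨4, by norm_num, by rw [h, s4]⟩
    · have hb' : b2 = false := hb
      rw [hb'] at H2
      exact H2.1
  · rw [s3]
    refine ⟨fun hb => ?_, fun hb => ?_⟩
    · have hb' : b3 = true := hb
      rw [if_pos hb'] at H3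
      exact ⟨3, by norm_num, by rw [H3, s3]⟩
    · have hb' : b3 = false := hb
      rw [hb'] at H3
      exact H3
  · rw [s4]
    refine ⟨fun hb => ?_, fun hb => ?_⟩
    · have hb' : b2 = true := hb
      rw [if_pos hb'] at H2
      rcases H2.2 with h | h
      · exact ⟨2, by norm_num, by rw [h, s2]⟩
      · exact ⟨4, by norm_num, by rw [h, s4]⟩
    · have hb' : b2 = false := hb
      rw [hb'] at H2
      exact H2.2
  · rw [s5]
    refine ⟨fun hb => ?_, fun hb => ?_⟩
    · have hb' : b0 = true := hb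
      rw [if_pos hb'] at H0
      rcases H0.2 with h | h
      · exact ⟨0, by norm_num, by rw [h, s0]⟩
      · exact ⟨5, by norm_num, by rw [h, s5]⟩
    · have hb' : b0 = false := hb
      rw [hb'] at H0
      exact H0.2

theorem isWd_reflW (Ws : List (List ℕ × ℕ)) (h : chkWs Ws = true) : IsWd fdE6.l (reflW Ws) :=
  reflW_isWd Ws (chkWs_spec h)

set_option maxRecDepth 1000000 in
/-- **identification of the involutions of `N` given by the maximal cell argument** -/
theorem tw_ident (m : GL chevE6.Idx K) (hm : m ∈ chevE6.monomialSubgroup K) (π : ℕ → ℕ)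
    (hπ : cert12_E6.c6.c2.Perm m π) (hinv : ∀ s < 72, π (π s) = s)
    (h0 : (π 56 < 36 ∧ π 36 < 36) ∨ ((π 56 = 56 ∨ π 56 = 36) ∧ (π 36 = 56 ∨ π 36 = 36)))
    (h1 : π 46 < 36 ∨ π 46 = 46)
    (h2 : (π 42 < 36 ∧ π 37 < 36) ∨ ((π 42 = 42 ∨ π 42 = 37) ∧ (π 37 = 42 ∨ π 37 = 37)))
    (h3 : π 39 < 36 ∨ π 39 = 39) :
    ∃ Ws ∈ [wsJe, wsJ0, wsJ1, wsJ2, wsJ3, wsJ01, wsJ03, wsJ12, wsJ23, wsJ023, wsJ123, []],
      m * (cert12_E6.wordN K (reflW Ws))⁻¹ ∈ chevE6.diagonalSubgroup K := by
  have key : ∀ (b0 b1 b2 b3 : Bool) (w : List ℕ),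
      (if b0 = true then ((π 56 = 56 ∨ π 56 = 36) ∧ (π 36 = 56 ∨ π 36 = 36)) else (π 56 < 36 ∧ π 36 < 36)) →
      (if b1 = true then π 46 = 46 else π 46 < 36) →
      (if b2 = true then ((π 42 = 42 ∨ π 42 = 37) ∧ (π 37 = 42 ∨ π 37 = 37)) else (π 42 < 36 ∧ π 37 < 36)) →
      (if b3 = true then π 39 = 39 else π 39 < 36) →
      IsWd fdE6.l w → htabB fdE6 fxE6 (jbOf b0 b1 b2 b3) w = true →
      m * (cert12_E6.wordN K w)⁻¹ ∈ chevE6.diagonalSubgroup K ∧ ∀ s < 72, π s = fdE6.wordP fxE6 w s :=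
    fun b0 b1 b2 b3 w H0 H1 H2 H3 hw htab =>
      ident_of_table cert12_E6 m hm π hπ hinv (jbOf b0 b1 b2 b3) (hK_of π b0 b1 b2 b3 H0 H1 H2 H3) w hw htab
  rcases h0 with h0 | h0 <;> rcases h1 with h1 | h1 <;> rcases h2 with h2 | h2 <;> rcases h3 with h3 | h3
  · exact ⟨wsJe, by simp, (key false false false false _ h0 h1 h2 h3 (isWd_reflW _ (by decide)) tabJe).1⟩
  · exact ⟨wsJ3, by simp, (key false false false true _ h0 h1 h2 h3 (isWd_reflW _ (by decide)) tabJ3).1⟩
  · exact ⟨wsJ2, by simp, (key false false true false _ h0 h1 h2 h3 (isWd_reflW _ (by decide)) tabJ2).1⟩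
  · exact ⟨wsJ23, by simp, (key false false true true _ h0 h1 h2 h3 (isWd_reflW _ (by decide)) tabJ23).1⟩
  · exact ⟨wsJ1, by simp, (key false true false false _ h0 h1 h2 h3 (isWd_reflW _ (by decide)) tabJ1).1⟩
  · -- `{1, 3}` is not admissible
    exfalso
    have h := (key false true false true wNA13 h0 h1 h2 h3 (by unfold IsWd; decide) tabNA13).2 46 (by norm_num)
    have e : fdE6.wordP fxE6 wNA13 46 = 39 := by decide +kernel
    rw [e] at h
    omega
  · exact ⟨wsJ12, by simp, (key false true true false _ h0 h1 h2 h3 (isWd_reflW _ (by decide)) tabJ12).1⟩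
  · exact ⟨wsJ123, by simp, (key false true true true _ h0 h1 h2 h3 (isWd_reflW _ (by decide)) tabJ123).1⟩
  · exact ⟨wsJ0, by simp, (key true false false false _ h0 h1 h2 h3 (isWd_reflW _ (by decide)) tabJ0).1⟩
  · exact ⟨wsJ03, by simp, (key true false false true _ h0 h1 h2 h3 (isWd_reflW _ (by decide)) tabJ03).1⟩
  · -- `{0, 2}` is not admissible
    exfalso
    have h := (key true false true false wNA02 h0 h1 h2 h3 (by unfold IsWd; decide) tabNA02).2 56 (by norm_num)
    have e : fdE6.wordP fxE6 wNA02 56 = 37 := by decide +kernel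
    rw [e] at h
    rcases h0.1 with h' | h' <;> omega
  · exact ⟨wsJ023, by simp, (key true false true true _ h0 h1 h2 h3 (isWd_reflW _ (by decide)) tabJ023).1⟩
  · exact ⟨wsJ01, by simp, (key true true false false _ h0 h1 h2 h3 (isWd_reflW _ (by decide)) tabJ01).1⟩
  · -- `{0, 1, 3}` is not admissible
    exfalso
    have h := (key true true false true wNA013 h0 h1 h2 h3 (by unfold IsWd; decide) tabNA013).2 46 (by norm_num)
    have e : fdE6.wordP fxE6 wNA013 46 = 39 := by decide +kernel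
    rw [e] at h
    omega
  · -- `{0, 1, 2}` is not admissible
    exfalso
    have h := (key true true true false wNA012 h0 h1 h2 h3 (by unfold IsWd; decide) tabNA012).2 56 (by norm_num)
    have e : fdE6.wordP fxE6 wNA012 56 = 37 := by decide +kernel
    rw [e] at h
    rcases h0.1 with h' | h' <;> omega
  · exact ⟨[], by simp, (key true true true true _ h0 h1 h2 h3 (isWd_reflW _ (by decide)) tabJ0123).1⟩

end Cfsg.Agent.Lib.H17.TwE6
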