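import Mathlib
import Cfsg.Agent.Lib.H10.SylowIn
import Cfsg.Agent.Lib.H5.SignPeel
set_option autoImplicit false
set_option linter.style.haveILetI false
set_option linter.unusedSectionVars false
namespace Cfsg.Agent.Lib.H17.TT4

open MulAction

section abstract

variable {N F : Type*} [Group N] [MulAction N F]

/-- a normal subgroup of a `2`-transitive group containing an element moving a point is
transitive -/
theorem trans_of_normal_of_moves (h2 : IsMultiplyPretransitive N F 2) (Y : Subgroup N)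
    [hY : Y.Normal] (y : N) (hy : y ∈ Y) (c : F) (hyc : y • c ≠ c) (c' e' : F) :
    ∃ x ∈ Y, x • c' = e' := by
  by_cases hce : c' = e'
  · exact ⟨1, Y.one_mem, by rw [one_smul, hce]⟩
  · obtain ⟨g, hg1, hg2⟩ := (is_two_pretransitive_iff.1 h2) (Ne.symm hyc) hce
    refine ⟨g * y * g⁻¹, hY.conj_mem y hy g, ?_⟩
    have h1 : g⁻¹ • c' = c := by rw [inv_smul_eq_iff, hg1]
    rw [mul_smul, mul_smul, h1, hg2]

/-- the index of a point stabilizer in a transitive subgroup -/
theorem relIndex_stabilizer_of_trans (Y : Subgroup N) (c : F)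
    (htr : ∀ e : F, ∃ x ∈ Y, x • c = e) : (stabilizer N c).relIndex Y = Nat.card F := by
  have h4 : (stabilizer N c).subgroupOf Y = stabilizer Y c := by
    ext x
    rw [Subgroup.mem_subgroupOf, mem_stabilizer_iff, mem_stabilizer_iff]
    rfl
  unfold Subgroup.relIndex
  rw [h4, MulAction.index_stabilizer]
  have h5 : orbit Y c = Set.univ := by
    rw [Set.eq_univ_iff_forall]
    intro e
    obtain ⟨x, hx, hxe⟩ := htr e
    exact ⟨⟨x, hx⟩, hxe⟩
  rw [h5, Set.ncard_univ]

/-- if `Y` is transitive on `F` and `S₀ ≤ Y` fixes `c`, then `|F|` divides `|Y : S₀|` -/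
theorem card_dvd_relIndex (Y S₀ : Subgroup N) (hS : S₀ ≤ Y) (c : F)
    (hSc : ∀ s ∈ S₀, s • c = c) (htr : ∀ e : F, ∃ x ∈ Y, x • c = e) :
    Nat.card F ∣ S₀.relIndex Y := by
  have h1 : S₀ ≤ stabilizer N c ⊓ Y := le_inf (fun s hs => mem_stabilizer_iff.2 (hSc s hs)) hS
  have h2 := Subgroup.relIndex_mul_relIndex S₀ (stabilizer N c ⊓ Y) Y h1 inf_le_right
  have h3 : (stabilizer N c ⊓ Y).relIndex Y = Nat.card F := by
    rw [Subgroup.inf_relIndex_right]
    exact relIndex_stabilizer_of_trans Y c htr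
  rw [← h2, h3]
  exact dvd_mul_left _ _

end abstract

section abstract2

variable {N F : Type*} [Group N] [MulAction N F]

/-- **Sign lemma.** `N` acts `2`-transitively on `F`; `X` is a normal subgroup containing a
subgroup `S₀` acting trivially with `|X : S₀| = 2 * odd`, and `u ∈ X` acts as a fixed point free
involution. Then `|F| = 2`. -/
theorem card_eq_two_of_sign [Fintype F] [DecidableEq F]
    (h2 : IsMultiplyPretransitive N F 2)
    (X : Subgroup N) [hXn : X.Normal] (S₀ : Subgroup N) (hSX : S₀ ≤ X)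
    (hS₀ : ∀ s ∈ S₀, ∀ c : F, s • c = c)
    (m : ℕ) (hm : Odd m) (hidx : S₀.relIndex X = 2 * m)
    (u : N) (hu : u ∈ X) (hu2 : ∀ c : F, u • u • c = c) (hufpf : ∀ c : F, u • c ≠ c) (c₀ : F) :
    Fintype.card F = 2 := by
  -- X is transitive
  have hXtr : ∀ c' e' : F, ∃ x ∈ X, x • c' = e' :=
    trans_of_normal_of_moves h2 X u hu c₀ (hufpf c₀)
  -- card F divides 2m
  have hdvd : Nat.card F ∣ 2 * m := by
    rw [← hidx]
    exact card_dvd_relIndex X S₀ hSX c₀ (fun s hs => hS₀ s hs c₀) (fun e => hXtr c₀ e)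
  set σ : Equiv.Perm F := MulAction.toPermHom N F u with hσ
  have hσ2 : σ ^ 2 = 1 := by
    ext c
    rw [pow_two, Equiv.Perm.mul_apply]
    exact hu2 c
  have hσfpf : ∀ c, σ c ≠ c := fun c => hufpf c
  have heven : 2 ∣ Fintype.card F := by
    have h1 := Equiv.Perm.two_dvd_card_support hσ2
    have h3 : σ.support = Finset.univ := by
      ext c; simp [Equiv.Perm.mem_support, hσfpf c]
    rw [h3, Finset.card_univ] at h1
    exact h1
  obtain ⟨f', hf'⟩ := heven
  have hf'odd : Odd f' := by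
    rw [Nat.card_eq_fintype_card, hf'] at hdvd
    have : f' ∣ m := Nat.dvd_of_mul_dvd_mul_left (by norm_num) hdvd
    exact Odd.of_dvd_nat hm this
  have hsign : Equiv.Perm.sign σ = -1 := by
    apply Cfsg.Agent.Lib.H5.SP.sign_eq_neg_one_of_fpf σ 0 f'
    · simpa using hσ2
    · intro ω; simpa using hσfpf ω
    · exact hf'odd
    · simpa using hf'
  let χ : N →* ℤˣ := Equiv.Perm.sign.comp (MulAction.toPermHom N F)
  have hχu : χ u = -1 := hsign
  have hKX : (X ⊓ χ.ker).relIndex X = 2 := by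
    rw [Subgroup.inf_relIndex_left]
    have h1 : χ.ker.subgroupOf X = (χ.comp X.subtype).ker := by
      ext x; simp [Subgroup.mem_subgroupOf, MonoidHom.mem_ker]
    unfold Subgroup.relIndex
    rw [h1]
    exact Cfsg.Agent.Lib.H5.SP.index_ker_of_apply_eq_neg_one (χ.comp X.subtype) ⟨u, hu⟩ hχu
  have hSK : S₀ ≤ X ⊓ χ.ker := by
    refine le_inf hSX ?_
    intro s hs
    rw [MonoidHom.mem_ker]
    have : MulAction.toPermHom N F s = 1 := by
      ext c; exact hS₀ s hs c
    show Equiv.Perm.sign (MulAction.toPermHom N F s) = 1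
    rw [this, map_one]
  have hSKidx : S₀.relIndex (X ⊓ χ.ker) = m := by
    have h1 := Subgroup.relIndex_mul_relIndex S₀ (X ⊓ χ.ker) X hSK inf_le_left
    rw [hKX, hidx] at h1
    omega
  have hKfix : ∀ k ∈ X ⊓ χ.ker, ∀ c : F, k • c = c := by
    by_contra hcon
    push Not at hcon
    obtain ⟨k, hk, c, hkc⟩ := hcon
    have htr := trans_of_normal_of_moves h2 (X ⊓ χ.ker) k hk c hkc
    have hd := card_dvd_relIndex (X ⊓ χ.ker) S₀ hSK c₀ (fun s hs => hS₀ s hs c₀)
      (fun e => htr c₀ e)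
    rw [hSKidx, Nat.card_eq_fintype_card, hf'] at hd
    have : 2 ∣ m := dvd_trans (dvd_mul_right 2 f') hd
    exact (Nat.not_even_iff_odd.2 hm) (even_iff_two_dvd.2 this)
  have hXorb : ∀ x ∈ X, x • c₀ = c₀ ∨ x • c₀ = u • c₀ := by
    intro x hx
    rcases Int.units_eq_one_or (χ x) with h | h
    · left; exact hKfix x ⟨hx, h⟩ c₀
    · right
      have h1 : u⁻¹ * x ∈ X ⊓ χ.ker := by
        refine ⟨X.mul_mem (X.inv_mem hu) hx, ?_⟩
        show u⁻¹ * x ∈ χ.ker
        rw [MonoidHom.mem_ker, map_mul, map_inv, hχu, h]; decide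
      have h3 := hKfix _ h1 c₀
      rw [mul_smul, inv_smul_eq_iff] at h3
      exact h3
  have hle : Fintype.card F ≤ 2 := by
    have : (Finset.univ : Finset F) ⊆ {c₀, u • c₀} := by
      intro e _
      obtain ⟨x, hx, hxe⟩ := hXtr c₀ e
      rcases hXorb x hx with h | h
      · simp [← hxe, h]
      · simp [← hxe, h]
    calc Fintype.card F = (Finset.univ : Finset F).card := rfl
      _ ≤ ({c₀, u • c₀} : Finset F).card := Finset.card_le_card this
      _ ≤ 2 := Finset.card_le_two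
  have hpos : 0 < Fintype.card F := Fintype.card_pos_iff.2 ⟨c₀⟩
  omega

end abstract2

section concrete

open Cfsg.Agent.Lib.H10

variable {G Ω : Type*} [Group G] [MulAction G Ω]

/-- the stabilizer of `x` in `M`, as a subgroup of `G` -/
def St (M : Subgroup G) (x : Ω) : Subgroup G := M ⊓ stabilizer G x

theorem mem_St {M : Subgroup G} {x : Ω} {g : G} : g ∈ St M x ↔ g ∈ M ∧ g • x = x := by
  rw [St, Subgroup.mem_inf, mem_stabilizer_iff]

theorem St_le (M : Subgroup G) (x : Ω) : St M x ≤ M := inf_le_left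

/-- conjugation moves point stabilizers -/
theorem map_conj_St (M : Subgroup G) [hM : M.Normal] (g : G) (x : Ω) :
    (St M x).map (MulAut.conj g).toMonoidHom = St M (g • x) := by
  ext y
  rw [mem_map_conj, mem_St, mem_St]
  constructor
  · rintro ⟨h1, h2⟩
    refine ⟨?_, ?_⟩
    · have := hM.conj_mem _ h1 g
      have e : g * (g⁻¹ * y * g) * g⁻¹ = y := by group
      rw [e] at this
      exact this
    · rw [mul_smul, mul_smul, inv_smul_eq_iff] at h2
      exact h2
  · rintro ⟨h1, h2⟩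
    refine ⟨?_, ?_⟩
    · have := hM.conj_mem _ h1 g⁻¹
      rw [inv_inv] at this
      exact this
    · rw [mul_smul, mul_smul, h2, inv_smul_smul]

theorem relIndex_St (M : Subgroup G) (htr : ∀ x y : Ω, ∃ m ∈ M, m • x = y) (x : Ω) :
    (St M x).relIndex M = Nat.card Ω := by
  unfold St
  rw [Subgroup.inf_relIndex_left]
  exact relIndex_stabilizer_of_trans M x (htr x)

/-- `S` is a Sylow `2`-subgroup of `M_a`: index computation in `M` -/
theorem relIndex_of_le_St (M : Subgroup G) (htr : ∀ x y : Ω, ∃ m ∈ M, m • x = y) (S : Subgroup G)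
    (y : Ω) (hSy : S ≤ St M y) : S.relIndex (St M y) * Nat.card Ω = S.relIndex M := by
  rw [← relIndex_St M htr y]
  exact Subgroup.relIndex_mul_relIndex S (St M y) M hSy (St_le M y)

/-- a Sylow `2`-subgroup of `M_a` fixing `y` is a Sylow `2`-subgroup of `M_y` -/
theorem not_dvd_relIndex_St [Finite Ω] [Nonempty Ω] (M : Subgroup G)
    (htr : ∀ x y : Ω, ∃ m ∈ M, m • x = y)
    (S : Subgroup G) (a : Ω) (hSa : S ≤ St M a) (hSi : ¬ 2 ∣ S.relIndex (St M a))
    (y : Ω) (hSy : S ≤ St M y) : ¬ 2 ∣ S.relIndex (St M y) := by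
  have h1 := relIndex_of_le_St M htr S a hSa
  have h2 := relIndex_of_le_St M htr S y hSy
  have hpos : 0 < Nat.card Ω := Nat.card_pos
  have h3 : S.relIndex (St M y) = S.relIndex (St M a) :=
    Nat.eq_of_mul_eq_mul_right hpos (h2.trans h1.symm)
  rw [h3]
  exact hSi

end concrete

section witt

open Cfsg.Agent.Lib.H10

variable {G Ω : Type*} [Group G] [MulAction G Ω]

theorem smul_conj_fix (g s : G) (z : Ω) (hz : (g⁻¹ * s * g) • z = z) : s • (g • z) = g • z := by
  have h : s • g • z = g • ((g⁻¹ * s * g) • z) := by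
    rw [← mul_smul, ← mul_smul]
    congr 1
    group
  rw [h, hz]

/-- Witt's lemma: the normalizer of `S` is `2`-transitive on the fixed points of `S` -/
theorem witt [Finite G] [Finite Ω] [Nonempty Ω] (h2 : IsMultiplyPretransitive G Ω 2)
    (M : Subgroup G) [hM : M.Normal] (htr : ∀ x y : Ω, ∃ m ∈ M, m • x = y)
    (S : Subgroup G) (a : Ω) (hSa : S ≤ St M a) (hS2 : IsPGroup 2 S)
    (hSi : ¬ 2 ∣ S.relIndex (St M a))
    (c e c' e' : Ω) (hc : ∀ s ∈ S, s • c = c) (he : ∀ s ∈ S, s • e = e)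
    (hc' : ∀ s ∈ S, s • c' = c') (he' : ∀ s ∈ S, s • e' = e') (hce : c ≠ e) (hce' : c' ≠ e') :
    ∃ g ∈ Subgroup.normalizer (S : Set G), g • c = c' ∧ g • e = e' := by
  have hSM : S ≤ M := hSa.trans (St_le M a)
  obtain ⟨g₀, hg1, hg2⟩ := (is_two_pretransitive_iff.1 h2) hce hce'
  have hSQ : S ≤ St M c' ⊓ stabilizer G e' := by
    intro s hs
    exact ⟨mem_St.2 ⟨hSM hs, hc' s hs⟩, mem_stabilizer_iff.2 (he' s hs)⟩
  have hS₁Q : S.map (MulAut.conj g₀).toMonoidHom ≤ St M c' ⊓ stabilizer G e' := by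
    intro s hs
    rw [mem_map_conj] at hs
    have h3 : s = g₀ * (g₀⁻¹ * s * g₀) * g₀⁻¹ := by group
    have hsM : s ∈ M := by rw [h3]; exact hM.conj_mem _ (hSM hs) g₀
    refine ⟨mem_St.2 ⟨hsM, ?_⟩, mem_stabilizer_iff.2 ?_⟩
    · rw [← hg1]; exact smul_conj_fix g₀ s c (hc _ hs)
    · rw [← hg2]; exact smul_conj_fix g₀ s e (he _ hs)
  have hSc' : S ≤ St M c' := hSQ.trans inf_le_left
  have hSc : S ≤ St M c := fun s hs => mem_St.2 ⟨hSM hs, hc s hs⟩
  have hi1 : ¬ 2 ∣ S.relIndex (St M c' ⊓ stabilizer G e') := by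
    intro hd
    have h3 := Subgroup.relIndex_mul_relIndex S (St M c' ⊓ stabilizer G e') (St M c') hSQ inf_le_left
    exact not_dvd_relIndex_St M htr S a hSa hSi c' hSc' (h3 ▸ Dvd.dvd.mul_right hd _)
  have hi2 : ¬ 2 ∣ (S.map (MulAut.conj g₀).toMonoidHom).relIndex (St M c' ⊓ stabilizer G e') := by
    intro hd
    have h3 := Subgroup.relIndex_mul_relIndex (S.map (MulAut.conj g₀).toMonoidHom)
      (St M c' ⊓ stabilizer G e') (St M c') hS₁Q inf_le_left
    have h4 : (S.map (MulAut.conj g₀).toMonoidHom).relIndex (St M c') = S.relIndex (St M c) := by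
      rw [← hg1, ← map_conj_St M g₀ c, relIndex_map_conj]
    rw [h4] at h3
    exact not_dvd_relIndex_St M htr S a hSa hSi c hSc (h3 ▸ Dvd.dvd.mul_right hd _)
  obtain ⟨m, hmQ, hle⟩ := exists_mem_map_conj_le_of_sylowIn hS2 hSQ hi1
    (isPGroup_map_conj g₀ hS2) hS₁Q
  have heq : (S.map (MulAut.conj g₀).toMonoidHom).map (MulAut.conj m).toMonoidHom = S := by
    apply Subgroup.eq_of_le_of_card_ge hle
    rw [card_map_conj, card_map_conj]
  rw [map_conj_map_conj] at heq
  refine ⟨m * g₀, mem_normalizer_iff_map_conj.2 heq, ?_, ?_⟩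
  · rw [mul_smul, hg1]
    exact (mem_St.1 hmQ.1).2
  · rw [mul_smul, hg2]
    exact mem_stabilizer_iff.1 hmQ.2

end witt

section fixtwo

open Cfsg.Agent.Lib.H10

variable {G : Type*} [Group G]

/-- the fixed points of `S`, as a set acted on by the normalizer of `S` -/
def fixSub (Ω : Type*) [MulAction G Ω] (S : Subgroup G) :
    SubMulAction (Subgroup.normalizer (S : Set G)) Ω where
  carrier := {y | ∀ s ∈ S, s • y = y}
  smul_mem' := by
    intro g y hy s hs
    have hg : (g : G)⁻¹ ∈ Subgroup.normalizer (S : Set G) := Subgroup.inv_mem _ g.2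
    have h1 : (g : G)⁻¹ * s * (g : G)⁻¹⁻¹ ∈ S := (Subgroup.mem_normalizer_iff.1 hg s).1 hs
    rw [inv_inv] at h1
    exact smul_conj_fix (g : G) s y (hy _ h1)

variable {Ω : Type*} [MulAction G Ω]

theorem mem_fixSub {S : Subgroup G} {y : Ω} : y ∈ fixSub Ω S ↔ ∀ s ∈ S, s • y = y := Iff.rfl

/-- arithmetic: `2 ^ k * B = C * n` with `B`, `C` odd and `n ≡ 2 (mod 4)` forces `2 ^ k = 2` -/
theorem pow_two_eq_two (k B C n : ℕ) (hB : ¬ 2 ∣ B) (hC : ¬ 2 ∣ C) (hn : n % 4 = 2)
    (h : 2 ^ k * B = C * n) : 2 ^ k = 2 := by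
  rcases k with _ | _ | k
  · exfalso
    rw [pow_zero, one_mul] at h
    apply hB
    rw [h]
    exact Dvd.dvd.mul_left (by omega) C
  · norm_num
  · exfalso
    have h1 : (C * n) % 4 = 0 := by
      rw [← h, pow_succ, pow_succ, mul_assoc, mul_assoc, mul_comm]
      have : (2 * (2 * B) * 2 ^ k) = 4 * (B * 2 ^ k) := by ring
      rw [this]
      exact Nat.mul_mod_right 4 _
    rw [Nat.mul_mod, hn] at h1
    have h2 : C % 4 = 1 ∨ C % 4 = 3 := by omega
    rcases h2 with h2 | h2 <;> rw [h2] at h1 <;> omega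

/-- **Key step.** A Sylow `2`-subgroup of a point stabilizer `M_a` fixes exactly two points. -/
theorem card_fix_eq_two [Finite G] [Finite Ω] (h2 : IsMultiplyPretransitive G Ω 2)
    (M : Subgroup G) [hM : M.Normal] (htr : ∀ x y : Ω, ∃ m ∈ M, m • x = y)
    (hn : Nat.card Ω % 4 = 2)
    (S : Subgroup G) (a : Ω) (hSa : S ≤ St M a) (hS2 : IsPGroup 2 S)
    (hSi : ¬ 2 ∣ S.relIndex (St M a)) :
    ∃ b : Ω, b ≠ a ∧ (∀ s ∈ S, s • b = b) ∧ ∀ y : Ω, (∀ s ∈ S, s • y = y) → y = a ∨ y = b := by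
  classical
  haveI : Nonempty Ω := ⟨a⟩
  have hSM : S ≤ M := hSa.trans (St_le M a)
  obtain ⟨T, hST, hTM, hT2, hTi⟩ := exists_sylowIn hS2 hSM
  have hidx2 : S.relIndex T = 2 := by
    have h1 := Subgroup.relIndex_mul_relIndex S T M hST hTM
    have h3 := relIndex_of_le_St M htr S a hSa
    obtain ⟨k, hk⟩ := hT2.index (S.subgroupOf T)
    have hk' : S.relIndex T = 2 ^ k := hk
    rw [hk']
    apply pow_two_eq_two k (T.relIndex M) (S.relIndex (St M a)) (Nat.card Ω) hTi hSi hn
    rw [← hk', h1, h3]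
  have hidx2' : (S.subgroupOf T).index = 2 := hidx2
  have hTN : T ≤ Subgroup.normalizer (S : Set G) :=
    (Subgroup.normal_subgroupOf_iff_le_normalizer hST).1 (Subgroup.normal_of_index_eq_two hidx2')
  obtain ⟨u, huT, huS⟩ : ∃ u ∈ T, u ∉ S := by
    by_contra hcon
    push Not at hcon
    have : S.relIndex T = 1 := Subgroup.relIndex_eq_one.2 hcon
    omega
  have hu2 : u * u ∈ S := by
    have := Subgroup.mul_self_mem_of_index_two hidx2' ⟨u, huT⟩
    exact this
  have hufpf : ∀ c : Ω, (∀ s ∈ S, s • c = c) → u • c ≠ c := by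
    intro c hc huc
    have hTc : T ≤ St M c := by
      intro t ht
      refine mem_St.2 ⟨hTM ht, ?_⟩
      by_cases hts : t ∈ S
      · exact hc t hts
      · have h3 : u⁻¹ * t ∈ S := by
          have := (Subgroup.mul_mem_iff_of_index_two hidx2' (a := ⟨u⁻¹, T.inv_mem huT⟩)
            (b := ⟨t, ht⟩)).2
            ⟨fun h => absurd (by simpa using S.inv_mem h) huS, fun h => absurd h hts⟩
          exact this
        have h4 := hc _ h3
        rw [mul_smul, inv_smul_eq_iff] at h4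
        rw [h4, huc]
    have hSc : S ≤ St M c := hST.trans hTc
    have h5 := Subgroup.relIndex_mul_relIndex S T (St M c) hST hTc
    apply not_dvd_relIndex_St M htr S a hSa hSi c hSc
    rw [← h5, hidx2]
    exact dvd_mul_right 2 _
  -- the action of the normalizer on the fixed points
  haveI : Fintype (fixSub Ω S) := Fintype.ofFinite _
  have h2' : IsMultiplyPretransitive (Subgroup.normalizer (S : Set G)) (fixSub Ω S) 2 := by
    rw [is_two_pretransitive_iff]
    intro c e c' e' hce hce'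
    obtain ⟨g, hg, h1, h3⟩ := witt h2 M htr S a hSa hS2 hSi c e c' e' c.2 e.2 c'.2 e'.2
      (fun h => hce (Subtype.ext h)) (fun h => hce' (Subtype.ext h))
    exact ⟨⟨g, hg⟩, Subtype.ext h1, Subtype.ext h3⟩
  have hmodd : Odd (T.relIndex (M ⊓ Subgroup.normalizer (S : Set G))) := by
    rw [← Nat.not_even_iff_odd, even_iff_two_dvd]
    intro hd
    have h1 := Subgroup.relIndex_mul_relIndex T (M ⊓ Subgroup.normalizer (S : Set G)) M
      (le_inf hTM hTN) inf_le_left
    exact hTi (h1 ▸ Dvd.dvd.mul_right hd _)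
  have hrel : (S.subgroupOf (Subgroup.normalizer (S : Set G))).relIndex
      (M.subgroupOf (Subgroup.normalizer (S : Set G))) =
      2 * T.relIndex (M ⊓ Subgroup.normalizer (S : Set G)) := by
    rw [← Subgroup.inf_subgroupOf_right M, Subgroup.relIndex_subgroupOf inf_le_right,
      ← Subgroup.relIndex_mul_relIndex S T _ hST (le_inf hTM hTN), hidx2]
  have ha : a ∈ fixSub Ω S := fun s hs => (mem_St.1 (hSa hs)).2
  have hcard := card_eq_two_of_sign h2' (M.subgroupOf (Subgroup.normalizer (S : Set G)))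
    (S.subgroupOf (Subgroup.normalizer (S : Set G)))
    (fun x hx => hSM hx)
    (fun s hs c => Subtype.ext (c.2 _ hs))
    _ hmodd hrel ⟨u, hTN huT⟩ (hTM huT)
    (fun c => Subtype.ext (by
      show u • u • (c : Ω) = c
      rw [← mul_smul]
      exact c.2 _ hu2))
    (fun c h => hufpf c c.2 (congrArg Subtype.val h)) ⟨a, ha⟩
  rw [← Nat.card_eq_fintype_card] at hcard
  obtain ⟨b, hb, huniq⟩ := (Nat.card_eq_two_iff' (⟨a, ha⟩ : fixSub Ω S)).1 hcard
  refine ⟨b.1, fun h => hb (Subtype.ext h), b.2, ?_⟩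
  intro y hy
  by_cases hya : y = a
  · exact Or.inl hya
  · right
    have := huniq ⟨y, hy⟩ (fun h => hya (congrArg Subtype.val h))
    exact congrArg Subtype.val this

end fixtwo

section key

open Cfsg.Agent.Lib.H10

variable {G Ω : Type*} [Group G] [MulAction G Ω]

/-- **Key lemma** (Aschbacher). In a `2`-transitive group of degree `n ≡ 2 (mod 4)`, every
transitive normal subgroup is `2`-transitive. -/
theorem two_transitive_of_normal [Finite G] [Finite Ω] (h2 : IsMultiplyPretransitive G Ω 2)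
    (M : Subgroup G) [hM : M.Normal] (htr : ∀ x y : Ω, ∃ m ∈ M, m • x = y)
    (hn : Nat.card Ω % 4 = 2) : IsMultiplyPretransitive M Ω 2 := by
  have hne : Nonempty Ω := by
    by_contra h
    rw [not_nonempty_iff] at h
    rw [Nat.card_of_isEmpty] at hn
    omega
  obtain ⟨a⟩ := hne
  haveI : Nonempty Ω := ⟨a⟩
  obtain ⟨S, -, hSa, hS2, hSi⟩ := exists_sylowIn (p := 2) (P := (⊥ : Subgroup G))
    (K := St M a) IsPGroup.of_bot bot_le
  obtain ⟨b, hba, hSb, hall⟩ := card_fix_eq_two h2 M htr hn S a hSa hS2 hSi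
  -- `M_a` is transitive on the points other than `a`
  have hMa : ∀ c : Ω, c ≠ a → ∃ h ∈ St M a, h • b = c := by
    intro c hca
    obtain ⟨g, hga, hgb⟩ := (is_two_pretransitive_iff.1 h2) (Ne.symm hba) (Ne.symm hca)
    have hStg : (St M a).map (MulAut.conj g).toMonoidHom = St M a := by
      rw [map_conj_St, hga]
    have hS₁ : S.map (MulAut.conj g).toMonoidHom ≤ St M a := by
      rw [← hStg]; exact map_conj_le_map_conj g hSa
    obtain ⟨h, hh, hle⟩ := exists_mem_map_conj_le_of_sylowIn hS2 hSa hSi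
      (isPGroup_map_conj g hS2) hS₁
    have heq : (S.map (MulAut.conj g).toMonoidHom).map (MulAut.conj h).toMonoidHom = S := by
      apply Subgroup.eq_of_le_of_card_ge hle
      rw [card_map_conj, card_map_conj]
    rw [map_conj_map_conj] at heq
    have hfix : ∀ s ∈ S, s • ((h * g) • b) = (h * g) • b := by
      intro s hs
      have h1 : s ∈ S.map (MulAut.conj (h * g)).toMonoidHom := by rw [heq]; exact hs
      rw [mem_map_conj] at h1
      exact smul_conj_fix (h * g) s b (hSb _ h1)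
    have hha : h • a = a := (mem_St.1 hh).2
    rcases hall _ hfix with h1 | h1
    · exfalso
      apply hca
      rw [mul_smul, hgb] at h1
      have : h • c = h • a := by rw [h1, hha]
      exact smul_left_cancel h this
    · refine ⟨h⁻¹, (St M a).inv_mem hh, ?_⟩
      rw [mul_smul, hgb] at h1
      rw [inv_smul_eq_iff, h1]
  rw [is_two_pretransitive_iff]
  intro x y x' y' hxy hxy'
  obtain ⟨m₁, hm₁, hm₁x⟩ := htr x a
  obtain ⟨m₂, hm₂, hm₂x⟩ := htr x' a
  have h1 : m₁ • y ≠ a := by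
    intro h
    apply hxy
    rw [← hm₁x] at h
    exact (smul_left_cancel m₁ h).symm
  have h1' : m₂ • y' ≠ a := by
    intro h
    apply hxy'
    rw [← hm₂x] at h
    exact (smul_left_cancel m₂ h).symm
  obtain ⟨k₁, hk₁, hk₁b⟩ := hMa _ h1
  obtain ⟨k₂, hk₂, hk₂b⟩ := hMa _ h1'
  have hk₁a : k₁ • a = a := (mem_St.1 hk₁).2
  have hk₂a : k₂ • a = a := (mem_St.1 hk₂).2
  refine ⟨⟨m₂⁻¹ * k₂ * k₁⁻¹ * m₁, M.mul_mem (M.mul_mem (M.mul_mem (M.inv_mem hm₂)
    (St_le M a hk₂)) (M.inv_mem (St_le M a hk₁))) hm₁⟩, ?_, ?_⟩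
  · show (m₂⁻¹ * k₂ * k₁⁻¹ * m₁) • x = x'
    rw [mul_smul, mul_smul, mul_smul, hm₁x, inv_smul_eq_iff.2 hk₁a.symm, hk₂a, inv_smul_eq_iff,
      hm₂x]
  · show (m₂⁻¹ * k₂ * k₁⁻¹ * m₁) • y = y'
    rw [mul_smul, mul_smul, mul_smul, ← hk₁b, inv_smul_smul, hk₂b, inv_smul_smul]

end key

end Cfsg.Agent.Lib.H17.TT4
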