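import Cfsg.Agent.Lib.H17.U6Tv

set_option autoImplicit false
set_option maxRecDepth 100000

/-! # The order of `SU(6, 2)` is at most 27590492160 (generated)

A chain of stabilisers of the vectors of the orthonormal basis. -/

namespace Cfsg.Agent.Lib.H17.U6Bound

open Matrix Cfsg.Agent.Lib.H17.CosetCert Cfsg.Agent.Lib.H17.Sgs Cfsg.Agent.Lib.H17.SgsCent Cfsg.Agent.Lib.H17.U6Vec Cfsg.Agent.Lib.H17.U6Tv

/-- the orthonormal basis -/
def e1 : V6 := Pi.single 0 1
/-- the orthonormal basis -/
def e2 : V6 := Pi.single 1 1
/-- the orthonormal basis -/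
def e3 : V6 := Pi.single 2 1
/-- the orthonormal basis -/
def e4 : V6 := Pi.single 3 1
/-- the orthonormal basis -/
def e5 : V6 := Pi.single 4 1
/-- the orthonormal basis -/
def e6 : V6 := Pi.single 5 1

theorem dec_e1 : dec ⟨1, by decide⟩ = e1 := by decide
theorem dec_e2 : dec ⟨4, by decide⟩ = e2 := by decide
theorem dec_e3 : dec ⟨16, by decide⟩ = e3 := by decide
theorem dec_e4 : dec ⟨64, by decide⟩ = e4 := by decide
theorem dec_e5 : dec ⟨256, by decide⟩ = e5 := by decide
theorem dec_e6 : dec ⟨1024, by decide⟩ = e6 := by decide

/-- the mask of level 1 -/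
def K1 : ℕ := 0x111e111e111eeee1111e111e111eeee1111e111e111eeee1eee1eee1eee1111e111e111e111eeee1111e111e111eeee1111e111e111eeee1eee1eee1eee1111e111e111e111eeee1111e111e111eeee1111e111e111eeee1eee1eee1eee1111eeee1eee1eee1111eeee1eee1eee1111eeee1eee1eee1111e111e111e111eeee1111e111e111eeee1111e111e111eeee1111e111e111eeee1eee1eee1eee1111e111e111e111eeee1111e111e111eeee1111e111e111eeee1eee1eee1eee1111e111e111e111eeee1111e111e111eeee1111e111e111eeee1eee1eee1eee1111eeee1eee1eee1111eeee1eee1eee1111eeee1eee1eee1111e111e111e111eeee1111e111e111eeee1111e111e111eeee1111e111e111eeee1eee1eee1eee1111e111e111e111eeee1111e111e111eeee1111e111e111eeee1eee1eee1eee1111e111e111e111eeee1111e111e111eeee1111e111e111eeee1eee1eee1eee1111eeee1eee1eee1111eeee1eee1eee1111eeee1eee1eee1111e111e111e111eeee1eee1eee1eee1111eeee1eee1eee1111eeee1eee1eee1111e111e111e111eeee1eee1eee1eee1111eeee1eee1eee1111eeee1eee1eee1111e111e111e111eeee1eee1eee1eee1111eeee1eee1eee1111eeee1eee1eee1111e111e111e111eeee1111e111e111eeee1111e111e111eeee1111e111e111eeee1eee1eee1eee1111e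

theorem cntK1 : countBits K1 4096 0 = 2016 := by decide +kernel

theorem in_K1 : ∀ w : V6, herm w w = 1 → tb K1 (enc w).val = true := by
  decide +kernel

/-- the mask of level 2 -/
def K2 : ℕ := 0x1110111011100001111011101110000111101110111000010001000100011110111011101110000111101110111000011110111011100001000100010001111011101110111000011110111011100001111011101110000100010001000111100001000100011110000100010001111000010001000111101110111011100001111011101110000111101110111000011110111011100001000100010001111011101110111000011110111011100001111011101110000100010001000111101110111011100001111011101110000111101110111000010001000100011110000100010001111000010001000111100001000100011110111011101110000111101110111000011110111011100001111011101110000100010001000111101110111011100001111011101110000111101110111000010001000100011110111011101110000111101110111000011110111011100001000100010001111000010001000111100001000100011110000100010001111011101110111000010001000100011110000100010001111000010001000111101110111011100001000100010001111000010001000111100001000100011110111011101110000100010001000111100001000100011110000100010001111011101110111000011110111011100001111011101110000111101110111000010001000100011110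

theorem cntK2 : countBits K2 4096 0 = 528 := by decide +kernel

theorem in_K2 : ∀ w : V6, herm w w = 1 → herm e1 w = 0 → tb K2 (enc w).val = true := by
  decide +kernel

/-- the mask of level 3 -/
def K3 : ℕ := 0x1000000000000000100000000000000010001000100010000000000000000000100000000000000010000000000000001000100010001000000000000000000010000000000000001000000000000000100010001000100000001000100010000000100010001000000010001000100000000000000000001000000000000000100000000000000010000000000000001000100010001000000000000000000010000000000000001000000000000000100010001000100000000000000000001000000000000000100000000000000010001000100010000000100010001000000010001000100000001000100010000000000000000000100000000000000010000000000000001000000000000000100010001000100000000000000000001000000000000000100000000000000010001000100010000000000000000000100000000000000010000000000000001000100010001000000010001000100000001000100010000000100010001000000000000000000010001000100010000000100010001000000010001000100000000000000000001000100010001000000010001000100000001000100010000000000000000000100010001000100000001000100010000000100010001000000000000000000010000000000000001000000000000000100000000000000010001000100010000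

theorem cntK3 : countBits K3 4096 0 = 120 := by decide +kernel

theorem in_K3 : ∀ w : V6, herm w w = 1 → herm e1 w = 0 → herm e2 w = 0 → tb K3 (enc w).val = true := by
  decide +kernel

/-- the mask of level 4 -/
def K4 : ℕ := 0x1000000000000000100000000000000010000000000000000000000000000000100000000000000010000000000000001000000000000000000000000000000010000000000000001000000000000000100000000000000000000000000000000000000000000000000000000000000000000000000000001000000000000000100000000000000010000000000000001000000000000000000000000000000010000000000000001000000000000000100000000000000000000000000000001000000000000000100000000000000010000000000000000000000000000000000000000000000000000000000000000000000000000000100000000000000010000000000000001000000000000000100000000000000000000000000000001000000000000000100000000000000010000000000000000000000000000000100000000000000010000000000000001000000000000000000000000000000000000000000000000000000000000000000000000000000010000000000000000000000000000000000000000000000000000000000000001000000000000000000000000000000000000000000000000000000000000000100000000000000000000000000000000000000000000000000000000000000010000000000000001000000000000000100000000000000010000000000000000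

theorem cntK4 : countBits K4 4096 0 = 36 := by decide +kernel

theorem in_K4 : ∀ w : V6, herm w w = 1 → herm e1 w = 0 → herm e2 w = 0 → herm e3 w = 0 → tb K4 (enc w).val = true := by
  decide +kernel

/-- the mask of level 5 -/
def K5 : ℕ := 0x1000000000000000000000000000000000000000000000000000000000000000000000000000000000000000000000000000000000000000000000000000000000000000000000000000000000000000000000000000000000000000000000000000000000000000000000000000000000000000000000000000000000000000100000000000000000000000000000000000000000000000000000000000000000000000000000000000000000000000000000000000000000000000000000000000000000000000000000000000000000000000000000000000000000000000000000000000000000000000000000000000000000000000000000000000000010000000000000000000000000000000000000000000000000000000000000001000000000000000000000000000000000000000000000000000000000000000100000000000000000000000000000000000000000000000000000000000000010000000000000000000000000000000000000000000000000000000000000000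

theorem cntK5 : countBits K5 4096 0 = 6 := by decide +kernel

theorem in_K5 : ∀ w : V6, herm w w = 1 → herm e1 w = 0 → herm e2 w = 0 → herm e3 w = 0 → herm e4 w = 0 → tb K5 (enc w).val = true := by
  decide +kernel

theorem fix_of_stab (M : SU6) (bs : List ℕ) (hM : M ∈ stabL ρ bs) (c : ℕ) (hc : c < 4096)
    (hcm : c ∈ bs) (v : V6) (hv : dec ⟨c, hc⟩ = v) : mat M *ᵥ v = v := by
  have h := hM c hcm hc
  rw [ρ_apply, hv] at h
  have h2 := congrArg dec h
  rw [dec_enc, hv] at h2
  exact h2

theorem finite_SU6 : Finite SU6 := inferInstance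

attribute [local instance] finite_SU6

theorem herm_e1_e1 : herm e1 e1 = 1 := by decide
theorem herm_e1_e2 : herm e1 e2 = 0 := by decide
theorem herm_e2_e2 : herm e2 e2 = 1 := by decide
theorem herm_e1_e3 : herm e1 e3 = 0 := by decide
theorem herm_e2_e3 : herm e2 e3 = 0 := by decide
theorem herm_e3_e3 : herm e3 e3 = 1 := by decide
theorem herm_e1_e4 : herm e1 e4 = 0 := by decide
theorem herm_e2_e4 : herm e2 e4 = 0 := by decide
theorem herm_e3_e4 : herm e3 e4 = 0 := by decide
theorem herm_e4_e4 : herm e4 e4 = 1 := by decide
theorem herm_e1_e5 : herm e1 e5 = 0 := by decide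
theorem herm_e2_e5 : herm e2 e5 = 0 := by decide
theorem herm_e3_e5 : herm e3 e5 = 0 := by decide
theorem herm_e4_e5 : herm e4 e5 = 0 := by decide
theorem herm_e5_e5 : herm e5 e5 = 1 := by decide
theorem herm_e1_e6 : herm e1 e6 = 0 := by decide
theorem herm_e2_e6 : herm e2 e6 = 0 := by decide
theorem herm_e3_e6 : herm e3 e6 = 0 := by decide
theorem herm_e4_e6 : herm e4 e6 = 0 := by decide
theorem herm_e5_e6 : herm e5 e6 = 0 := by decide
theorem herm_e6_e6 : herm e6 e6 = 1 := by decide

theorem bound1 : Nat.card ↥((⊤ : Subgroup SU6) ⊓ stabL ρ ([] : List ℕ)) ≤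
    2016 * Nat.card ↥((⊤ : Subgroup SU6) ⊓ stabL ρ ([1] : List ℕ)) := by
  have h := card_inf_le ρ (⊤ : Subgroup SU6) ([] : List ℕ) 1 (by decide)
    {j : Fin 4096 | tb K1 j = true} (by
    intro M hM
    have hM' := Subgroup.mem_inf.mp hM
    change tb K1 (ρ M ⟨1, by decide⟩ : Fin 4096) = true
    rw [ρ_apply, dec_e1]
    apply in_K1
    · rw [herm_su, herm_e1_e1]
    )
  rw [ncard_mask, cntK1] at h
  exact h

theorem bound2 : Nat.card ↥((⊤ : Subgroup SU6) ⊓ stabL ρ ([1] : List ℕ)) ≤
    528 * Nat.card ↥((⊤ : Subgroup SU6) ⊓ stabL ρ ([4, 1] : List ℕ)) := by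
  have h := card_inf_le ρ (⊤ : Subgroup SU6) ([1] : List ℕ) 4 (by decide)
    {j : Fin 4096 | tb K2 j = true} (by
    intro M hM
    have hM' := Subgroup.mem_inf.mp hM
    have hf1 : mat M *ᵥ e1 = e1 := fix_of_stab M _ hM'.2 1 (by decide) (by decide) e1 dec_e1
    change tb K2 (ρ M ⟨4, by decide⟩ : Fin 4096) = true
    rw [ρ_apply, dec_e2]
    apply in_K2
    · rw [herm_su, herm_e2_e2]
    · rw [← herm_e1_e2, ← herm_su M e1 e2, hf1]
    )
  rw [ncard_mask, cntK2] at h
  exact h

theorem bound3 : Nat.card ↥((⊤ : Subgroup SU6) ⊓ stabL ρ ([4, 1] : List ℕ)) ≤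
    120 * Nat.card ↥((⊤ : Subgroup SU6) ⊓ stabL ρ ([16, 4, 1] : List ℕ)) := by
  have h := card_inf_le ρ (⊤ : Subgroup SU6) ([4, 1] : List ℕ) 16 (by decide)
    {j : Fin 4096 | tb K3 j = true} (by
    intro M hM
    have hM' := Subgroup.mem_inf.mp hM
    have hf1 : mat M *ᵥ e1 = e1 := fix_of_stab M _ hM'.2 1 (by decide) (by decide) e1 dec_e1
    have hf2 : mat M *ᵥ e2 = e2 := fix_of_stab M _ hM'.2 4 (by decide) (by decide) e2 dec_e2
    change tb K3 (ρ M ⟨16, by decide⟩ : Fin 4096) = true
    rw [ρ_apply, dec_e3]
    apply in_K3
    · rw [herm_su, herm_e3_e3]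
    · rw [← herm_e1_e3, ← herm_su M e1 e3, hf1]
    · rw [← herm_e2_e3, ← herm_su M e2 e3, hf2]
    )
  rw [ncard_mask, cntK3] at h
  exact h

theorem bound4 : Nat.card ↥((⊤ : Subgroup SU6) ⊓ stabL ρ ([16, 4, 1] : List ℕ)) ≤
    36 * Nat.card ↥((⊤ : Subgroup SU6) ⊓ stabL ρ ([64, 16, 4, 1] : List ℕ)) := by
  have h := card_inf_le ρ (⊤ : Subgroup SU6) ([16, 4, 1] : List ℕ) 64 (by decide)
    {j : Fin 4096 | tb K4 j = true} (by
    intro M hM
    have hM' := Subgroup.mem_inf.mp hM
    have hf1 : mat M *ᵥ e1 = e1 := fix_of_stab M _ hM'.2 1 (by decide) (by decide) e1 dec_e1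
    have hf2 : mat M *ᵥ e2 = e2 := fix_of_stab M _ hM'.2 4 (by decide) (by decide) e2 dec_e2
    have hf3 : mat M *ᵥ e3 = e3 := fix_of_stab M _ hM'.2 16 (by decide) (by decide) e3 dec_e3
    change tb K4 (ρ M ⟨64, by decide⟩ : Fin 4096) = true
    rw [ρ_apply, dec_e4]
    apply in_K4
    · rw [herm_su, herm_e4_e4]
    · rw [← herm_e1_e4, ← herm_su M e1 e4, hf1]
    · rw [← herm_e2_e4, ← herm_su M e2 e4, hf2]
    · rw [← herm_e3_e4, ← herm_su M e3 e4, hf3]
    )
  rw [ncard_mask, cntK4] at h
  exact h

theorem bound5 : Nat.card ↥((⊤ : Subgroup SU6) ⊓ stabL ρ ([64, 16, 4, 1] : List ℕ)) ≤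
    6 * Nat.card ↥((⊤ : Subgroup SU6) ⊓ stabL ρ ([256, 64, 16, 4, 1] : List ℕ)) := by
  have h := card_inf_le ρ (⊤ : Subgroup SU6) ([64, 16, 4, 1] : List ℕ) 256 (by decide)
    {j : Fin 4096 | tb K5 j = true} (by
    intro M hM
    have hM' := Subgroup.mem_inf.mp hM
    have hf1 : mat M *ᵥ e1 = e1 := fix_of_stab M _ hM'.2 1 (by decide) (by decide) e1 dec_e1
    have hf2 : mat M *ᵥ e2 = e2 := fix_of_stab M _ hM'.2 4 (by decide) (by decide) e2 dec_e2
    have hf3 : mat M *ᵥ e3 = e3 := fix_of_stab M _ hM'.2 16 (by decide) (by decide) e3 dec_e3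
    have hf4 : mat M *ᵥ e4 = e4 := fix_of_stab M _ hM'.2 64 (by decide) (by decide) e4 dec_e4
    change tb K5 (ρ M ⟨256, by decide⟩ : Fin 4096) = true
    rw [ρ_apply, dec_e5]
    apply in_K5
    · rw [herm_su, herm_e5_e5]
    · rw [← herm_e1_e5, ← herm_su M e1 e5, hf1]
    · rw [← herm_e2_e5, ← herm_su M e2 e5, hf2]
    · rw [← herm_e3_e5, ← herm_su M e3 e5, hf3]
    · rw [← herm_e4_e5, ← herm_su M e4 e5, hf4]
    )
  rw [ncard_mask, cntK5] at h
  exact h

theorem vec_eq : ∀ v : V6, v = v 0 • e1 + v 1 • e2 + v 2 • e3 + v 3 • e4 + v 4 • e5 + v 5 • e6 := by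
  decide +kernel

theorem last_vec : ∀ w : V6, herm e1 w = 0 → herm e2 w = 0 → herm e3 w = 0 → herm e4 w = 0 →
    herm e5 w = 0 → w = w 5 • e6 := by
  decide +kernel

theorem diag_eq (a : F4) : (Matrix.diagonal ![1, 1, 1, 1, 1, a] : Matrix (Fin 6) (Fin 6) F4) *ᵥ e6 =
    a • e6 := by
  rw [e6, diagonal_mulVec_single]
  ext i
  fin_cases i <;> simp [Pi.single_apply]

theorem last_trivial : (⊤ : Subgroup SU6) ⊓ stabL ρ ([256, 64, 16, 4, 1] : List ℕ) = ⊥ := by
  rw [eq_bot_iff]
  intro M hM
  have hM' := Subgroup.mem_inf.mp hM
  have hf1 : mat M *ᵥ e1 = e1 := fix_of_stab M _ hM'.2 1 (by decide) (by decide) e1 dec_e1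
  have hf2 : mat M *ᵥ e2 = e2 := fix_of_stab M _ hM'.2 4 (by decide) (by decide) e2 dec_e2
  have hf3 : mat M *ᵥ e3 = e3 := fix_of_stab M _ hM'.2 16 (by decide) (by decide) e3 dec_e3
  have hf4 : mat M *ᵥ e4 = e4 := fix_of_stab M _ hM'.2 64 (by decide) (by decide) e4 dec_e4
  have hf5 : mat M *ᵥ e5 = e5 := fix_of_stab M _ hM'.2 256 (by decide) (by decide) e5 dec_e5
  have h6 : mat M *ᵥ e6 = (mat M *ᵥ e6) 5 • e6 := by
    apply last_vec
    · rw [← herm_e1_e6, ← herm_su M e1 e6, hf1]
    · rw [← herm_e2_e6, ← herm_su M e2 e6, hf2]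
    · rw [← herm_e3_e6, ← herm_su M e3 e6, hf3]
    · rw [← herm_e4_e6, ← herm_su M e4 e6, hf4]
    · rw [← herm_e5_e6, ← herm_su M e5 e6, hf5]
  -- the matrix is diagonal
  have hdiag : mat M = Matrix.diagonal ![1, 1, 1, 1, 1, (mat M *ᵥ e6) 5] := by
    ext i j
    have hcol : ∀ (A : Matrix (Fin 6) (Fin 6) F4) (i j : Fin 6), A i j = (A *ᵥ Pi.single j 1) i := by
      intro A i j
      rw [mulVec_single_one]
      rfl
    rw [hcol (mat M), hcol (Matrix.diagonal _)]
    fin_cases j
    · change (mat M *ᵥ e1) i = _
      rw [hf1, e1, diagonal_mulVec_single]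
      fin_cases i <;> simp [Pi.single_apply]
    · change (mat M *ᵥ e2) i = _
      rw [hf2, e2, diagonal_mulVec_single]
      fin_cases i <;> simp [Pi.single_apply]
    · change (mat M *ᵥ e3) i = _
      rw [hf3, e3, diagonal_mulVec_single]
      fin_cases i <;> simp [Pi.single_apply]
    · change (mat M *ᵥ e4) i = _
      rw [hf4, e4, diagonal_mulVec_single]
      fin_cases i <;> simp [Pi.single_apply]
    · change (mat M *ᵥ e5) i = _
      rw [hf5, e5, diagonal_mulVec_single]
      fin_cases i <;> simp [Pi.single_apply]
    · change (mat M *ᵥ e6) i = ((Matrix.diagonal ![1, 1, 1, 1, 1, (mat M *ᵥ e6) 5] :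
        Matrix (Fin 6) (Fin 6) F4) *ᵥ e6) i
      rw [diag_eq]
      exact congrFun h6 i
  have hdet : (mat M).det = 1 := M.1.2
  rw [hdiag, det_diagonal, Fin.prod_univ_six] at hdet
  simp only [Matrix.cons_val_zero, Matrix.cons_val_one, Matrix.cons_val, one_mul] at hdet
  rw [hdet, one_smul] at h6
  rw [Subgroup.mem_bot]
  apply ρ_injective
  ext x
  rw [ρ_apply, map_one, Equiv.Perm.one_apply]
  have hv : mat M *ᵥ dec x = dec x := by
    conv_lhs => rw [vec_eq (dec x)]
    rw [mulVec_add, mulVec_add, mulVec_add, mulVec_add, mulVec_add, mulVec_smul, mulVec_smul,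
      mulVec_smul, mulVec_smul, mulVec_smul, mulVec_smul, hf1, hf2, hf3, hf4, hf5, h6]
    exact (vec_eq (dec x)).symm
  rw [hv, enc_dec]

theorem card_SU6 : Nat.card SU6 ≤ 27590492160 := by
  have h0 : Nat.card SU6 = Nat.card ↥((⊤ : Subgroup SU6) ⊓ stabL ρ ([] : List ℕ)) := by
    rw [stabL_nil, inf_top_eq]
    exact (Nat.card_congr Subgroup.topEquiv.toEquiv).symm
  have h6 : Nat.card ↥((⊤ : Subgroup SU6) ⊓ stabL ρ ([256, 64, 16, 4, 1] : List ℕ)) = 1 := by
    rw [last_trivial]
    exact Subgroup.card_bot
  have b1 := bound1
  have b2 := bound2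
  have b3 := bound3
  have b4 := bound4
  have b5 := bound5
  omega

end Cfsg.Agent.Lib.H17.U6Bound
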