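import Cfsg.Agent.Lib.H17.U6Main

set_option autoImplicit false
set_option maxRecDepth 100000

/-! # The centraliser of a transposition of `Fi22` is perfect, so it does not split over its centre -/

namespace Cfsg.Agent.Lib.H17.U6Cover

open Cfsg.Spor Cfsg.Agent.Lib.H17.CosetCert Cfsg.Agent.Lib.H17.Sgs Cfsg.Agent.Lib.H17.Fi22Glue
  Cfsg.Agent.Lib.H17.Fi22U62 Cfsg.Agent.Lib.H17.Fi22Word Cfsg.Agent.Lib.H17.U6Main
  Cfsg.Agent.Lib.H17.Iwa

attribute [local instance] Cfsg.Agent.Lib.H17.Fi22Word.finite_G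

/-- the words of the eight generators, indexed by `Fin 8` -/
def gwF (k : Fin 8) : List ℕ := gw k.val

theorem hg_val (k : Fin 8) : ((hg k : H) : G) = e (gwF k) := rfl

theorem prod_hg (L : List (Fin 8)) :
    (((L.map hg).prod : H) : G) = e (List.flatMap gwF L) := by
  induction L with
  | nil => rfl
  | cons k L ih =>
    rw [List.map_cons, List.prod_cons, Subgroup.coe_mul, ih, hg_val, List.flatMap_cons, e_append]

theorem sq_check : ∀ k : Fin 8, ∀ c ∈ sbase, applyT 12 4096 (tw (gwF k ++ gwF k)) c = c := by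
  decide +kernel

theorem hg_mul_self (k : Fin 8) : hg k * hg k = 1 := by
  apply Subtype.ext
  rw [Subgroup.coe_mul, hg_val, ← e_append]
  exact e_eq_one _ (sq_check k)

/-- the edges of the graph on the eight generators -/
def edges8 : List (Fin 8 × Fin 8) :=
  [(0, 1), (1, 2), (2, 3), (3, 4), (1, 5), (5, 6), (3, 7), (6, 7)]

theorem braid_check : ∀ p ∈ edges8, ∀ c ∈ sbase,
    applyT 12 4096
      (tw ((gwF p.1 ++ gwF p.2) ++ ((gwF p.1 ++ gwF p.2) ++ (gwF p.1 ++ gwF p.2)))) c = c := by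
  decide +kernel

theorem braid8 (x y : Fin 8) (h : (x, y) ∈ edges8) : ∃ g : H, g * hg x * g⁻¹ = hg y := by
  apply isConj_of_braid (hg_mul_self x) (hg_mul_self y)
  apply Subtype.ext
  rw [pow_succ, pow_succ, pow_one, Subgroup.coe_mul, Subgroup.coe_mul, Subgroup.coe_mul, hg_val,
    hg_val, ← e_append, ← e_append, ← e_append]
  have := e_eq_one _ (braid_check (x, y) h)
  rw [Subgroup.coe_one, ← this]
  congr 1
  simp only [List.append_assoc]

theorem conj_trans8 {a b c : H} (h1 : ∃ g : H, g * a * g⁻¹ = b) (h2 : ∃ g : H, g * b * g⁻¹ = c) :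
    ∃ g : H, g * a * g⁻¹ = c := by
  obtain ⟨g, rfl⟩ := h1
  obtain ⟨h, rfl⟩ := h2
  exact ⟨h * g, by group⟩

theorem ch0 : ∃ g : H, g * hg 0 * g⁻¹ = hg 0 := ⟨1, by group⟩
theorem ch1 : ∃ g : H, g * hg 0 * g⁻¹ = hg 1 := braid8 0 1 (by decide)
theorem ch2 : ∃ g : H, g * hg 0 * g⁻¹ = hg 2 := conj_trans8 ch1 (braid8 1 2 (by decide))
theorem ch3 : ∃ g : H, g * hg 0 * g⁻¹ = hg 3 := conj_trans8 ch2 (braid8 2 3 (by decide))
theorem ch4 : ∃ g : H, g * hg 0 * g⁻¹ = hg 4 := conj_trans8 ch3 (braid8 3 4 (by decide))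
theorem ch5 : ∃ g : H, g * hg 0 * g⁻¹ = hg 5 := conj_trans8 ch1 (braid8 1 5 (by decide))
theorem ch6 : ∃ g : H, g * hg 0 * g⁻¹ = hg 6 := conj_trans8 ch5 (braid8 5 6 (by decide))
theorem ch7 : ∃ g : H, g * hg 0 * g⁻¹ = hg 7 := conj_trans8 ch3 (braid8 3 7 (by decide))

theorem conj_all : ∀ s ∈ Set.range hg, ∃ g : H, g * hg 0 * g⁻¹ = s := by
  rintro _ ⟨k, rfl⟩
  fin_cases k
  · exact ch0
  · exact ch1
  · exact ch2
  · exact ch3
  · exact ch4
  · exact ch5
  · exact ch6
  · exact ch7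

/-- the transposition `a` as a word in the eight generators -/
def aw8 : List (Fin 8) :=
  [0, 1, 2, 3, 4, 6, 7, 0, 1, 2, 3, 4, 6, 7, 0, 1, 2, 3, 4, 6, 7, 0, 1, 2, 3, 4, 6, 7,
    0, 1, 2, 3, 4, 6, 7, 0, 1, 2, 3, 4, 6, 7, 0, 1, 2, 3, 4, 6, 7, 0, 1, 2, 3, 4, 6, 7,
    0, 1, 2, 3, 4, 6, 7]

theorem a_check : ∀ c ∈ sbase,
    applyT 12 4096 (tw ([0] ++ (List.flatMap gwF aw8).reverse)) c = c := by
  decide +kernel

theorem a_eq : e [0] = e (List.flatMap gwF aw8) := e_eq_e _ _ a_check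

theorem closure_hg : Subgroup.closure (Set.range hg) = ⊤ := by
  rw [eq_top_iff]
  intro h _
  -- the image in the ambient group
  have hle : Subgroup.closure S' ≤ (Subgroup.closure (Set.range hg)).map H.subtype := by
    rw [Subgroup.closure_le]
    intro s hs
    obtain ⟨v, hv, rfl⟩ := S'_eq_words s hs
    have hprod : ∀ L : List (Fin 8), e (List.flatMap gwF L) ∈
        (Subgroup.closure (Set.range hg)).map H.subtype := by
      intro L
      refine ⟨(L.map hg).prod, ?_, prod_hg L⟩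
      apply Subgroup.list_prod_mem
      intro x hx
      obtain ⟨k, -, rfl⟩ := List.mem_map.mp hx
      exact Subgroup.subset_closure ⟨k, rfl⟩
    have hsingle : ∀ k : Fin 8, e (gwF k) ∈ (Subgroup.closure (Set.range hg)).map H.subtype := by
      intro k
      have := hprod [k]
      simpa using this
    simp only [sgW, List.mem_cons, List.not_mem_nil, or_false] at hv
    rcases hv with rfl | rfl | rfl | rfl | rfl | rfl | rfl | rfl | rfl
    · rw [SetLike.mem_coe, a_eq]
      exact hprod aw8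
    · exact hsingle 0
    · exact hsingle 1
    · exact hsingle 2
    · exact hsingle 3
    · exact hsingle 4
    · exact hsingle 5
    · exact hsingle 6
    · exact hsingle 7
  have hh : (h : G) ∈ Subgroup.closure S' := by
    rw [← H_eq]
    exact h.2
  obtain ⟨k, hk, hkh⟩ := hle hh
  have : k = h := Subtype.ext hkh
  rw [← this]
  exact hk

/-- a relator of odd length -/
def odd8 : List (Fin 8) :=
  [0, 1, 2, 3, 4, 5, 6, 0, 1, 2, 3, 4, 5, 6, 0, 1, 2, 3, 4, 5, 6, 0, 1, 2, 3, 4, 5, 6,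
    0, 1, 2, 3, 4, 5, 6, 0, 1, 2, 3, 4, 5, 6, 0, 1, 2, 3, 4, 5, 6, 0, 1, 2, 3, 4, 5, 6,
    0, 1, 2, 3, 4, 5, 6]

theorem odd_check : ∀ c ∈ sbase, applyT 12 4096 (tw (List.flatMap gwF odd8)) c = c := by
  decide +kernel

theorem perfect_H : commutator H = ⊤ := by
  apply commutator_eq_top_of_odd_relation _ closure_hg (hg 0) conj_all (hg_mul_self 0)
    (odd8.map hg)
  · intro s hs
    obtain ⟨k, -, rfl⟩ := List.mem_map.mp hs
    exact ⟨k, rfl⟩
  · rw [List.length_map]
    decide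
  · apply Subtype.ext
    rw [prod_hg, e_eq_one _ odd_check]
    rfl

theorem nonsplit : ∀ L : Subgroup H, ¬ (Subgroup.center H).IsComplement' L := by
  intro L hL
  have hcard := hL.card_mul_card
  rw [card_center_H, card_H] at hcard
  have hL' : Nat.card L = 9196830720 := by omega
  have hidx : L.index = 2 := by
    have := Subgroup.card_mul_index L
    rw [card_H, hL'] at this
    omega
  have hn : L.Normal := Subgroup.normal_of_index_eq_two hidx
  have hq : Nat.card (H ⧸ L) = 2 := hidx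
  have : Fact (Nat.Prime 2) := ⟨Nat.prime_two⟩
  have hcyc : IsCyclic (H ⧸ L) := isCyclic_of_prime_card hq
  let _ : CommGroup (H ⧸ L) := IsCyclic.commGroup
  have hle : commutator H ≤ L := by
    have := Abelianization.commutator_subset_ker (QuotientGroup.mk' L)
    rwa [QuotientGroup.ker_mk'] at this
  rw [perfect_H, top_le_iff] at hle
  rw [hle, Subgroup.index_top] at hidx
  omega

/-- **The centraliser is a non-split double cover of `PSU(6, 2)`.** -/
theorem cover : Cfsg.IsNonsplitDoubleCover H (Cfsg.PSU 6 F4 2) :=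
  ⟨card_center_H, quot_iso, nonsplit⟩

end Cfsg.Agent.Lib.H17.U6Cover
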