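import Cfsg.Agent.Lib.H17.U6Chain
import Cfsg.Agent.Lib.H17.RestrictPerm
import Cfsg.Agent.Lib.H17.Fi22Ord.Word
import Cfsg.Agent.Lib.H17.Fi22U62.Orbits
import Cfsg.Agent.Lib.H17.Iwa
import Cfsg.Prelude.Def_SporadicB

set_option autoImplicit false
set_option maxRecDepth 100000

/-! # The centraliser of a transposition of the Fischer group `Fi22` is a non-split double cover of
`PSU(6, 2)`

The centraliser `H` of the transposition `a` acts on the 693 transpositions commuting with `a`;
the special unitary group acts on the 693 isotropic lines; with a suitable numbering the eight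
generators `c, …, i, (abcdeh)^5` of `H` and eight unitary transvections act by the same
permutations.  Both images are the group `P0` of order 9196830720, which has trivial centre, so
the kernels are the centres. -/

namespace Cfsg.Agent.Lib.H17.U6Main

open Matrix Cfsg.Spor Cfsg.Agent.Lib.H17.CosetCert Cfsg.Agent.Lib.H17.Sgs Cfsg.Agent.Lib.H17.Fi22Glue
  Cfsg.Agent.Lib.H17.Fi22U62 Cfsg.Agent.Lib.H17.Fi22Word Cfsg.Agent.Lib.H17.U6Vec
  Cfsg.Agent.Lib.H17.U6Tv Cfsg.Agent.Lib.H17.U6Lines Cfsg.Agent.Lib.H17.U6Chain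
  Cfsg.Agent.Lib.H17.RestrictPerm

attribute [local instance] Cfsg.Agent.Lib.H17.Fi22Word.finite_G

/-! ## The action of the centraliser on the 693 points -/

theorem DM_eq : DM = omask0 := by decide +kernel

theorem orbit7 : {i : Fin 3510 | ∃ h ∈ Subgroup.closure S', φ h ⟨7, by decide⟩ = i} =
    {i : Fin 3510 | tb omask0 i = true} :=
  orbit_eq_mask 12 4096 3510 φ S' omask0 hr ⟨7, by decide⟩ sgT good_sgT S'_words words_S'
    obase0 oclosed0 oconn0

/-- the action of the centraliser on the 3510 points -/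
noncomputable def ψ : H →* Equiv.Perm (Fin 3510) := φ.comp H.subtype

theorem ψ_apply (h : H) : ψ h = φ (h : G) := rfl

theorem H_inv (h : H) (i : Fin 3510) (hi : tb DM i = true) : tb DM (ψ h i) = true := by
  rw [DM_eq] at hi ⊢
  have hi' : i ∈ {i : Fin 3510 | tb omask0 i = true} := hi
  rw [← orbit7] at hi'
  obtain ⟨h', hh', rfl⟩ := hi'
  have hmem : ψ h (φ h' ⟨7, by decide⟩) ∈ {i : Fin 3510 | tb omask0 i = true} := by
    rw [← orbit7]
    refine ⟨(h : G) * h', mul_mem ?_ hh', ?_⟩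
    · rw [← H_eq]
      exact h.2
    · rw [map_mul, Equiv.Perm.mul_apply]
      rfl
  exact hmem

/-- the action of the centraliser on the 693 points -/
noncomputable def αH : H →* Equiv.Perm (Fin 3510) := restr ψ DM H_inv

theorem card_H : Nat.card H = 18393661440 := by
  have h := Subgroup.index_mul_card H
  rw [index_eq, Cfsg.Agent.Lib.H17.Fi22Ord.card_eq] at h
  omega

/-- the words of the eight generators -/
def gw : ℕ → List ℕ
  | 0 => [2]
  | 1 => [3]
  | 2 => [4]
  | 3 => [5]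
  | 4 => [6]
  | 5 => [7]
  | 6 => [8]
  | _ => [0, 1, 2, 3, 4, 7, 0, 1, 2, 3, 4, 7, 0, 1, 2, 3, 4, 7, 0, 1, 2, 3, 4, 7, 0, 1, 2, 3, 4, 7]

theorem gw_sgW : ∀ k < 8, gw k ∈ sgW := by decide

theorem e_mem_H (v : List ℕ) (hv : v ∈ sgW) : e v ∈ H := sgW_mem v hv

/-- the eight generators -/
noncomputable def hg (k : Fin 8) : H := ⟨e (gw k), e_mem_H _ (gw_sgW k k.2)⟩

/-- the tables of the eight generators on the 693 points -/
def rtOf : ℕ → ℕ
  | 0 => RT0
  | 1 => RT1
  | 2 => RT2
  | 3 => RT3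
  | 4 => RT4
  | 5 => RT5
  | 6 => RT6
  | _ => RT7

theorem rtOf_mem : ∀ k < 8, rtOf k ∈ rtabs := by decide

theorem rt_check : ∀ k < 8, ∀ i : Fin 3510,
    (if tb DM i = true then applyT 12 4096 (tw (gw k)).reverse i else (i : ℕ)) =
      lk 12 4096 (rtOf k) i := by
  decide +kernel

theorem αH_hg (k : Fin 8) : αH (hg k) = σ 12 4096 3510 (rtOf k) := by
  ext i
  rw [σ_apply 12 4096 3510 _ (good_rtabs _ (rtOf_mem k k.2)), ← rt_check k k.2 i]
  by_cases h : tb DM i = true
  · rw [if_pos h, αH, restr_apply_of_mem _ _ _ _ _ h]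
    change ((φ (e (gw k)) i : Fin 3510) : ℕ) = _
    rw [φ_e, prod_apply 12 4096 3510 _ (fun t ht => good_tabs t (tw_mem _ t ht))]
  · rw [if_neg h, αH, restr_apply_of_not_mem _ _ _ _ _ h]

theorem P0_le_αH : P0 ≤ αH.range := by
  rw [P0, Subgroup.closure_le]
  rintro _ ⟨t, ht, rfl⟩
  simp only [rtabs, List.mem_cons, List.not_mem_nil, or_false] at ht
  rcases ht with rfl | rfl | rfl | rfl | rfl | rfl | rfl | rfl
  · exact ⟨hg 0, αH_hg 0⟩
  · exact ⟨hg 1, αH_hg 1⟩
  · exact ⟨hg 2, αH_hg 2⟩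
  · exact ⟨hg 3, αH_hg 3⟩
  · exact ⟨hg 4, αH_hg 4⟩
  · exact ⟨hg 5, αH_hg 5⟩
  · exact ⟨hg 6, αH_hg 6⟩
  · exact ⟨hg 7, αH_hg 7⟩

theorem P0_le_αS : P0 ≤ αS.range := by
  rw [P0, Subgroup.closure_le]
  rintro _ ⟨t, ht, rfl⟩
  obtain ⟨M, hM⟩ := rtabs_αS t ht
  exact ⟨M, hM⟩

/-! ## The transposition `a` -/

/-- the transposition `a` -/
noncomputable def ha : H := ⟨e [0], e_mem_H _ (by decide)⟩

theorem a_fix : ∀ i : Fin 3510, tb DM i = true → lk 12 4096 (tabOf (gen 0)) i = i := by
  decide +kernel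

theorem φ_a (i : Fin 3510) : ((φ (e [0]) i : Fin 3510) : ℕ) = lk 12 4096 (tabOf (gen 0)) i := by
  rw [e_singleton, φ_of]
  exact σ_apply 12 4096 3510 _ (good_tabs _ (tabOf_mem _)) i

theorem αH_ha : αH ha = 1 := by
  ext i
  rw [Equiv.Perm.one_apply]
  by_cases h : tb DM i = true
  · rw [αH, restr_apply_of_mem _ _ _ _ _ h]
    change ((φ (e [0]) i : Fin 3510) : ℕ) = _
    rw [φ_a, a_fix i h]
  · rw [αH, restr_apply_of_not_mem _ _ _ _ _ h]

theorem a_moves : lk 12 4096 (tabOf (gen 0)) 1 ≠ 1 := by decide +kernel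

theorem ha_ne : ha ≠ 1 := by
  intro h
  have h1 : e [0] = 1 := congrArg (fun x : H => (x : G)) h
  have h2 := φ_a ⟨1, by decide⟩
  rw [h1, map_one] at h2
  exact a_moves h2.symm

/-! ## The orders -/

theorem finite_H : Finite H := inferInstance

theorem card_range_mul_ker {K : Type*} [Group K] (f : K →* Equiv.Perm (Fin 3510)) :
    Nat.card f.range * Nat.card f.ker = Nat.card K := by
  rw [← Subgroup.index_ker, mul_comm]
  exact Subgroup.card_mul_index f.ker

theorem ker_αH_two_le : 2 ≤ Nat.card αH.ker := by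
  have h : αH.ker ≠ ⊥ := by
    intro hb
    have : ha ∈ αH.ker := αH_ha
    rw [hb, Subgroup.mem_bot] at this
    exact ha_ne this
  exact (Subgroup.one_lt_card_iff_ne_bot _).mpr h

theorem card_P0_le_range {K : Type*} [Group K] [Finite K] (f : K →* Equiv.Perm (Fin 3510))
    (h : P0 ≤ f.range) : 9196830720 ≤ Nat.card f.range :=
  le_trans card_P0_ge (Subgroup.card_le_of_le h)

theorem αH_facts : αH.range = P0 ∧ Nat.card αH.ker = 2 := by
  have h1 := card_range_mul_ker αH
  rw [card_H] at h1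
  have h2 := ker_αH_two_le
  have h3 := card_P0_le_range αH P0_le_αH
  have h4 : Nat.card αH.range = 9196830720 ∧ Nat.card αH.ker = 2 := by
    constructor <;> nlinarith
  refine ⟨(Subgroup.eq_of_le_of_card_ge P0_le_αH ?_).symm, h4.2⟩
  rw [h4.1]
  exact card_P0_ge

theorem range_αH : αH.range = P0 := αH_facts.1

theorem card_ker_αH : Nat.card αH.ker = 2 := αH_facts.2

/-! ## The scalars -/

theorem w_ne : (F4.w : F4) ≠ 0 := by decide

/-- the scalar of order 3 -/
noncomputable def sw : SU6 := sc .w w_ne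

theorem sw_mulVec (x : V6) : mat sw *ᵥ x = (F4.w : F4) • x := sc_mulVec _ _ x

theorem eq_of_mulVec (M N : SU6) (h : ∀ x : V6, mat M *ᵥ x = mat N *ᵥ x) : M = N := by
  apply ρ_injective
  ext y
  rw [ρ_apply, ρ_apply, h]

theorem sw_pow : sw ^ 3 = 1 := by
  apply eq_of_mulVec
  intro x
  rw [pow_succ, pow_succ, pow_one, mat_mul, mat_mul, mat_one, ← Matrix.mulVec_mulVec,
    ← Matrix.mulVec_mulVec, sw_mulVec, sw_mulVec, sw_mulVec, Matrix.one_mulVec, smul_smul, smul_smul]
  have : (F4.w * F4.w * F4.w : F4) = 1 := by decide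
  rw [this, one_smul]

theorem sw_ne : sw ≠ 1 := by
  intro h
  have h1 := sw_mulVec (Pi.single 0 1)
  rw [h, mat_one, Matrix.one_mulVec] at h1
  have h2 := congrFun h1 0
  revert h2
  simp only [Pi.smul_apply, Pi.single_eq_same, smul_eq_mul, mul_one]
  decide

theorem sw_central (M : SU6) : sw * M = M * sw := by
  apply eq_of_mulVec
  intro x
  rw [mat_mul, mat_mul, ← Matrix.mulVec_mulVec, ← Matrix.mulVec_mulVec, sw_mulVec, sw_mulVec,
    Matrix.mulVec_smul]

theorem sw_ker : sw ∈ αS.ker := αS_sc _ _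

theorem finite_SU6 : Finite SU6 := inferInstance

attribute [local instance] finite_SU6

theorem ker_αS_three_le : 3 ≤ Nat.card αS.ker := by
  have ho : orderOf (⟨sw, sw_ker⟩ : αS.ker) = 3 := by
    have : Fact (Nat.Prime 3) := ⟨by norm_num⟩
    apply orderOf_eq_prime
    · apply Subtype.ext
      rw [SubgroupClass.coe_pow]
      exact sw_pow
    · intro h
      exact sw_ne (congrArg (fun x : αS.ker => (x : SU6)) h)
  have h2 : orderOf (⟨sw, sw_ker⟩ : αS.ker) ≤ Nat.card αS.ker := by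
    apply Nat.le_of_dvd Nat.card_pos
    exact orderOf_dvd_natCard _
  rw [ho] at h2
  exact h2

theorem αS_facts : αS.range = P0 ∧ Nat.card αS.ker = 3 := by
  have h1 := card_range_mul_ker αS
  have h0 := Cfsg.Agent.Lib.H17.U6Bound.card_SU6
  have h2 := ker_αS_three_le
  have h3 := card_P0_le_range αS P0_le_αS
  have h4 : Nat.card αS.range = 9196830720 ∧ Nat.card αS.ker = 3 := by
    constructor <;> nlinarith
  refine ⟨(Subgroup.eq_of_le_of_card_ge P0_le_αS ?_).symm, h4.2⟩
  rw [h4.1]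
  exact card_P0_ge

theorem range_αS : αS.range = P0 := αS_facts.1

theorem card_ker_αS : Nat.card αS.ker = 3 := αS_facts.2

/-! ## The centres -/

/-- a homomorphism onto `P0` kills the centre -/
theorem center_le_ker {K : Type*} [Group K] (f : K →* Equiv.Perm (Fin 3510)) (hf : f.range = P0) :
    Subgroup.center K ≤ f.ker := by
  intro z hz
  rw [MonoidHom.mem_ker]
  apply center_trivial (f z)
  · rw [← hf]
    exact ⟨z, rfl⟩
  · intro q hq
    rw [← hf] at hq
    obtain ⟨k, rfl⟩ := hq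
    rw [← map_mul, ← map_mul, Subgroup.mem_center_iff.mp hz k]

theorem ker_αH_eq : αH.ker = Subgroup.zpowers ha := by
  symm
  apply Subgroup.eq_of_le_of_card_ge
  · rw [Subgroup.zpowers_le]
    exact αH_ha
  · rw [card_ker_αH, Nat.card_zpowers]
    have h2 : orderOf ha ≠ 1 := by
      rw [Ne, orderOf_eq_one_iff]
      exact ha_ne
    have h3 : 0 < orderOf ha := orderOf_pos ha
    omega

/-- the letters of the generators of the centraliser commute with `a` -/
theorem comm_check : ∀ v ∈ sgW, ∀ c ∈ sbase, applyT 12 4096 (tw (([0] ++ v) ++ (v ++ [0]).reverse)) c = c := by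
  decide +kernel

theorem a_comm (v : List ℕ) (hv : v ∈ sgW) : e [0] * e v = e v * e [0] := by
  rw [← e_append, ← e_append]
  exact e_eq_e _ _ (comm_check v hv)

theorem S'_eq_words : ∀ s ∈ S', ∃ v ∈ sgW, s = e v := by
  rintro _ ⟨s, hs, rfl⟩
  simp only [S, Set.mem_insert_iff, Set.mem_singleton_iff] at hs
  rcases hs with rfl | rfl | rfl | rfl | rfl | rfl | rfl | rfl | rfl
  · exact ⟨[0], by decide, by rw [sg0_eq, mk_mk]; rfl⟩
  · exact ⟨[2], by decide, by rw [sg1_eq, mk_mk]; rfl⟩
  · exact ⟨[3], by decide, by rw [sg2_eq, mk_mk]; rfl⟩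
  · exact ⟨[4], by decide, by rw [sg3_eq, mk_mk]; rfl⟩
  · exact ⟨[5], by decide, by rw [sg4_eq, mk_mk]; rfl⟩
  · exact ⟨[6], by decide, by rw [sg5_eq, mk_mk]; rfl⟩
  · exact ⟨[7], by decide, by rw [sg6_eq, mk_mk]; rfl⟩
  · exact ⟨[8], by decide, by rw [sg7_eq, mk_mk]; rfl⟩
  · exact ⟨gw 7, by decide, by rw [sg8_eq, mk_mk]; rfl⟩

theorem ha_central : ha ∈ Subgroup.center H := by
  rw [Subgroup.mem_center_iff]
  intro h
  apply Subtype.ext
  rw [Subgroup.coe_mul, Subgroup.coe_mul]
  have hh : (h : G) ∈ Subgroup.centralizer {e [0]} := by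
    have hle : H ≤ Subgroup.centralizer {e [0]} := by
      rw [H_eq, Subgroup.closure_le]
      intro s hs
      obtain ⟨v, hv, rfl⟩ := S'_eq_words s hs
      rw [SetLike.mem_coe, Subgroup.mem_centralizer_iff]
      rintro _ rfl
      exact a_comm v hv
    exact hle h.2
  rw [Subgroup.mem_centralizer_iff] at hh
  exact (hh _ rfl).symm

theorem center_H_eq : Subgroup.center H = αH.ker := by
  apply le_antisymm (center_le_ker αH range_αH)
  rw [ker_αH_eq, Subgroup.zpowers_le]
  exact ha_central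

theorem ker_αS_eq : αS.ker = Subgroup.zpowers sw := by
  symm
  apply Subgroup.eq_of_le_of_card_ge
  · rw [Subgroup.zpowers_le]
    exact sw_ker
  · rw [card_ker_αS, Nat.card_zpowers]
    have : Fact (Nat.Prime 3) := ⟨by norm_num⟩
    rw [orderOf_eq_prime sw_pow sw_ne]

theorem center_SU6_eq : Subgroup.center SU6 = αS.ker := by
  apply le_antisymm (center_le_ker αS range_αS)
  rw [ker_αS_eq, Subgroup.zpowers_le, Subgroup.mem_center_iff]
  intro M
  exact (sw_central M).symm

theorem card_center_H : Nat.card (Subgroup.center H) = 2 := by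
  rw [center_H_eq, card_ker_αH]

/-- the quotient of the centraliser by its centre is `P0` -/
noncomputable def isoH : H ⧸ Subgroup.center H ≃* P0 :=
  (QuotientGroup.quotientMulEquivOfEq center_H_eq).trans
    ((QuotientGroup.quotientKerEquivRange αH).trans (MulEquiv.subgroupCongr range_αH))

/-- the quotient of the special unitary group by its centre is `P0` -/
noncomputable def isoS : SU6 ⧸ Subgroup.center SU6 ≃* P0 :=
  (QuotientGroup.quotientMulEquivOfEq center_SU6_eq).trans
    ((QuotientGroup.quotientKerEquivRange αS).trans (MulEquiv.subgroupCongr range_αS))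

theorem quot_iso : Nonempty (H ⧸ Subgroup.center H ≃* Cfsg.PSU 6 F4 2) :=
  ⟨isoH.trans isoS.symm⟩

end Cfsg.Agent.Lib.H17.U6Main
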