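import Cfsg.Agent.Lib.H17.U6Vec

set_option autoImplicit false
set_option maxRecDepth 100000

/-! # Unitary transvections and scalars in `SU(6, 2)` -/

namespace Cfsg.Agent.Lib.H17.U6Tv

open Matrix Cfsg.Agent.Lib.H17.U6Vec

theorem add_self : ∀ a : F4, a + a = 0 := by decide
theorem sq_add : ∀ a b : F4, (a + b) ^ 2 = a ^ 2 + b ^ 2 := by decide
theorem sq_sq : ∀ a : F4, (a ^ 2) ^ 2 = a := by decide
theorem cube_eq_one : ∀ a : F4, a ≠ 0 → a ^ 3 = 1 := by decide

theorem herm_add_left (u u' v : V6) : herm (u + u') v = herm u v + herm u' v := by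
  simp only [herm, Pi.add_apply]
  ring

theorem herm_add_right (u v v' : V6) : herm u (v + v') = herm u v + herm u v' := by
  simp only [herm, Pi.add_apply, sq_add]
  ring

theorem herm_smul_left (a : F4) (u v : V6) : herm (a • u) v = a * herm u v := by
  simp only [herm, Pi.smul_apply, smul_eq_mul]
  ring

theorem herm_smul_right (b : F4) (u v : V6) : herm u (b • v) = b ^ 2 * herm u v := by
  simp only [herm, Pi.smul_apply, smul_eq_mul, mul_pow]
  ring

theorem herm_conj (u v : V6) : herm u v ^ 2 = herm v u := by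
  simp only [herm, sq_add, mul_pow, sq_sq]
  ring

/-- the matrix of the unitary transvection with centre `v` -/
def tvMat (v : V6) : Matrix (Fin 6) (Fin 6) F4 :=
  1 + replicateCol Unit v * replicateRow Unit (fun j => v j ^ 2)

theorem tvMat_mulVec (v x : V6) : tvMat v *ᵥ x = x + herm x v • v := by
  rw [tvMat, add_mulVec, one_mulVec]
  congr 1
  ext i
  simp only [Pi.smul_apply, smul_eq_mul, mulVec, dotProduct, Fin.sum_univ_six, mul_apply,
    replicateCol_apply, replicateRow_apply, Finset.univ_unique, Finset.sum_singleton, herm]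
  ring

theorem det_tvMat (v : V6) (hv : herm v v = 0) : (tvMat v).det = 1 := by
  rw [tvMat, det_one_add_replicateCol_mul_replicateRow]
  have h : (fun j => v j ^ 2) ⬝ᵥ v = herm v v := by
    simp only [dotProduct, Fin.sum_univ_six, herm]
    ring
  rw [h, hv, add_zero]

theorem herm_tvMat (v : V6) (hv : herm v v = 0) (x y : V6) :
    herm (tvMat v *ᵥ x) (tvMat v *ᵥ y) = herm x y := by
  rw [tvMat_mulVec, tvMat_mulVec, herm_add_left, herm_add_right, herm_add_right, herm_smul_left,
    herm_smul_left, herm_smul_right, herm_smul_right, hv, herm_conj]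
  have h := add_self (herm v y * herm x v)
  calc herm x y + herm v y * herm x v + (herm x v * herm v y + herm x v * (herm v y * 0))
      = herm x y + (herm v y * herm x v + herm v y * herm x v) := by ring
    _ = herm x y := by rw [h, add_zero]

/-- the unitary transvection with centre `v` -/
def tv (v : V6) (hv : herm v v = 0) : SU6 :=
  ⟨⟨tvMat v, det_tvMat v hv⟩, (mem_SU6 _).mpr (herm_tvMat v hv)⟩

theorem mat_tv (v : V6) (hv : herm v v = 0) : mat (tv v hv) = tvMat v := rfl

theorem tv_mulVec (v : V6) (hv : herm v v = 0) (x : V6) :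
    mat (tv v hv) *ᵥ x = x + herm x v • v := by
  rw [mat_tv, tvMat_mulVec]

/-- the scalar matrices -/
def scMat (a : F4) : Matrix (Fin 6) (Fin 6) F4 := a • (1 : Matrix (Fin 6) (Fin 6) F4)

theorem scMat_mulVec (a : F4) (x : V6) : scMat a *ᵥ x = a • x := by
  rw [scMat, smul_mulVec, one_mulVec]

theorem det_scMat (a : F4) (ha : a ≠ 0) : (scMat a).det = 1 := by
  rw [scMat, det_smul, det_one, mul_one, Fintype.card_fin]
  have h := cube_eq_one a ha
  calc a ^ 6 = (a ^ 3) ^ 2 := by ring
    _ = 1 := by rw [h, one_pow]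

theorem herm_scMat (a : F4) (ha : a ≠ 0) (x y : V6) :
    herm (scMat a *ᵥ x) (scMat a *ᵥ y) = herm x y := by
  rw [scMat_mulVec, scMat_mulVec, herm_smul_left, herm_smul_right]
  have h := cube_eq_one a ha
  calc a * (a ^ 2 * herm x y) = a ^ 3 * herm x y := by ring
    _ = herm x y := by rw [h, one_mul]

/-- the scalars of the special unitary group -/
def sc (a : F4) (ha : a ≠ 0) : SU6 :=
  ⟨⟨scMat a, det_scMat a ha⟩, (mem_SU6 _).mpr (herm_scMat a ha)⟩

theorem mat_sc (a : F4) (ha : a ≠ 0) : mat (sc a ha) = scMat a := rfl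

theorem sc_mulVec (a : F4) (ha : a ≠ 0) (x : V6) : mat (sc a ha) *ᵥ x = a • x := by
  rw [mat_sc, scMat_mulVec]

end Cfsg.Agent.Lib.H17.U6Tv
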