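import Cfsg.Agent.Lib.H17.F4
import Cfsg.Agent.Lib.H17.SgsCent
import Cfsg.Prelude.Def_Classical

set_option autoImplicit false
set_option maxRecDepth 100000

/-! # The unitary group `SU(6, 2)` over the field with four elements, acting on the 4096 vectors -/

namespace Cfsg.Agent.Lib.H17.U6Vec

open Matrix Cfsg.Agent.Lib.H17.CosetCert Cfsg.Agent.Lib.H17.Sgs Cfsg.Agent.Lib.H17.SgsCent

/-- the vectors -/
abbrev V6 : Type := Fin 6 → F4

/-- the special linear group -/
abbrev SL6 : Type := Matrix.SpecialLinearGroup (Fin 6) F4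

/-- the special unitary group -/
abbrev SU6 : Subgroup SL6 := Cfsg.SU 6 F4 2

/-- the number of an element of the field -/
def code : F4 → ℕ
  | .z => 0
  | .o => 1
  | .w => 2
  | .w2 => 3

/-- the element of the field of a number -/
def uncode (n : ℕ) : F4 :=
  if n % 4 = 0 then .z else if n % 4 = 1 then .o else if n % 4 = 2 then .w else .w2

/-- the number of a vector -/
def encN (v : V6) : ℕ :=
  code (v 0) + 4 * code (v 1) + 16 * code (v 2) + 64 * code (v 3) + 256 * code (v 4) +
    1024 * code (v 5)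

/-- the number of a vector -/
def enc (v : V6) : Fin 4096 := ⟨encN v % 4096, Nat.mod_lt _ (by norm_num)⟩

/-- the vector of a number -/
def decN (x : ℕ) : V6 :=
  ![uncode x, uncode (x / 4), uncode (x / 16), uncode (x / 64), uncode (x / 256), uncode (x / 1024)]

/-- the vector of a number -/
def dec (x : Fin 4096) : V6 := decN x.val

theorem dec_enc : ∀ v : V6, dec (enc v) = v := by decide +kernel

theorem enc_dec : ∀ x : Fin 4096, enc (dec x) = x := by decide +kernel

/-- the numbering of the vectors -/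
def encE : V6 ≃ Fin 4096 := ⟨enc, dec, dec_enc, enc_dec⟩

/-- the Hermitian form -/
def herm (u v : V6) : F4 :=
  u 0 * v 0 ^ 2 + u 1 * v 1 ^ 2 + u 2 * v 2 ^ 2 + u 3 * v 3 ^ 2 + u 4 * v 4 ^ 2 + u 5 * v 5 ^ 2

theorem herm_eq (u v : V6) : Cfsg.hermForm 6 F4 2 u v = herm u v := by
  simp only [Cfsg.hermForm, Fin.sum_univ_six, herm]

/-- the matrix of an element -/
def mat (M : SU6) : Matrix (Fin 6) (Fin 6) F4 := ((M : SL6) : Matrix (Fin 6) (Fin 6) F4)

theorem mat_one : mat 1 = 1 := rfl

theorem mat_mul (M N : SU6) : mat (M * N) = mat M * mat N := rfl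

theorem mem_SU6 (M : SL6) : M ∈ SU6 ↔ ∀ u v : V6,
    herm ((M : Matrix (Fin 6) (Fin 6) F4) *ᵥ u) ((M : Matrix (Fin 6) (Fin 6) F4) *ᵥ v) =
      herm u v := by
  constructor
  · intro h u v
    have := h u v
    rw [herm_eq, herm_eq] at this
    exact this
  · intro h u v
    rw [herm_eq, herm_eq]
    exact h u v

theorem herm_su (M : SU6) (u v : V6) : herm (mat M *ᵥ u) (mat M *ᵥ v) = herm u v :=
  (mem_SU6 M.1).mp M.2 u v

/-- the action on the vectors -/
noncomputable def ρV : SU6 →* Equiv.Perm V6 where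
  toFun M :=
    { toFun := fun v => mat M *ᵥ v
      invFun := fun v => mat M⁻¹ *ᵥ v
      left_inv := fun v => by
        change mat M⁻¹ *ᵥ (mat M *ᵥ v) = v
        rw [mulVec_mulVec, ← mat_mul, inv_mul_cancel, mat_one, one_mulVec]
      right_inv := fun v => by
        change mat M *ᵥ (mat M⁻¹ *ᵥ v) = v
        rw [mulVec_mulVec, ← mat_mul, mul_inv_cancel, mat_one, one_mulVec] }
  map_one' := by
    ext v : 1
    change mat 1 *ᵥ v = v
    rw [mat_one, one_mulVec]
  map_mul' M N := by
    ext v : 1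
    change mat (M * N) *ᵥ v = mat M *ᵥ (mat N *ᵥ v)
    rw [mulVec_mulVec, mat_mul]

theorem ρV_apply (M : SU6) (v : V6) : ρV M v = mat M *ᵥ v := rfl

/-- the action on the numbers of the vectors -/
noncomputable def ρ : SU6 →* Equiv.Perm (Fin 4096) :=
  (encE.permCongrHom : Equiv.Perm V6 →* Equiv.Perm (Fin 4096)).comp ρV

theorem ρ_apply (M : SU6) (x : Fin 4096) : ρ M x = enc (mat M *ᵥ dec x) := rfl

theorem ρ_injective : Function.Injective ρ := by
  intro M N hMN
  apply Subtype.ext
  apply Subtype.ext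
  change mat M = mat N
  apply Matrix.toLin'.injective
  apply LinearMap.ext
  intro v
  have h := congrArg (fun p : Equiv.Perm (Fin 4096) => dec (p (enc v))) hMN
  simp only [ρ_apply, dec_enc] at h
  rw [Matrix.toLin'_apply, Matrix.toLin'_apply]
  exact h

theorem mulVec_inj (M : SU6) (v w : V6) (h : mat M *ᵥ v = mat M *ᵥ w) : v = w :=
  (ρV M).injective h

end Cfsg.Agent.Lib.H17.U6Vec
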