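import Mathlib

set_option autoImplicit false

namespace Cfsg.Agent.Lib.H17

open Polynomial

/-- In characteristic `p`, an endomorphism `c` of a space of dimension `< p ^ s` with
`c ^ (p ^ r) = 1` satisfies `c ^ (p ^ s) = 1` and `1 + c + ... + c ^ (p ^ s - 1) = 0`. -/
theorem unipotent_geom_sum {K V : Type*} [Field K] (p : ℕ) [Fact p.Prime] [CharP K p]
    [AddCommGroup V] [Module K V] [FiniteDimensional K V]
    (c : Module.End K V) (r : ℕ) (hc : c ^ (p ^ r) = 1) (s : ℕ)
    (hs : Module.finrank K V < p ^ s) :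
    c ^ (p ^ s) = 1 ∧ ∑ i ∈ Finset.range (p ^ s), c ^ i = 0 := by
  have hpoly : ∀ n : ℕ, ((X : K[X]) - 1) ^ (p ^ n) = X ^ (p ^ n) - 1 := by
    intro n
    rw [sub_pow_char_pow, one_pow]
  have hev : ∀ n : ℕ, (c - 1) ^ (p ^ n) = c ^ (p ^ n) - 1 := by
    intro n
    have := congrArg (aeval c) (hpoly n)
    simpa using this
  have hnil : IsNilpotent (c - 1) := ⟨p ^ r, by rw [hev, hc, sub_self]⟩
  have hfr : (c - 1) ^ Module.finrank K V = 0 := by
    have h1 := LinearMap.aeval_self_charpoly (c - 1)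
    rw [hnil.charpoly_eq_X_pow_finrank] at h1
    simpa using h1
  have hge : ∀ k, Module.finrank K V ≤ k → (c - 1) ^ k = 0 := by
    intro k hk
    exact pow_eq_zero_of_le hk hfr
  constructor
  · have := hev s
    rw [hge _ hs.le] at this
    exact (sub_eq_zero.mp this.symm)
  · have hq : 0 < p ^ s := Nat.pos_of_ne_zero (by
      have : p ≠ 0 := (Fact.out : p.Prime).ne_zero
      exact pow_ne_zero _ this)
    have hgeom : (∑ i ∈ Finset.range (p ^ s), (X : K[X]) ^ i) = (X - 1) ^ (p ^ s - 1) := by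
      have h1 : (∑ i ∈ Finset.range (p ^ s), (X : K[X]) ^ i) * (X - 1) = X ^ (p ^ s) - 1 :=
        geom_sum_mul X (p ^ s)
      have h2 : ((X : K[X]) - 1) ^ (p ^ s - 1) * (X - 1) = X ^ (p ^ s) - 1 := by
        rw [← pow_succ, Nat.sub_add_cancel hq, hpoly]
      have hne : (X : K[X]) - 1 ≠ 0 := by
        have := X_sub_C_ne_zero (1 : K)
        simpa using this
      exact mul_right_cancel₀ hne (h1.trans h2.symm)
    have := congrArg (aeval c) hgeom
    simp only [map_sum, map_pow, aeval_X, map_sub, map_one] at this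
    rw [this]
    apply hge
    omega

end Cfsg.Agent.Lib.H17

namespace Cfsg.Agent.Lib.H17

/-- Affine iteration in a `ZMod p`-module of order `p ^ m`: if `c` is an
endomorphism with `c ^ (p ^ r) = 1` and `m < p ^ s`, then the affine map `x ↦ c x + n0`
has `p ^ s`-th iterate the identity. -/
theorem affine_iterate_eq_id_module {V : Type*} [AddCommGroup V] [Finite V] (p : ℕ) [Fact p.Prime]
    [Module (ZMod p) V] (m : ℕ) (hm : Nat.card V = p ^ m)
    (c : V →+ V) (r : ℕ) (hc : ∀ x, c^[p ^ r] x = x) (s : ℕ) (hs : m < p ^ s) (n0 : V) (x : V) :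
    (fun y => c y + n0)^[p ^ s] x = x := by
  have hfin : Module.Finite (ZMod p) V := Module.Finite.of_finite
  set cl : Module.End (ZMod p) V := c.toZModLinearMap p with hcl
  have hclpow : ∀ k y, (cl ^ k) y = c^[k] y := by
    intro k y
    rw [Module.End.pow_apply]
    rfl
  have hcl1 : cl ^ (p ^ r) = 1 := by
    ext y
    rw [hclpow, hc]
    rfl
  have hrank : Module.finrank (ZMod p) V = m := by
    have h1 := Module.natCard_eq_pow_finrank (K := ZMod p) (V := V)
    rw [hm, Nat.card_zmod] at h1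
    exact (Nat.pow_right_injective (Fact.out : p.Prime).two_le h1).symm
  obtain ⟨h1, h2⟩ := unipotent_geom_sum (K := ZMod p) p cl r hcl1 s (by rw [hrank]; exact hs)
  have hiter : ∀ k : ℕ, ∀ y : V, (fun y => c y + n0)^[k] y =
      (cl ^ k) y + (∑ i ∈ Finset.range k, cl ^ i) n0 := by
    intro k
    induction k with
    | zero => intro y; simp
    | succ k ih =>
      intro y
      rw [Function.iterate_succ_apply', ih, Finset.sum_range_succ', pow_succ', map_add]
      have e1 : c ((cl ^ k) y) = (cl * cl ^ k) y := rfl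
      have e2 : c ((∑ i ∈ Finset.range k, cl ^ i) n0) =
          (∑ i ∈ Finset.range k, cl ^ (i + 1)) n0 := by
        have : (∑ i ∈ Finset.range k, cl ^ (i + 1)) = cl * ∑ i ∈ Finset.range k, cl ^ i := by
          rw [Finset.mul_sum]
          apply Finset.sum_congr rfl
          intro i _
          rw [pow_succ']
        rw [this]
        rfl
      rw [e1, e2, LinearMap.add_apply, pow_zero, Module.End.one_apply]
      abel
  rw [hiter, h1, h2]
  simp

/-- Version for an abelian group of exponent `p`. -/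
theorem affine_iterate_eq_id {V : Type*} [AddCommGroup V] [Finite V] (p : ℕ) [Fact p.Prime]
    (hV : ∀ x : V, p • x = 0) (m : ℕ) (hm : Nat.card V = p ^ m)
    (c : V →+ V) (r : ℕ) (hc : ∀ x, c^[p ^ r] x = x) (s : ℕ) (hs : m < p ^ s) (n0 : V) (x : V) :
    (fun y => c y + n0)^[p ^ s] x = x :=
  @affine_iterate_eq_id_module V _ _ p _ (AddCommGroup.zmodModule hV) m hm c r hc s hs n0 x

end Cfsg.Agent.Lib.H17

namespace Cfsg.Agent.Lib.H17

/-- Multiplicative version of `affine_iterate_eq_id`. -/
theorem affine_iterate_eq_id_mul {A : Type*} [CommGroup A] [Finite A] (p : ℕ) [Fact p.Prime]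
    (hA : ∀ x : A, x ^ p = 1) (m : ℕ) (hm : Nat.card A = p ^ m)
    (c : A →* A) (r : ℕ) (hc : ∀ x, c^[p ^ r] x = x) (s : ℕ) (hs : m < p ^ s) (n0 : A) (x : A) :
    (fun y => c y * n0)^[p ^ s] x = x :=
  affine_iterate_eq_id (V := Additive A) p (fun x => hA (Additive.toMul x)) m hm
    (MonoidHom.toAdditive c) r hc s hs (Additive.ofMul n0) (Additive.ofMul x)

end Cfsg.Agent.Lib.H17
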