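import Mathlib
import Cfsg.Agent.Lib.H21.OrbitCount

set_option autoImplicit false

namespace Cfsg.Agent.Lib.H17.Wielandt

theorem choose_pred_modEq_one (p : ℕ) [Fact p.Prime] (m : ℕ) (hm : 0 < m) :
    ∀ β : ℕ, Nat.choose (p ^ β * m - 1) (p ^ β - 1) ≡ 1 [MOD p] := by
  have hp : p.Prime := Fact.out
  intro β
  induction β with
  | zero => simp [Nat.ModEq]
  | succ β ih =>
    have h1 := Choose.choose_modEq_choose_mod_mul_choose_div_nat (n := p ^ (β + 1) * m - 1)
      (k := p ^ (β + 1) - 1) (p := p)
    have hpos : 0 < p ^ β * m := Nat.mul_pos (pow_pos hp.pos β) hm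
    have hpos' : 0 < p ^ β := pow_pos hp.pos β
    have e1 : p ^ (β + 1) * m - 1 = p * (p ^ β * m - 1) + (p - 1) := by
      have : p ^ (β + 1) * m = p * (p ^ β * m) := by ring
      rw [this]
      obtain ⟨t, ht⟩ := Nat.exists_eq_succ_of_ne_zero hpos.ne'
      rw [ht]
      have hp1 := hp.one_le
      simp only [Nat.succ_eq_add_one, Nat.add_sub_cancel, mul_add, mul_one]
      omega
    have e2 : p ^ (β + 1) - 1 = p * (p ^ β - 1) + (p - 1) := by
      have : p ^ (β + 1) = p * p ^ β := by ring
      rw [this]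
      obtain ⟨t, ht⟩ := Nat.exists_eq_succ_of_ne_zero hpos'.ne'
      rw [ht]
      have hp1 := hp.one_le
      simp only [Nat.succ_eq_add_one, Nat.add_sub_cancel, mul_add, mul_one]
      omega
    have hlt : p - 1 < p := Nat.sub_lt hp.pos one_pos
    have m1 : (p ^ (β + 1) * m - 1) % p = p - 1 := by
      rw [e1, Nat.mul_add_mod, Nat.mod_eq_of_lt hlt]
    have d1 : (p ^ (β + 1) * m - 1) / p = p ^ β * m - 1 := by
      rw [e1, Nat.mul_add_div hp.pos, Nat.div_eq_of_lt hlt, add_zero]
    have m2 : (p ^ (β + 1) - 1) % p = p - 1 := by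
      rw [e2, Nat.mul_add_mod, Nat.mod_eq_of_lt hlt]
    have d2 : (p ^ (β + 1) - 1) / p = p ^ β - 1 := by
      rw [e2, Nat.mul_add_div hp.pos, Nat.div_eq_of_lt hlt, add_zero]
    rw [m1, d1, m2, d2, Nat.choose_self, one_mul] at h1
    exact h1.trans ih

theorem choose_modEq (p : ℕ) [Fact p.Prime] (β m : ℕ) (hm : 0 < m) :
    Nat.choose (p ^ β * m) (p ^ β) ≡ m [MOD p * m] := by
  have hp : p.Prime := Fact.out
  have hk : 0 < p ^ β := pow_pos hp.pos β
  have hn : 0 < p ^ β * m := Nat.mul_pos hk hm
  obtain ⟨n', hn'⟩ := Nat.exists_eq_succ_of_ne_zero hn.ne'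
  obtain ⟨k', hk'⟩ := Nat.exists_eq_succ_of_ne_zero hk.ne'
  have h1 := Nat.add_one_mul_choose_eq n' k'
  -- (n'+1) * C(n',k') = C(n'+1,k'+1) * (k'+1)
  have h2 : Nat.choose (p ^ β * m) (p ^ β) = m * Nat.choose (p ^ β * m - 1) (p ^ β - 1) := by
    have e1 : p ^ β * m - 1 = n' := by rw [hn']; rfl
    have e2 : p ^ β - 1 = k' := by rw [hk']; rfl
    have e3 : (k' + 1) * m = n' + 1 := by
      have := hn'
      rw [hk'] at this
      exact this
    rw [e1, e2, hn', hk']
    have h3 : (k' + 1) * (m * Nat.choose n' k') = (k' + 1) * Nat.choose (n' + 1) (k' + 1) := by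
      calc (k' + 1) * (m * Nat.choose n' k') = ((k' + 1) * m) * Nat.choose n' k' := by ring
        _ = (n' + 1) * Nat.choose n' k' := by rw [e3]
        _ = Nat.choose (n' + 1) (k' + 1) * (k' + 1) := h1
        _ = (k' + 1) * Nat.choose (n' + 1) (k' + 1) := by ring
    exact (Nat.eq_of_mul_eq_mul_left (Nat.succ_pos k') h3).symm
  rw [h2]
  have h4 := (choose_pred_modEq_one p m hm β).mul_left' m
  rw [mul_one, mul_comm m p] at h4
  exact h4


section action
open Pointwise

variable {G : Type*} [Group G] [Fintype G] [DecidableEq G]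

/-- the stabilizer of a finite set under left translation has order dividing the size of the set -/
theorem card_stabilizer_dvd (U : Finset G) : Nat.card (MulAction.stabilizer G U) ∣ U.card := by
  have h := Cfsg.Agent.Lib.H21.card_dvd_ncard_of_free (G := MulAction.stabilizer G U) (α := G)
    (U : Set G) (Set.toFinite _) ?_ ?_
  · rwa [Set.ncard_coe_finset] at h
  · rintro ⟨s, hs⟩ x hx
    rw [MulAction.mem_stabilizer_iff] at hs
    have : s • x ∈ s • U := Finset.smul_mem_smul_finset hx
    rw [hs] at this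
    exact this
  · intro x _
    rw [eq_bot_iff]
    rintro ⟨s, hs⟩ hsx
    rw [MulAction.mem_stabilizer_iff] at hsx
    rw [Subgroup.mem_bot]
    apply Subtype.ext
    have : s * x = x := hsx
    exact mul_eq_right.mp this

open Classical in
/-- right coset `H u` as a finset -/
noncomputable def rc (H : Subgroup G) (u : G) : Finset G :=
  (Finset.univ.filter (fun h => h ∈ H)).image (fun h => h * u)

theorem mem_rc {H : Subgroup G} {u x : G} :
    x ∈ rc H u ↔ x * u⁻¹ ∈ H := by
  unfold rc
  simp only [Finset.mem_image, Finset.mem_filter, Finset.mem_univ, true_and]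
  constructor
  · rintro ⟨h, hh, rfl⟩
    simpa using hh
  · intro h
    exact ⟨x * u⁻¹, h, by group⟩

theorem card_rc (H : Subgroup G) (u : G) :
    (rc H u).card = Nat.card H := by
  classical
  unfold rc
  rw [Finset.card_image_of_injective _ (mul_left_injective u), Nat.card_eq_fintype_card]
  symm
  apply Fintype.card_of_subtype
  intro x
  simp

theorem self_mem_rc (H : Subgroup G) (u : G) : u ∈ rc H u := by
  rw [mem_rc, mul_inv_cancel]; exact H.one_mem

theorem le_stabilizer_rc (H : Subgroup G) (u : G) :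
    H ≤ MulAction.stabilizer G (rc H u) := by
  intro h hh
  rw [MulAction.mem_stabilizer_iff]
  ext x
  rw [Finset.mem_smul_finset]
  constructor
  · rintro ⟨y, hy, rfl⟩
    rw [mem_rc] at hy ⊢
    have : h • y * u⁻¹ = h * (y * u⁻¹) := by simp [mul_assoc]
    rw [this]; exact H.mul_mem hh hy
  · intro hx
    refine ⟨h⁻¹ * x, ?_, by simp⟩
    rw [mem_rc] at hx ⊢
    have : h⁻¹ * x * u⁻¹ = h⁻¹ * (x * u⁻¹) := by simp [mul_assoc]
    rw [this]; exact H.mul_mem (H.inv_mem hh) hx

theorem stabilizer_rc (H : Subgroup G) (u : G) :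
    MulAction.stabilizer G (rc H u) = H := by
  symm
  apply Subgroup.eq_of_le_of_card_ge (le_stabilizer_rc H u)
  have := Nat.le_of_dvd (by rw [card_rc]; exact Nat.card_pos) (card_stabilizer_dvd (rc H u))
  rwa [card_rc] at this

theorem rc_stabilizer {U : Finset G} {u : G} (hu : u ∈ U)
    (hU : Nat.card (MulAction.stabilizer G U) = U.card) :
    rc (MulAction.stabilizer G U) u = U := by
  apply Finset.eq_of_subset_of_card_le
  · intro x hx
    rw [mem_rc, MulAction.mem_stabilizer_iff] at hx
    have h1 : (x * u⁻¹) • u ∈ (x * u⁻¹) • U := Finset.smul_mem_smul_finset hu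
    rw [hx] at h1
    simpa using h1
  · rw [card_rc, hU]

end action

section count
open Pointwise

variable {G : Type*} [Group G] [Fintype G] [DecidableEq G]

theorem good_count (k : ℕ) :
    Nat.card {U : Finset G // U.card = k ∧ Nat.card (MulAction.stabilizer G U) = k} * k =
      Nat.card {H : Subgroup G // Nat.card H = k} * Nat.card G := by
  classical
  have e : (Σ U : {U : Finset G // U.card = k ∧ Nat.card (MulAction.stabilizer G U) = k},
      {u : G // u ∈ U.1}) ≃ {H : Subgroup G // Nat.card H = k} × G :=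
    { toFun := fun x => (⟨MulAction.stabilizer G x.1.1, x.1.2.2⟩, x.2.1)
      invFun := fun y => ⟨⟨rc y.1.1 y.2, by
          refine ⟨by rw [card_rc]; exact y.1.2, ?_⟩
          rw [stabilizer_rc]; exact y.1.2⟩, ⟨y.2, self_mem_rc _ _⟩⟩
      left_inv := by
        rintro ⟨⟨U, hU1, hU2⟩, ⟨u, hu⟩⟩
        have h := rc_stabilizer hu (hU2.trans hU1.symm)
        apply Sigma.ext
        · exact Subtype.ext h
        · dsimp only
          refine (Subtype.heq_iff_coe_eq ?_).mpr rfl
          intro x
          rw [h]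
      right_inv := by
        rintro ⟨⟨H, hH⟩, u⟩
        simp only [stabilizer_rc] }
  have h1 := Nat.card_congr e
  rw [Nat.card_sigma, Nat.card_prod] at h1
  have h2 : ∀ U : {U : Finset G // U.card = k ∧ Nat.card (MulAction.stabilizer G U) = k},
      Nat.card {u : G // u ∈ U.1} = k := fun U => by
    rw [Nat.card_eq_fintype_card, Fintype.card_coe]; exact U.2.1
  simp_rw [h2] at h1
  rw [Finset.sum_const, Finset.card_univ, smul_eq_mul, ← Nat.card_eq_fintype_card] at h1
  exact h1

end count


section frobenius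
open Pointwise

/-- **Frobenius / Wielandt**: the number of subgroups of order `p ^ β` of a finite group whose
order is divisible by `p ^ β` is congruent to `1` modulo `p`. -/
theorem card_subgroups_modEq_one {G : Type*} [Group G] [Finite G] (p β : ℕ) [Fact p.Prime]
    (hdiv : p ^ β ∣ Nat.card G) :
    Nat.card {H : Subgroup G // Nat.card H = p ^ β} ≡ 1 [MOD p] := by
  classical
  haveI : Fintype G := Fintype.ofFinite G
  have hp : p.Prime := Fact.out
  obtain ⟨m, hm⟩ := hdiv
  have hmpos : 0 < m := by
    rcases Nat.eq_zero_or_pos m with h | h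
    · rw [h, mul_zero] at hm
      exact absurd hm Nat.card_pos.ne'
    · exact h
  set k := p ^ β with hk
  have hkpos : 0 < k := pow_pos hp.pos β
  set N := Nat.card {H : Subgroup G // Nat.card H = k} with hN
  -- the sets
  let X : Set (Finset G) := {U | U.card = k}
  let Xg : Set (Finset G) := {U | U.card = k ∧ Nat.card (MulAction.stabilizer G U) = k}
  let Xb : Set (Finset G) := {U | U.card = k ∧ Nat.card (MulAction.stabilizer G U) ≠ k}
  have hX : X.ncard = Nat.choose (k * m) k := by
    have h1 : X.ncard = Nat.card {U : Finset G // U.card = k} := (_root_.Nat.card_coe_set_eq X).symm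
    rw [h1, Nat.card_eq_fintype_card, Fintype.card_finset_len, ← Nat.card_eq_fintype_card, hm]
  have hunion : X = Xg ∪ Xb := by
    ext U
    simp only [X, Xg, Xb, Set.mem_setOf_eq, Set.mem_union]
    tauto
  have hdisj : Disjoint Xg Xb := by
    rw [Set.disjoint_left]
    rintro U ⟨_, h1⟩ ⟨_, h2⟩
    exact h2 h1
  have hsplit : X.ncard = Xg.ncard + Xb.ncard := by
    rw [hunion, Set.ncard_union_eq hdisj (Set.toFinite _) (Set.toFinite _)]
  -- bad part
  have hbad : p * m ∣ Xb.ncard := by
    apply Cfsg.Agent.Lib.H21.dvd_ncard_of_forall_dvd_index_stabilizer (G := G) (p * m) Xb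
      (Set.toFinite _)
    · rintro g U ⟨h1, h2⟩
      refine ⟨by rw [Finset.card_smul_finset]; exact h1, ?_⟩
      rw [MulAction.stabilizer_smul_eq_stabilizer_map_conj,
        Subgroup.card_map_of_injective (MulAut.conj g).injective]
      exact h2
    · rintro U ⟨h1, h2⟩
      have hd := card_stabilizer_dvd U
      rw [h1, hk] at hd
      obtain ⟨j, hj, hcard⟩ := (Nat.dvd_prime_pow hp).mp hd
      have hjlt : j < β := by
        rcases Nat.lt_or_ge j β with h | h
        · exact h
        · exfalso
          have : j = β := le_antisymm hj h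
          rw [this] at hcard
          exact h2 hcard
      have hci := (MulAction.stabilizer G U).card_mul_index
      rw [hcard, hm, hk] at hci
      obtain ⟨d, hd⟩ := Nat.exists_eq_add_of_lt hjlt
      -- β = j + d + 1
      have hpj : 0 < p ^ j := pow_pos hp.pos j
      have : p ^ j * (MulAction.stabilizer G U).index = p ^ j * (p ^ d * (p * m)) := by
        rw [hci, hd]; ring
      have hidx := Nat.eq_of_mul_eq_mul_left hpj this
      rw [hidx]
      exact Dvd.intro_left _ rfl
  -- good part
  have hgood : Xg.ncard = m * N := by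
    have h1 := good_count (G := G) k
    have h2 : Xg.ncard = Nat.card {U : Finset G // U.card = k ∧
        Nat.card (MulAction.stabilizer G U) = k} := (_root_.Nat.card_coe_set_eq Xg).symm
    rw [← h2, ← hN, hm] at h1
    have : k * Xg.ncard = k * (m * N) := by rw [mul_comm, h1]; ring
    exact Nat.eq_of_mul_eq_mul_left hkpos this
  -- combine
  have hchoose := choose_modEq p β m hmpos
  rw [← hk, ← hX, hsplit, hgood] at hchoose
  have h0 : Xb.ncard ≡ 0 [MOD p * m] := (Nat.modEq_zero_iff_dvd).mpr hbad
  have h1 : m * N + Xb.ncard ≡ m * N + 0 [MOD p * m] := Nat.ModEq.add_left _ h0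
  rw [add_zero] at h1
  have h2 : m * N ≡ m * 1 [MOD m * p] := by
    rw [mul_one, mul_comm m p]
    exact h1.symm.trans hchoose
  exact Nat.ModEq.mul_left_cancel' hmpos.ne' h2

end frobenius

end Cfsg.Agent.Lib.H17.Wielandt
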