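import Cfsg.Prelude.Def_SporCoxeter

set_option autoImplicit false

/-! # An auxiliary presentation on the Coxeter graph `Y₅₂₂`

The sub-presentation on the letters `l, k, a, b, c, d, e, f, h, i` of the presentation of the Fischer
group `Fi₂₄`: Coxeter graph with centre `d` and arms `d–c–b–a–k–l`, `d–e–f`, `d–h–i`, the relation
`l = (a b c d e f h)^9` and its consequence `((a b c d e f h)^9 k)^3 = 1`. The group so presented
has order `9904359628800`, and the spider relation `(d c b d e f d h i)^10 = 1` holds in it. -/

namespace Cfsg.Agent.Lib.H17.Y522Pres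

/-- The generators l, k, a, b, c, d, e, f, h, i. -/
inductive Gen
  | l
  | k
  | a
  | b
  | c
  | d
  | e
  | f
  | h
  | i
  deriving DecidableEq

/-- the generator l as a word -/ abbrev l : FreeGroup Gen := FreeGroup.of Gen.l
/-- the generator k as a word -/ abbrev k : FreeGroup Gen := FreeGroup.of Gen.k
/-- the generator a as a word -/ abbrev a : FreeGroup Gen := FreeGroup.of Gen.a
/-- the generator b as a word -/ abbrev b : FreeGroup Gen := FreeGroup.of Gen.b
/-- the generator c as a word -/ abbrev c : FreeGroup Gen := FreeGroup.of Gen.c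
/-- the generator d as a word -/ abbrev d : FreeGroup Gen := FreeGroup.of Gen.d
/-- the generator e as a word -/ abbrev e : FreeGroup Gen := FreeGroup.of Gen.e
/-- the generator f as a word -/ abbrev f : FreeGroup Gen := FreeGroup.of Gen.f
/-- the generator h as a word -/ abbrev h : FreeGroup Gen := FreeGroup.of Gen.h
/-- the generator i as a word -/ abbrev i : FreeGroup Gen := FreeGroup.of Gen.i

/-- The Coxeter graph Y₅₂₂ (centre d; arms d–c–b–a–k–l, d–e–f, d–h–i; all labels 3). -/
def edges : List (Gen × ℕ × Gen) :=
  [(.l, 3, .k), (.k, 3, .a), (.a, 3, .b), (.b, 3, .c), (.c, 3, .d), (.d, 3, .e), (.d, 3, .h),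
    (.e, 3, .f), (.h, 3, .i)]

/-- The further relators: l = (abcdefh)^9 and 1 = ((abcdefh)^9 k)^3. -/
def extra : List (FreeGroup Gen) := [
  l * ((a * b * c * d * e * f * h) ^ 9)⁻¹,
  ((a * b * c * d * e * f * h) ^ 9 * k) ^ 3 ]

/-- The presented group. -/
abbrev Grp : Type := Cfsg.Spor.CoxPresented Gen edges extra

end Cfsg.Agent.Lib.H17.Y522Pres
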